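import Groth.Agent.H12AlgSp.Basic
import Mathlib.AlgebraicGeometry.Sites.Fpqc
import Mathlib.CategoryTheory.Sites.LeftExact

/-!
Covers of the big fppf site and sheaves on it.
-/

universe u

open CategoryTheory CategoryTheory.Limits AlgebraicGeometry Opposite
open AlgSp Groth.Agent.H12AlgSp

namespace Groth.Agent.H13AlgSp

variable {S : Scheme.{u}} {F G : Sp S}

theorem ofArrows_mem_J {T : Over S} {κ : Type u} {C : κ → Over S} (c : ∀ i, C i ⟶ T)
    (hflat : ∀ i, Flat (c i).left) (hlfp : ∀ i, LocallyOfFinitePresentation (c i).left)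
    (hs : ∀ t : T.left, ∃ i, t ∈ Set.range (c i).left) : Sieve.ofArrows C c ∈ J S T := by
  rw [GrothendieckTopology.mem_over_iff, Sieve.overEquiv_ofArrows]
  refine Precoverage.generate_mem_toGrothendieck ?_
  rw [Scheme.fppfPrecoverage]
  rw [Scheme.ofArrows_mem_precoverage_iff]
  exact ⟨fun t => by obtain ⟨i, hi⟩ := hs t; exact ⟨i, hi⟩, fun i => ⟨hflat i, hlfp i⟩⟩

theorem hom_ext_of_cover {T : Over S} {κ : Type u} {C : κ → Over S} (c : ∀ i, C i ⟶ T)
    (hc : Sieve.ofArrows C c ∈ J S T) {a b : (yon S).obj T ⟶ F}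
    (h : ∀ i, (yon S).map (c i) ≫ a = (yon S).map (c i) ≫ b) : a = b := by
  apply (J S).uliftYonedaEquiv.injective
  refine (((isSheaf_iff_isSheaf_of_type _ _).1 F.property) _ hc).isSeparatedFor.ext ?_
  intro Z g hg
  obtain ⟨_, l, _, ⟨i⟩, rfl⟩ := hg
  rw [op_comp, Functor.map_comp_apply, Functor.map_comp_apply,
    GrothendieckTopology.uliftYonedaEquiv_naturality,
    GrothendieckTopology.uliftYonedaEquiv_naturality, h i,
    GrothendieckTopology.uliftYonedaEquiv_naturality,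
    GrothendieckTopology.uliftYonedaEquiv_naturality]

/-- A morphism all of whose values locally lift is an epimorphism. -/
theorem epi_of_local_lifts (f : F ⟶ G)
    (h : ∀ (T : Over S) (y : (yon S).obj T ⟶ G), ∃ (κ : Type u) (C : κ → Over S) (c : ∀ i, C i ⟶ T),
      Sieve.ofArrows C c ∈ J S T ∧ ∀ i, ∃ l, l ≫ f = (yon S).map (c i) ≫ y) : Epi f := by
  refine ⟨fun {H} a b e => hom_ext_yon fun T y => ?_⟩
  obtain ⟨κ, C, c, hc, hl⟩ := h T y
  refine hom_ext_of_cover c hc fun i => ?_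
  obtain ⟨l, hl⟩ := hl i
  rw [← Category.assoc, ← Category.assoc, ← hl, Category.assoc, Category.assoc, e]

theorem isIso_of_mono_of_local_lifts (f : F ⟶ G) [Mono f]
    (h : ∀ (T : Over S) (y : (yon S).obj T ⟶ G), ∃ (κ : Type u) (C : κ → Over S) (c : ∀ i, C i ⟶ T),
      Sieve.ofArrows C c ∈ J S T ∧ ∀ i, ∃ l, l ≫ f = (yon S).map (c i) ≫ y) : IsIso f :=
  have := epi_of_local_lifts f h
  isIso_of_mono_of_epi f

end Groth.Agent.H13AlgSp
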