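import Groth.Agent.H13AlgSp.FppfSource
import Groth.Agent.H13AlgSp.Cover

/-!
Descent of properties along surjections of fppf sheaves.
-/

universe u

open CategoryTheory CategoryTheory.Limits AlgebraicGeometry Opposite
open AlgSp Groth.Agent.H12AlgSp

namespace Groth.Agent.H13AlgSp

variable {S : Scheme.{u}} {F G H : Sp S}

/-- Coverings in the fppf topology are refined by families of flat, lfp morphisms. -/
theorem exists_cover_of_mem_J {A : Over S} {R : Sieve A} (hR : R ∈ J S A) :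
    ∃ (κ : Type u) (C : κ → Over S) (c : ∀ i, C i ⟶ A), (∀ i, Flat (c i).left) ∧
      (∀ i, LocallyOfFinitePresentation (c i).left) ∧ (∀ a : A.left, ∃ i, a ∈ Set.range (c i).left) ∧
      ∀ i, R (c i) := by
  rw [GrothendieckTopology.mem_over_iff] at hR
  obtain ⟨𝒰, hle⟩ :=
    (Scheme.mem_grothendieckTopology_iff (P := @Flat ⊓ @LocallyOfFinitePresentation)).1 hR
  exact ⟨𝒰.I₀, fun i => Over.mk (𝒰.f i ≫ A.hom), fun i => Over.homMk (𝒰.f i) rfl,
    fun i => (𝒰.map_prop i).1, fun i => (𝒰.map_prop i).2,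
    fun a => ⟨𝒰.idx a, 𝒰.covers a⟩, fun i => (Sieve.overEquiv_iff _ _).1 (hle _ _ ⟨i⟩)⟩

/-- A surjection of fppf sheaves has fppf local lifts. -/
theorem exists_local_lifts {f : F ⟶ G} (hf : Sheaf.IsLocallySurjective f) {A : Over S}
    (y : (yon S).obj A ⟶ G) :
    ∃ (κ : Type u) (C : κ → Over S) (c : ∀ i, C i ⟶ A), (∀ i, Flat (c i).left) ∧
      (∀ i, LocallyOfFinitePresentation (c i).left) ∧ (∀ a : A.left, ∃ i, a ∈ Set.range (c i).left) ∧
      ∀ i, ∃ l : (yon S).obj (C i) ⟶ F, l ≫ f = (yon S).map (c i) ≫ y := by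
  obtain ⟨κ, C, c, h1, h2, h3, h4⟩ := exists_cover_of_mem_J
    ((show Presheaf.IsLocallySurjective (J S) f.hom from hf).imageSieve_mem
      ((J S).uliftYonedaEquiv y))
  refine ⟨κ, C, c, h1, h2, h3, fun i => ?_⟩
  obtain ⟨t, ht⟩ := h4 i
  refine ⟨(J S).uliftYonedaEquiv.symm t, (J S).uliftYonedaEquiv.injective ?_⟩
  rw [GrothendieckTopology.uliftYonedaEquiv_comp, Equiv.apply_symm_apply, ht,
    GrothendieckTopology.uliftYonedaEquiv_naturality]

/-- Descent of `P` along a surjection of sheaves, `P` descending along refinements. -/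
theorem etaleFibre_of_locallySurjective {P : MorphismProperty Scheme.{u}}
    (hsrc : ∀ {A B : Scheme.{u}} (k : A ⟶ B),
      (∀ a : A, ∃ (T W : Scheme.{u}) (l : W ⟶ T) (t : T ⟶ A), Flat (l ≫ t) ∧
        LocallyOfFinitePresentation (l ≫ t) ∧ a ∈ Set.range (l ≫ t) ∧ P (t ≫ k)) → P k)
    (hF : IsAlgSpace F) (hG : IsAlgSpace G) (hH : IsAlgSpace H) {g : F ⟶ G} {f : G ⟶ H}
    (hg : Sheaf.IsLocallySurjective g) (hgf : EtaleFibre P (g ≫ f)) : EtaleFibre P f := by
  intro A B Q β fst snd sq α k hα hk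
  have sqR := IsPullback.of_hasPullback g (α ≫ fst)
  have hR := isAlgSpace_of_isPullback hG.diag hF (IsAlgSpace.yon_obj A) sqR
  obtain ⟨C, d, hde, hds⟩ := hR.atlas
  obtain ⟨t, ht⟩ := (yon S).map_surjective (d ≫ pullback.snd g (α ≫ fst))
  refine hsrc k.left fun a => ?_
  have sqQ := IsPullback.of_hasPullback g fst
  have big := sqQ.paste_vert sq
  let α' := sqQ.lift (pullback.fst g (α ≫ fst)) (pullback.snd g (α ≫ fst) ≫ α)
    (by rw [Category.assoc]; exact sqR.w)
  have h1 : IsPullback α' (pullback.snd g (α ≫ fst)) (pullback.snd g fst) α :=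
    IsPullback.of_right (by rw [sqQ.lift_fst]; exact sqR) (sqQ.lift_snd _ _ _) sqQ
  have hP : P (t ≫ k).left := by
    refine hgf β (pullback.fst g fst) (pullback.snd g fst ≫ snd) big
      (d ≫ α') (t ≫ k) (repWith_comp hde (repWith_of_isPullback h1.flip hα)) ?_
    rw [Functor.map_comp, ht, Category.assoc, Category.assoc, ← hk, ← Category.assoc α',
      sqQ.lift_snd, Category.assoc]
  obtain ⟨κ, W, c, hc1, hc2, hc3, hl⟩ := exists_local_lifts hg (α ≫ fst)
  obtain ⟨i, w, hw⟩ := hc3 a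
  obtain ⟨l, hl⟩ := hl i
  let r := sqR.lift l ((yon S).map (c i)) hl
  obtain ⟨W', e', p', sqW⟩ := hde.1 r
  obtain ⟨p, rfl⟩ := (yon S).map_surjective p'
  have hee : Etale e'.left := hde.2 r _ e' sqW
  obtain ⟨W'', e'', p'', sqW''⟩ := hds.1 r
  have hes : Surjective e'.left := by
    obtain ⟨q, hq⟩ := (yon S).map_surjective p''
    let ε := sqW.isoIsPullback _ _ sqW''
    obtain ⟨η, hη⟩ := (yon S).map_surjective ε.hom
    have h2 : η ≫ e'' = e' := (yon S).map_injective (by
      rw [Functor.map_comp, hη, IsPullback.isoIsPullback_hom_snd])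
    have : IsIso ((yon S).map η) := by rw [hη]; infer_instance
    have : IsIso η := isIso_of_reflects_iso η (yon S)
    have : Surjective e''.left := hds.2 r _ e'' sqW''
    rw [← h2]
    have : IsIso η.left := inferInstanceAs (IsIso ((Over.forget S).map η))
    exact inferInstanceAs (Surjective (η.left ≫ e''.left))
  have e : p ≫ t = e' ≫ c i := (yon S).map_injective (by
    rw [Functor.map_comp, ht, ← Category.assoc, sqW.w, Category.assoc, sqR.lift_snd,
      ← Functor.map_comp])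
  refine ⟨C.left, W'.left, p.left, t.left, ?_, ?_, ?_, hP⟩
  · rw [← Over.comp_left, e, Over.comp_left]
    have := hc1 i
    exact inferInstanceAs (Flat (e'.left ≫ (c i).left))
  · rw [← Over.comp_left, e, Over.comp_left]
    have := hc2 i
    exact inferInstanceAs (LocallyOfFinitePresentation (e'.left ≫ (c i).left))
  · obtain ⟨w', rfl⟩ := e'.left.surjective w
    refine ⟨w', ?_⟩
    rw [← Over.comp_left, e, Over.comp_left, Scheme.Hom.comp_apply]
    exact hw

theorem flat_of_refinement_covering {A B : Scheme.{u}} (k : A ⟶ B)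
    (h : ∀ a : A, ∃ (T W : Scheme.{u}) (l : W ⟶ T) (t : T ⟶ A), Flat (l ≫ t) ∧
      LocallyOfFinitePresentation (l ≫ t) ∧ a ∈ Set.range (l ≫ t) ∧ Flat (t ≫ k)) : Flat k := by
  refine Flat.of_stalkMap _ fun y => ?_
  obtain ⟨T, W, l, t, h1, -, ⟨w, rfl⟩, h4⟩ := h y
  have h₁ := Flat.stalkMap (t ≫ k) (l w)
  have h₂ := Groth.Agent.H13Desc.faithfullyFlat_stalkMap (l ≫ t) w
  rw [Scheme.Hom.stalkMap_comp] at h₁ h₂
  exact Groth.Agent.H13Desc.ringHom_flat_of_refinement _ _ _ h₁ h₂

theorem locP_flat_of_locallySurjective (hF : IsAlgSpace F) (hG : IsAlgSpace G) (hH : IsAlgSpace H)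
    {g : F ⟶ G} {f : G ⟶ H} (hg : Sheaf.IsLocallySurjective g) (h : LocP @Flat (g ≫ f)) :
    LocP @Flat f :=
  (etaleFibre_of_locallySurjective flat_of_refinement_covering hF hG hH hg
    (etaleFibre_of_locP hF hH h)).locP

theorem locP_lft_of_locallySurjective (hF : IsAlgSpace F) (hG : IsAlgSpace G) (hH : IsAlgSpace H)
    {g : F ⟶ G} {f : G ⟶ H} (hg : Sheaf.IsLocallySurjective g)
    (h : LocP @LocallyOfFiniteType (g ≫ f)) : LocP @LocallyOfFiniteType f :=
  (etaleFibre_of_locallySurjective (fun k hk => Groth.Agent.H13Flat.of_fppf_refinement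
    @LocallyOfFiniteType Groth.Agent.H13Flat.sourceDescends_finiteType k hk) hF hG hH hg
    (etaleFibre_of_locP hF hH h)).locP

theorem locP_lfp_of_locallySurjective (hF : IsAlgSpace F) (hG : IsAlgSpace G) (hH : IsAlgSpace H)
    {g : F ⟶ G} {f : G ⟶ H} (hg : Sheaf.IsLocallySurjective g)
    (h : LocP @LocallyOfFinitePresentation (g ≫ f)) : LocP @LocallyOfFinitePresentation f :=
  (etaleFibre_of_locallySurjective (fun k hk => Groth.Agent.H13Flat.of_fppf_refinement
    @LocallyOfFinitePresentation Groth.Agent.H13Flat.sourceDescends_finitePresentation k hk) hF hG hH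
    hg (etaleFibre_of_locP hF hH h)).locP

end Groth.Agent.H13AlgSp
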