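import Groth.Agent.H13AlgSp.LocPDescent
import Groth.Agent.H12AlgSp.QC
import Groth.Agent.H13Desc.Flat
import Groth.Agent.H06Desc.Noetherian
import Groth.Agent.H02CA.SmoothRegular
import Groth.Agent.H19Grp.RegularSmooth
import Groth.Agent.S0565
import Groth.Prelude.Def_AlgSpSub
import Mathlib.AlgebraicGeometry.Noetherian

/-!
Properties of algebraic spaces defined etale locally: transfer between charts, descent along
surjective morphisms.
-/

universe u

open CategoryTheory CategoryTheory.Limits AlgebraicGeometry Opposite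
open AlgSp Groth.Agent.H12AlgSp

namespace Groth.Agent.H13AlgSp

variable {S : Scheme.{u}} {F G : Sp S}

/-- Over an etale surjective chart of the target, a surjective morphism with the property `P` has
a chart on which it is a surjective morphism of schemes with the property `P`. -/
theorem exists_surjective_chart {P : MorphismProperty Scheme.{u}} (hF : IsAlgSpace F)
    (hG : IsAlgSpace G) {f : F ⟶ G} (hf : LocP P f) (hs : IsSurjectiveMor f) {V : Over S}
    {b : (yon S).obj V ⟶ G} (hbe : RepWith @Etale b) (hbs : RepWith @Surjective b) :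
    ∃ (T : Over S) (t : (yon S).obj T ⟶ F) (k : T ⟶ V),
      RepWith @Etale t ∧ RepWith @Surjective t ∧ P k.left ∧ Surjective k.left := by
  have sq := IsPullback.of_hasPullback f b
  obtain ⟨T, d, hde, hds⟩ :=
    (isAlgSpace_of_isPullback hG.diag hF (IsAlgSpace.yon_obj V) sq).atlas
  obtain ⟨k, hk⟩ := (yon S).map_surjective (d ≫ pullback.snd f b)
  refine ⟨T, d ≫ pullback.fst f b, k, repWith_comp hde (repWith_of_isPullback sq.flip hbe),
    repWith_comp hds (repWith_of_isPullback sq.flip hbs), ?_, ⟨fun v => ?_⟩⟩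
  · exact hf _ b k (repWith_comp hde (repWith_of_isPullback sq.flip hbe)) hbe
      (by rw [hk, Category.assoc, Category.assoc, sq.w])
  · obtain ⟨y, hy⟩ := hs (Points.ofPt b v)
    obtain ⟨r, -, hr⟩ := exists_point_of_isPullback sq y (Points.ofScheme V v)
      (by rw [hy, ← Points.ofPt_eq_map_ofScheme])
    obtain ⟨t, rfl⟩ := surjective_ofPt_of_repWith le_rfl hds r
    refine ⟨t, (Points.schemeEquiv V).injective (Eq.trans ?_ hr)⟩
    rw [Points.map_ofPt, ← hk, ← Category.comp_id ((yon S).map k), ofPt_map]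
    rfl

/-- A property inherited along etale morphisms and descending along etale surjections holds on
every etale chart as soon as it holds on one etale surjective chart. -/
theorem etaleLocally_chart {Q : Scheme.{u} → Prop}
    (hup : ∀ {A B : Scheme.{u}} (g : A ⟶ B), Etale g → Q B → Q A)
    (hdown : ∀ {A B : Scheme.{u}} (g : A ⟶ B), Etale g → Surjective g → Q A → Q B)
    (hF : IsAlgSpace F) (h : EtaleLocally Q F) {V : Over S} {b : (yon S).obj V ⟶ F}
    (hb : RepWith @Etale b) : Q V.left := by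
  obtain ⟨U, p, hpe, hps, hQ⟩ := h
  obtain ⟨W, q, w', sq⟩ := hpe.1 b
  obtain ⟨w, rfl⟩ := (yon S).map_surjective w'
  have he : Etale q.left := hpe.2 b _ q sq
  have hs : Surjective q.left := by
    obtain ⟨W', q', w'', sq'⟩ := hps.1 b
    let ε := sq.isoIsPullback _ _ sq'
    obtain ⟨η, hη⟩ := (yon S).map_surjective ε.hom
    have h2 : η ≫ q' = q := (yon S).map_injective (by
      rw [Functor.map_comp, hη, IsPullback.isoIsPullback_hom_snd])
    have : IsIso ((yon S).map η) := by rw [hη]; infer_instance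
    have : IsIso η := isIso_of_reflects_iso η (yon S)
    have : IsIso η.left := inferInstanceAs (IsIso ((Over.forget S).map η))
    have : Surjective q'.left := hps.2 b _ q' sq'
    rw [← h2]
    exact inferInstanceAs (Surjective (η.left ≫ q'.left))
  have he' : Etale w.left :=
    etale_left_of_repWith (repWith_etale_of_comp hpe
      (sq.w ▸ repWith_comp ((repWith_yon_map_iff _ q).2 he) hb))
  exact hdown q.left he hs (hup w.left he' hQ)

theorem etaleLocally_of_surjective {Q : Scheme.{u} → Prop} {P : MorphismProperty Scheme.{u}}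
    (hup : ∀ {A B : Scheme.{u}} (g : A ⟶ B), Etale g → Q B → Q A)
    (het : ∀ {A B : Scheme.{u}} (g : A ⟶ B), Etale g → Surjective g → Q A → Q B)
    (hdown : ∀ {A B : Scheme.{u}} (g : A ⟶ B), P g → Surjective g → Q A → Q B)
    (hF : IsAlgSpace F) (hG : IsAlgSpace G) {f : F ⟶ G} (hf : LocP P f) (hs : IsSurjectiveMor f)
    (h : EtaleLocally Q F) : EtaleLocally Q G := by
  obtain ⟨V, b, hbe, hbs⟩ := hG.atlas
  obtain ⟨T, t, k, hte, -, hk, hks⟩ := exists_surjective_chart hF hG hf hs hbe hbs
  exact ⟨V, b, hbe, hbs, hdown k.left hk hks (etaleLocally_chart hup het hF h hte)⟩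

theorem isReduced_of_smooth_mor {A B : Scheme.{u}} (g : A ⟶ B) [Smooth g] [IsReduced B] :
    IsReduced A := by
  have : ∀ x : A, _root_.IsReduced (A.presheaf.stalk x) := by
    intro x
    obtain ⟨U, hU, hxU, -⟩ := TopologicalSpace.Opens.isBasis_iff_nbhd.mp B.isBasis_affineOpens
      (TopologicalSpace.Opens.mem_top (g x))
    obtain ⟨V, hV, hxV, e⟩ := TopologicalSpace.Opens.isBasis_iff_nbhd.mp A.isBasis_affineOpens
      (show x ∈ g ⁻¹ᵁ U from hxU)
    have h := HasRingHomProperty.appLE @Smooth g ‹_› ⟨U, hU⟩ ⟨V, hV⟩ e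
    algebraize [(g.appLE U V e).hom]
    have := Groth.Agent.H02CA.isReduced_of_smooth Γ(B, U) Γ(A, V)
    let := (A.presheaf.germ V x hxV).hom.toAlgebra
    have := hV.isLocalization_stalk ⟨x, hxV⟩
    exact isReduced_localizationPreserves (hV.primeIdealOf ⟨x, hxV⟩).asIdeal.primeCompl
      (A.presheaf.stalk x) inferInstance
  exact isReduced_of_isReduced_stalk _

theorem isLocallyNoetherian_of_flat_lfp_surjective {A B : Scheme.{u}} (g : A ⟶ B) [Flat g]
    [LocallyOfFinitePresentation g] [Surjective g] [IsLocallyNoetherian A] :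
    IsLocallyNoetherian B := by
  refine isLocallyNoetherian_of_affine_cover (S := id) (iSup_affineOpens_eq_top B) fun U => ?_
  have : IsAffine U.1.toScheme := U.2
  let g' := g ∣_ U.1
  have : IsLocallyNoetherian (g ⁻¹ᵁ U.1).toScheme :=
    isLocallyNoetherian_of_isOpenImmersion (g ⁻¹ᵁ U.1).ι
  have : Surjective g' :=
    MorphismProperty.of_isPullback (isPullback_morphismRestrict g U.1).flip inferInstance
  have hop : ∀ W : (g ⁻¹ᵁ U.1).toScheme.affineOpens, IsOpen (g' '' (W.1 : Set _)) :=
    fun W => g'.isOpenMap _ W.1.isOpen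
  obtain ⟨s, hs⟩ := isCompact_univ.elim_finite_subcover _ hop (fun z _ => by
    obtain ⟨w, rfl⟩ := g'.surjective z
    obtain ⟨W, hW⟩ := TopologicalSpace.Opens.mem_iSup.1
      ((iSup_affineOpens_eq_top (g ⁻¹ᵁ U.1).toScheme).ge (Set.mem_univ w))
    exact Set.mem_iUnion.2 ⟨W, w, hW, rfl⟩)
  let h := Sigma.desc fun W : s => W.1.1.ι ≫ g'
  have : Flat h := IsZariskiLocalAtSource.sigmaDesc fun W => inferInstance
  have : Surjective h := ⟨fun z => by
    obtain ⟨W, hW, w, hw, hz⟩ := Set.mem_iUnion₂.1 (hs (Set.mem_univ z))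
    exact ⟨Sigma.ι (fun W : s => (W.1.1 : Scheme.{u})) ⟨W, hW⟩ ⟨w, hw⟩, by
      rw [← Scheme.Hom.comp_apply, Sigma.ι_desc, Scheme.Hom.comp_apply]; exact hz⟩⟩
  have : ∀ W : s, IsAffine (W.1.1 : Scheme.{u}) := fun W => W.1.2
  have : QuasiCompact h := (HasAffineProperty.iff_of_isAffine (P := @QuasiCompact)).2 inferInstance
  have : ∀ W : s, IsLocallyNoetherian (W.1.1 : Scheme.{u}) := fun W =>
    isLocallyNoetherian_of_isOpenImmersion W.1.1.ι
  have : ∀ W, IsAffine ((sigmaOpenCover fun W : s => (W.1.1 : Scheme.{u})).X W) := fun W => W.1.2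
  have : IsLocallyNoetherian (∐ fun W : s => (W.1.1 : Scheme.{u})) :=
    (isLocallyNoetherian_iff_of_affine_openCover (sigmaOpenCover fun W : s => (W.1.1 : Scheme.{u}))).2
      fun W => IsLocallyNoetherian.component_noetherian (X := (W.1.1 : Scheme.{u}))
        ⟨⊤, have : IsAffine (W.1.1 : Scheme.{u}) := W.1.2; isAffineOpen_top _⟩
  have := Groth.Agent.H06Desc.isLocallyNoetherian_of_flat_surjective_quasiCompact h
  have : IsNoetherianRing Γ(U.1.toScheme, ⊤) :=
    IsLocallyNoetherian.component_noetherian ⟨⊤, isAffineOpen_top _⟩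
  exact isNoetherianRing_of_ringEquiv Γ(U.1.toScheme, ⊤) U.1.topIso.commRingCatIsoToRingEquiv

theorem isLocallyNoetherian_of_etale {A B : Scheme.{u}} (g : A ⟶ B) [Etale g]
    [IsLocallyNoetherian B] : IsLocallyNoetherian A :=
  LocallyOfFiniteType.isLocallyNoetherian g

/-- Locally Noetherian with regular local rings. -/
def IsRegularScheme (U : Scheme.{u}) : Prop :=
  IsLocallyNoetherian U ∧ ∀ u : ↥U, IsRegularLocalRing ↥(U.presheaf.stalk u)

theorem isRegularScheme_of_etale {A B : Scheme.{u}} (g : A ⟶ B) [Etale g] (hB : IsRegularScheme B) :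
    IsRegularScheme A := by
  have := hB.1
  refine ⟨isLocallyNoetherian_of_etale g, fun x => ?_⟩
  obtain ⟨U, hU, hxU, -⟩ := TopologicalSpace.Opens.isBasis_iff_nbhd.mp B.isBasis_affineOpens
    (TopologicalSpace.Opens.mem_top (g x))
  obtain ⟨V, hV, hxV, e⟩ := TopologicalSpace.Opens.isBasis_iff_nbhd.mp A.isBasis_affineOpens
    (show x ∈ g ⁻¹ᵁ U from hxU)
  have : IsNoetherianRing Γ(B, U) := IsLocallyNoetherian.component_noetherian ⟨U, hU⟩
  have : IsRegularRing Γ(B, U) := isRegularRing_iff.mpr fun p hp => by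
    let y := hU.fromSpec ⟨p, hp⟩
    have hy : y ∈ U := hU.range_fromSpec.le ⟨⟨p, hp⟩, rfl⟩
    have hpr : hU.primeIdealOf ⟨y, hy⟩ = ⟨p, hp⟩ := by
      apply hU.fromSpec.isOpenEmbedding.injective
      rw [hU.fromSpec_primeIdealOf]
    let := (B.presheaf.germ U y hy).hom.toAlgebra
    have h1 := hU.isLocalization_stalk ⟨y, hy⟩
    rw [hpr] at h1
    have := hB.2 y
    exact IsRegularLocalRing.of_ringEquiv
      (IsLocalization.algEquiv p.primeCompl (B.presheaf.stalk y) (Localization.AtPrime p)).toRingEquiv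
  have h := HasRingHomProperty.appLE @Etale g ‹_› ⟨U, hU⟩ ⟨V, hV⟩ e
  algebraize [(g.appLE U V e).hom]
  have := Groth.Agent.H19Grp.isRegularLocalRing_localization_of_etale (R := Γ(B, U))
    (hV.primeIdealOf ⟨x, hxV⟩).asIdeal
  let := (A.presheaf.germ V x hxV).hom.toAlgebra
  have := hV.isLocalization_stalk ⟨x, hxV⟩
  exact IsRegularLocalRing.of_ringEquiv
    (IsLocalization.algEquiv (hV.primeIdealOf ⟨x, hxV⟩).asIdeal.primeCompl
      (Localization.AtPrime (hV.primeIdealOf ⟨x, hxV⟩).asIdeal) (A.presheaf.stalk x)).toRingEquiv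

theorem isRegularScheme_of_flat_lfp_surjective {A B : Scheme.{u}} (g : A ⟶ B) [Flat g]
    [LocallyOfFinitePresentation g] [Surjective g] (hA : IsRegularScheme A) : IsRegularScheme B := by
  have := hA.1
  have hB : IsLocallyNoetherian B := isLocallyNoetherian_of_flat_lfp_surjective g
  refine ⟨hB, fun y => ?_⟩
  obtain ⟨x, rfl⟩ := g.surjective y
  have := hA.2 x
  have h := Flat.stalkMap g x
  algebraize [(g.stalkMap x).hom]
  have : IsLocalHom (algebraMap ↥(B.presheaf.stalk (g x)) ↥(A.presheaf.stalk x)) := by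
    rw [RingHom.algebraMap_toAlgebra]; infer_instance
  exact Groth.Agent.S0565.result (B.presheaf.stalk (g x)) (A.presheaf.stalk x)

end Groth.Agent.H13AlgSp
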