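import Groth.Agent.H12AlgSp.Points
import Groth.Agent.H12AlgSp.Diagonal
import Groth.Agent.H12AlgSp.SourceDescent
import Groth.Prelude.Def_AlgSp3

/-!
Properties of morphisms of algebraic spaces defined etale locally on source and target.
-/

universe u

open CategoryTheory CategoryTheory.Limits AlgebraicGeometry Opposite
open AlgSp Groth.Agent.H12AlgSp

namespace Groth.Agent.H13AlgSp

variable {S : Scheme.{u}} {F G H : Sp S}

/-- What is needed of a property of morphisms of schemes to be etale local on source and target. -/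
class EtaleLocalST (P : MorphismProperty Scheme.{u}) : Prop extends P.IsStableUnderBaseChange,
    P.IsMultiplicative where
  etale_le : @Etale ≤ P
  of_etale_surjective : ∀ {X' X Y : Scheme.{u}} (f : X' ⟶ X) (g : X ⟶ Y),
    Etale f → Surjective f → P (f ≫ g) → P g

instance : EtaleLocalST.{u} @Flat where
  id_mem X := inferInstanceAs (Flat (𝟙 X))
  etale_le _ _ f (_ : Etale f) := inferInstanceAs (Flat f)
  of_etale_surjective f g _ _ h := @EtaleSource.flat' _ _ _ f g _ _ h

instance : EtaleLocalST.{u} @LocallyOfFiniteType where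
  id_mem X := inferInstanceAs (LocallyOfFiniteType (𝟙 X))
  etale_le _ _ f (_ : Etale f) := inferInstanceAs (LocallyOfFiniteType f)
  of_etale_surjective f g _ _ h := @EtaleSource.locallyOfFiniteType _ _ _ f g _ _ h

instance : EtaleLocalST.{u} @LocallyOfFinitePresentation where
  id_mem X := inferInstanceAs (LocallyOfFinitePresentation (𝟙 X))
  etale_le _ _ f (_ : Etale f) := inferInstanceAs (LocallyOfFinitePresentation f)
  of_etale_surjective f g _ _ h := @EtaleSource.locallyOfFinitePresentation _ _ _ f g _ _ h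

instance : EtaleLocalST.{u} @Smooth where
  id_mem X := inferInstanceAs (Smooth (𝟙 X))
  etale_le _ _ f (_ : Etale f) := inferInstanceAs (Smooth f)
  of_etale_surjective f g _ _ h := @EtaleSource.smooth' _ _ _ f g _ _ h

instance : EtaleLocalST.{u} @Etale where
  etale_le := le_rfl
  of_etale_surjective f g _ _ h := @EtaleSource.etale' _ _ _ f g _ _ h

instance : EtaleLocalST.{u} @FormallyUnramified where
  etale_le _ _ f (_ : Etale f) := inferInstanceAs (FormallyUnramified f)
  of_etale_surjective f g _ _ h := @EtaleSource.formallyUnramified' _ _ _ f g _ _ h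

theorem locallyQuasiFinite_of_etale {X Y : Scheme.{u}} (f : X ⟶ Y) [Etale f] : LocallyQuasiFinite f := by
  rw [HasRingHomProperty.iff_appLE (P := @LocallyQuasiFinite)]
  intro U V e
  have h := HasRingHomProperty.appLE @Etale f ‹_› U V e
  algebraize [(f.appLE U V e).hom]
  exact (inferInstance : Algebra.QuasiFinite Γ(Y, U) Γ(X, V))

instance : EtaleLocalST.{u} @LocallyQuasiFinite where
  etale_le _ _ f (_ : Etale f) := locallyQuasiFinite_of_etale f
  of_etale_surjective f g _ _ h := @EtaleSource.locallyQuasiFinite _ _ _ f g _ _ h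

instance (P Q : MorphismProperty Scheme.{u}) [EtaleLocalST P] [EtaleLocalST Q] :
    EtaleLocalST (P ⊓ Q) where
  etale_le := le_inf EtaleLocalST.etale_le EtaleLocalST.etale_le
  of_etale_surjective f g h₁ h₂ h :=
    ⟨EtaleLocalST.of_etale_surjective f g h₁ h₂ h.1, EtaleLocalST.of_etale_surjective f g h₁ h₂ h.2⟩

variable {P : MorphismProperty Scheme.{u}}

theorem repWith_etale_diagonal {f : F ⟶ G} (hf : RepWith @Etale f) :
    RepWith @Etale (pullback.diagonal f) :=
  repWith_diagonal_of_diagonal (repWith_le (fun _ _ g (_ : Etale g) =>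
    (inferInstanceAs (Etale (pullback.diagonal g)) : _)) hf)

/-- Maps between sheaves etale over a third one are etale. -/
theorem repWith_etale_of_comp {f : F ⟶ G} {g : G ⟶ H} (hg : RepWith @Etale g)
    (hfg : RepWith @Etale (f ≫ g)) : RepWith @Etale f :=
  repWith_of_comp f g (repWith_etale_diagonal hg) hfg

/-- `P` holds for every map `A ⟶ B` of schemes in which `A` is etale over the base change of `f` to `B`. -/
def EtaleFibre (P : MorphismProperty Scheme.{u}) : MorphismProperty (Sp S) := fun F G f =>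
  ∀ ⦃A B : Over S⦄ ⦃Q : Sp S⦄ (β : (yon S).obj B ⟶ G) (fst : Q ⟶ F) (snd : Q ⟶ (yon S).obj B),
    IsPullback fst snd f β → ∀ (α : (yon S).obj A ⟶ Q) (h : A ⟶ B),
      RepWith @Etale α → α ≫ snd = (yon S).map h → P h.left

theorem EtaleFibre.locP {f : F ⟶ G} (hf : EtaleFibre P f) : LocP P f := by
  intro U V a b h ha hb e
  have sq := IsPullback.of_hasPullback f b
  refine hf b _ _ sq (sq.lift a ((yon S).map h) e) h ?_ (sq.lift_snd ..)
  exact repWith_etale_of_comp (repWith_of_isPullback sq.flip hb) (by rwa [sq.lift_fst])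

theorem EtaleFibre.of_isPullback {F' G' : Sp S} {f : F ⟶ G} {f' : F' ⟶ G'} {k : F' ⟶ F} {l : G' ⟶ G}
    (sq : IsPullback k f' f l) (hf : EtaleFibre P f) : EtaleFibre P f' :=
  fun _ _ _ β _ _ sq' α h hα e => hf (β ≫ l) _ _ (sq'.paste_horiz sq) α h hα e

theorem surjective_left_of_repWith {U V : Over S} {g : U ⟶ V}
    (h : RepWith @Surjective ((yon S).map g)) : Surjective g.left :=
  (repWith_yon_map_iff _ g).1 h

theorem etale_left_of_repWith {U V : Over S} {g : U ⟶ V}
    (h : RepWith @Etale ((yon S).map g)) : Etale g.left :=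
  (repWith_yon_map_iff _ g).1 h

/-- The one-chart criterion. -/
theorem etaleFibre_of_chart [EtaleLocalST P] {f : F ⟶ G} {U V : Over S} {a : (yon S).obj U ⟶ F}
    {b : (yon S).obj V ⟶ G} {h : U ⟶ V} (hae : RepWith @Etale a) (has : RepWith @Surjective a)
    (hb : RepWith @Etale b) (e : a ≫ f = (yon S).map h ≫ b) (hP : P h.left) :
    EtaleFibre P f := by
  intro A B Q β fst snd sq α k hα hk
  obtain ⟨B', e', φ', sqB⟩ := hb.1 β
  obtain ⟨φ, rfl⟩ := (yon S).map_surjective φ'
  have hee : Etale e'.left := hb.2 β _ e' sqB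
  have sqU : IsPullback (pullback.fst h φ) (pullback.snd h φ) h φ := IsPullback.of_hasPullback _ _
  let c := sq.lift ((yon S).map (pullback.fst h φ) ≫ a) ((yon S).map (pullback.snd h φ ≫ e')) (by
    rw [Category.assoc, e, ← Category.assoc, ← Functor.map_comp, sqU.w, Functor.map_comp,
      Category.assoc, sqB.w, Functor.map_comp, Category.assoc])
  have outer : IsPullback ((yon S).map (pullback.fst h φ))
      ((yon S).map (pullback.snd h φ) ≫ (yon S).map e') ((yon S).map h ≫ b) β :=
    (sqU.map (yon S)).paste_vert sqB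
  have sqc : IsPullback ((yon S).map (pullback.fst h φ)) c a fst := by
    refine IsPullback.of_bot ?_ (sq.lift_fst _ _ _).symm sq
    rw [sq.lift_snd, e, Functor.map_comp]
    exact outer
  have hce : RepWith @Etale c := repWith_of_isPullback sqc hae
  have hcs : RepWith @Surjective c := repWith_of_isPullback sqc has
  obtain ⟨T, tU, tA', sqT⟩ := hα.1 c
  have htU : Etale tU.left := hα.2 c _ tU sqT
  obtain ⟨tA, rfl⟩ := (yon S).map_surjective tA'
  have htAe : Etale tA.left := etale_left_of_repWith (repWith_of_isPullback sqT.flip hce)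
  have htAs : Surjective tA.left := surjective_left_of_repWith (repWith_of_isPullback sqT.flip hcs)
  have heq : tA ≫ k = tU ≫ pullback.snd h φ ≫ e' := (yon S).map_injective (by
    simp only [Functor.map_comp, ← hk]
    rw [← Category.assoc, sqT.w, Category.assoc, sq.lift_snd, Functor.map_comp])
  refine EtaleLocalST.of_etale_surjective tA.left k.left htAe htAs ?_
  rw [← Over.comp_left, heq]
  exact P.comp_mem _ _ (EtaleLocalST.etale_le _ _ _ htU)
    (P.comp_mem _ _ (P.of_isPullback (sqU.map (Over.forget S)) hP) (EtaleLocalST.etale_le _ _ _ hee))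

theorem etaleFibre_of_locP [EtaleLocalST P] (hF : IsAlgSpace F) (hG : IsAlgSpace G) {f : F ⟶ G}
    (hf : LocP P f) : EtaleFibre P f := by
  obtain ⟨V, b, hbe, hbs⟩ := hG.atlas
  have sq := IsPullback.of_hasPullback f b
  obtain ⟨U, c, hce, hcs⟩ :=
    (isAlgSpace_of_isPullback hG.diag hF (IsAlgSpace.yon_obj V) sq).atlas
  obtain ⟨h, hh⟩ := (yon S).map_surjective (c ≫ pullback.snd f b)
  have hae := repWith_comp hce (repWith_of_isPullback sq.flip hbe)
  have has := repWith_comp hcs (repWith_of_isPullback sq.flip hbs)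
  have e : (c ≫ pullback.fst f b) ≫ f = (yon S).map h ≫ b := by
    rw [hh, Category.assoc, Category.assoc, sq.w]
  exact etaleFibre_of_chart hae has hbe e (hf _ b h hae hbe e)

theorem etaleFibre_iff_locP [EtaleLocalST P] (hF : IsAlgSpace F) (hG : IsAlgSpace G) {f : F ⟶ G} :
    EtaleFibre P f ↔ LocP P f :=
  ⟨EtaleFibre.locP, etaleFibre_of_locP hF hG⟩

theorem locP_of_chart [EtaleLocalST P] {f : F ⟶ G} {U V : Over S} {a : (yon S).obj U ⟶ F}
    {b : (yon S).obj V ⟶ G} {h : U ⟶ V} (hae : RepWith @Etale a) (has : RepWith @Surjective a)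
    (hb : RepWith @Etale b) (e : a ≫ f = (yon S).map h ≫ b) (hP : P h.left) : LocP P f :=
  (etaleFibre_of_chart hae has hb e hP).locP

theorem locP_of_isPullback [EtaleLocalST P] {F' G' : Sp S} (hF : IsAlgSpace F) (hG : IsAlgSpace G)
    {f : F ⟶ G} {f' : F' ⟶ G'} {k : F' ⟶ F} {l : G' ⟶ G} (sq : IsPullback k f' f l)
    (hf : LocP P f) : LocP P f' :=
  ((etaleFibre_of_locP hF hG hf).of_isPullback sq).locP

theorem locP_comp [EtaleLocalST P] (hF : IsAlgSpace F) (hG : IsAlgSpace G) (hH : IsAlgSpace H)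
    {f : F ⟶ G} {g : G ⟶ H} (hf : LocP P f) (hg : LocP P g) : LocP P (f ≫ g) := by
  obtain ⟨W, c, hce, hcs⟩ := hH.atlas
  have sq₁ := IsPullback.of_hasPullback g c
  obtain ⟨V, d, hde, hds⟩ :=
    (isAlgSpace_of_isPullback hH.diag hG (IsAlgSpace.yon_obj W) sq₁).atlas
  obtain ⟨k, hk⟩ := (yon S).map_surjective (d ≫ pullback.snd g c)
  have hbe := repWith_comp hde (repWith_of_isPullback sq₁.flip hce)
  have hbs := repWith_comp hds (repWith_of_isPullback sq₁.flip hcs)
  have eg : (d ≫ pullback.fst g c) ≫ g = (yon S).map k ≫ c := by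
    rw [hk, Category.assoc, Category.assoc, sq₁.w]
  have sq₂ := IsPullback.of_hasPullback f (d ≫ pullback.fst g c)
  obtain ⟨U, d', hd'e, hd's⟩ :=
    (isAlgSpace_of_isPullback hG.diag hF (IsAlgSpace.yon_obj V) sq₂).atlas
  obtain ⟨h, hh⟩ := (yon S).map_surjective (d' ≫ pullback.snd f (d ≫ pullback.fst g c))
  have hae := repWith_comp hd'e (repWith_of_isPullback sq₂.flip hbe)
  have has := repWith_comp hd's (repWith_of_isPullback sq₂.flip hbs)
  have ef : (d' ≫ pullback.fst f (d ≫ pullback.fst g c)) ≫ f =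
      (yon S).map h ≫ d ≫ pullback.fst g c := by
    rw [hh, Category.assoc, Category.assoc, sq₂.w]
  refine locP_of_chart hae has hce (h := h ≫ k) ?_
    (P.comp_mem _ _ (hf _ _ h hae hbe ef) (hg _ _ k hbe hce eg))
  calc (d' ≫ pullback.fst f (d ≫ pullback.fst g c)) ≫ f ≫ g
      = ((d' ≫ pullback.fst f (d ≫ pullback.fst g c)) ≫ f) ≫ g := (Category.assoc _ _ _).symm
    _ = (yon S).map h ≫ (d ≫ pullback.fst g c) ≫ g := by rw [ef, Category.assoc]
    _ = (yon S).map h ≫ (yon S).map k ≫ c := by rw [eg]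
    _ = (yon S).map (h ≫ k) ≫ c := by rw [Functor.map_comp, Category.assoc]

/-- A representable morphism with `P` has `P` etale locally. -/
theorem etaleFibre_of_repWith [EtaleLocalST P] {f : F ⟶ G} (hf : RepWith P f) : EtaleFibre P f := by
  intro A B Q β fst snd sq α k hα hk
  obtain ⟨Q₀, q, g, sq₀⟩ := hf.1 β
  let i := sq.isoIsPullback _ _ sq₀
  obtain ⟨α₀, h₀⟩ := (yon S).map_surjective (α ≫ i.hom)
  have he : Etale α₀.left := by
    apply etale_left_of_repWith
    rw [h₀]
    exact repWith_comp hα (repWith_of_isIso i.hom)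
  have hk' : k = α₀ ≫ q := (yon S).map_injective (by
    rw [Functor.map_comp, h₀, Category.assoc, IsPullback.isoIsPullback_hom_snd, hk])
  rw [hk', Over.comp_left]
  exact P.comp_mem _ _ (EtaleLocalST.etale_le _ _ _ he) (hf.2 β g q sq₀)

theorem repWith_iff_locP [EtaleLocalST P] (hF : IsAlgSpace F) (hG : IsAlgSpace G) {f : F ⟶ G}
    (hf : Representable f) : RepWith P f ↔ LocP P f := by
  refine ⟨fun h => (etaleFibre_of_repWith h).locP, fun h => ?_⟩
  refine repWith_of_snd hf fun T g => ?_
  exact etaleFibre_of_locP hF hG h g _ _ (hf.isPullback g) (𝟙 _) _ (repWith_id _ _) (Category.id_comp _)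

theorem locP_etale_of_isEtaleMor {f : F ⟶ G} (hf : IsEtaleMor f) : LocP @Etale f := by
  intro U V a b h ha hb e
  have h1 := hf a ha
  rw [e] at h1
  exact etale_left_of_repWith (repWith_etale_of_comp hb h1)

theorem isEtaleMor_of_locP (hF : IsAlgSpace F) (hG : IsAlgSpace G) {f : F ⟶ G}
    (hf : LocP @Etale f) : IsEtaleMor f := by
  intro U φ hφ
  have hrep : Representable (φ ≫ f) := hG.representable_from_yon _
  refine repWith_of_snd hrep fun T g => ?_
  have sq := IsPullback.of_hasPullback f g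
  let α := sq.lift (hrep.fst g ≫ φ) ((yon S).map (hrep.snd g))
    (by rw [Category.assoc]; exact (hrep.isPullback g).w)
  have hα : IsPullback (hrep.fst g) α φ (pullback.fst f g) := by
    refine IsPullback.of_bot ?_ (sq.lift_fst _ _ _).symm sq
    rw [sq.lift_snd]
    exact hrep.isPullback g
  exact etaleFibre_of_locP hF hG hf g _ _ sq α _ (repWith_of_isPullback hα hφ) (sq.lift_snd ..)

theorem isEtaleMor_iff_locP (hF : IsAlgSpace F) (hG : IsAlgSpace G) {f : F ⟶ G} :
    IsEtaleMor f ↔ LocP @Etale f :=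
  ⟨locP_etale_of_isEtaleMor, isEtaleMor_of_locP hF hG⟩

end Groth.Agent.H13AlgSp
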