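import Groth.Agent.H12AlgSp.QC
import Groth.Agent.H13AlgSp.LocP
import Groth.Agent.H13AlgSp.Cover
import Groth.Agent.S0279
import Mathlib.Algebra.TrivSqZeroExt.Basic

/-!
Quasi-compact monomorphisms of algebraic spaces with universally injective maps on functions are isomorphisms.
-/

universe u

open CategoryTheory CategoryTheory.Limits AlgebraicGeometry Opposite Topology
open AlgSp Groth.Agent.H12AlgSp
open scoped TensorProduct

set_option linter.style.haveILetI false

namespace Groth.Agent.H13AlgSp.MonoIso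

theorem appTop_injective_of_flat_surjective {W' W : Scheme.{u}} (π : W' ⟶ W) [Flat π] [Surjective π] :
    Function.Injective π.appTop := by
  rw [injective_iff_map_eq_zero]
  intro s hs
  refine TopCat.Presheaf.section_ext W.sheaf ⊤ _ _ fun w hw => ?_
  obtain ⟨w', rfl⟩ := π.surjective w
  have hflat := Flat.stalkMap π w'
  algebraize [(π.stalkMap w').hom]
  haveI : IsLocalHom (algebraMap (W.presheaf.stalk (π w')) (W'.presheaf.stalk w')) :=
    inferInstanceAs (IsLocalHom (π.stalkMap w').hom)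
  haveI : Module.FaithfullyFlat (W.presheaf.stalk (π w')) (W'.presheaf.stalk w') :=
    Module.FaithfullyFlat.of_flat_of_isLocalHom
  have hinj : Function.Injective (π.stalkMap w').hom :=
    FaithfulSMul.algebraMap_injective (W.presheaf.stalk (π w')) (W'.presheaf.stalk w')
  apply hinj
  change π.stalkMap w' (W.presheaf.germ ⊤ (π w') hw s) = π.stalkMap w' (W.presheaf.germ ⊤ (π w') hw 0)
  rw [Scheme.Hom.germ_stalkMap_apply π ⊤ w' hw s, Scheme.Hom.germ_stalkMap_apply π ⊤ w' hw 0]
  rw [show π.app ⊤ s = π.app ⊤ 0 from hs.trans (map_zero _).symm]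

/-- A ring map which is injective on sections after every affine base change is universally injective. -/
theorem etale_Spec {B C : Type u} [CommRing B] [CommRing C] [Algebra B C]
    (hE : Etale (pullback.fst (Spec.map (CommRingCat.ofHom (algebraMap B C)))
      (Spec.map (CommRingCat.ofHom (algebraMap B C)))))
    (h : ∀ (R : Type u) [CommRing R] [Algebra B R],
      Function.Injective (Algebra.TensorProduct.includeRight : R →ₐ[B] C ⊗[B] R)) :
    Algebra.Etale B C := by
  have hu : Pi1.UnivInjective B C := by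
    intro P _ _
    rw [injective_iff_map_eq_zero]
    intro x hx
    obtain ⟨p, rfl⟩ : ∃ p, p ⊗ₜ[B] (1 : B) = x :=
      ⟨TensorProduct.rid B P x, (TensorProduct.rid B P).symm_apply_apply x⟩
    letI : Module Bᵐᵒᵖ P := Module.compHom P ((RingHom.id B).fromOpposite mul_comm)
    haveI : IsCentralScalar B P := ⟨fun _ _ => rfl⟩
    have : (1 : C) ⊗ₜ[B] (TrivSqZeroExt.inr p : TrivSqZeroExt B P) = 0 := by
      have h' := congrArg (TensorProduct.map ((TrivSqZeroExt.inrHom B P).restrictScalars B)
        (LinearMap.id : C →ₗ[B] C)) hx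
      rw [LinearMap.lTensor_tmul, map_zero, TensorProduct.map_tmul, Algebra.linearMap_apply, map_one] at h'
      have h'' := congrArg (TensorProduct.comm B (TrivSqZeroExt B P) C) h'
      simpa using h''
    have hp : (TrivSqZeroExt.inr p : TrivSqZeroExt B P) = 0 := h (TrivSqZeroExt B P) (this.trans (map_zero _).symm)
    have : p = 0 := TrivSqZeroExt.inr_injective (hp.trans (TrivSqZeroExt.inr_zero B).symm)
    rw [this, TensorProduct.zero_tmul]
  rw [← pullbackSpecIso_hom_fst B C C] at hE
  have h' : Etale (Spec.map (CommRingCat.ofHom (algebraMap C (C ⊗[B] C)))) :=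
    (MorphismProperty.cancel_left_of_respectsIso @Etale _ _).1 hE
  have : Algebra.Etale C (C ⊗[B] C) := RingHom.etale_algebraMap.1 ((HasRingHomProperty.Spec_iff (P := @Etale)).1 h')
  exact Groth.Agent.S0279.result B C hu C

theorem etale_affine {U T : Scheme.{u}} [IsAffine U] [IsAffine T] (c : U ⟶ T) [Etale (pullback.fst c c)]
    (h : ∀ (T' : Scheme.{u}) (_ : IsAffine T') (g : T' ⟶ T),
      Function.Injective (pullback.snd c g).appTop) : Etale c := by
  letI := c.appTop.hom.toAlgebra
  let φ : Spec Γ(U, ⊤) ⟶ Spec Γ(T, ⊤) := Spec.map (CommRingCat.ofHom (algebraMap Γ(T, ⊤) Γ(U, ⊤)))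
  have hφ : U.isoSpec.hom ≫ φ = c ≫ T.isoSpec.hom := Scheme.isoSpec_hom_naturality c
  let e : Arrow.mk c ≅ Arrow.mk φ := Arrow.isoMk U.isoSpec T.isoSpec hφ
  refine (MorphismProperty.arrow_mk_iso_iff @Etale e).2 ?_
  have hE : Etale (pullback.fst φ φ) := by
    let m : pullback c c ⟶ pullback φ φ :=
      pullback.map c c φ φ U.isoSpec.hom U.isoSpec.hom T.isoSpec.hom hφ.symm hφ.symm
    exact (MorphismProperty.arrow_mk_iso_iff @Etale (Arrow.isoMk (asIso m) U.isoSpec
      (pullback.lift_fst _ _ _))).1 ‹Etale (pullback.fst c c)›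
  refine (HasRingHomProperty.Spec_iff (P := @Etale)).2 (RingHom.etale_algebraMap.2 (etale_Spec hE ?_))
  intro R _ _
  let ψ : Spec (.of R) ⟶ Spec Γ(T, ⊤) := Spec.map (CommRingCat.ofHom (algebraMap Γ(T, ⊤) R))
  let m : pullback c (ψ ≫ T.isoSpec.inv) ⟶ pullback φ ψ :=
    pullback.map _ _ φ ψ U.isoSpec.hom (𝟙 _) T.isoSpec.hom hφ.symm (by simp)
  have hm : m ≫ pullback.snd φ ψ = pullback.snd c (ψ ≫ T.isoSpec.inv) :=
    (pullback.lift_snd _ _ _).trans (Category.comp_id _)
  have hi := h _ inferInstance (ψ ≫ T.isoSpec.inv)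
  rw [← hm, ← pullbackSpecIso_hom_snd Γ(T, ⊤) Γ(U, ⊤) R] at hi
  intro a b e
  apply (Scheme.ΓSpecIso (.of R)).commRingCatIsoToRingEquiv.symm.injective
  apply hi
  have nat := Scheme.ΓSpecIso_inv_naturality (CommRingCat.ofHom
      (Algebra.TensorProduct.includeRight : R →ₐ[Γ(T, ⊤)] Γ(U, ⊤) ⊗[Γ(T, ⊤)] R).toRingHom)
  simp only [Scheme.Hom.comp_appTop, CommRingCat.comp_apply]
  congr 2
  have hna := congr($nat a)
  have hnb := congr($nat b)
  simp only [CommRingCat.comp_apply, CommRingCat.hom_ofHom] at hna hnb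
  exact hna.symm.trans ((congrArg (Scheme.ΓSpecIso (.of (Γ(U, ⊤) ⊗[Γ(T, ⊤)] R))).inv.hom e).trans hnb)

variable {S : Scheme.{u}} {X Y : Sp S}

theorem isIso_of_qc_mono (hX : IsAlgSpace X) (hY : IsAlgSpace Y) (f : X ⟶ Y) (hqc : IsQuasiCompactMor f)
    [Mono f]
    (hinj : ∀ (T : Over S) (g : (AlgSp.yon S).obj T ⟶ Y) (P : AlgSp.Sp S) (fst : P ⟶ X)
      (snd : P ⟶ (AlgSp.yon S).obj T), IsPullback fst snd f g →
      ∀ s : Γ(T.left, ⊤),
        (∀ (W : Over S) (a : (AlgSp.yon S).obj W ⟶ P) (c : W ⟶ T),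
          a ≫ snd = (AlgSp.yon S).map c → c.left.appTop s = 0) → s = 0) : IsIso f := by
  have key : ∀ (T : Over S), IsAffine T.left → ∀ y : (yon S).obj T ⟶ Y,
      ∃ (U : Over S) (c : U ⟶ T) (l : (yon S).obj U ⟶ X),
        Etale c.left ∧ Surjective c.left ∧ l ≫ f = (yon S).map c ≫ y := by
    intro T hT y
    obtain ⟨P, p₁, p₂, sq⟩ : ∃ (P : Sp S) (p₁ : P ⟶ X) (p₂ : P ⟶ (yon S).obj T), IsPullback p₁ p₂ f y :=
      ⟨_, _, _, IsPullback.of_hasPullback _ _⟩
    have hP : IsAlgSpace P := isAlgSpace_of_isPullback hY.diag hX (IsAlgSpace.yon_obj T) sq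
    haveI : CompactSpace T.left := inferInstance
    haveI : CompactSpace (Points P) := compactSpace_points_of_isQuasiCompactSp
      (hqc (IsAlgSpace.yon_obj T) (isQuasiCompactSp_yon_iff.2 inferInstance) y p₁ p₂ sq)
    obtain ⟨U, u, hU, hu, hus⟩ := exists_affine_atlas hP
    obtain ⟨c, hc⟩ := (yon S).map_surjective (u ≫ p₂)
    have hmono : Mono p₂ := ⟨fun a b e => sq.hom_ext ((cancel_mono f).1 (by
      rw [Category.assoc, Category.assoc, sq.w, reassoc_of% e])) e⟩
    obtain ⟨R, r₂, r₁', sqR⟩ : ∃ (R : Over S) (r₂ : R ⟶ U) (r₁ : (yon S).obj R ⟶ (yon S).obj U),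
        IsPullback r₁ ((yon S).map r₂) u u := ⟨_, _, _, hu.rep.isPullback u⟩
    obtain ⟨r₁, rfl⟩ := (yon S).map_surjective r₁'
    have sqc : IsPullback r₁ r₂ c c := by
      refine IsPullback.of_map (yon S) ((yon S).map_injective ?_) ?_
      · simp only [Functor.map_comp, hc, reassoc_of% sqR.w]
      · rw [hc]
        exact ⟨⟨by rw [reassoc_of% sqR.w]⟩, ⟨PullbackCone.IsLimit.mk _
          (fun t => sqR.lift t.fst t.snd ((cancel_mono p₂).1 (by
            rw [Category.assoc, Category.assoc]; exact t.condition)))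
          (fun t => sqR.lift_fst _ _ _) (fun t => sqR.lift_snd _ _ _)
          fun t m h1 h2 => sqR.hom_ext (by rw [h1, sqR.lift_fst]) (by rw [h2, sqR.lift_snd])⟩⟩
    have : Etale r₁.left := (repWith_yon_map_iff _ r₁).1 (repWith_of_isPullback sqR.flip hu)
    have sqcl := sqc.map (Over.forget S)
    haveI : Etale (pullback.fst c.left c.left) := by
      rw [show pullback.fst c.left c.left = sqcl.isoPullback.inv ≫ r₁.left from
        (sqcl.isoPullback_inv_fst).symm]
      exact (MorphismProperty.cancel_left_of_respectsIso @Etale _ _).2 this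
    have he : Etale c.left := by
      refine etale_affine c.left fun T' _ g => ?_
      rw [injective_iff_map_eq_zero]
      intro s hs
      let T'' : Over S := Over.mk (g ≫ T.hom)
      let g' : T'' ⟶ T := Over.homMk g
      obtain ⟨Q, q₁, q₂, sqQ⟩ : ∃ (Q : Sp S) (q₁ : Q ⟶ P) (q₂ : Q ⟶ (yon S).obj T''),
          IsPullback q₁ q₂ p₂ ((yon S).map g') := ⟨_, _, _, IsPullback.of_hasPullback _ _⟩
      refine hinj T'' ((yon S).map g' ≫ y) Q (q₁ ≫ p₁) q₂ (sqQ.paste_horiz sq) s ?_
      intro W a cW haW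
      obtain ⟨W', w, k, sqW⟩ : ∃ (W' : Over S) (w : W' ⟶ W) (k : (yon S).obj W' ⟶ (yon S).obj U),
          IsPullback k ((yon S).map w) u (a ≫ q₁) := ⟨_, _, _, hu.rep.isPullback _⟩
      obtain ⟨k, rfl⟩ := (yon S).map_surjective k
      haveI : Etale w.left := hu.property _ _ w sqW
      haveI : Surjective w.left := hus.property _ _ w sqW
      have e : k ≫ c = (w ≫ cW) ≫ g' := (yon S).map_injective (by
        simp only [Functor.map_comp, hc, Category.assoc, reassoc_of% sqW.w, sqQ.w, ← haW])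
      let l : W'.left ⟶ pullback c.left g := pullback.lift k.left (w ≫ cW).left (congrArg CommaMorphism.left e)
      have hl : l ≫ pullback.snd c.left g = w.left ≫ cW.left := pullback.lift_snd _ _ _
      apply appTop_injective_of_flat_surjective w.left
      rw [map_zero]
      have := congr($(congrArg (fun j : W'.left ⟶ T' => j.appTop) hl) s)
      simp only [Scheme.Hom.comp_appTop, CommRingCat.hom_comp, RingHom.coe_comp, Function.comp_apply] at this
      rw [← this]
      exact (congrArg _ hs).trans (map_zero _)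
    have hs : Surjective c.left := ⟨fun t => by
      obtain ⟨t', ht⟩ : t ∈ Set.range c.left := by
        by_contra hne
        let k := T.left.fromSpecResidueField t
        let T'' : Over S := Over.mk (k ≫ T.hom)
        let g' : T'' ⟶ T := Over.homMk k
        obtain ⟨Q, q₁, q₂, sqQ⟩ : ∃ (Q : Sp S) (q₁ : Q ⟶ P) (q₂ : Q ⟶ (yon S).obj T''),
            IsPullback q₁ q₂ p₂ ((yon S).map g') := ⟨_, _, _, IsPullback.of_hasPullback _ _⟩
        haveI : Nontrivial Γ(T''.left, ⊤) :=
          (Scheme.ΓSpecIso (T.left.residueField t)).commRingCatIsoToRingEquiv.toEquiv.nontrivial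
        refine one_ne_zero (hinj T'' ((yon S).map g' ≫ y) Q (q₁ ≫ p₁) q₂ (sqQ.paste_horiz sq) 1 ?_)
        intro W a cW haW
        have : IsEmpty W.left := ⟨fun w => hne (by
          obtain ⟨x, hx⟩ := surjective_ofPt_of_repWith le_rfl hus (Points.ofPt (a ≫ q₁) w)
          have := congrArg (Points.map p₂) hx
          rw [Points.map_ofPt, Points.map_ofPt, Category.assoc, sqQ.w, ← Category.assoc, haW, ← hc,
            ← Functor.map_comp, ← Category.comp_id ((yon S).map c),
            ← Category.comp_id ((yon S).map (cW ≫ g')), ofPt_map, ofPt_map,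
            Points.ofPt_eq_map_ofScheme, Points.ofPt_eq_map_ofScheme, Points.map_id, Points.map_id] at this
          refine ⟨x, ((Points.schemeHomeo T).symm.symm.injective this).trans ?_⟩
          have hmem : (cW ≫ g').left w ∈ Set.range k := ⟨cW.left w, rfl⟩
          rw [Scheme.range_fromSpecResidueField] at hmem
          exact hmem)⟩
        exact Subsingleton.elim _ _
      exact ⟨t', ht⟩⟩
    exact ⟨U, c, u ≫ p₁, he, hs, by rw [Category.assoc, sq.w, ← Category.assoc, hc]⟩
  have : Epi f := by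
    refine epi_of_local_lifts f fun T y => ?_
    let 𝒲 := T.left.affineCover
    let A : 𝒲.I₀ → Over S := fun i => Over.mk (𝒲.f i ≫ T.hom)
    let ai : ∀ i, A i ⟶ T := fun i => Over.homMk (𝒲.f i)
    choose U c l hce hcs hl using fun i => key (A i) (inferInstanceAs (IsAffine (𝒲.X i))) ((yon S).map (ai i) ≫ y)
    refine ⟨𝒲.I₀, U, fun i => c i ≫ ai i, ofArrows_mem_J _ (fun i => ?_) (fun i => ?_) fun t => ?_,
      fun i => ⟨l i, by rw [hl i, Functor.map_comp, Category.assoc]⟩⟩
    · have := hce i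
      exact inferInstanceAs (Flat ((c i).left ≫ 𝒲.f i))
    · have := hce i
      exact inferInstanceAs (LocallyOfFinitePresentation ((c i).left ≫ 𝒲.f i))
    · obtain ⟨a, ha⟩ := 𝒲.covers t
      obtain ⟨x, hx⟩ := (hcs (𝒲.idx t)).surj a
      refine ⟨𝒲.idx t, x, ?_⟩
      change 𝒲.f _ ((c _).left x) = t
      rw [hx]
      exact ha
  exact isIso_of_mono_of_epi f

end Groth.Agent.H13AlgSp.MonoIso
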