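import Groth.Agent.H22Alg.DimFunLft
import Groth.Agent.H12AlgSp.TrdegBaseChange
import Groth.Agent.S9125

/-!
Lengths of saturated chains of specializations over a universally catenary base.
-/

set_option autoImplicit false
set_option linter.style.haveILetI false

universe u

open CategoryTheory AlgebraicGeometry
open Groth.Agent.H7Flat (evKer evKer_eq trdeg_residue_eq)

namespace Groth.Agent.H13AlgSp

theorem height_eq_length {B : Type u} [CommRing B] [IsNoetherianRing B] (hB : CAlg.IsCatenary B)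
    (s : LTSeries (PrimeSpectrum B)) (hs : H02CA.Saturated s) :
    (s.last.asIdeal.map (Ideal.Quotient.mk s.head.asIdeal)).height = s.length := by
  have hle : s.head.asIdeal ≤ s.last.asIdeal := s.head_le_last
  haveI hQ := s.head.isPrime
  haveI : (s.last.asIdeal.map (Ideal.Quotient.mk s.head.asIdeal)).IsPrime :=
    Ideal.map_isPrime_of_surjective Ideal.Quotient.mk_surjective (by rw [Ideal.mk_ker]; exact hle)
  let q : PrimeSpectrum (B ⧸ s.head.asIdeal) := ⟨s.last.asIdeal.map (Ideal.Quotient.mk s.head.asIdeal), inferInstance⟩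
  let bot : PrimeSpectrum (B ⧸ s.head.asIdeal) := ⟨⊥, Ideal.isPrime_bot⟩
  obtain ⟨t, t1, t2, t3, t4⟩ := H02CA.exists_preimage (H02CA.quotEmbedding s.head.asIdeal)
    (H02CA.convex_quotEmbedding _) s (a := bot) (b := q)
    (PrimeSpectrum.ext (by
      show _ = Ideal.comap (Ideal.Quotient.mk s.head.asIdeal) ⊥
      rw [← RingHom.ker_eq_comap_bot, Ideal.mk_ker]))
    (PrimeSpectrum.ext (by
      show _ = Ideal.comap (Ideal.Quotient.mk s.head.asIdeal) (s.last.asIdeal.map _)
      rw [Ideal.comap_map_of_surjective' _ Ideal.Quotient.mk_surjective, Ideal.mk_ker, sup_eq_left.mpr hle]))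
  obtain ⟨n, hn⟩ := ENat.ne_top_iff_exists.mp (Ideal.height_ne_top (I := q.asIdeal) q.isPrime.ne_top)
  have hh : Order.height q = (n : ℕ∞) := by rw [← PrimeSpectrum.height_eq_orderHeight]; exact hn.symm
  obtain ⟨r, hr, hlen⟩ := Order.exists_series_of_height_eq_coe q hh
  have hmax : ∀ l : LTSeries (PrimeSpectrum (B ⧸ s.head.asIdeal)), l.last = q → l.length ≤ r.length := fun l hl => by
    have := Order.length_le_height (p := l) (le_of_eq hl)
    rw [hh] at this
    rw [hlen]
    exact_mod_cast this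
  have hhead : r.head = bot := by
    by_contra hne
    have hlt : bot < r.head := lt_of_le_of_ne (show (⊥ : Ideal _) ≤ _ from bot_le) (Ne.symm hne)
    have := hmax (r.cons _ hlt) (by rw [RelSeries.last_cons]; exact hr)
    simp at this
  have := (Groth.Agent.S9125.result B s.head.asIdeal hB).2 t r (t1.trans hhead.symm) (t2.trans hr.symm) (t4 hs)
    (H02CA.saturated_of_forall_length_le r fun l _ hl => hmax l (hl.trans hr))
  rw [← t3, this, hlen]
  exact hn.symm

set_option maxHeartbeats 1000000 in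
/-- Over a universally catenary base, the height of `y` in the closure of `x` only depends on `y`, the image of `x`
and its transcendence degree. -/
theorem height_add_trdeg {X S : Scheme.{u}} (f : X ⟶ S) [LocallyOfFiniteType f] [IsLocallyNoetherian S]
    (hSc : ∀ s : S, CAlg.IsUniversallyCatenary (S.presheaf.stalk s)) {V : S.Opens} (hV : IsAffineOpen V)
    {U : X.Opens} (hU : IsAffineOpen U) (hle : U ≤ f ⁻¹ᵁ V) {x y : X} (hxy : x ⤳ y) (hxU : x ∈ U) (hyU : y ∈ U) :
    ((((evKer U y hyU).map (Ideal.Quotient.mk (evKer U x hxU))).height : ℕ∞) : Cardinal.{u}) + Dual3.resTrdeg f y =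
      ((((evKer V (f y) (hle hyU)).map (Ideal.Quotient.mk (evKer V (f x) (hle hxU)))).height : ℕ∞) : Cardinal.{u}) +
        Dual3.resTrdeg f x := by
  have hfxy : f x ⤳ f y := hxy.map f.continuous
  have hyV : f y ∈ V := hle hyU
  haveI : IsLocallyNoetherian X := LocallyOfFiniteType.isLocallyNoetherian f
  obtain ⟨hPQx, htrx⟩ := trdeg_residue_eq f hV hU hle x hxU
  obtain ⟨hPQy, htry⟩ := trdeg_residue_eq f hV hU hle y hyU
  letI := (f.appLE V U hle).hom.toAlgebra
  haveI hPx : (evKer U x hxU).LiesOver (evKer V (f x) (hle hxU)) := ⟨by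
    ext r
    show S.evaluation V (f x) _ r = 0 ↔ X.evaluation U x hxU (f.appLE V U hle r) = 0
    rw [← H7Flat.evaluation_appLE f hle x hxU r]
    exact ((map_eq_zero_iff _ (f.residueFieldMap x).hom.injective)).symm⟩
  haveI hPy : (evKer U y hyU).LiesOver (evKer V (f y) hyV) := ⟨by
    ext r
    show S.evaluation V (f y) _ r = 0 ↔ X.evaluation U y hyU (f.appLE V U hle r) = 0
    rw [← H7Flat.evaluation_appLE f hle y hyU r]
    exact ((map_eq_zero_iff _ (f.residueFieldMap y).hom.injective)).symm⟩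
  haveI : Algebra.FiniteType Γ(S, V) Γ(X, U) := RingHom.finiteType_algebraMap.1 (f.finiteType_appLE hV hU hle)
  set P := evKer V (f x) (hle hxU)
  set Q := evKer U x hxU
  set p := evKer V (f y) hyV
  set q := evKer U y hyU
  haveI : P.IsPrime := RingHom.ker_isPrime _
  haveI : Q.IsPrime := RingHom.ker_isPrime _
  haveI : p.IsPrime := RingHom.ker_isPrime _
  haveI : q.IsPrime := RingHom.ker_isPrime _
  have hPp : P ≤ p := H7Flat.evKer_le_of_specializes V hfxy _ hyV
  have hQq : Q ≤ q := H7Flat.evKer_le_of_specializes U hxy hxU hyU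
  have hcat : CAlg.IsUniversallyCatenary (Γ(S, V) ⧸ P) := by
    obtain ⟨hN, hR⟩ := H22Alg.DimFunLft.isUniversallyCatenary_sections hSc hV
    refine ⟨inferInstance, fun B _ _ hB => ?_⟩
    letI : Algebra Γ(S, V) B := Algebra.compHom B (Ideal.Quotient.mk P)
    haveI : IsScalarTower Γ(S, V) (Γ(S, V) ⧸ P) B := IsScalarTower.of_algebraMap_eq fun _ => rfl
    exact hR B (Algebra.FiniteType.trans (S := Γ(S, V) ⧸ P) inferInstance hB)
  haveI : FaithfulSMul (Γ(S, V) ⧸ P) (Γ(X, U) ⧸ Q) := (faithfulSMul_iff_algebraMap_injective _ _).2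
    ((injective_iff_map_eq_zero _).2 fun r hr => by
      obtain ⟨r, rfl⟩ := Ideal.Quotient.mk_surjective r
      rw [Ideal.Quotient.eq_zero_iff_mem, Ideal.LiesOver.over (p := P) (P := Q)]
      exact (Ideal.Quotient.eq_zero_iff_mem (I := Q)).1 hr)
  haveI : Algebra.FiniteType (Γ(S, V) ⧸ P) (Γ(X, U) ⧸ Q) :=
    haveI : Algebra.FiniteType Γ(S, V) (Γ(X, U) ⧸ Q) := Algebra.FiniteType.trans (S := Γ(X, U)) inferInstance inferInstance
    Algebra.FiniteType.of_restrictScalars_finiteType Γ(S, V) (Γ(S, V) ⧸ P) (Γ(X, U) ⧸ Q)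
  haveI : (p.map (Ideal.Quotient.mk P)).IsPrime :=
    Ideal.map_isPrime_of_surjective Ideal.Quotient.mk_surjective (by rwa [Ideal.mk_ker])
  haveI : (q.map (Ideal.Quotient.mk Q)).IsPrime :=
    Ideal.map_isPrime_of_surjective Ideal.Quotient.mk_surjective (by rwa [Ideal.mk_ker])
  have hpc : (p.map (Ideal.Quotient.mk P)).comap (Ideal.Quotient.mk P) = p := by
    rw [Ideal.comap_map_of_surjective' _ Ideal.Quotient.mk_surjective, Ideal.mk_ker, sup_eq_left.mpr hPp]
  have hqc : (q.map (Ideal.Quotient.mk Q)).comap (Ideal.Quotient.mk Q) = q := by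
    rw [Ideal.comap_map_of_surjective' _ Ideal.Quotient.mk_surjective, Ideal.mk_ker, sup_eq_left.mpr hQq]
  haveI : (q.map (Ideal.Quotient.mk Q)).LiesOver (p.map (Ideal.Quotient.mk P)) := ⟨by
    ext r
    obtain ⟨r, rfl⟩ := Ideal.Quotient.mk_surjective r
    show r ∈ (p.map (Ideal.Quotient.mk P)).comap (Ideal.Quotient.mk P) ↔
      algebraMap Γ(S, V) Γ(X, U) r ∈ (q.map (Ideal.Quotient.mk Q)).comap (Ideal.Quotient.mk Q)
    rw [hpc, hqc, Ideal.LiesOver.over (p := p) (P := q)]
    rfl⟩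
  have hform := H22Alg.DimFormula.eq_of_isUniversallyCatenary (Γ(S, V) ⧸ P) hcat (Γ(X, U) ⧸ Q)
    (p.map (Ideal.Quotient.mk P)) (q.map (Ideal.Quotient.mk Q))
  let e₁ : (Γ(S, V) ⧸ P) ⧸ p.map (Ideal.Quotient.mk P) ≃+* Γ(S, V) ⧸ p := DoubleQuot.quotQuotEquivQuotOfLE hPp
  let e₂ : (Γ(X, U) ⧸ Q) ⧸ q.map (Ideal.Quotient.mk Q) ≃+* Γ(X, U) ⧸ q := DoubleQuot.quotQuotEquivQuotOfLE hQq
  have htr : Algebra.trdeg ((Γ(S, V) ⧸ P) ⧸ p.map (Ideal.Quotient.mk P)) ((Γ(X, U) ⧸ Q) ⧸ q.map (Ideal.Quotient.mk Q)) =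
      Algebra.trdeg (Γ(S, V) ⧸ p) (Γ(X, U) ⧸ q) := by
    haveI : FaithfulSMul (Γ(S, V) ⧸ p) (Γ(X, U) ⧸ q) := (faithfulSMul_iff_algebraMap_injective _ _).2
      ((injective_iff_map_eq_zero _).2 fun r hr => by
        obtain ⟨r, rfl⟩ := Ideal.Quotient.mk_surjective r
        rw [Ideal.Quotient.eq_zero_iff_mem, Ideal.LiesOver.over (p := p) (P := q)]
        exact (Ideal.Quotient.eq_zero_iff_mem (I := q)).1 hr)
    refine H22Alg.DimFunLft.trdeg_congr e₁ e₂ fun r => ?_
    obtain ⟨r, rfl⟩ := Ideal.Quotient.mk_surjective r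
    obtain ⟨r, rfl⟩ := Ideal.Quotient.mk_surjective r
    rfl
  rw [htr] at hform
  rw [show Dual3.resTrdeg f y = _ from htry, show Dual3.resTrdeg f x = _ from htrx]
  exact hform

/-- Two saturated chains with the same end, the same image of the start and the same transcendence degree of
the start have the same length. -/
theorem height_eq_height {X S : Scheme.{u}} (f : X ⟶ S) [LocallyOfFiniteType f] [IsLocallyNoetherian S]
    (hSc : ∀ s : S, CAlg.IsUniversallyCatenary (S.presheaf.stalk s)) {V : S.Opens} (hV : IsAffineOpen V)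
    {U : X.Opens} (hU : IsAffineOpen U) (hle : U ≤ f ⁻¹ᵁ V) {x x' y : X} (hxy : x ⤳ y) (hxy' : x' ⤳ y)
    (hxU : x ∈ U) (hxU' : x' ∈ U) (hyU : y ∈ U) (he : f x = f x')
    (ht : Dual3.resTrdeg f x = Dual3.resTrdeg f x') :
    ((evKer U y hyU).map (Ideal.Quotient.mk (evKer U x hxU))).height =
      ((evKer U y hyU).map (Ideal.Quotient.mk (evKer U x' hxU'))).height := by
  have h₁ := height_add_trdeg f hSc hV hU hle hxy hxU hyU
  have h₂ := height_add_trdeg f hSc hV hU hle hxy' hxU' hyU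
  have hP : evKer V (f x) (hle hxU) = evKer V (f x') (hle hxU') := by congr
  rw [ht, hP, ← h₂] at h₁
  obtain ⟨b, -, hb⟩ := H12AlgSp.cdim_asFiber f y
  rw [hb] at h₁
  exact Cardinal.ofENat_injective ((Cardinal.add_nat_inj b).1 h₁)

end Groth.Agent.H13AlgSp
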