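import Groth.Agent.H7Weight.Weighting
import Mathlib.AlgebraicGeometry.Morphisms.FlatRank
import Mathlib.RingTheory.Etale.Field
import Mathlib.FieldTheory.IsAlgClosed.Basic

/-!
The rank of a finite etale morphism is the number of lifts of a geometric point.
-/

universe u

open CategoryTheory CategoryTheory.Limits AlgebraicGeometry
open Groth.Agent.H7Weight

set_option linter.style.haveILetI false

namespace Groth.Agent.H13AlgSp.Degree

variable {Ω : Type u} [Field Ω] [IsAlgClosed Ω]

theorem finrank_eq_natCard_of_field {U : Scheme.{u}} (π : U ⟶ Spec (CommRingCat.of Ω)) [IsFinite π] [Etale π]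
    (x : Spec (CommRingCat.of Ω)) : π.finrank x = Nat.card U := by
  haveI : IsAffine U := isAffine_of_isAffineHom π
  rw [← Scheme.Hom.finrank_comp_left_of_isIso U.isoSpec.inv π]
  obtain ⟨φ, hφ⟩ := Spec.map_surjective (U.isoSpec.inv ≫ π)
  have he : φ.hom.Etale := by
    have h : Etale (Spec.map φ) := by rw [hφ]; infer_instance
    exact HasRingHomProperty.Spec_iff.1 h
  have hf : φ.hom.Finite := by
    have h : IsFinite (Spec.map φ) := by rw [hφ]; infer_instance
    exact (IsFinite.SpecMap_iff φ).1 h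
  letI := φ.hom.toAlgebra
  haveI : Module.Finite Ω Γ(U, ⊤) := hf
  haveI : Algebra.Etale Ω Γ(U, ⊤) := he
  haveI : Finite (PrimeSpectrum Γ(U, ⊤)) :=
    haveI : IsArtinianRing Γ(U, ⊤) := IsArtinianRing.of_finite Ω _
    inferInstance
  haveI := Fintype.ofFinite (PrimeSpectrum Γ(U, ⊤))
  have h1 : Module.finrank Ω Γ(U, ⊤) = Nat.card (PrimeSpectrum Γ(U, ⊤)) := by
    rw [(Algebra.FormallyEtale.equivPiOfIsSepClosed Ω Γ(U, ⊤)).toLinearEquiv.finrank_eq,
      Module.finrank_pi, Nat.card_eq_fintype_card]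
  have hφ' : Spec.map φ = Spec.map (CommRingCat.ofHom (algebraMap Ω Γ(U, ⊤))) := rfl
  rw [← hφ, hφ', Scheme.Hom.finrank_SpecMap_algebraMap,
    congrFun (Module.rankAtStalk_eq_finrank_of_free (R := Ω) (M := Γ(U, ⊤))) x]
  exact h1.trans (Nat.card_congr U.isoSpec.hom.homeomorph.toEquiv).symm

theorem bijective_pt_sections {U : Scheme.{u}} (π : U ⟶ Spec (CommRingCat.of Ω)) [Etale π] :
    Function.Bijective fun s : Pts π (𝟙 _) => pt s.1 := by
  refine ⟨fun s t h => Subtype.ext ?_, fun u => exists_pts π (𝟙 _) u (Subsingleton.elim _ _)⟩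
  have open_section : ∀ s : Pts π (𝟙 _), IsOpenImmersion s.1 := fun s => by
    haveI : IsSplitMono s.1 := IsSplitMono.mk' ⟨π, s.2⟩
    haveI : Etale (s.1 ≫ π) := by rw [s.2]; infer_instance
    haveI : Etale s.1 := Etale.of_comp _ π
    exact IsOpenImmersion.of_flat_of_mono _
  haveI := open_section s
  have hr : Set.range t.1 ⊆ Set.range s.1 := by
    rintro _ ⟨x, rfl⟩
    exact ⟨IsLocalRing.closedPoint Ω, by rw [Subsingleton.elim x (IsLocalRing.closedPoint Ω)]; exact h⟩
  have e := IsOpenImmersion.lift_fac s.1 t.1 hr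
  have e' := congrArg (· ≫ π) e
  simp only [Category.assoc, s.2, t.2, Category.comp_id] at e'
  rw [e', Category.id_comp] at e
  exact e

/-- The rank of a finite etale morphism at a point is the number of lifts of a geometric point over it. -/
theorem finrank_eq_natCard_pts {U V : Scheme.{u}} (π : U ⟶ V) [IsFinite π] [Etale π]
    (η : Spec (CommRingCat.of Ω) ⟶ V) : π.finrank (pt η) = Nat.card (Pts π η) := by
  have hc := IsPullback.of_hasPullback π η
  rw [← Scheme.Hom.finrank_pullback_snd π η (IsLocalRing.closedPoint Ω), finrank_eq_natCard_of_field]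
  exact ((Nat.card_congr (Equiv.ofBijective _ (bijective_pt_sections (pullback.snd π η)))).symm.trans
    (Nat.card_congr (ptsBaseChange hc (𝟙 _)))).trans (by rw [Category.id_comp])

theorem finite_pts_of_isFinite {U V : Scheme.{u}} (π : U ⟶ V) [IsFinite π] [Etale π]
    (η : Spec (CommRingCat.of Ω) ⟶ V) : Finite (Pts π η) :=
  finite_pts π η (π.finite_preimage_singleton _)

end Groth.Agent.H13AlgSp.Degree
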