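import Groth.Agent.H13AlgSp.LocPDescent
import Groth.Agent.H12AlgSp.QC
import Groth.Agent.H12AlgSp.Diagonal
import Groth.Prelude.Def_AlgSp4
import Mathlib.AlgebraicGeometry.Morphisms.FlatDescent

/-!
Topological properties of morphisms of algebraic spaces, quasi-compactness and separation are fpqc local on the base.
-/

universe u

open CategoryTheory CategoryTheory.Limits AlgebraicGeometry Opposite MorphismProperty Topology
open AlgSp Groth.Agent.H12AlgSp

namespace Groth.Agent.H13AlgSp

variable {S : Scheme.{u}} {F G : Sp S}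

/-- A family of schemes over `Z`, lifting to the cover, whose maps on points are jointly submersive. -/
theorem exists_submersive_family {ι : Type u} {Gi : ι → Sp S} {g : ∀ i, Gi i ⟶ G}
    (hg : IsFpqcCover Gi g) {Z : Sp S} (hZ : IsAlgSpace Z) (h : Z ⟶ G) :
    ∃ (κ : Type u) (W : κ → Over S) (k : ∀ j, (yon S).obj (W j) ⟶ Z),
      (∀ j, ∃ (i : ι) (l : (yon S).obj (W j) ⟶ Gi i), l ≫ g i = k j ≫ h) ∧
      (∀ A : Set (Points Z), (∀ j, IsOpen (Points.map (k j) ⁻¹' A)) → IsOpen A) ∧
      ∀ z : Points Z, ∃ j, z ∈ Set.range (Points.map (k j)) := by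
  obtain ⟨V, d, hde, hds⟩ := hZ.atlas
  choose m W c haff hflat hsurj hlift using fun a : V.left.affineOpens =>
    hg.2 (Over.mk (a.1.ι ≫ V.hom)) a.2 ((yon S).map (Over.homMk a.1.ι rfl) ≫ d ≫ h)
  let j : ∀ a : V.left.affineOpens, (Over.mk (a.1.ι ≫ V.hom) ⟶ V) := fun a => Over.homMk a.1.ι rfl
  refine ⟨Σ a : V.left.affineOpens, ULift.{u} (Fin (m a)), fun r => W r.1 r.2.down,
    fun r => (yon S).map (c r.1 r.2.down ≫ j r.1) ≫ d, fun r => ?_, fun A hA => ?_, fun z => ?_⟩
  · obtain ⟨i, l, hl⟩ := hlift r.1 r.2.down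
    exact ⟨i, l, by simp only [hl, j, Functor.map_comp, Category.assoc]⟩
  · refine (isQuotientMap_ofPt hde hds).isOpen_preimage.1 ?_
    have hB : ∀ a : V.left.affineOpens, IsOpen ((j a).left ⁻¹' (Points.ofPt d ⁻¹' A)) := fun a => by
      let σ : (∐ fun i => (W a i).left) ⟶ (Over.mk (a.1.ι ≫ V.hom)).left :=
        Sigma.desc fun i => (c a i).left
      have : ∀ i, IsAffine (W a i).left := haff a
      have : IsAffine (Over.mk (a.1.ι ≫ V.hom)).left := a.2
      have : Flat σ := IsZariskiLocalAtSource.sigmaDesc (P := @Flat) (hflat a)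
      have : Surjective σ := ⟨fun x => by
        obtain ⟨i, w, rfl⟩ := hsurj a x
        exact ⟨Sigma.ι (fun i => (W a i).left) i w, by rw [← Scheme.Hom.comp_apply, Sigma.ι_desc]⟩⟩
      refine (Flat.isQuotientMap_of_surjective σ).isOpen_preimage.1 ?_
      rw [(sigmaOpenCover fun i => (W a i).left).isOpenCover_opensRange.isOpen_iff_inter]
      intro (i : Fin (m a))
      have hσi : Sigma.ι (fun i => (W a i).left) i ≫ σ = (c a i).left := Sigma.ι_desc _ _
      have := hA ⟨a, ⟨i⟩⟩
      have h1 := ((Points.schemeHomeo (W a i)).isOpen_preimage).2 this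
      have e : (Sigma.ι (fun i => (W a i).left) i) ⁻¹' (σ ⁻¹' ((j a).left ⁻¹' (Points.ofPt d ⁻¹' A))) =
          Points.schemeHomeo (W a i) ⁻¹' (Points.map ((yon S).map (c a i ≫ j a) ≫ d) ⁻¹' A) := by
        ext w
        simp only [Set.mem_preimage]
        rw [show σ (Sigma.ι (fun i => (W a i).left) i w) = (c a i).left w from
          (Scheme.Hom.comp_apply _ σ w).symm.trans congr($(hσi) w)]
        refine Iff.of_eq (congrArg (· ∈ A) ?_)
        change _ = Points.map _ (Points.ofScheme _ w)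
        rw [← Points.ofPt_eq_map_ofScheme, ofPt_map]
        rfl
      have h2 := (Sigma.ι (fun i => (W a i).left) i).isOpenEmbedding.isOpenMap _ h1
      rw [← e, Set.image_preimage_eq_inter_range] at h2
      exact h2
    have e : Points.ofPt d ⁻¹' A = ⋃ a : V.left.affineOpens,
        (j a).left '' ((j a).left ⁻¹' (Points.ofPt d ⁻¹' A)) := by
      ext x
      simp only [Set.mem_iUnion, Set.mem_image]
      refine ⟨fun hx => ?_, ?_⟩
      · obtain ⟨U, hU⟩ := TopologicalSpace.Opens.mem_iSup.1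
          ((iSup_affineOpens_eq_top V.left).ge (Set.mem_univ x))
        exact ⟨U, ⟨x, hU⟩, hx, rfl⟩
      · rintro ⟨a, y, hy, rfl⟩
        exact hy
    rw [e]
    exact isOpen_iUnion fun a => a.1.ι.isOpenEmbedding.isOpenMap _ (hB a)
  · obtain ⟨v, rfl⟩ := surjective_ofPt_of_repWith le_rfl hds z
    obtain ⟨a, ha⟩ := TopologicalSpace.Opens.mem_iSup.1
      ((iSup_affineOpens_eq_top V.left).ge (Set.mem_univ v))
    obtain ⟨i, w, hw⟩ := hsurj a ⟨v, ha⟩
    refine ⟨⟨a, ⟨i⟩⟩, Points.ofScheme _ w, ?_⟩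
    rw [← Points.ofPt_eq_map_ofScheme, ofPt_map, Over.comp_left, Scheme.Hom.comp_apply]
    have hj : (j a).left ((c a i).left w) = v :=
      (congrArg (fun y => (j a).left y) hw).trans (Subtype.coe_mk v ha)
    rw [hj]

/-- Shape of the descent property needed for universal predicates. -/
def DescendsSubmersively (Q : MorphismProperty (Sp S)) : Prop :=
  ∀ ⦃Z Z' : Sp S⦄ (snd : Z' ⟶ Z) ⦃κ : Type u⦄ (W : κ → Over S) (k : ∀ j, (yon S).obj (W j) ⟶ Z)
    (P : κ → Sp S) (q : ∀ j, P j ⟶ Z') (r : ∀ j, P j ⟶ (yon S).obj (W j)),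
    (∀ j, IsPullback (q j) (r j) snd (k j)) →
    (∀ A : Set (Points Z), (∀ j, IsOpen (Points.map (k j) ⁻¹' A)) → IsOpen A) →
    (∀ z : Points Z, ∃ j, z ∈ Set.range (Points.map (k j))) → (∀ j, Q (r j)) → Q snd

theorem univSp_of_fpqc {Q : MorphismProperty (Sp S)} (hQ : DescendsSubmersively Q) {f : F ⟶ G}
    {ι : Type u} {Gi : ι → Sp S} {g : ∀ i, Gi i ⟶ G} (hg : IsFpqcCover Gi g) {Fi : ι → Sp S}
    {p : ∀ i, Fi i ⟶ Gi i} {q : ∀ i, Fi i ⟶ F} (sq : ∀ i, IsPullback (q i) (p i) f (g i))
    (hp : ∀ i, UnivSp Q (p i)) : UnivSp Q f := by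
  intro Z Z' hZ h fst snd sqh
  obtain ⟨κ, W, k, hlift, hopen, hsurj⟩ := exists_submersive_family hg hZ h
  refine hQ snd W k _ _ _ (fun j => IsPullback.of_hasPullback snd (k j)) hopen hsurj fun j => ?_
  obtain ⟨i, l, hl⟩ := hlift j
  have big := (IsPullback.of_hasPullback snd (k j)).paste_horiz sqh
  rw [← hl] at big
  let a := (sq i).lift (pullback.fst snd (k j) ≫ fst) (pullback.snd snd (k j) ≫ l)
    (by rw [Category.assoc (f := pullback.snd snd (k j))]; exact big.w)
  have sq' : IsPullback a (pullback.snd snd (k j)) (p i) l :=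
    IsPullback.of_right (by rw [(sq i).lift_fst]; exact big) ((sq i).lift_snd _ _ _) (sq i)
  exact hp i (IsAlgSpace.yon_obj _) l _ _ sq'

theorem isLocalOnBase_fpqc_univSp {Q : MorphismProperty (Sp S)} (hQ : DescendsSubmersively Q) :
    IsLocalOnBase (IsFpqcCover (S := S)) (UnivSp Q) := by
  intro ι Y Yi g hY hYi hg X f hX Xi p q hXi sq
  exact ⟨fun hf i Z Z' hZ h fst snd sqh => hf hZ (h ≫ g i) _ _ (sqh.paste_horiz (sq i)),
    fun hp => univSp_of_fpqc hQ hg sq hp⟩

theorem isClosedMor_descends : DescendsSubmersively (S := S) IsClosedMor := by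
  intro Z Z' snd κ W k P q r sq hopen _ hr A hA
  rw [← isOpen_compl_iff]
  refine hopen _ fun j => ?_
  rw [Set.preimage_compl, image_eq_preimage_image_of_isPullback (sq j), isOpen_compl_iff]
  exact hr j _ (hA.preimage (Points.continuous_map _))

theorem isOpenMor_descends : DescendsSubmersively (S := S) IsOpenMor := by
  intro Z Z' snd κ W k P q r sq hopen _ hr A hA
  refine hopen _ fun j => ?_
  rw [image_eq_preimage_image_of_isPullback (sq j)]
  exact hr j _ (hA.preimage (Points.continuous_map _))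

theorem injective_descends :
    DescendsSubmersively (S := S) fun _ _ f => Function.Injective (Points.map f) := by
  intro Z Z' snd κ W k P q r sq _ hsurj hr a b e
  obtain ⟨j, w, hw⟩ := hsurj (Points.map snd a)
  obtain ⟨pa, rfl, hpa⟩ := exists_point_of_isPullback (sq j) a w hw.symm
  obtain ⟨pb, rfl, hpb⟩ := exists_point_of_isPullback (sq j) b w (e ▸ hw.symm)
  exact congrArg _ (hr j (hpa.trans hpb.symm))

theorem surjective_descends :
    DescendsSubmersively (S := S) fun _ _ f => Function.Surjective (Points.map f) := by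
  intro Z Z' snd κ W k P q r sq _ hsurj hr z
  obtain ⟨j, w, rfl⟩ := hsurj z
  obtain ⟨p, rfl⟩ := hr j w
  exact ⟨Points.map (q j) p, by rw [← Points.map_comp, (sq j).w, Points.map_comp]⟩

theorem isSubmersiveMor_descends : DescendsSubmersively (S := S) IsSubmersiveMor := by
  intro Z Z' snd κ W k P q r sq hopen hsurj hr
  refine ⟨isCoinducing_iff.2 fun A => ⟨fun hA => hopen A fun j => ?_,
    fun hA => hA.preimage (Points.continuous_map _)⟩,
    surjective_descends snd W k P q r sq hopen hsurj fun j => (hr j).surjective⟩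
  rw [← (hr j).isOpen_preimage, ← Set.preimage_comp,
    show Points.map (k j) ∘ Points.map (r j) = Points.map snd ∘ Points.map (q j) from funext fun x => by
      simp only [Function.comp_apply, ← Points.map_comp, (sq j).w], Set.preimage_comp]
  exact hA.preimage (Points.continuous_map _)

theorem isHomeomorph_descends :
    DescendsSubmersively (S := S) fun _ _ f => IsHomeomorph (Points.map f) := by
  intro Z Z' snd κ W k P q r sq hopen hsurj hr
  exact ⟨Points.continuous_map _, isOpenMor_descends snd W k P q r sq hopen hsurj fun j => (hr j).isOpenMap,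
    injective_descends snd W k P q r sq hopen hsurj fun j => (hr j).injective,
    surjective_descends snd W k P q r sq hopen hsurj fun j => (hr j).surjective⟩

/-- A representable morphism has `P` if it does after fpqc covers of affine schemes over the target. -/
theorem repWith_of_fpqc_rep {P : MorphismProperty Scheme.{u}} [P.IsStableUnderBaseChange]
    [IsZariskiLocalAtTarget P] [P.DescendsAlong Groth.Agent.H18Descent.fpqc.{u}] {f : F ⟶ G}
    (hf : Representable f)
    (h : ∀ (Z : Over S), IsAffine Z.left → ∀ (x : (yon S).obj Z ⟶ G),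
      ∃ (m : ℕ) (W : Fin m → Over S) (c : ∀ j, W j ⟶ Z),
        (∀ j, IsAffine (W j).left) ∧ (∀ j, Flat (c j).left) ∧
        (∀ z : ↥Z.left, ∃ j, z ∈ Set.range (c j).left) ∧
        ∀ j, ∃ (V : Over S) (v : V ⟶ W j) (a : (yon S).obj V ⟶ F),
          IsPullback a ((yon S).map v) f ((yon S).map (c j) ≫ x) ∧ P v.left) :
    RepWith P f := by
  refine repWith_of_snd hf fun T x => ?_
  refine IsZariskiLocalAtTarget.of_iSup_eq_top (fun U : T.left.affineOpens => U.1)
    (iSup_affineOpens_eq_top _) fun U => ?_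
  let jU : Over.mk (U.1.ι ≫ T.hom) ⟶ T := Over.homMk U.1.ι rfl
  have hU : IsAffine (Over.mk (U.1.ι ≫ T.hom)).left := U.2
  obtain ⟨m, W, c, haff, hflat, hsurj, hv⟩ := h _ hU ((yon S).map jU ≫ x)
  have : IsAffine U.1.toScheme := U.2
  have : ∀ j, IsAffine (W j).left := haff
  have : ∀ j, Flat (c j).left := hflat
  refine of_finite_affine_fpqc (P := P) ((hf.snd x).left ∣_ U.1) (fun j => (c j).left) hsurj fun j => ?_
  obtain ⟨V, v, a, sqV, hP⟩ := hv j
  have sq1 := ((IsPullback.of_hasPullback (hf.snd x) (c j ≫ jU)).map (yon S)).paste_horiz (hf.isPullback x)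
  rw [Functor.map_comp, Category.assoc] at sq1
  let e := (yon S).preimageIso (sq1.isoIsPullback _ _ sqV)
  have he : e.hom ≫ v = pullback.snd (hf.snd x) (c j ≫ jU) := (yon S).map_injective (by
    rw [Functor.map_comp]; simp [e])
  have h1 : P (pullback.snd (hf.snd x) (c j ≫ jU)).left := by
    have : IsIso e.hom.left := inferInstanceAs (IsIso ((Over.forget S).map e.hom))
    rw [← he, Over.comp_left]
    exact (P.cancel_left_of_respectsIso _ _).2 hP
  have sq2 := (IsPullback.of_hasPullback ((hf.snd x).left ∣_ U.1) (c j).left).paste_horiz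
    (isPullback_morphismRestrict (hf.snd x).left U.1).flip
  rw [← sq2.isoIsPullback_hom_snd _ _ ((IsPullback.of_hasPullback (hf.snd x) (c j ≫ jU)).map (Over.forget S))]
  exact (P.cancel_left_of_respectsIso _ _).2 h1

set_option backward.isDefEq.respectTransparency false in
theorem repWith_diagonal_of_fpqc {P : MorphismProperty Scheme.{u}} [P.IsStableUnderBaseChange]
    [IsZariskiLocalAtTarget P] [P.DescendsAlong Groth.Agent.H18Descent.fpqc.{u}] {f : F ⟶ G}
    (hF : Representable (Limits.diag F))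
    {ι : Type u} {Gi : ι → Sp S} {g : ∀ i, Gi i ⟶ G} (hg : IsFpqcCover Gi g) {Fi : ι → Sp S}
    {p : ∀ i, Fi i ⟶ Gi i} {q : ∀ i, Fi i ⟶ F} (sq : ∀ i, IsPullback (q i) (p i) f (g i))
    (hp : ∀ i, RepWith P (pullback.diagonal (p i))) : RepWith P (pullback.diagonal f) := by
  refine repWith_of_fpqc_rep (representable_diagonal f hF) fun Z hZ x => ?_
  obtain ⟨m, W, c, haff, hflat, hsurj, hlift⟩ := hg.2 Z hZ (x ≫ pullback.fst f f ≫ f)
  refine ⟨m, W, c, haff, hflat, hsurj, fun j => ?_⟩
  obtain ⟨i, l, hl⟩ := hlift j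
  have e1 : ((yon S).map (c j) ≫ x ≫ pullback.fst f f) ≫ f = l ≫ g i := by
    rw [hl]; simp only [Category.assoc]
  have e2 : ((yon S).map (c j) ≫ x ≫ pullback.snd f f) ≫ f = l ≫ g i := by
    rw [hl]; simp only [Category.assoc, pullback.condition]
  let y : (yon S).obj (W j) ⟶ pullback (p i) (p i) :=
    pullback.lift ((sq i).lift _ l e1) ((sq i).lift _ l e2) (by rw [(sq i).lift_snd, (sq i).lift_snd])
  have hy : y ≫ pullback.map (p i) (p i) f f (q i) (q i) (g i) (sq i).w.symm (sq i).w.symm =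
      (yon S).map (c j) ≫ x := by
    apply pullback.hom_ext <;> simp [y, pullback.map, (sq i).lift_fst]
  obtain ⟨V, v, a, sqV⟩ := (hp i).1 y
  refine ⟨V, v, a ≫ q i, ?_, (hp i).2 y a v sqV⟩
  rw [← hy]
  exact sqV.paste_horiz (Groth.Agent.H12AlgSp.isPullback_diagonal (sq i))

theorem isQuasiCompactMor_of_fpqc {f : F ⟶ G} (hF : IsAlgSpace F) (hG : IsAlgSpace G) {ι : Type u}
    {Gi : ι → Sp S} {g : ∀ i, Gi i ⟶ G} (hg : IsFpqcCover Gi g) {Fi : ι → Sp S}
    {p : ∀ i, Fi i ⟶ Gi i} {q : ∀ i, Fi i ⟶ F} (sq : ∀ i, IsPullback (q i) (p i) f (g i))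
    (hp : ∀ i, IsQuasiCompactMor (p i)) : IsQuasiCompactMor f := by
  refine isQuasiCompactMor_of_affine hF hG fun T hT x => ?_
  obtain ⟨m, W, c, haff, hflat, hsurj, hlift⟩ := hg.2 T hT x
  have sqQ := IsPullback.of_hasPullback f x
  have sqc := fun j => IsPullback.of_hasPullback (pullback.snd f x) ((yon S).map (c j))
  have hc : ∀ j, IsQuasiCompactSp (pullback (pullback.snd f x) ((yon S).map (c j))) := by
    intro j
    obtain ⟨i, l, hl⟩ := hlift j
    have big := (sqc j).paste_horiz sqQ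
    rw [← hl] at big
    let a := (sq i).lift (pullback.fst (pullback.snd f x) ((yon S).map (c j)) ≫ pullback.fst f x)
      (pullback.snd (pullback.snd f x) ((yon S).map (c j)) ≫ l)
      (by rw [Category.assoc (f := pullback.snd (pullback.snd f x) ((yon S).map (c j)))]; exact big.w)
    have sq' : IsPullback a (pullback.snd (pullback.snd f x) ((yon S).map (c j))) (p i) l :=
      IsPullback.of_right (by rw [(sq i).lift_fst]; exact big) ((sq i).lift_snd _ _ _) (sq i)
    have := haff j
    exact hp i (IsAlgSpace.yon_obj _) (isQuasiCompactSp_yon_iff.2 inferInstance) l _ _ sq'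
  have : CompactSpace (Points (pullback f x)) := by
    refine ⟨?_⟩
    have e : (Set.univ : Set (Points (pullback f x))) =
        ⋃ j, Set.range (Points.map (pullback.fst (pullback.snd f x) ((yon S).map (c j)))) := by
      refine Set.eq_of_subset_of_subset (fun z _ => ?_) (Set.subset_univ _)
      obtain ⟨t, ht⟩ := (Points.schemeEquiv T).surjective (Points.map (pullback.snd f x) z)
      obtain ⟨j, w, hw⟩ := hsurj t
      obtain ⟨r, hr, -⟩ := exists_point_of_isPullback (sqc j) z (Points.ofScheme (W j) w) (by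
        rw [← ht, ← Points.ofPt_eq_map_ofScheme, ← Category.comp_id ((yon S).map (c j)), ofPt_map, hw]
        rfl)
      exact Set.mem_iUnion.2 ⟨j, r, hr⟩
    rw [e]
    exact isCompact_iUnion fun j =>
      have := compactSpace_points_of_isQuasiCompactSp (hc j)
      isCompact_range (Points.continuous_map _)
  exact isQuasiCompactSp_of_compactSpace
    (isAlgSpace_pullback hG.diag hF (IsAlgSpace.yon_obj T) f x)

theorem isLocalOnBase_fpqc_isQuasiCompactMor :
    IsLocalOnBase (IsFpqcCover (S := S)) IsQuasiCompactMor := by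
  intro ι Y Yi g hY hYi hg X f hX Xi p q hXi sq
  exact ⟨fun hf i Z Z' hZ hc h fst snd sqh => hf hZ hc (h ≫ g i) _ _ (sqh.paste_horiz (sq i)),
    fun hp => isQuasiCompactMor_of_fpqc hX hY hg sq hp⟩

theorem isLocalOnBase_fpqc_repWith_diagonal {P : MorphismProperty Scheme.{u}} [P.IsStableUnderBaseChange]
    [IsZariskiLocalAtTarget P] [P.DescendsAlong Groth.Agent.H18Descent.fpqc.{u}] :
    IsLocalOnBase (IsFpqcCover (S := S)) fun _ _ f => RepWith P (pullback.diagonal f) := by
  intro ι Y Yi g hY hYi hg X f hX Xi p q hXi sq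
  exact ⟨fun hf i => repWith_of_isPullback (Groth.Agent.H12AlgSp.isPullback_diagonal (sq i)) hf,
    fun hp => repWith_diagonal_of_fpqc hX.diag hg sq hp⟩

theorem isLocalOnBase_inf {τ : CovNotion S} {P Q : MorphismProperty (Sp S)} (hP : IsLocalOnBase τ P)
    (hQ : IsLocalOnBase τ Q) : IsLocalOnBase τ fun _ _ f => P f ∧ Q f := by
  intro ι Y Yi g hY hYi hg X f hX Xi p q hXi sq
  have h1 := hP Yi g hY hYi hg f hX Xi p q hXi sq
  have h2 := hQ Yi g hY hYi hg f hX Xi p q hXi sq
  exact ⟨fun h i => ⟨h1.1 h.1 i, h2.1 h.2 i⟩, fun h => ⟨h1.2 fun i => (h i).1, h2.2 fun i => (h i).2⟩⟩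

end Groth.Agent.H13AlgSp
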