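import Groth.Agent.H13AlgSp.QAffLocal
import Groth.Agent.H13AlgSp.Topology
import Groth.Agent.H06QFlat.Topo

/-!
Quasi-compact immersions descend along fpqc covers.
-/

universe u

open CategoryTheory CategoryTheory.Limits AlgebraicGeometry Opposite MorphismProperty Topology
open AlgSp Groth.Agent.H12AlgSp

namespace Groth.Agent.H13AlgSp

theorem preimage_range_of_isPullback {X X' Y Y' : Scheme.{u}} {fst : X' ⟶ Y'} {snd : X' ⟶ X}
    {c : Y' ⟶ Y} {g : X ⟶ Y} (h : IsPullback fst snd c g) : c ⁻¹' Set.range g = Set.range fst := by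
  refine Set.Subset.antisymm ?_ ?_
  · rintro y ⟨x, hx⟩
    obtain ⟨z, hz, -⟩ := Scheme.exists_preimage_of_isPullback h y x hx.symm
    exact ⟨z, hz⟩
  · rintro _ ⟨z, rfl⟩
    exact ⟨snd z, ((Scheme.Hom.comp_apply _ _ z).symm.trans (congr($(h.w.symm) z))).trans (Scheme.Hom.comp_apply _ _ z)⟩

theorem isLocallyClosed_range_of_isPullback {X X' Y Y' : Scheme.{u}} {fst : X' ⟶ Y'} {snd : X' ⟶ X}
    {c : Y' ⟶ Y} {g : X ⟶ Y} (h : IsPullback fst snd c g) [Flat c] [Surjective c] [QuasiCompact c]
    [QuasiCompact g] [IsImmersion fst] : IsLocallyClosed (Set.range g) := by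
  have e := preimage_range_of_isPullback h
  rw [isLocallyClosed_iff_isOpen_coborder, ← (Flat.isQuotientMap_of_surjective c).isOpen_preimage]
  have : c ⁻¹' coborder (Set.range g) = coborder (Set.range fst) := by
    rw [coborder, coborder, Set.preimage_compl, Set.preimage_sdiff, Groth.Agent.H06QFlat.preimage_closure_range c (Flat.generalizingMap c) g, e]
  rw [this]
  exact isLocallyClosed_iff_isOpen_coborder.1 fst.isLocallyClosed_range

theorem isImmersion_of_isPullback {X X' Y Y' : Scheme.{u}} {fst : X' ⟶ Y'} {snd : X' ⟶ X}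
    {c : Y' ⟶ Y} {g : X ⟶ Y} (h : IsPullback fst snd c g) [Flat c] [Surjective c] [QuasiCompact c]
    [QuasiCompact g] [IsImmersion fst] : IsImmersion g := by
  have hlc := isLocallyClosed_range_of_isPullback h
  let U : Y.Opens := ⟨coborder (Set.range g), isLocallyClosed_iff_isOpen_coborder.1 hlc⟩
  have hsub : Set.range g ⊆ Set.range U.ι := by
    rw [Scheme.Opens.range_ι]
    exact subset_coborder
  let g₀ := IsOpenImmersion.lift U.ι g hsub
  have hg₀ : g₀ ≫ U.ι = g := IsOpenImmersion.lift_fac _ _ _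
  let U' : Y'.Opens := c ⁻¹ᵁ U
  have hsub' : Set.range fst ⊆ Set.range U'.ι := by
    rw [Scheme.Opens.range_ι]
    rintro _ ⟨z, rfl⟩
    change c (fst z) ∈ U
    rw [← Scheme.Hom.comp_apply, h.w, Scheme.Hom.comp_apply]
    exact subset_coborder ⟨_, rfl⟩
  let fst₀ := IsOpenImmersion.lift U'.ι fst hsub'
  have hfst₀ : fst₀ ≫ U'.ι = fst := IsOpenImmersion.lift_fac _ _ _
  have hw : snd ≫ g₀ = fst₀ ≫ c ∣_ U := by
    rw [← cancel_mono U.ι, Category.assoc, Category.assoc, morphismRestrict_ι, reassoc_of% hfst₀, hg₀, h.w]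
  have sq : IsPullback snd fst₀ g₀ (c ∣_ U) :=
    IsPullback.of_bot (by rw [hfst₀, hg₀]; exact h.flip) hw (isPullback_morphismRestrict c U)
  have : IsPreimmersion (fst₀ ≫ U'.ι) := by rw [hfst₀]; infer_instance
  have : IsPreimmersion fst₀ := .of_comp fst₀ U'.ι
  have hcob : (U' : Set Y') = coborder (Set.range fst) := by
    change c ⁻¹' coborder (Set.range g) = _
    rw [coborder, coborder, Set.preimage_compl, Set.preimage_sdiff, Groth.Agent.H06QFlat.preimage_closure_range c (Flat.generalizingMap c) g, preimage_range_of_isPullback h]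
  have hcl : IsClosedImmersion fst₀ := by
    refine .of_isPreimmersion _ ?_
    have e : Set.range fst₀ = Subtype.val ⁻¹' closure (Set.range fst) := by
      ext z
      constructor
      · rintro ⟨w, rfl⟩
        exact subset_closure ⟨w, congr($(hfst₀.symm) w).trans (Scheme.Hom.comp_apply _ _ w)⟩
      · intro hz
        obtain ⟨w, hw⟩ : z.1 ∈ Set.range fst := by
          rw [← closure_inter_coborder (s := Set.range fst), ← hcob]
          exact ⟨hz, z.2⟩
        exact ⟨w, U'.ι.isEmbedding.injective ((Scheme.Hom.comp_apply _ _ w).symm.trans (congr($(hfst₀) w) |>.trans hw))⟩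
    rw [e]
    exact isClosed_closure.preimage continuous_subtype_val
  have hq : Groth.Agent.H18Descent.fpqc (c ∣_ U) :=
    MorphismProperty.of_isPullback (P := Groth.Agent.H18Descent.fpqc.{u}) (isPullback_morphismRestrict c U).flip
      ⟨⟨‹Surjective c›, ‹Flat c›⟩, ‹QuasiCompact c›⟩
  have : IsClosedImmersion g₀ := MorphismProperty.of_isPullback_of_descendsAlong
    (P := @IsClosedImmersion) (Q := Groth.Agent.H18Descent.fpqc.{u}) sq.flip hq hcl
  rw [← hg₀]
  infer_instance

instance isImmersion_qc_descends :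
    (@IsImmersion ⊓ @QuasiCompact : MorphismProperty Scheme.{u}).DescendsAlong Groth.Agent.H18Descent.fpqc.{u} := by
  constructor
  intro A X Y Z fst snd f g h hf ⟨h1, h2⟩
  have : Surjective f := hf.1.1
  have : Flat f := hf.1.2
  have : QuasiCompact f := hf.2
  have : IsImmersion fst := h1
  have : QuasiCompact g := MorphismProperty.of_isPullback_of_descendsAlong
    (P := @QuasiCompact) (Q := Groth.Agent.H18Descent.fpqc.{u}) h hf h2
  exact ⟨isImmersion_of_isPullback h, this⟩

variable {S : Scheme.{u}}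

theorem isQuasiAffineMor_of_qcImmersion {F G : Sp S} {f : F ⟶ G}
    (h : RepWith (@IsImmersion ⊓ @QuasiCompact) f) : IsQuasiAffineMor f := by
  intro Z hZ g
  obtain ⟨W, i, fst, sq⟩ := h.1 g
  obtain ⟨_, _⟩ : IsImmersion i.left ∧ QuasiCompact i.left := h.2 g fst i sq
  have : IsAffine Z.left := hZ
  have : CompactSpace W.left := QuasiCompact.compactSpace_of_compactSpace i.left
  exact ⟨W, i, fst, sq, Scheme.IsQuasiAffine.of_isImmersion i.left⟩

theorem isLocalOnBase_fpqc_qcImmersion :
    IsLocalOnBase (IsFpqcCover (S := S)) (RepWith (@IsImmersion ⊓ @QuasiCompact)) := by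
  intro ι Y Yi g hY hYi hg X f hX Xi p q hXi sq
  refine ⟨fun hf i => repWith_of_isPullback (sq i) hf, fun hp => ?_⟩
  have hf := isQuasiAffineMor_of_fpqc hX hY hg sq fun i => isQuasiAffineMor_of_qcImmersion (hp i)
  refine repWith_of_fpqc_rep (representable_of_isQuasiAffineMor hf) fun Z hZ x => ?_
  obtain ⟨m, W, c, haff, hflat, hsurj, hlift⟩ := hg.2 Z hZ x
  refine ⟨m, W, c, haff, hflat, hsurj, fun j => ?_⟩
  obtain ⟨i, l, hl⟩ := hlift j
  obtain ⟨V, v, a, sqV⟩ := (hp i).1 l
  have big := sqV.paste_horiz (sq i)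
  rw [hl] at big
  exact ⟨V, v, a ≫ q i, big, (hp i).2 l a v sqV⟩

end Groth.Agent.H13AlgSp
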