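import Groth.Agent.H13AlgSp.FibreSpaces
import Groth.Agent.H12AlgSp.QC
import Groth.Agent.H12AlgSp.UnivInj

/-!
Points of fibres at which a morphism is quasi-finite are isolated; consequences for finiteness.
-/

universe u

open CategoryTheory CategoryTheory.Limits AlgebraicGeometry Opposite Topology
open AlgSp Groth.Agent.H12AlgSp

namespace Groth.Agent.H13AlgSp

variable {S : Scheme.{u}}

/-- A point of a fibre at whose image the morphism is quasi-finite is isolated. -/
theorem isOpen_singleton_fibre_of_qfAt {X Y : Sp S} {f : X ⟶ Y} (r : FieldPt Y) {Xk : Sp S} {fst : Xk ⟶ X}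
    {snd : Xk ⟶ (yon S).obj r.pt} (hsq : IsPullback fst snd f r.toHom) (xt : Points Xk)
    (hq : HasAtMor (fun U _ h u => ∃ W : U.Opens, u ∈ W ∧ LocallyQuasiFinite (W.ι ≫ h) ∧
      LocallyOfFiniteType (W.ι ≫ h)) f (Points.map fst xt)) : IsOpen ({xt} : Set (Points Xk)) := by
  obtain ⟨U, V, a, b, h, u, ha, hb, w, hu, O, huO, hlqf, -⟩ := hq
  obtain ⟨Rk, v, k', sqV⟩ := hb.1 r.toHom
  obtain ⟨k, rfl⟩ := (yon S).map_surjective k'
  let g := openIncl U O ≫ h
  let aO := (yon S).map (openIncl U O) ≫ a
  have haO : RepWith @Etale aO := repWith_comp ((repWith_yon_map_iff _ _).2 (inferInstanceAs (Etale O.ι))) ha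
  have sqQ := (IsPullback.of_hasPullback g k).map (yon S)
  have hgO : (yon S).map g ≫ b = aO ≫ f := by rw [Category.assoc, Functor.map_comp, Category.assoc, w]
  have big : IsPullback ((yon S).map (pullback.fst g k)) ((yon S).map (pullback.snd g k) ≫ (yon S).map v)
      (aO ≫ f) r.toHom := by
    have := sqQ.paste_vert sqV
    rwa [hgO] at this
  have e : ((yon S).map (pullback.fst g k) ≫ aO) ≫ f =
      ((yon S).map (pullback.snd g k) ≫ (yon S).map v) ≫ r.toHom := by rw [Category.assoc]; exact big.w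
  let m := hsq.lift _ _ e
  have sqm : IsPullback ((yon S).map (pullback.fst g k)) m aO fst :=
    IsPullback.of_bot (by rw [hsq.lift_snd]; exact big) (hsq.lift_fst _ _ e).symm hsq
  have hm : RepWith @Etale m := repWith_of_isPullback sqm haO
  let gl : (openOver U O).left ⟶ V.left := g.left
  have : LocallyQuasiFinite gl := hlqf
  have : DiscreteTopology (pullback g k).left := by
    have : Etale v.left := hb.2 _ _ v sqV
    have h1 : LocallyQuasiFinite (pullback.snd g k).left :=
      MorphismProperty.of_isPullback (P := @LocallyQuasiFinite) ((IsPullback.of_hasPullback g k).map (Over.forget S))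
        ‹LocallyQuasiFinite gl›
    have := lqf_of_etale v.left
    let vK : Rk.left ⟶ Spec (CommRingCat.of r.K) := v.left
    have h2 : LocallyQuasiFinite vK := ‹LocallyQuasiFinite v.left›
    have : LocallyQuasiFinite ((pullback.snd g k).left ≫ vK) := inferInstance
    exact discreteTopology_of_lqf_to_field ((pullback.snd g k).left ≫ vK)
  obtain ⟨y, -, hy⟩ := exists_point_of_isPullback sqm (Points.ofScheme (openOver U O) ⟨u, huO⟩) xt (by
    rw [← Points.ofPt_eq_map_ofScheme, ← hu]
    exact ofPt_map (openIncl U O) a _)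
  obtain ⟨q, rfl⟩ := (Points.schemeEquiv _).surjective y
  have := isOpenMap_ofPt_of_repWith etale_le_universallyOpen hm _ (isOpen_discrete {q})
  rw [Set.image_singleton] at this
  rw [← hy]
  change IsOpen {Points.map m (Points.ofScheme _ q)}
  rwa [← Points.ofPt_eq_map_ofScheme]

theorem topologicalKrullDim_le_zero_of_no_spec {α : Type*} [TopologicalSpace α] [QuasiSober α]
    (h : ∀ a b : α, a ⤳ b → a = b) : topologicalKrullDim α ≤ 0 := by
  refine Order.krullDim_nonpos_iff_forall_isMax.2 fun A B hAB => ?_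
  intro x hx
  obtain ⟨a, ha⟩ := QuasiSober.sober B.isIrreducible B.isClosed
  have hB : ∀ y ∈ (B : Set α), y = a := fun y hy => (h a y (ha.specializes hy)).symm
  obtain ⟨y, hy⟩ := A.isIrreducible.nonempty
  rw [hB x hx, ← hB y (hAB hy)]
  exact hy

/-- For a morphism of finite type, only finitely many points of a fibre product lie over a pair of points
the first of which is a point of quasi-finiteness. -/
theorem finite_points_pullback_of_qfAt {X Y Z W : Sp S} (hX : IsAlgSpace X) (hY : IsAlgSpace Y) {f : X ⟶ Y}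
    {g : Z ⟶ Y} {p : W ⟶ X} {q : W ⟶ Z} (hW : IsPullback p q f g) (x : Points X) (z : Points Z)
    (hft : IsFiniteTypeMor f) (hf : HasAtMor (fun U _ h u => ∃ W : U.Opens, u ∈ W ∧ LocallyQuasiFinite (W.ι ≫ h) ∧
      LocallyOfFiniteType (W.ι ≫ h)) f x) :
    {w : Points W | Points.map p w = x ∧ Points.map q w = z}.Finite := by
  obtain ⟨k, rfl⟩ := Quotient.exists_rep z
  let r : FieldPt Y := ⟨k.K, k.str, (J S).uliftYonedaEquiv (k.toHom ≫ g)⟩
  have hr : r.toHom = k.toHom ≫ g := Equiv.symm_apply_apply _ _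
  have sq : IsPullback (pullback.fst f r.toHom) (pullback.snd f r.toHom) f r.toHom := IsPullback.of_hasPullback _ _
  have hXk := isAlgSpace_pullback hY.diag hX (IsAlgSpace.yon_obj r.pt) f r.toHom
  let T : Set (Points (pullback f r.toHom)) := {y | Points.map (pullback.fst f r.toHom) y = x}
  have hT : T.Finite := by
    have : CompactSpace r.pt.left := inferInstanceAs (CompactSpace (PrimeSpectrum r.K))
    have hqc : IsQuasiCompactSp (pullback f r.toHom) :=
      hft.2 (IsAlgSpace.yon_obj r.pt) ((isQuasiCompactSp_yon_iff (T := r.pt)).2 ‹_›) _ _ _ sq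
    have := compactSpace_points_of_isQuasiCompactSp hqc
    obtain ⟨U, haff, a, ha, has⟩ : ∃ (U : Over S), IsAffine U.left ∧ ∃ a : (yon S).obj U ⟶ pullback f r.toHom,
        RepWith @Etale a ∧ RepWith @Surjective a := by
      obtain ⟨U, a, h₁, h₂, h₃⟩ := Groth.Agent.H12AlgSp.exists_affine_atlas hXk
      exact ⟨U, h₁, a, h₂, h₃⟩
    obtain ⟨c, hc⟩ := (yon S).map_surjective (a ≫ pullback.snd f r.toHom)
    have : LocallyOfFiniteType c.left :=
      (Groth.Agent.H12AlgSp.locP_of_isPullback etLocal_lft sq hX hY (IsAlgSpace.yon_obj r.pt) hft.1) a (𝟙 _) c ha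
        (repWith_id _ _) (by rw [Category.comp_id, hc])
    have : IsLocallyNoetherian U.left := LocallyOfFiniteType.isLocallyNoetherian c.left
    have : IsNoetherian U.left := {}
    let I : Set U.left := {u | IsOpen ({u} : Set U.left)}
    have hI : I.Finite := by
      have hc : IsCompact I := TopologicalSpace.NoetherianSpace.isCompact I
      obtain ⟨s, hs⟩ := hc.elim_finite_subcover (fun i : I => ({i.1} : Set U.left)) (fun i => i.2)
        fun i hi => Set.mem_iUnion.2 ⟨⟨i, hi⟩, rfl⟩
      exact (s.finite_toSet.image Subtype.val).subset fun i hi => by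
        obtain ⟨j, hj, hij⟩ := Set.mem_iUnion₂.1 (hs hi)
        exact ⟨j, hj, hij.symm⟩
    refine (hI.image (Points.ofPt a)).subset fun y hy => ?_
    obtain ⟨u, rfl⟩ := surjective_ofPt_of_repWith le_rfl has y
    refine ⟨u, ?_, rfl⟩
    have ho := isOpen_singleton_fibre_of_qfAt r sq (Points.ofPt a u) (hy ▸ hf)
    have hpre := ho.preimage (Points.continuous_ofPt a)
    let O : U.left.Opens := ⟨Points.ofPt a ⁻¹' {Points.ofPt a u}, hpre⟩
    have hne : ∀ {v v' : U.left}, Points.ofPt a v = Points.ofPt a v' → v' ⤳ v → v = v' := fun e hs =>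
      eq_of_specializes_of_locNoeth hXk ⟨U, a, ha, has, ‹IsLocallyNoetherian U.left›⟩ ha e hs
    have : QuasiSober ↥(O : Set U.left) := inferInstanceAs (QuasiSober O.toScheme)
    refine isOpen_singleton_of_dim_zero O (topologicalKrullDim_le_zero_of_no_spec
      (α := ↥(O : Set U.left)) fun v₁ v₂ hs => ?_) (rfl : u ∈ Points.ofPt a ⁻¹' {Points.ofPt a u})
    exact Subtype.ext (hne ((v₂.2 : _ = _).trans (v₁.2 : _ = _).symm) ((subtype_specializes_iff _ _).1 hs)).symm
  have hz : r.toHom = k.toHom ≫ g := hr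
  let m := hW.lift (pullback.fst f r.toHom) (pullback.snd f r.toHom ≫ k.toHom)
    (by rw [Category.assoc, ← hz]; exact sq.w)
  refine (hT.image (Points.map m)).subset ?_
  rintro w ⟨hwx, hwz⟩
  have sqW := IsPullback.of_hasPullback q k.toHom
  obtain ⟨y, hy, -⟩ := exists_point_of_isPullback sqW w (Points.ofScheme k.pt (IsLocalRing.closedPoint k.K))
    (by rw [← Points.ofPt_eq_map_ofScheme, Points.ofPt_toHom]; exact hwz)
  let n := sq.lift (pullback.fst q k.toHom ≫ p) (pullback.snd q k.toHom) (by
    rw [Category.assoc, hW.w, reassoc_of% sqW.w, hz])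
  have hnm : n ≫ m = pullback.fst q k.toHom := by
    apply hW.hom_ext
    · rw [Category.assoc, hW.lift_fst, sq.lift_fst]
    · rw [Category.assoc, hW.lift_snd, sq.lift_snd_assoc, sqW.w]
  refine ⟨Points.map n y, ?_, by rw [← Points.map_comp, hnm, hy]⟩
  show Points.map _ _ = x
  rw [← Points.map_comp, sq.lift_fst, Points.map_comp, hy, hwx]

end Groth.Agent.H13AlgSp
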