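import Mathlib.AlgebraicGeometry.Morphisms.FlatRank
import Mathlib.RingTheory.Artinian.Module

/-!
A finite scheme over a field has at most `finrank` points.
-/

universe u

open CategoryTheory AlgebraicGeometry

namespace Groth.Agent.H13AlgSp

theorem card_primeSpectrum_le_finrank (K B : Type u) [Field K] [CommRing B] [Algebra K B]
    [Module.Finite K B] : ENat.card (PrimeSpectrum B) ≤ Module.finrank K B := by
  classical
  have : IsArtinianRing B := isArtinian_of_tower K inferInstance
  rw [ENat.card_congr IsArtinianRing.primeSpectrumEquivMaximalSpectrum]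
  have := Fintype.ofFinite (MaximalSpectrum B)
  rw [ENat.card_eq_coe_fintype_card, Nat.cast_le]
  let φ : B →ₐ[K] ∀ I : MaximalSpectrum B, B ⧸ I.asIdeal :=
    Pi.algHom K _ fun I => Ideal.Quotient.mkₐ K I.asIdeal
  have hs : Function.Surjective φ.toLinearMap := by
    intro x
    obtain ⟨y, hy⟩ := Ideal.pi_quotient_surjective (I := fun I : MaximalSpectrum B => I.asIdeal)
      (fun i j hij => Ideal.isCoprime_of_isMaximal (fun e => hij (MaximalSpectrum.ext e))) x
    exact ⟨y, funext hy⟩
  calc Fintype.card (MaximalSpectrum B)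
      = ∑ _I : MaximalSpectrum B, 1 := by simp
    _ ≤ ∑ I : MaximalSpectrum B, Module.finrank K (B ⧸ I.asIdeal) :=
        Finset.sum_le_sum fun I _ => Module.finrank_pos
    _ = Module.finrank K (∀ I : MaximalSpectrum B, B ⧸ I.asIdeal) := (Module.finrank_pi_fintype K).symm
    _ ≤ Module.finrank K B := LinearMap.finrank_le_finrank_of_surjective hs

theorem encard_le_finrank {K : Type u} [Field K] {T : Scheme.{u}} (c : T ⟶ Spec (.of K)) [IsFinite c]
    (s : Spec (.of K)) : ENat.card T ≤ c.finrank s := by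
  have : IsAffine T := isAffine_of_isAffineHom c
  obtain ⟨φ, hφ⟩ := Spec.map_surjective (T.isoSpec.inv ≫ c)
  have hfin : IsFinite (Spec.map φ) := by rw [hφ]; infer_instance
  rw [IsFinite.SpecMap_iff] at hfin
  algebraize [φ.hom]
  have hflat : Flat c := by
    rw [← MorphismProperty.cancel_left_of_respectsIso @Flat T.isoSpec.inv, ← hφ]
    have : φ.hom.Flat := RingHom.flat_algebraMap_iff.2 (inferInstance : Module.Flat K Γ(T, ⊤))
    exact Flat.SpecMap_iff.2 this
  rw [← Scheme.Hom.finrank_comp_left_of_isIso T.isoSpec.inv c, ← hφ,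
    ENat.card_congr T.isoSpec.hom.homeomorph.toEquiv]
  refine (card_primeSpectrum_le_finrank K Γ(T, ⊤)).trans (Nat.cast_le.2 (le_of_eq ?_))
  rw [show φ = CommRingCat.ofHom (algebraMap K Γ(T, ⊤)) from rfl,
    Scheme.Hom.finrank_SpecMap_algebraMap, Module.rankAtStalk_eq_finrank_of_free]
  rfl

end Groth.Agent.H13AlgSp
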