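import Groth.Agent.H13AlgSp.QfFinite
import Mathlib.AlgebraicGeometry.Morphisms.UniversallyInjective

/-!
Finiteness of an etale relation over a neighbourhood of a generic point, without quasi-compactness.
-/

universe u

open CategoryTheory CategoryTheory.Limits AlgebraicGeometry TopologicalSpace

set_option linter.style.haveILetI false

namespace Groth.Agent.H13AlgSp.DenseFinite

open Groth.Agent.H13AlgSp.QfFinite

theorem isFinite_restrict_le {A V : Scheme.{u}} (k : A ⟶ V) {O W : V.Opens} (hle : O ≤ W)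
    (hk : IsFinite (k ∣_ W)) : IsFinite (k ∣_ O) := by
  have sqW : IsPullback (k ⁻¹ᵁ W).ι (k ∣_ W) k W.ι := (isPullback_morphismRestrict k W).flip
  have sqO : IsPullback (k ⁻¹ᵁ O).ι (k ∣_ O) k O.ι := (isPullback_morphismRestrict k O).flip
  obtain ⟨l, hl₁, hl₂⟩ := sqW.exists_lift (k ⁻¹ᵁ O).ι ((k ∣_ O) ≫ V.homOfLE hle)
    (by rw [Category.assoc, Scheme.homOfLE_ι, morphismRestrict_ι])
  exact MorphismProperty.of_isPullback (IsPullback.of_right
    (by rw [hl₁, Scheme.homOfLE_ι]; exact sqO) hl₂ sqW) hk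

theorem isFinite_snd_of_restrict {A V : Scheme.{u}} (k : A ⟶ V) (O : V.Opens) (hk : IsFinite (k ∣_ O)) :
    IsFinite (pullback.snd k O.ι) := by
  rw [← (isPullback_morphismRestrict k O).flip.isoPullback_inv_snd]
  infer_instance

/-- If the generic points of an etale relation over `U` lie over `v`, the relation is finite near `v`. -/
theorem exists_finite_over {U V R : Scheme.{u}} [IsAffine U] [IsAffine V] (g : U ⟶ V) [LocallyOfFiniteType g]
    (r₁ r₂ : R ⟶ U) [Etale r₂] (w : r₁ ≫ g = r₂ ≫ g) [Mono (pullback.lift r₁ r₂ w)] {v : V}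
    (hv : v ∈ genericPoints V) (hgen : ∀ η ∈ genericPoints U, g η = v)
    (hfib : ∀ a, g a = v → a ∈ genericPoints U) :
    ∃ O : V.Opens, IsAffineOpen O ∧ v ∈ O ∧ IsFinite (pullback.snd g O.ι) ∧
      IsFinite (pullback.snd (r₂ ≫ g) O.ι) := by
  classical
  obtain ⟨O₁, -, hvO₁, hO₁⟩ := (Groth.Agent.S2080.result g v hv).1 (finite_fibre_of_generic g v hfib)
  let d := pullback.lift r₁ r₂ w
  let h : pullback g g ⟶ V := pullback.fst g g ≫ g
  have hdh : d ≫ h = r₂ ≫ g := by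
    show d ≫ pullback.fst g g ≫ g = _
    rw [pullback.lift_fst_assoc, w]
  -- the fibre product is finite over `O₁`
  have hh : IsFinite (h ∣_ O₁) := by
    show IsFinite ((pullback.fst g g ≫ g) ∣_ O₁)
    rw [morphismRestrict_comp]
    have sqA := (isPullback_morphismRestrict (pullback.fst g g) (g ⁻¹ᵁ O₁)).flip.paste_horiz
      (IsPullback.of_hasPullback g g).flip
    rw [← morphismRestrict_ι g O₁] at sqA
    have sqB : IsPullback (g ⁻¹ᵁ O₁).ι (g ∣_ O₁) g O₁.ι := (isPullback_morphismRestrict g O₁).flip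
    obtain ⟨l, hl₁, hl₂⟩ := sqB.exists_lift _ _ (sqA.w.trans (Category.assoc _ _ _).symm)
    have hf : IsFinite (pullback.fst g g ∣_ (g ⁻¹ᵁ O₁)) :=
      MorphismProperty.of_isPullback (IsPullback.of_right (by rw [hl₁]; exact sqA) hl₂ sqB) hO₁
    exact MorphismProperty.comp_mem @IsFinite _ _ hf hO₁
  -- the fibre of the relation over `v` is finite
  have hPfin : (h ⁻¹' {v}).Finite := by
    refine (((h ∣_ O₁).finite_preimage_singleton ⟨v, hvO₁⟩).image (h ⁻¹ᵁ O₁).ι).subset ?_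
    intro z hz
    exact ⟨⟨z, show h z ∈ O₁ by rw [show h z = v from hz]; exact hvO₁⟩,
      Subtype.ext ((morphismRestrict_base_coe h O₁ _).trans hz), rfl⟩
  have hdinj : Function.Injective d := d.injective
  have hfin : ((d ≫ h) ⁻¹' {v}).Finite :=
    show ((d : R → ↥(pullback g g)) ⁻¹' (h ⁻¹' {v})).Finite from Set.Finite.preimage hdinj.injOn hPfin
  choose A hA hAr using fun r : R => exists_isAffineOpen_mem_and_subset (U := ⊤) (x := r) trivial
  let R₀ : R.Opens := hfin.toFinset.sup A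
  have hR₀ : ∀ r, (d ≫ h) r = v → r ∈ R₀ := fun r hr =>
    (Finset.le_sup (f := A) (hfin.mem_toFinset.2 hr)) (hAr r).1
  have hR₀c : IsCompact (R₀ : Set R) := by
    have e : (R₀ : Set R) = ⋃ r ∈ hfin.toFinset, (A r : Set R) := by
      simp [R₀, Finset.sup_eq_iSup]
    rw [e]
    exact hfin.toFinset.isCompact_biUnion fun r _ => (hA r).isCompact
  haveI : CompactSpace R₀ := isCompact_iff_compactSpace.1 hR₀c
  let k : (R₀ : Scheme.{u}) ⟶ V := (R₀.ι ≫ d) ≫ h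
  haveI : LocallyOfFiniteType d := by
    have : LocallyOfFiniteType (d ≫ pullback.snd g g) := by
      rw [pullback.lift_snd]; infer_instance
    exact locallyOfFiniteType_of_comp d (pullback.snd g g)
  haveI : QuasiCompact k := (quasiCompact_iff_compactSpace _).2 inferInstance
  haveI : IsSeparated g := inferInstance
  haveI : QuasiSeparated k := inferInstance
  have hkfin : (k ⁻¹' {v}).Finite := by
    have : (k : _ → _) ⁻¹' {v} = R₀.ι ⁻¹' ((d ≫ h) ⁻¹' {v}) := rfl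
    rw [this]
    exact Set.Finite.preimage R₀.ι.isOpenEmbedding.injective.injOn hfin
  obtain ⟨O₂, -, hvO₂, hO₂⟩ := (Groth.Agent.S2080.result k v hv).1 hkfin
  obtain ⟨_, ⟨(O : V.Opens), hO, rfl⟩, hvO, hOle⟩ :=
    V.isBasis_affineOpens.exists_subset_of_mem_open (show v ∈ O₁ ⊓ O₂ from ⟨hvO₁, hvO₂⟩) (O₁ ⊓ O₂).2
  have hkO : IsFinite (k ∣_ O) := isFinite_restrict_le k (fun z hz => (hOle hz).2) hO₂
  haveI hhO : IsFinite (h ∣_ O) := isFinite_restrict_le h (fun z hz => (hOle hz).1) hh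
  have hcl : IsClosedMap ((R₀.ι ≫ d) ∣_ (h ⁻¹ᵁ O)) := by
    haveI : IsFinite ((R₀.ι ≫ d) ∣_ (h ⁻¹ᵁ O) ≫ h ∣_ O) := by
      rw [← morphismRestrict_comp]; exact hkO
    haveI : IsFinite ((R₀.ι ≫ d) ∣_ (h ⁻¹ᵁ O)) := IsFinite.of_comp _ (h ∣_ O)
    exact Scheme.Hom.isClosedMap _
  -- the relation over `O` lies in `R₀`
  have hsub : (d ≫ h) ⁻¹ᵁ O ≤ R₀ := fun r hr => by
    obtain ⟨η, hη, hηr⟩ := Groth.Agent.H8Props.exists_genericPoints_specializes r
    have hηv : (d ≫ h) η = v := by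
      rw [hdh, Scheme.Hom.comp_apply]
      exact hgen _ (Groth.Agent.H8Props.flat_map_genericPoints r₂ hη)
    let η₁ : ((R₀.ι ≫ d) ⁻¹ᵁ (h ⁻¹ᵁ O) : Scheme.{u}) := ⟨⟨η, hR₀ η hηv⟩, show h (d η) ∈ O by
      rw [← Scheme.Hom.comp_apply, hηv]; exact hvO⟩
    have hsp : ((R₀.ι ≫ d) ∣_ (h ⁻¹ᵁ O)) η₁ ⤳ (⟨d r, hr⟩ : (h ⁻¹ᵁ O)) := by
      rw [← (h ⁻¹ᵁ O).ι.isEmbedding.isInducing.specializes_iff, ← Scheme.Hom.comp_apply, morphismRestrict_ι]
      exact hηr.map d.continuous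
    obtain ⟨r', hr'⟩ := hsp.mem_closed hcl.isClosed_range ⟨η₁, rfl⟩
    have e := congrArg (h ⁻¹ᵁ O).ι hr'
    rw [← Scheme.Hom.comp_apply, morphismRestrict_ι] at e
    have : r'.1.1 = r := hdinj e
    exact this ▸ r'.1.2
  refine ⟨O, hO, hvO, isFinite_snd_of_restrict g O (isFinite_restrict_le g (fun z hz => (hOle hz).1) hO₁),
    isFinite_snd_of_restrict _ O ?_⟩
  rw [← hdh]
  have hk' : IsFinite (R₀.ι ∣_ ((d ≫ h) ⁻¹ᵁ O) ≫ (d ≫ h) ∣_ O) := by
    rw [← morphismRestrict_comp, ← Category.assoc]; exact hkO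
  haveI : Surjective (R₀.ι ∣_ ((d ≫ h) ⁻¹ᵁ O)) := ⟨fun ⟨r, hr⟩ => ⟨⟨⟨r, hsub hr⟩, hr⟩, Subtype.ext (morphismRestrict_base_coe R₀.ι _ _)⟩⟩
  haveI : IsIso (R₀.ι ∣_ ((d ≫ h) ⁻¹ᵁ O)) :=
    (isIso_iff_isOpenImmersion_and_surjective _).2 ⟨inferInstance, inferInstance⟩
  exact (MorphismProperty.cancel_left_of_respectsIso @IsFinite _ _).1 hk'

end Groth.Agent.H13AlgSp.DenseFinite
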