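import Mathlib.RingTheory.Flat.Equalizer
import Mathlib.RingTheory.RingHom.Flat
import Mathlib.Algebra.Category.Ring.Constructions

/-!
Flat base change preserves equalizers of ring maps, phrased with pushout squares.
-/

universe u

open CategoryTheory TensorProduct

namespace Groth.Agent.H13AlgSp

set_option backward.isDefEq.respectTransparency.types false in
theorem injective_and_range_of_flat {R R' A A' B B' C C' : CommRingCat.{u}} {r : R ⟶ R'}
    (hr : r.hom.Flat) {α : R ⟶ A} {iA : A ⟶ A'} {α' : R' ⟶ A'} (sqA : IsPushout r α α' iA)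
    {β : R ⟶ B} {iB : B ⟶ B'} {β' : R' ⟶ B'} (sqB : IsPushout r β β' iB)
    {γ : R ⟶ C} {iC : C ⟶ C'} {γ' : R' ⟶ C'} (sqC : IsPushout r γ γ' iC)
    {ι : A ⟶ B} (hι : α ≫ ι = β) {f g : B ⟶ C} (hf : β ≫ f = γ) (hg : β ≫ g = γ)
    (hinj : Function.Injective ι.hom)
    (hrange : ∀ b, f.hom b = g.hom b ↔ b ∈ Set.range ι.hom)
    {ι' : A' ⟶ B'} (hι' : α' ≫ ι' = β') (hι'' : iA ≫ ι' = ι ≫ iB)
    {f' g' : B' ⟶ C'} (hf' : β' ≫ f' = γ') (hf'' : iB ≫ f' = f ≫ iC)
    (hg' : β' ≫ g' = γ') (hg'' : iB ≫ g' = g ≫ iC) :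
    Function.Injective ι'.hom ∧ ∀ x, f'.hom x = g'.hom x → x ∈ Set.range ι'.hom := by
  algebraize [r.hom, α.hom, β.hom, γ.hom, iA.hom, iB.hom, iC.hom, α'.hom, β'.hom, γ'.hom]
  algebraize [(r ≫ α').hom, (r ≫ β').hom, (r ≫ γ').hom]
  have : IsScalarTower R R' A' := .of_algebraMap_eq' rfl
  have : IsScalarTower R R' B' := .of_algebraMap_eq' rfl
  have : IsScalarTower R R' C' := .of_algebraMap_eq' rfl
  have : IsScalarTower R A A' := .of_algebraMap_eq' (congrArg CommRingCat.Hom.hom sqA.w)
  have : IsScalarTower R B B' := .of_algebraMap_eq' (congrArg CommRingCat.Hom.hom sqB.w)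
  have : IsScalarTower R C C' := .of_algebraMap_eq' (congrArg CommRingCat.Hom.hom sqC.w)
  have hA := ((CommRingCat.isPushout_iff_isPushout (R := R) (S := A) (R' := R') (S' := A')).1 sqA).out
  have hB := ((CommRingCat.isPushout_iff_isPushout (R := R) (S := B) (R' := R') (S' := B')).1 sqB).out
  have hC := ((CommRingCat.isPushout_iff_isPushout (R := R) (S := C) (R' := R') (S' := C')).1 sqC).out
  let ιl : A →ₐ[R] B := AlgHom.mk ι.hom (fun x => congr($(hι).hom x))
  let fl : B →ₐ[R] C := AlgHom.mk f.hom (fun x => congr($(hf).hom x))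
  let gl : B →ₐ[R] C := AlgHom.mk g.hom (fun x => congr($(hg).hom x))
  let ιl' : A' →ₐ[R'] B' := AlgHom.mk ι'.hom (fun x => congr($(hι').hom x))
  let fl' : B' →ₐ[R'] C' := AlgHom.mk f'.hom (fun x => congr($(hf').hom x))
  let gl' : B' →ₐ[R'] C' := AlgHom.mk g'.hom (fun x => congr($(hg').hom x))
  have eι : ∀ y, ι'.hom (hA.equiv y) = hB.equiv (ιl.toLinearMap.lTensor R' y) := by
    intro y
    induction y with
    | zero => simp only [map_zero]
    | add y z hy hz => simp only [map_add, hy, hz]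
    | tmul s a =>
      rw [LinearMap.lTensor_tmul, IsBaseChange.equiv_tmul, IsBaseChange.equiv_tmul]
      exact (map_smul ιl' s _).trans (congrArg (s • ·) congr($(hι'').hom a))
  have ef : ∀ y, f'.hom (hB.equiv y) = hC.equiv (fl.toLinearMap.lTensor R' y) := by
    intro y
    induction y with
    | zero => simp only [map_zero]
    | add y z hy hz => simp only [map_add, hy, hz]
    | tmul s a =>
      rw [LinearMap.lTensor_tmul, IsBaseChange.equiv_tmul, IsBaseChange.equiv_tmul]
      exact (map_smul fl' s _).trans (congrArg (s • ·) congr($(hf'').hom a))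
  have eg : ∀ y, g'.hom (hB.equiv y) = hC.equiv (gl.toLinearMap.lTensor R' y) := by
    intro y
    induction y with
    | zero => simp only [map_zero]
    | add y z hy hz => simp only [map_add, hy, hz]
    | tmul s a =>
      rw [LinearMap.lTensor_tmul, IsBaseChange.equiv_tmul, IsBaseChange.equiv_tmul]
      exact (map_smul gl' s _).trans (congrArg (s • ·) congr($(hg'').hom a))
  have : Module.Flat R R' := hr
  refine ⟨fun x y hxy => ?_, fun x hx => ?_⟩
  · obtain ⟨x, rfl⟩ := hA.equiv.surjective x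
    obtain ⟨y, rfl⟩ := hA.equiv.surjective y
    rw [eι, eι] at hxy
    exact congrArg _ (Module.Flat.lTensor_preserves_injective_linearMap ιl.toLinearMap hinj
      (hB.equiv.injective hxy))
  · obtain ⟨x, rfl⟩ := hB.equiv.surjective x
    rw [ef, eg] at hx
    have hex : Function.Exact ιl.toLinearMap (fl.toLinearMap - gl.toLinearMap) := fun b => by
      rw [LinearMap.sub_apply, sub_eq_zero]
      exact hrange b
    obtain ⟨z, hz⟩ := ((Module.Flat.lTensor_exact R' hex) x).1 (by
      rw [LinearMap.lTensor_sub, LinearMap.sub_apply, sub_eq_zero]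
      exact hC.equiv.injective hx)
    exact ⟨hA.equiv z, by rw [eι, hz]⟩

end Groth.Agent.H13AlgSp
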