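import Groth.Agent.H13AlgSp.Cover
import Mathlib.AlgebraicGeometry.RelativeGluing

/-!
Representability of a sheaf over a scheme is local on the scheme.
-/

universe u

open CategoryTheory CategoryTheory.Limits AlgebraicGeometry Opposite
open AlgSp Groth.Agent.H12AlgSp

namespace Groth.Agent.H13AlgSp

variable {S : Scheme.{u}}

/-- An open subscheme of a scheme over `S`. -/
noncomputable def openOver (T : Over S) (V : T.left.Opens) : Over S := Over.mk (V.ι ≫ T.hom)

/-- The inclusion of an open subscheme over `S`. -/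
noncomputable def openIncl (T : Over S) (V : T.left.Opens) : openOver T V ⟶ T := Over.homMk V.ι rfl

/-- Inclusions between open subschemes over `S`. -/
noncomputable def openLE (T : Over S) {V V' : T.left.Opens} (h : V ≤ V') : openOver T V ⟶ openOver T V' :=
  Over.homMk (T.left.homOfLE h) (by
    change T.left.homOfLE h ≫ V'.ι ≫ T.hom = V.ι ≫ T.hom
    rw [Scheme.homOfLE_ι_assoc])

@[reassoc] theorem openLE_incl (T : Over S) {V V' : T.left.Opens} (h : V ≤ V') :
    openLE T h ≫ openIncl T V' = openIncl T V :=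
  Over.OverMorphism.ext (Scheme.homOfLE_ι _ h)

/-- The directed open cover of a scheme given by a basis of its topology. -/
@[simps I₀ X f]
noncomputable def basisCover (X : Scheme.{u}) (B : Set X.Opens) (hB : TopologicalSpace.Opens.IsBasis B) :
    X.OpenCover where
  I₀ := B
  X U := U.1
  f U := U.1.ι
  mem₀ := by
    rw [Scheme.presieve₀_mem_precoverage_iff]
    refine ⟨fun x => ?_, inferInstance⟩
    obtain ⟨V, hV, hx, -⟩ := TopologicalSpace.Opens.isBasis_iff_nbhd.mp hB (TopologicalSpace.Opens.mem_top x)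
    exact ⟨⟨V, hV⟩, ⟨x, hx⟩, rfl⟩

instance (X : Scheme.{u}) (B : Set X.Opens) (hB : TopologicalSpace.Opens.IsBasis B) :
    Preorder (basisCover X B hB).I₀ := inferInstanceAs <| Preorder B

set_option backward.isDefEq.respectTransparency.types false in
set_option backward.defeqAttrib.useBackward true in
noncomputable instance (X : Scheme.{u}) (B : Set X.Opens) (hB : TopologicalSpace.Opens.IsBasis B) :
    Scheme.Cover.LocallyDirected (basisCover X B hB) :=
  .ofIsBasisOpensRange (by intros; simp; rfl) <| by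
    convert! hB
    simp

set_option backward.isDefEq.respectTransparency false in
/-- A sheaf over a scheme which is representable over the opens of a basis is representable. -/
theorem exists_iso_of_local_rep' {Q : Sp S} {T : Over S} (q : Q ⟶ (yon S).obj T)
    {B : Set T.left.Opens} (hB : TopologicalSpace.Opens.IsBasis B) (h : ∀ V : B, ∃ (W : Over S) (i : W ⟶ openOver T V.1) (l : (yon S).obj W ⟶ Q),
      IsPullback l ((yon S).map i) q ((yon S).map (openIncl T V.1))) :
    ∃ (GT : Over S) (γ : GT ⟶ T) (μ : (yon S).obj GT ⟶ Q), IsIso μ ∧ μ ≫ q = (yon S).map γ := by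
  choose W i l sq using h
  have step : ∀ {V V' : B} (hVV' : V ≤ V'), ∃ m : W V ⟶ W V',
      (yon S).map m ≫ l V' = l V ∧ m ≫ i V' = i V ≫ openLE T hVV' ∧ IsPullback m.left (i V).left
        (i V').left (T.left.homOfLE hVV') := by
    intro V V' hVV'
    obtain ⟨m, hm⟩ := (yon S).map_surjective ((sq V').lift (l V) ((yon S).map (i V ≫ openLE T hVV'))
      (by rw [← Functor.map_comp, Category.assoc, openLE_incl, Functor.map_comp]; exact (sq V).w))
    have h1 : m ≫ i V' = i V ≫ openLE T hVV' := (yon S).map_injective (by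
      rw [Functor.map_comp (f := m), hm, (sq V').lift_snd])
    refine ⟨m, by rw [hm, (sq V').lift_fst], h1, ?_⟩
    have h2 : IsPullback ((yon S).map m) ((yon S).map (i V)) ((yon S).map (i V'))
        ((yon S).map (openLE T hVV')) := by
      refine IsPullback.of_right ?_ (by rw [← Functor.map_comp, h1, Functor.map_comp]) (sq V')
      rw [← Functor.map_comp, openLE_incl, hm, (sq V').lift_fst]
      exact sq V
    exact (IsPullback.of_map (yon S) h1 h2).map (Over.forget S)
  choose m hm₁ hm₂ hm₃ using @step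
  have uniq : ∀ {V' : B} {Z : Over S} {a b : Z ⟶ W V'},
      (yon S).map a ≫ l V' = (yon S).map b ≫ l V' → a ≫ i V' = b ≫ i V' → a = b := fun {V' Z a b} e₁ e₂ =>
    (yon S).map_injective ((sq V').hom_ext e₁ (by rw [← Functor.map_comp, e₂, Functor.map_comp]))
  have hid : ∀ V : B, m (le_refl V) = 𝟙 (W V) := fun V => by
    refine uniq (by rw [hm₁, CategoryTheory.Functor.map_id, Category.id_comp]) ?_
    rw [hm₂, Category.id_comp]
    exact (congrArg (i V ≫ ·) (Over.OverMorphism.ext (T.left.homOfLE_rfl V.1))).trans (Category.comp_id _)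
  have hcomp : ∀ (V V' V'' : B) (f : V ≤ V') (g : V' ≤ V''),
      m (f.trans g) = m f ≫ m g := fun V V' V'' f g => by
    refine uniq (by rw [hm₁, Functor.map_comp, Category.assoc, hm₁, hm₁]) ?_
    rw [hm₂, Category.assoc, hm₂, reassoc_of% hm₂]
    exact congrArg (i V ≫ ·) (Over.OverMorphism.ext (T.left.homOfLE_homOfLE (show V.1 ≤ V'.1 from f) (show V'.1 ≤ V''.1 from g)).symm)
  let F : (basisCover T.left B hB).I₀ ⥤ Scheme.{u} :=
    { obj := fun (V : B) => (W V).left
      map := fun {V V'} f => (m (V := V) (V' := V') (leOfHom f)).left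
      map_id := fun V => congrArg (fun t => Over.Hom.left t) (hid V)
      map_comp := fun {V V' V''} f g =>
        congrArg (fun t => Over.Hom.left t) (hcomp V V' V'' (leOfHom f) (leOfHom g)) }
  let d : Scheme.Cover.RelativeGluingData (basisCover T.left B hB) :=
    { functor := F
      natTrans := { app := fun (V : B) => (i V).left
                    naturality := fun V V' f => congrArg (fun t => Over.Hom.left t) (hm₂ (leOfHom f)) }
      equifibered := fun {V V'} f => hm₃ (leOfHom f) }
  have : Quiver.IsThin (basisCover T.left B hB).I₀ := fun _ _ => inferInstance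
  have : Small.{u} (basisCover T.left B hB).I₀ := inferInstanceAs (Small.{u} B)
  have : ∀ {i j : (basisCover T.left B hB).I₀} (f : i ⟶ j), IsOpenImmersion (d.functor.map f) :=
    fun f => MorphismProperty.of_isPullback (d.equifibered f).flip inferInstance
  have : (d.functor ⋙ Scheme.forget).IsLocallyDirected :=
    Scheme.isLocallyDirected_of_equifibered_of_injective d.natTrans d.equifibered
      fun hij => (d.functor.map hij).injective
  have : HasColimit d.functor := inferInstance
  let GT : Over S := Over.mk (d.toBase ≫ T.hom)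
  let γ : GT ⟶ T := Over.homMk d.toBase rfl
  let ιV : ∀ V : B, W V ⟶ GT := fun V => Over.homMk (colimit.ι d.functor V) (by
    change colimit.ι d.functor V ≫ d.toBase ≫ T.hom = (W V).hom
    rw [Scheme.Cover.RelativeGluingData.ι_toBase_assoc]
    exact Over.w (i V))
  have hιγ : ∀ V, ιV V ≫ γ = i V ≫ openIncl T V.1 := fun V =>
    Over.OverMorphism.ext (d.ι_toBase V)
  have sqι : ∀ V : B, IsPullback (ιV V).left (i V).left γ.left (openIncl T V.1).left :=
    fun V => (d.isPullback_natTrans_ι_toBase V).flip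
  have hopen : ∀ V : B, IsOpenImmersion (ιV V).left := fun V =>
    MorphismProperty.of_isPullback (sqι V).flip (inferInstanceAs (IsOpenImmersion V.1.ι))
  have hmι : ∀ {V V' : B} (f : V ≤ V'), m f ≫ ιV V' = ιV V := fun {V V'} f =>
    Over.OverMorphism.ext (colimit.w d.functor (homOfLE f : (V : (basisCover T.left B hB).I₀) ⟶ V'))
  have hcovW : ∀ x : GT.left, ∃ V, x ∈ Set.range (ιV V).left := fun x => by
    obtain ⟨V, y, hy⟩ := Scheme.IsLocallyDirected.ι_jointly_surjective d.functor x
    exact ⟨V, y, hy⟩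
  -- the sections `l V` agree on overlaps
  have compat : ∀ (V V' : B) (Z : Over S) (a : Z ⟶ W V) (b : Z ⟶ W V'),
      a ≫ ιV V = b ≫ ιV V' → (yon S).map a ≫ l V = (yon S).map b ≫ l V' := by
    intro V V' Z a b e
    have key : ∀ z : Z.left, ∃ (V'' : B), V'' ≤ V ∧ V'' ≤ V' ∧
        z ∈ (a ≫ ιV V).left ⁻¹ᵁ (@Scheme.Hom.opensRange _ _ (ιV V'').left (hopen V'')) := by
      intro z
      have h1 : γ.left ((a ≫ ιV V).left z) ∈ V.1 := by
        have := congrArg (fun t => ((Over.Hom.left t : _ ⟶ _) : _ → _) z) (congrArg (a ≫ ·) (hιγ V))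
        simp only [Over.comp_left, Scheme.Hom.comp_apply] at this
        rw [Over.comp_left, Scheme.Hom.comp_apply, this]
        exact ((i V).left (a.left z)).2
      have h2 : γ.left ((a ≫ ιV V).left z) ∈ V'.1 := by
        have := congrArg (fun t => ((Over.Hom.left t : _ ⟶ _) : _ → _) z) (congrArg (b ≫ ·) (hιγ V'))
        simp only [Over.comp_left, Scheme.Hom.comp_apply] at this
        rw [e, Over.comp_left, Scheme.Hom.comp_apply, this]
        exact ((i V').left (b.left z)).2
      obtain ⟨V₀, hV₀, hz, hle⟩ := TopologicalSpace.Opens.isBasis_iff_nbhd.mp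
        hB (show _ ∈ V.1 ⊓ V'.1 from ⟨h1, h2⟩)
      refine ⟨⟨V₀, hV₀⟩, hle.trans inf_le_left, hle.trans inf_le_right, ?_⟩
      obtain ⟨y, hy, -⟩ := Scheme.exists_preimage_of_isPullback (sqι ⟨V₀, hV₀⟩)
        ((a ≫ ιV V).left z) ⟨_, hz⟩ rfl
      exact ⟨y, hy⟩
    choose V'' h'' h''' hz using key
    let Z' : ∀ z : Z.left, Over S := fun z =>
      openOver Z ((a ≫ ιV V).left ⁻¹ᵁ (@Scheme.Hom.opensRange _ _ (ιV (V'' z)).left (hopen (V'' z))))
    refine hom_ext_of_cover (κ := Z.left) (C := Z') (fun z => openIncl Z _)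
      (ofArrows_mem_J _ (fun z => inferInstanceAs (Flat (Scheme.Opens.ι _)))
        (fun z => inferInstanceAs (LocallyOfFinitePresentation (Scheme.Opens.ι _)))
        (fun z => ⟨z, ⟨z, hz z⟩, rfl⟩)) fun z => ?_
    have := hopen (V'' z)
    obtain ⟨r, hr⟩ : ∃ r : Z' z ⟶ W (V'' z),
        r ≫ ιV (V'' z) = openIncl Z _ ≫ a ≫ ιV V := by
      have hsub : Set.range (openIncl Z ((a ≫ ιV V).left ⁻¹ᵁ (ιV (V'' z)).left.opensRange) ≫
          a ≫ ιV V).left ⊆ Set.range (ιV (V'' z)).left := by
        rintro _ ⟨⟨w, hw⟩, rfl⟩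
        exact hw
      refine ⟨Over.homMk (IsOpenImmersion.lift _ _ hsub) ?_, ?_⟩
      · rw [← Over.w (ιV (V'' z)), IsOpenImmersion.lift_fac_assoc]
        exact Over.w (openIncl Z _ ≫ a ≫ ιV V)
      · exact Over.OverMorphism.ext (IsOpenImmersion.lift_fac _ _ hsub)
    have := hopen V
    have := hopen V'
    have hmV : Mono (ιV V) := (Over.forget S).mono_of_mono_map (inferInstanceAs (Mono (ιV V).left))
    have hmV' : Mono (ιV V') := (Over.forget S).mono_of_mono_map (inferInstanceAs (Mono (ιV V').left))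
    have ha : openIncl Z _ ≫ a = r ≫ m (h'' z) := by
      rw [← cancel_mono (ιV V), Category.assoc, Category.assoc, hmι, hr]
    have hb : openIncl Z _ ≫ b = r ≫ m (h''' z) := by
      rw [← cancel_mono (ιV V'), Category.assoc, Category.assoc, hmι, hr, e]
    rw [← Category.assoc, ← Functor.map_comp, ← Category.assoc, ← Functor.map_comp, ha, hb,
      Functor.map_comp, Functor.map_comp, Category.assoc, Category.assoc, hm₁, hm₁]
  have hcov : Sieve.ofArrows W ιV ∈ J S GT :=
    ofArrows_mem_J ιV (fun V => have := hopen V; inferInstance) (fun V => have := hopen V; inferInstance)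
      hcovW
  obtain ⟨t, ht, -⟩ := (Presieve.isSheafFor_arrows_iff _ _ ).1
    ((Presieve.isSheafFor_iff_generate _).2 (((isSheaf_iff_isSheaf_of_type _ _).1 Q.property) _ hcov))
    (fun V => (J S).uliftYonedaEquiv (l V)) (fun V V' Z a b e => by
      rw [GrothendieckTopology.uliftYonedaEquiv_naturality, GrothendieckTopology.uliftYonedaEquiv_naturality,
        compat V V' Z a b e])
  let μ : (yon S).obj GT ⟶ Q := (J S).uliftYonedaEquiv.symm t
  have hμ : ∀ V, (yon S).map (ιV V) ≫ μ = l V := fun V => by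
    apply (J S).uliftYonedaEquiv.injective
    rw [← GrothendieckTopology.uliftYonedaEquiv_naturality, Equiv.apply_symm_apply]
    exact ht V
  have hμq : μ ≫ q = (yon S).map γ := hom_ext_of_cover ιV hcov fun V => by
    rw [reassoc_of% hμ, (sq V).w, ← Functor.map_comp, ← Functor.map_comp, hιγ]
  have sqO : ∀ V : B, IsPullback (ιV V) (i V) γ (openIncl T V.1) := fun V =>
    IsPullback.of_map (Over.forget S) (hιγ V) (sqι V)
  have : Mono μ := mono_of_yon fun Z a b e => by
    obtain ⟨a, rfl⟩ := (yon S).map_surjective a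
    obtain ⟨b, rfl⟩ := (yon S).map_surjective b
    have eT : a ≫ γ = b ≫ γ := (yon S).map_injective (by
      rw [Functor.map_comp, Functor.map_comp, ← hμq, reassoc_of% e])
    congr 1
    refine Over.OverMorphism.ext (Scheme.Cover.hom_ext
      ((basisCover T.left B hB).pullback₁ (a ≫ γ).left) _ _ fun V => ?_)
    let P := pullback (a ≫ γ).left (V : B).1.ι
    let p : Over.mk ((pullback.fst (a ≫ γ).left (V : B).1.ι : P ⟶ Z.left) ≫ Z.hom) ⟶ Z :=
      Over.homMk (pullback.fst _ _) rfl
    let p₂ : Over.mk ((pullback.fst (a ≫ γ).left (V : B).1.ι : P ⟶ Z.left) ≫ Z.hom) ⟶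
        openOver T (V : B).1 := Over.homMk (pullback.snd _ _) (by
      change pullback.snd _ _ ≫ (V : B).1.ι ≫ T.hom = _
      rw [← pullback.condition_assoc]
      simp)
    have hp : p ≫ a ≫ γ = p₂ ≫ openIncl T (V : B).1 :=
      Over.OverMorphism.ext pullback.condition
    let a' := (sqO V).lift (p ≫ a) p₂ (by rw [Category.assoc]; exact hp)
    let b' := (sqO V).lift (p ≫ b) p₂ (by rw [Category.assoc, ← eT]; exact hp)
    have hab : a' = b' := uniq (by
      rw [← hμ, ← Functor.map_comp_assoc, ← Functor.map_comp_assoc, IsPullback.lift_fst,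
        IsPullback.lift_fst, Functor.map_comp, Functor.map_comp, Category.assoc, Category.assoc, e]) (by
      rw [IsPullback.lift_snd, IsPullback.lift_snd])
    have h3 := congrArg (fun t => Over.Hom.left t) (congrArg (· ≫ ιV V) hab)
    simp only [a', b', IsPullback.lift_fst] at h3
    exact h3
  have : IsIso μ := isIso_of_mono_of_local_lifts μ fun Z y => by
    obtain ⟨z, hz⟩ := (yon S).map_surjective (y ≫ q)
    refine ⟨B, fun V => openOver Z (z.left ⁻¹ᵁ V.1), fun V => openIncl Z _,
      ofArrows_mem_J _ (fun V => inferInstanceAs (Flat (Scheme.Opens.ι _)))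
        (fun V => inferInstanceAs (LocallyOfFinitePresentation (Scheme.Opens.ι _))) (fun x => ?_), fun V => ?_⟩
    · obtain ⟨V, hVB, hV, -⟩ :=
        TopologicalSpace.Opens.isBasis_iff_nbhd.mp hB (TopologicalSpace.Opens.mem_top (z.left x))
      exact ⟨⟨V, hVB⟩, ⟨x, hV⟩, rfl⟩
    · let r : openOver Z (z.left ⁻¹ᵁ V.1) ⟶ openOver T V.1 := Over.homMk (z.left ∣_ V.1) (by
        change z.left ∣_ V.1 ≫ V.1.ι ≫ T.hom = _
        rw [morphismRestrict_ι_assoc, Over.w z]; rfl)
      have hr : r ≫ openIncl T V.1 = openIncl Z _ ≫ z :=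
        Over.OverMorphism.ext (morphismRestrict_ι _ _)
      obtain ⟨y', hy'⟩ := (yon S).map_surjective ((sq V).lift ((yon S).map (openIncl Z _) ≫ y)
        ((yon S).map r) (by rw [Category.assoc, ← hz, ← Functor.map_comp, ← Functor.map_comp, hr]))
      refine ⟨(yon S).map (y' ≫ ιV V), ?_⟩
      rw [Functor.map_comp, Category.assoc, hμ, hy', (sq V).lift_fst]
  exact ⟨GT, γ, μ, ‹_›, hμq⟩

/-- A sheaf over a scheme which is representable over each affine open is representable. -/
theorem exists_iso_of_local_rep {Q : Sp S} {T : Over S} (q : Q ⟶ (yon S).obj T)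
    (h : ∀ V : T.left.affineOpens, ∃ (W : Over S) (i : W ⟶ openOver T V.1) (l : (yon S).obj W ⟶ Q),
      IsPullback l ((yon S).map i) q ((yon S).map (openIncl T V.1))) :
    ∃ (GT : Over S) (γ : GT ⟶ T) (μ : (yon S).obj GT ⟶ Q), IsIso μ ∧ μ ≫ q = (yon S).map γ :=
  exists_iso_of_local_rep' q T.left.isBasis_affineOpens fun V => h ⟨V.1, V.2⟩

end Groth.Agent.H13AlgSp
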