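import Groth.Agent.H12AlgSp.AffineMor
import Groth.Agent.H12AlgSp.LQFScheme2
import Groth.Agent.H12AlgSp.UnivClosedQC
import Groth.Agent.H12AlgSp.LocPCancel
import Groth.Agent.H12AlgSp.SourceDescent
import Groth.Agent.H13AlgSp.LocP
import Mathlib.AlgebraicGeometry.ZariskisMainTheorem

/-!
Proper locally quasi-finite morphisms of algebraic spaces are finite.
-/

universe u

open CategoryTheory CategoryTheory.Limits AlgebraicGeometry Opposite
open AlgSp Groth.Agent.H12AlgSp

namespace Groth.Agent.H13AlgSp

variable {S : Scheme.{u}} {X Y : Sp S}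

/-- A representable separated morphism is representable by separated morphisms of schemes. -/
theorem repWith_isSeparated_of_isSeparatedMor {f : X ⟶ Y} (hf : Representable f) (h : IsSeparatedMor f) :
    RepWith @IsSeparated f :=
  Groth.Agent.H12AlgSp.repWith_of_snd hf fun T g =>
    (isSeparatedMor_yon_map_iff _).1 (isSeparatedMor_of_isPullback (hf.isPullback g) h)

/-- Universally closed separated locally quasi-finite morphisms locally of finite type are finite. -/
theorem isFiniteMor_of_univClosed_lqf (hX : IsAlgSpace X) (hY : IsAlgSpace Y) {f : X ⟶ Y}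
    (hc : IsUnivClosedMor f) (hs : IsSeparatedMor f)
    (hq : LocP (@LocallyQuasiFinite ⊓ @LocallyOfFiniteType) f) : IsFiniteMor f := by
  have hrep : Representable f := representable_of_lqf_separated hX hY hs hq
  have h1 : RepWith (@LocallyQuasiFinite ⊓ @LocallyOfFiniteType) f :=
    repWith_of_locP (etLocal_inf etLocal_lqf etLocal_lft) hY hrep hq
  refine isFiniteMor_iff.2 (Groth.Agent.H12AlgSp.repWith_of_snd hrep fun T g => ?_)
  have : LocallyQuasiFinite (hrep.snd g).left := (h1.property_snd g).1
  have : LocallyOfFiniteType (hrep.snd g).left := (h1.property_snd g).2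
  have : UniversallyClosed (hrep.snd g).left :=
    ((repWith_universallyClosed_iff hrep).2 hc).property_snd g
  have : IsSeparated (hrep.snd g).left := (repWith_isSeparated_of_isSeparatedMor hrep hs).property_snd g
  have : IsProper (hrep.snd g).left := ⟨⟩
  exact IsFinite.of_isProper_of_locallyQuasiFinite _

/-- Finiteness descends along etale surjective maps to a separated source. -/
theorem isFiniteMor_of_etale_precomp {U : Sp S} (hU : IsAlgSpace U) (hX : IsAlgSpace X) (hY : IsAlgSpace Y)
    {p : U ⟶ X} {f : X ⟶ Y} (hp : LocP @Etale p) (hps : Function.Surjective (Points.map p))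
    (hs : IsSeparatedMor f) (h : IsFiniteMor (p ≫ f)) : IsFiniteMor f := by
  refine isFiniteMor_of_univClosed_lqf hX hY
    (isUnivClosedMor_of_surjective ((isFiniteMor_iff_affine_proper hU hY).1 h).2.2.2 hps) hs ?_
  obtain ⟨W, a, ha, has⟩ := hU.atlas
  have hφ : RepWith @Etale (a ≫ p) := Groth.Agent.H12AlgSp.repWith_of_locP etLocal_etale hX
    (hX.representable_from_yon _)
    (Groth.Agent.H12AlgSp.locP_comp etLocal_etale (IsAlgSpace.yon_obj W) hU hX (locP_of_repWith etLocal_etale ha) hp)
  have hφs : RepWith @Surjective (a ≫ p) := repWith_surjective_of_map (hX.representable_from_yon _) fun x => by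
    obtain ⟨z, rfl⟩ := hps x
    obtain ⟨w, rfl⟩ := surjective_map_of_repWith le_rfl has z
    exact ⟨w, Points.map_comp _ _ _⟩
  refine Groth.Agent.H12AlgSp.locP_of_source_cover (etLocal_inf etLocal_lqf etLocal_lft) f (IsAlgSpace.yon_obj W) hY hφ hφs ?_
  rw [Category.assoc]
  exact Groth.Agent.H12AlgSp.locP_comp (etLocal_inf etLocal_lqf etLocal_lft) (IsAlgSpace.yon_obj W) hU hY
    (locP_of_repWith (etLocal_inf etLocal_lqf etLocal_lft) (repWith_le (fun _ _ g (_ : Etale g) =>
      ⟨Groth.Agent.H13AlgSp.locallyQuasiFinite_of_etale g, inferInstanceAs (LocallyOfFiniteType g)⟩) ha))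
    (locP_of_repWith (etLocal_inf etLocal_lqf etLocal_lft) (repWith_le (fun _ _ g (_ : IsFinite g) =>
      ⟨inferInstanceAs (LocallyQuasiFinite g), inferInstanceAs (LocallyOfFiniteType g)⟩) (isFiniteMor_iff.1 h)))

end Groth.Agent.H13AlgSp
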