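import Groth.Agent.H13AlgSp.FieldPoints
import Groth.Agent.H13AlgSp.FiniteMor
import Groth.Agent.H06Desc.Noetherian
import Groth.Agent.H12AlgSp.AffineMor

/-!
Fibres of morphisms of algebraic spaces over field-valued points.
-/

universe u

open CategoryTheory CategoryTheory.Limits AlgebraicGeometry Opposite Topology
open AlgSp Groth.Agent.H12AlgSp

namespace Groth.Agent.H13AlgSp

variable {S : Scheme.{u}}

instance isLocallyNoetherian_fieldPt {F : Sp S} (p : FieldPt F) : IsLocallyNoetherian p.pt.left :=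
  inferInstanceAs (IsLocallyNoetherian (Spec (CommRingCat.of p.K)))

instance jacobsonSpace_fieldPt {F : Sp S} (p : FieldPt F) : JacobsonSpace p.pt.left :=
  inferInstanceAs (JacobsonSpace (Spec (CommRingCat.of p.K)))

theorem subsingleton_fieldPt {F : Sp S} (p : FieldPt F) : Subsingleton p.pt.left :=
  inferInstanceAs (Subsingleton (Spec (CommRingCat.of p.K)))

theorem isLocNoethSp_of_lft {P : Sp S} (hP : IsAlgSpace P) {Z : Over S} [IsLocallyNoetherian Z.left]
    {p : P ⟶ (yon S).obj Z} (hp : LocP @LocallyOfFiniteType p) : IsLocNoethSp P := by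
  obtain ⟨U, a, ha, has⟩ := hP.atlas
  obtain ⟨h, hh⟩ := (yon _).map_surjective (a ≫ p)
  have : LocallyOfFiniteType h.left := hp a (𝟙 _) h ha (repWith_id _ _) (by rw [Category.comp_id, hh])
  exact ⟨U, a, ha, has, LocallyOfFiniteType.isLocallyNoetherian h.left⟩

/-- Charts of a base change. -/
theorem exists_baseChange_chart {P Q : Sp S} {Z Z' : Over S} {c : Z' ⟶ Z} {q : Q ⟶ (yon S).obj Z}
    {p₁ : P ⟶ Q} {p₂ : P ⟶ (yon S).obj Z'} (sq : IsPullback p₁ p₂ q ((yon S).map c)) {U : Over S}
    (a : (yon S).obj U ⟶ Q) :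
    ∃ (W : Over S) (r : W ⟶ U) (w : W ⟶ Z') (h : U ⟶ Z) (b : (yon S).obj W ⟶ P),
      IsPullback ((yon S).map r) b a p₁ ∧ (yon S).map h = a ≫ q ∧ IsPullback r.left w.left h.left c.left ∧
        b ≫ p₂ = (yon S).map w := by
  obtain ⟨h, hh⟩ := (yon S).map_surjective (a ≫ q)
  have e : ((yon S).map (pullback.fst h c) ≫ a) ≫ q = (yon S).map (pullback.snd h c) ≫ (yon S).map c := by
    rw [Category.assoc, ← hh, ← Functor.map_comp, pullback.condition, Functor.map_comp]
  let β := sq.lift ((yon S).map (pullback.fst h c) ≫ a) ((yon S).map (pullback.snd h c)) e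
  have hsqW : IsPullback ((yon S).map (pullback.fst h c)) β a p₁ := by
    refine IsPullback.of_bot ?_ (sq.lift_fst _ _ e).symm sq
    rw [sq.lift_snd, ← hh]
    exact (IsPullback.of_hasPullback h c).map (yon S)
  exact ⟨pullback h c, pullback.fst h c, pullback.snd h c, h, β, hsqW, hh,
    (IsPullback.of_hasPullback h c).map (Over.forget S), sq.lift_snd _ _ e⟩

theorem isLocNoethSp_baseChange_lft {P Q : Sp S} (hQN : IsLocNoethSp Q) {Z Z' : Over S}
    {c : Z' ⟶ Z} [LocallyOfFiniteType c.left] {q : Q ⟶ (yon S).obj Z}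
    {p₁ : P ⟶ Q} {p₂ : P ⟶ (yon S).obj Z'} (sq : IsPullback p₁ p₂ q ((yon S).map c)) : IsLocNoethSp P := by
  obtain ⟨U, a, ha, has, hU⟩ := hQN
  have : IsLocallyNoetherian U.left := hU
  obtain ⟨W, r, w, h, b, hb, -, sqW, -⟩ := exists_baseChange_chart sq a
  have : LocallyOfFiniteType r.left := MorphismProperty.of_isPullback sqW.flip ‹LocallyOfFiniteType c.left›
  exact ⟨W, b, repWith_of_isPullback hb ha, repWith_of_isPullback hb has,
    LocallyOfFiniteType.isLocallyNoetherian r.left⟩

theorem isLocNoethSp_descends {P Q : Sp S} (hP : IsAlgSpace P) (hQ : IsAlgSpace Q) (hPN : IsLocNoethSp P)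
    {Z Z' : Over S} {c : Z' ⟶ Z} [Flat c.left] [Surjective c.left] [QuasiCompact c.left]
    {q : Q ⟶ (yon S).obj Z} {p₁ : P ⟶ Q} {p₂ : P ⟶ (yon S).obj Z'}
    (sq : IsPullback p₁ p₂ q ((yon S).map c)) : IsLocNoethSp Q := by
  obtain ⟨U, a, ha, has⟩ := hQ.atlas
  obtain ⟨W, r, w, h, b, hb, -, sqW, -⟩ := exists_baseChange_chart sq a
  have : IsLocallyNoetherian W.left := etaleLocally_chart
    (fun g hg hB => @isLocallyNoetherian_of_etale _ _ g hg hB)
    (fun g hg hs hA => @isLocallyNoetherian_of_flat_lfp_surjective _ _ g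
      inferInstance inferInstance hs hA) hP hPN (repWith_of_isPullback hb ha)
  have : Flat r.left := MorphismProperty.of_isPullback sqW.flip ‹Flat c.left›
  have : Surjective r.left := MorphismProperty.of_isPullback sqW.flip ‹Surjective c.left›
  have : QuasiCompact r.left := MorphismProperty.of_isPullback sqW.flip ‹QuasiCompact c.left›
  exact ⟨U, a, ha, has, Groth.Agent.H06Desc.isLocallyNoetherian_of_flat_surjective_quasiCompact r.left⟩

theorem faithfullyFlat_to_fieldPt {F G : Sp S} (p : FieldPt F) (p' : FieldPt G) (c : p'.pt ⟶ p.pt) :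
    Flat c.left ∧ Surjective c.left ∧ QuasiCompact c.left := by
  obtain ⟨φ, hφ⟩ := Spec.map_surjective
    (show Spec (CommRingCat.of p'.K) ⟶ Spec (CommRingCat.of p.K) from c.left)
  refine ⟨?_, ⟨fun z => ⟨(default : Spec (CommRingCat.of p'.K)),
    @Subsingleton.elim _ (subsingleton_fieldPt p) _ _⟩⟩, ?_⟩
  · change Flat (show Spec (CommRingCat.of p'.K) ⟶ Spec (CommRingCat.of p.K) from c.left)
    rw [← hφ, HasRingHomProperty.Spec_iff (P := @Flat)]
    algebraize [φ.hom]
    exact inferInstanceAs (Module.Flat p.K p'.K)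
  · change QuasiCompact (show Spec (CommRingCat.of p'.K) ⟶ Spec (CommRingCat.of p.K) from c.left)
    infer_instance

theorem discreteTopology_of_lft_chart {P : Sp S} (hP : IsAlgSpace P) {Z : Over S} [IsLocallyNoetherian Z.left]
    [JacobsonSpace Z.left] {p : P ⟶ (yon S).obj Z} (hp : LocP @LocallyOfFiniteType p)
    [DiscreteTopology (Points P)] {U : Over S} {a : (yon S).obj U ⟶ P} (ha : RepWith @Etale a) :
    DiscreteTopology U.left := by
  rcases isEmpty_or_nonempty U.left with hU | ⟨⟨u⟩⟩
  · infer_instance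
  have : Nonempty (Points P) := ⟨Points.ofPt a u⟩
  obtain ⟨_, _⟩ := chart_lft hp ha
  have : IsLocallyArtinian U.left := .of_topologicalKrullDim_le_zero
    (((discreteTopology_points_iff hP hp).1 inferInstance) ▸ le_iSup_of_le U (le_iSup₂_of_le a ha le_rfl))
  infer_instance

theorem discreteTopology_fibre_of_lqf {X Y : Sp S} (hX : IsAlgSpace X) (hY : IsAlgSpace Y) {f : X ⟶ Y}
    (hf : LocP (@LocallyQuasiFinite ⊓ @LocallyOfFiniteType) f) (k : FieldPt Y) {Xk : Sp S} {fst : Xk ⟶ X}
    {snd : Xk ⟶ (yon S).obj k.pt} (sq : IsPullback fst snd f k.toHom) : DiscreteTopology (Points Xk) := by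
  have hXk := isAlgSpace_of_isPullback hY.diag hX (IsAlgSpace.yon_obj k.pt) sq
  have hs := Groth.Agent.H12AlgSp.locP_of_isPullback (etLocal_inf etLocal_lqf etLocal_lft) sq hX hY
    (IsAlgSpace.yon_obj k.pt) hf
  obtain ⟨U, a, ha, has⟩ := hXk.atlas
  obtain ⟨h, hh⟩ := (yon S).map_surjective (a ≫ snd)
  obtain ⟨hq, hl⟩ := hs a (𝟙 _) h ha (repWith_id _ _) (by rw [Category.comp_id, hh])
  have hsub := subsingleton_fieldPt k
  have : DiscreteTopology U.left := by
    rcases isEmpty_or_nonempty U.left with hU | ⟨⟨u⟩⟩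
    · infer_instance
    have hd := h.left.isDiscrete_preimage_singleton (h.left u)
    have huniv : h.left ⁻¹' {h.left u} = Set.univ := Set.eq_univ_of_forall fun v =>
      @Subsingleton.elim _ hsub _ _
    rw [huniv] at hd
    exact isDiscrete_univ_iff.1 hd
  refine discreteTopology_iff_isOpen_singleton.2 fun x => ?_
  obtain ⟨u, rfl⟩ := surjective_ofPt_of_repWith le_rfl has x
  have := isOpenMap_ofPt_of_repWith etale_le_universallyOpen ha _ (isOpen_discrete {u})
  rwa [Set.image_singleton] at this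

theorem locP_lqf_of_discrete_fibres {X Y : Sp S} (hX : IsAlgSpace X) (hY : IsAlgSpace Y) {f : X ⟶ Y}
    (hf : LocP @LocallyOfFiniteType f)
    (h : ∀ (k : FieldPt Y) (Xk : Sp S) (fst : Xk ⟶ X) (snd : Xk ⟶ (yon S).obj k.pt),
      IsPullback fst snd f k.toHom → DiscreteTopology (Points Xk)) :
    LocP (@LocallyQuasiFinite ⊓ @LocallyOfFiniteType) f := by
  intro U V a b g ha hb w
  have hg : LocallyOfFiniteType g.left := hf a b g ha hb w
  refine ⟨locallyQuasiFinite_iff_isDiscrete_preimage_singleton.2 fun v => ?_, hg⟩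
  let k := FieldPt.ofPt b v
  have sqk := IsPullback.of_hasPullback f k.toHom
  have := h k _ _ _ sqk
  have hXk := isAlgSpace_pullback hY.diag hX (IsAlgSpace.yon_obj k.pt) f k.toHom
  have hs : LocP @LocallyOfFiniteType (pullback.snd f k.toHom) :=
    Groth.Agent.H12AlgSp.locP_of_isPullback etLocal_lft sqk hX hY (IsAlgSpace.yon_obj k.pt) hf
  have sqW := IsPullback.of_hasPullback a (pullback.fst f k.toHom)
  have hPW := isAlgSpace_pullback hX.diag (IsAlgSpace.yon_obj U) hXk a (pullback.fst f k.toHom)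
  obtain ⟨T, d, hd, hds⟩ := hPW.atlas
  have : DiscreteTopology T.left :=
    discreteTopology_of_lft_chart hXk hs (repWith_comp hd (repWith_of_isPullback sqW ha))
  have : DiscreteTopology (Points (pullback a (pullback.fst f k.toHom))) :=
    discreteTopology_iff_isOpen_singleton.2 fun x => by
      obtain ⟨t, rfl⟩ := surjective_ofPt_of_repWith le_rfl hds x
      have := isOpenMap_ofPt_of_repWith etale_le_universallyOpen hd _ (isOpen_discrete {t})
      rwa [Set.image_singleton] at this
  let i : k.pt ⟶ V := Over.homMk (V.left.fromSpecResidueField v) rfl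
  have hik : k.toHom = (yon S).map i ≫ b := FieldPt.toHom_ofPt b v
  have e₁ : ((yon S).map (pullback.fst g i) ≫ a) ≫ f = (yon S).map (pullback.snd g i) ≫ k.toHom := by
    rw [hik, Category.assoc, w, ← Functor.map_comp_assoc, pullback.condition, Functor.map_comp, Category.assoc]
  obtain ⟨ρ, hρ₁, hρ₂⟩ := sqW.exists_lift ((yon S).map (pullback.fst g i))
    (sqk.lift _ _ e₁) (sqk.lift_fst _ _ e₁).symm
  have sq' := (IsPullback.of_hasPullback g i).map (Over.forget S)
  have : IsPreimmersion (pullback.fst g i).left :=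
    MorphismProperty.of_isPullback (P := @IsPreimmersion) sq'.flip
      (inferInstanceAs (IsPreimmersion (V.left.fromSpecResidueField v)))
  have : DiscreteTopology (pullback g i).left := by
    refine DiscreteTopology.of_continuous_injective (Points.continuous_ofPt ρ) fun z z' he => ?_
    apply (pullback.fst g i).left.isEmbedding.injective
    apply (Points.schemeEquiv U).injective
    have := congrArg (Points.map (pullback.fst a (pullback.fst f k.toHom))) he
    rw [Points.map_ofPt, Points.map_ofPt, hρ₁, ← Category.comp_id ((yon S).map _), ofPt_map, ofPt_map] at this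
    exact this
  have hrange : Set.range (pullback.fst g i).left = g.left ⁻¹' {v} := by
    refine Set.Subset.antisymm ?_ fun w hw => ?_
    · rintro _ ⟨z, rfl⟩
      exact (congrArg (fun q : pullback g i ⟶ V => q.left z) pullback.condition).trans
        (Scheme.fromSpecResidueField_apply v _)
    · have hw' : w ∈ Set.range (pullback.fst g.left i.left) := by
        rw [Scheme.Pullback.range_fst]
        exact ⟨(default : Spec (V.left.residueField v)), (Scheme.fromSpecResidueField_apply v _).trans hw.symm⟩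
      obtain ⟨z, rfl⟩ := hw'
      exact ⟨sq'.isoPullback.inv z,
        (Scheme.Hom.comp_apply _ _ z).symm.trans (congrArg (fun q : pullback g.left i.left ⟶ U.left => q z)
          sq'.isoPullback_inv_fst)⟩
  rw [← hrange]
  exact (pullback.fst g i).left.isEmbedding.isInducing.isDiscrete_range

end Groth.Agent.H13AlgSp
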