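import Groth.Agent.H13AlgSp.GeomRedEtale
import Groth.Agent.H13AlgSp.FibreSpaces
import Groth.Agent.H12AlgSp.DecentLocal
import Groth.Agent.S1545
import Groth.Agent.S2521

/-!
Field extensions of algebraic spaces over a field and geometric reducedness.
-/

universe u

open CategoryTheory CategoryTheory.Limits AlgebraicGeometry Opposite Topology
open AlgSp Groth.Agent.H12AlgSp

namespace Groth.Agent.H13AlgSp

variable {k : Type u} [Field k]

/-- The spectrum of an extension field as an object over the base field. -/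
noncomputable abbrev extObj (k K : Type u) [Field k] [Field K] [Algebra k K] : Over (Spec (CommRingCat.of k)) :=
  Over.mk (Spec.map (CommRingCat.ofHom (algebraMap k K)))

variable (X : Sp (Spec (CommRingCat.of k))) (K : Type u) [Field K] [Algebra k K]

/-- The base change of a space over a field to an extension field. -/
noncomputable abbrev bcSp : Sp (Spec (CommRingCat.of k)) := X ⨯ (yon (Spec (CommRingCat.of k))).obj (extObj k K)

theorem exists_bcSp_square :
    ∃ q : X ⟶ (yon (Spec (CommRingCat.of k))).obj (Over.mk (𝟙 _)),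
      IsPullback (prod.fst : bcSp X K ⟶ X) prod.snd q ((yon _).map (Over.mkIdTerminal.from (extObj k K))) := by
  have hterm : IsTerminal ((yon (Spec (CommRingCat.of k))).obj (Over.mk (𝟙 _))) :=
    IsTerminal.isTerminalObj (yon _) _ Over.mkIdTerminal
  refine ⟨hterm.from X, ?_⟩
  rw [hterm.hom_ext ((yon _).map (Over.mkIdTerminal.from (extObj k K))) (hterm.from _)]
  exact IsPullback.of_is_product (prodIsProd _ _) hterm

theorem exists_bc_chart {U : Over (Spec (CommRingCat.of k))} (a : (yon _).obj U ⟶ X) :
    ∃ (W : Over (Spec (CommRingCat.of k))) (r : W ⟶ U) (w : W ⟶ extObj k K) (b : (yon _).obj W ⟶ bcSp X K),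
      IsPullback ((yon _).map r) b a prod.fst ∧ b ≫ prod.snd = (yon _).map w ∧
        IsPullback r.left w.left U.hom (Spec.map (CommRingCat.ofHom (algebraMap k K))) := by
  obtain ⟨q, sq⟩ := exists_bcSp_square X K
  obtain ⟨W, r, w, h, b, hb, -, sqW, hw⟩ := exists_baseChange_chart sq a
  refine ⟨W, r, w, b, hb, hw, ?_⟩
  have e1 : h.left = U.hom := (Category.comp_id h.left).symm.trans (Over.w h)
  have e2 : (Over.mkIdTerminal.from (extObj k K)).left = (Spec.map (CommRingCat.ofHom (algebraMap k K))) :=
    (Category.comp_id _).symm.trans (Over.w (Over.mkIdTerminal.from (extObj k K)))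
  rw [← e1, ← e2]
  exact sqW

theorem representable_prod_fst (hX : IsAlgSpace X) : Representable (prod.fst : bcSp X K ⟶ X) := by
  obtain ⟨q, sq⟩ := exists_bcSp_square X K
  exact representable_of_isPullback sq.flip ((IsAlgSpace.yon_obj _).representable_from_yon _)

theorem isAlgSpace_bcSp (hX : IsAlgSpace X) : IsAlgSpace (bcSp X K) := by
  obtain ⟨q, sq⟩ := exists_bcSp_square X K
  exact isAlgSpace_of_isPullback (IsAlgSpace.yon_obj _).diag hX (IsAlgSpace.yon_obj _) sq

theorem isDecent_bcSp (hX : IsAlgSpace X) (hd : IsDecent X) : IsDecent (bcSp X K) :=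
  isDecent_of_representable_mor (representable_prod_fst X K hX) hd

theorem surjective_map_prod_fst : Function.Surjective (Points.map (prod.fst : bcSp X K ⟶ X)) := by
  intro x
  obtain ⟨p, rfl⟩ := Quotient.exists_rep x
  obtain ⟨q, sq⟩ := exists_bcSp_square X K
  have : Subsingleton (Over.mk (𝟙 (Spec (CommRingCat.of k)))).left :=
    inferInstanceAs (Subsingleton (PrimeSpectrum k))
  have : Subsingleton (Points ((yon (Spec (CommRingCat.of k))).obj (Over.mk (𝟙 _)))) :=
    (Points.schemeEquiv _).symm.subsingleton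
  let z : ↥(extObj k K).left := IsLocalRing.closedPoint K
  obtain ⟨y, hy, -⟩ := exists_point_of_isPullback sq (Points.mk p) (Points.ofScheme (extObj k K) z)
    (Subsingleton.elim _ _)
  exact ⟨y, hy⟩

variable {X K}

theorem isReduced_chart {F : Sp (Spec (CommRingCat.of k))} (hF : IsAlgSpace F)
    (h : EtaleLocally (fun U => IsReduced U) F) {V : Over (Spec (CommRingCat.of k))}
    {b : (yon _).obj V ⟶ F} (hb : RepWith @Etale b) : IsReduced V.left :=
  etaleLocally_chart (Q := fun U => IsReduced U)
    (fun g hg hB => by have := hg; have := hB; exact isReduced_of_smooth_mor g)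
    (fun {A B} g hg hs hA => by
      have := hg; have := hs; have := hA
      have : ∀ y : B, _root_.IsReduced (B.presheaf.stalk y) := fun y => by
        obtain ⟨x, rfl⟩ := g.surjective y
        exact isReduced_stalk_of_flat g x
      exact isReduced_of_isReduced_stalk _)
    hF h hb

theorem isReduced_of_geomReduced {U : Scheme.{u}} (f : U ⟶ Spec (CommRingCat.of k))
    (h : ∀ u, FBase.IsGeomReducedAt f u) : IsReduced (FBase.bc f K) := by
  have : ∀ y : ↥(FBase.bc f K), _root_.IsReduced ((FBase.bc f K).presheaf.stalk y) := fun y => h _ K y rfl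
  exact isReduced_of_isReduced_stalk _

/-- Geometric reducedness of a space at a point. -/
abbrev GeomRedAt (X : Sp (Spec (CommRingCat.of k))) (x : Points X) : Prop :=
  ∃ (U : Over (Spec (CommRingCat.of k))) (a : (yon (Spec (CommRingCat.of k))).obj U ⟶ X) (u : ↥U.left),
    RepWith @Etale a ∧ Points.ofPt a u = x ∧ FBase.IsGeomReducedAt U.hom u

theorem geomRedAt_iff (hX : IsAlgSpace X) {x : Points X} {U : Over (Spec (CommRingCat.of k))}
    {a : (yon _).obj U ⟶ X} (ha : RepWith @Etale a) {u : U.left} (hu : Points.ofPt a u = x) :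
    GeomRedAt X x ↔ FBase.IsGeomReducedAt U.hom u := by
  refine ⟨fun ⟨V, b, v, hb, hv, h⟩ => ?_, fun h => ⟨U, a, u, ha, hu, h⟩⟩
  obtain ⟨W, g, g', w, hg, hg', rfl, rfl⟩ := exists_common_chart hX ha hb (hu.trans hv.symm)
  exact (isGeomReducedAt_iff_of_etale g.left U.hom (Over.w g) w).1
    ((isGeomReducedAt_iff_of_etale g'.left V.hom (Over.w g') w).2 h)

theorem isReduced_bc_iff (hX : IsAlgSpace X) {U : Over (Spec (CommRingCat.of k))} {a : (yon _).obj U ⟶ X}
    (ha : RepWith @Etale a) (hs : RepWith @Surjective a) :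
    EtaleLocally (fun U => IsReduced U) (bcSp X K) ↔ IsReduced (FBase.bc U.hom K) := by
  obtain ⟨W, r, w, b, hb, -, sqW⟩ := exists_bc_chart X K a
  have hbe : RepWith @Etale b := repWith_of_isPullback hb ha
  have hbs : RepWith @Surjective b := repWith_of_isPullback hb hs
  constructor
  · intro h
    have := isReduced_chart (isAlgSpace_bcSp X K hX) h hbe
    exact isReduced_of_isOpenImmersion sqW.isoPullback.inv
  · intro h
    have : IsReduced (pullback U.hom (Spec.map (CommRingCat.ofHom (algebraMap k K)))) := h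
    exact ⟨W, b, hbe, hbs, isReduced_of_isOpenImmersion sqW.isoPullback.hom⟩

/-- A space over a field is geometrically reduced iff all its field extensions are reduced. -/
theorem geomRed_iff_forall_bc (hX : IsAlgSpace X) :
    (∀ x, GeomRedAt X x) ↔
      ∀ (K : Type u) [Field K] [Algebra k K], EtaleLocally (fun U => IsReduced U) (bcSp X K) := by
  obtain ⟨U, a, ha, hs⟩ := hX.atlas
  constructor
  · intro h K _ _
    exact (isReduced_bc_iff hX ha hs).2
      (isReduced_of_geomReduced U.hom fun u => (geomRedAt_iff hX ha rfl).1 (h (Points.ofPt a u)))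
  · intro h x
    obtain ⟨u, hu⟩ := surjective_ofPt_of_repWith le_rfl hs x
    refine (geomRedAt_iff hX ha hu).2 fun K _ _ y _ => ?_
    have : IsReduced (FBase.bc U.hom K) := (isReduced_bc_iff hX ha hs).1 (h K)
    infer_instance

/-- Reducedness over a perfect extension field gives geometric reducedness. -/
theorem geomRed_of_perfect (hX : IsAlgSpace X) [PerfectField K]
    (h : EtaleLocally (fun U => IsReduced U) (bcSp X K)) : ∀ x, GeomRedAt X x := by
  obtain ⟨U, a, ha, hs⟩ := hX.atlas
  intro x
  obtain ⟨u, hu⟩ := surjective_ofPt_of_repWith le_rfl hs x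
  have hred : IsReduced (FBase.bc U.hom K) := (isReduced_bc_iff hX ha hs).1 h
  have : Surjective (Spec.map (CommRingCat.ofHom (algebraMap k K))) :=
    ⟨fun y => ⟨IsLocalRing.closedPoint K, Subsingleton.elim (α := PrimeSpectrum k) _ _⟩⟩
  have : Surjective (FBase.bcπ U.hom K) := MorphismProperty.of_isPullback (P := @Surjective)
    (IsPullback.of_hasPullback U.hom (Spec.map (CommRingCat.ofHom (algebraMap k K)))).flip ‹_›
  obtain ⟨y, hy⟩ := (FBase.bcπ U.hom K).surjective u
  have : IsReduced (FBase.bc U.hom K) := hred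
  exact (geomRedAt_iff hX ha hu).2 (Groth.Agent.S2521.result U.hom u y hy (show _root_.IsReduced ((FBase.bc U.hom K).presheaf.stalk y) from inferInstance))

theorem geomRedAt_bc_iff (hX : IsAlgSpace X) (x' : Points (bcSp X K)) :
    GeomRedAt X (Points.map prod.fst x') ↔
      ∃ (U' : Over (Spec (CommRingCat.of k))) (a' : (yon (Spec (CommRingCat.of k))).obj U' ⟶ bcSp X K)
        (q : U' ⟶ extObj k K) (u' : ↥U'.left),
        RepWith @Etale a' ∧ a' ≫ prod.snd = (yon (Spec (CommRingCat.of k))).map q ∧
          Points.ofPt a' u' = x' ∧ FBase.IsGeomReducedAt q.left u' := by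
  obtain ⟨U, a, ha, hs⟩ := hX.atlas
  obtain ⟨W, r, w, b, hb, hw, sqW⟩ := exists_bc_chart X K a
  have hbe : RepWith @Etale b := repWith_of_isPullback hb ha
  have hbs : RepWith @Surjective b := repWith_of_isPullback hb hs
  obtain ⟨z, hz⟩ := surjective_ofPt_of_repWith le_rfl hbs x'
  have hzu : Points.ofPt a (r.left z) = Points.map prod.fst x' := by
    rw [← hz, Points.map_ofPt, ← hb.w, ofPt_map]
  rw [geomRedAt_iff hX ha hzu]
  have key : FBase.IsGeomReducedAt U.hom (r.left z) ↔ FBase.IsGeomReducedAt w.left z := by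
    let I : U.left.Over (Spec (CommRingCat.of k)) := ⟨U.hom⟩
    have e := @Groth.Agent.S1545.result k _ U.left I K _ _ (r.left z) (sqW.isoPullback.hom z) (by
      change pullback.fst U.hom _ (sqW.isoPullback.hom z) = _
      rw [← Scheme.Hom.comp_apply]
      exact congr($(sqW.isoPullback_hom_fst) z))
    exact e.trans (isGeomReducedAt_iff_of_etale sqW.isoPullback.hom
      (pullback.snd U.hom (Spec.map (CommRingCat.ofHom (algebraMap k K)))) sqW.isoPullback_hom_snd z).symm
  rw [key]
  refine ⟨fun h => ⟨W, b, w, z, hbe, hw, hz, h⟩, fun ⟨U', a', q, u', ha', hq, hu', h⟩ => ?_⟩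
  obtain ⟨T, g, g', t, sq⟩ : ∃ (T : Over (Spec (CommRingCat.of k))) (g : T ⟶ W) (g' : T ⟶ U') (t : T.left),
      IsPullback ((yon _).map g) ((yon _).map g') b a' ∧ g.left t = z ∧ g'.left t = u' := by
    obtain ⟨T, g', gk, sq⟩ := hbe.1 a'
    obtain ⟨g, rfl⟩ := (yon _).map_surjective gk
    obtain ⟨y, hy1, hy2⟩ := exists_point_of_isPullback sq (Points.ofScheme W z) (Points.ofScheme U' u')
      (by rw [← Points.ofPt_eq_map_ofScheme, ← Points.ofPt_eq_map_ofScheme, hz, hu'])
    obtain ⟨t, rfl⟩ := (Points.schemeEquiv T).surjective y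
    refine ⟨T, g, g', t, sq, (Points.schemeEquiv W).injective (Eq.trans ?_ hy1),
      (Points.schemeEquiv U').injective (Eq.trans ?_ hy2)⟩
    all_goals
      change Points.ofScheme _ _ = Points.map _ (Points.ofScheme _ _)
      rw [← Points.ofPt_eq_map_ofScheme, ← Category.comp_id ((yon _).map _), ofPt_map]
  obtain ⟨sq, hgt, hg't⟩ := sq
  have : Etale g'.left := hbe.2 _ _ g' sq
  have : Etale g.left := ha'.2 _ _ g sq.flip
  have hcomp : g ≫ w = g' ≫ q := (yon _).map_injective (by
    rw [Functor.map_comp, Functor.map_comp, ← hw, ← hq, reassoc_of% sq.w])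
  have hcomp' : g'.left ≫ q.left = g.left ≫ w.left := congr($(hcomp.symm).left)
  rw [← hgt]
  refine (isGeomReducedAt_iff_of_etale g.left w.left rfl t).1 ?_
  rw [← hg't] at h
  exact (isGeomReducedAt_iff_of_etale g'.left q.left hcomp' t).2 h

end Groth.Agent.H13AlgSp
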