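import Groth.Agent.H13AlgSp.DecentCriteria
import Groth.Agent.H12AlgSp.DecentField
import Groth.Agent.H17.Fibre

/-!
Points represented by monomorphisms from spectra of fields: residue fields of charts, finiteness of
the relation over the point, points of fibre products.
-/

universe u

open CategoryTheory CategoryTheory.Limits AlgebraicGeometry Opposite MorphismProperty
open AlgSp Groth.Agent.H12AlgSp

namespace Groth.Agent.H13AlgSp

noncomputable section

variable {S : Scheme.{u}}

/-- The spectrum of the residue field of `u` as a scheme over `S`. -/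
abbrev resPt {U : Over S} (u : U.left) : Over S := Over.mk (U.left.fromSpecResidueField u ≫ U.hom)

/-- The inclusion of the residue field. -/
abbrev resMap {U : Over S} (u : U.left) : resPt u ⟶ U := Over.homMk (U.left.fromSpecResidueField u) rfl

theorem mono_resMap_left {U : Over S} (u : U.left) : Mono (resMap u).left :=
  inferInstanceAs (Mono (U.left.fromSpecResidueField u))

theorem isPullback_yon_comp_mono {P A B C : Over S} {fst : P ⟶ A} {snd : P ⟶ B} {f : A ⟶ C} {g : B ⟶ C}
    (sq : IsPullback fst snd f g) {F : Sp S} (r : (yon S).obj C ⟶ F) [Mono r] :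
    IsPullback ((yon S).map fst) ((yon S).map snd) ((yon S).map f ≫ r) ((yon S).map g ≫ r) := by
  have h := sq.map (yon S)
  exact ⟨⟨by rw [reassoc_of% h.w]⟩,
    ⟨PullbackCone.IsLimit.mk _
      (fun s => h.lift s.fst s.snd ((cancel_mono r).mp (by simpa using s.condition)))
      (fun s => h.lift_fst _ _ _) (fun s => h.lift_snd _ _ _)
      fun s m h1 h2 => h.hom_ext (by simp [h1]) (by simp [h2])⟩⟩

theorem exists_resLift {R U : Over S} (s : R ⟶ U) (r : R.left) (u : U.left) (h : s.left r = u) :
    ∃ g : resPt r ⟶ resPt u, g ≫ resMap u = resMap r ≫ s := by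
  subst h
  refine ⟨Over.homMk (Spec.map (s.left.residueFieldMap r)) ?_, Over.OverMorphism.ext
    (s.left.SpecMap_residueFieldMap_fromSpecResidueField r)⟩
  change Spec.map (s.left.residueFieldMap r) ≫ U.left.fromSpecResidueField (s.left r) ≫ U.hom = _
  rw [s.left.SpecMap_residueFieldMap_fromSpecResidueField_assoc r, Over.w s]
  rfl

/-- An etale chart point over a point with a monomorphic representative: the residue field is finite
separable over the field of the representative. -/
theorem exists_residue_factor {X : Sp S} (hX : IsAlgSpace X) (p : FieldPt X) [Mono p.toHom] {U : Over S}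
    {a : (yon S).obj U ⟶ X} (ha : RepWith @Etale a) (u : U.left) (hu : Points.ofPt a u = Points.mk p) :
    ∃ c : resPt u ⟶ p.pt, (yon S).map c ≫ p.toHom = (yon S).map (resMap u) ≫ a ∧
      IsFinite c.left ∧ Etale c.left := by
  obtain ⟨c, hc, -⟩ := exists_factor_of_mk_eq hX p (FieldPt.ofPt a u) ‹_› hu.symm
  change (yon S).map c ≫ p.toHom = _ at hc
  rw [FieldPt.toHom_ofPt] at hc
  refine ⟨c, hc, ?_⟩
  obtain ⟨W, w, fW, sqW⟩ := ha.1 p.toHom
  obtain ⟨f, rfl⟩ := (yon S).map_surjective fW
  have hwe : Etale w.left := ha.2 _ _ _ sqW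
  obtain ⟨l, hl⟩ := (yon S).map_surjective (sqW.lift ((yon S).map (resMap u)) ((yon S).map c) hc.symm)
  have hl1 : l ≫ f = resMap u := (yon S).map_injective (by rw [Functor.map_comp, hl, sqW.lift_fst])
  have hl2 : l ≫ w = c := (yon S).map_injective (by rw [Functor.map_comp, hl, sqW.lift_snd])
  have : Mono l.left := by
    have : Mono (l.left ≫ f.left) := by
      rw [show l.left ≫ f.left = (resMap u).left from congrArg (fun t => Over.Hom.left t) hl1]
      exact mono_resMap_left u
    exact mono_of_mono l.left f.left
  let wK : W.left ⟶ Spec (CommRingCat.of p.K) := w.left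
  have : Etale wK := hwe
  have hopen : IsOpenImmersion l.left := @isOpenImmersion_of_mono_etale_field p.K _ _ _ l.left ‹_› wK ‹_›
  have hce : Etale (l.left ≫ wK) := inferInstance
  have : Finite (resPt u).left := inferInstanceAs (Finite (Spec (U.left.residueField u)))
  have hcf : IsFinite (l.left ≫ wK) := @isFinite_of_finite_etale p.K _ _ (l.left ≫ wK) hce this
  rw [show c.left = l.left ≫ wK from (congrArg (fun t => Over.Hom.left t) hl2).symm]
  exact ⟨hcf, hce⟩

/-- The points of a fibre product over a pair of points come from the fibre product of representatives. -/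
theorem subset_range_of_isPullback {X Y Z W : Sp S} {f : X ⟶ Y} {g : Z ⟶ Y} {p : W ⟶ X} {q : W ⟶ Z}
    (hW : IsPullback p q f g) {A B Q : Over S} [Subsingleton A.left] [Subsingleton B.left]
    (a : (yon S).obj A ⟶ X) (b : (yon S).obj B ⟶ Z) (a₀ : A.left) (b₀ : B.left) {qa : Q ⟶ A} {qb : Q ⟶ B}
    (sqQ : IsPullback ((yon S).map qa) ((yon S).map qb) (a ≫ f) (b ≫ g)) :
    {w : Points W | Points.map p w = Points.ofPt a a₀ ∧ Points.map q w = Points.ofPt b b₀} ⊆
      Set.range (Points.ofPt (hW.lift ((yon S).map qa ≫ a) ((yon S).map qb ≫ b)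
        (by simpa using sqQ.w))) := by
  rintro w ⟨hwa, hwb⟩
  have s1 := IsPullback.of_hasPullback p a
  obtain ⟨y1, hy1, -⟩ := exists_point_of_isPullback s1 w (Points.ofScheme A a₀)
    (hwa.trans (Points.ofPt_eq_map_ofScheme a a₀))
  have s2 := IsPullback.of_hasPullback (pullback.fst p a ≫ q) b
  obtain ⟨y2, hy2, -⟩ := exists_point_of_isPullback s2 y1 (Points.ofScheme B b₀)
    (by rw [Points.map_comp, hy1, hwb, Points.ofPt_eq_map_ofScheme b b₀])
  let m := sqQ.lift (pullback.fst (pullback.fst p a ≫ q) b ≫ pullback.snd p a)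
    (pullback.snd (pullback.fst p a ≫ q) b) (by
      rw [Category.assoc, ← pullback.condition_assoc, hW.w, ← pullback.condition_assoc]
      simp only [Category.assoc])
  have hm : m ≫ hW.lift ((yon S).map qa ≫ a) ((yon S).map qb ≫ b) (by simpa using sqQ.w) =
      pullback.fst (pullback.fst p a ≫ q) b ≫ pullback.fst p a := by
    apply hW.hom_ext
    · rw [Category.assoc, hW.lift_fst, sqQ.lift_fst_assoc, Category.assoc, Category.assoc, pullback.condition]
    · rw [Category.assoc, hW.lift_snd, sqQ.lift_snd_assoc, Category.assoc, ← pullback.condition]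
  obtain ⟨z, hz⟩ := (Points.schemeEquiv Q).surjective (Points.map m y2)
  refine ⟨z, ?_⟩
  rw [Points.ofPt_eq_map_ofScheme]
  change Points.map _ (Points.schemeEquiv Q z) = w
  rw [hz, ← Points.map_comp, hm, Points.map_comp, hy2, hy1]

/-- Finiteness of points of a fibre product over a pair of points, in terms of representatives. -/
theorem finite_of_finite_representatives {X Y Z W : Sp S} {f : X ⟶ Y} {g : Z ⟶ Y} {p : W ⟶ X} {q : W ⟶ Z}
    (hW : IsPullback p q f g) {A B Q : Over S} [Subsingleton A.left] [Subsingleton B.left]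
    (a : (yon S).obj A ⟶ X) (b : (yon S).obj B ⟶ Z) (a₀ : A.left) (b₀ : B.left) {qa : Q ⟶ A} {qb : Q ⟶ B}
    (sqQ : IsPullback ((yon S).map qa) ((yon S).map qb) (a ≫ f) (b ≫ g)) [Finite Q.left] :
    {w : Points W | Points.map p w = Points.ofPt a a₀ ∧ Points.map q w = Points.ofPt b b₀}.Finite :=
  (Set.finite_range _).subset (subset_range_of_isPullback hW a b a₀ b₀ sqQ)

/-- Base changes of finite morphisms between spectra of fields have finitely many points. -/
theorem finite_pullback_of_isFinite {A B C : Over S} (f : A ⟶ C) (g : B ⟶ C) [IsFinite g.left]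
    [Subsingleton A.left] : Finite (pullback f g).left := by
  have sq := (IsPullback.of_hasPullback f g).map (Over.forget S)
  have : IsFinite (pullback.fst f g).left := MorphismProperty.of_isPullback (P := @IsFinite) sq.flip ‹_›
  rcases isEmpty_or_nonempty A.left with h | ⟨⟨a⟩⟩
  · have := Function.isEmpty (pullback.fst f g).left
    infer_instance
  refine Finite.of_finite_univ (((pullback.fst f g).left.finite_preimage_singleton a).subset ?_)
  exact fun x _ => Subsingleton.elim _ _

set_option maxHeartbeats 1000000 in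
/-- If the relation over a pair of points of a chart is finite, the point has a monomorphic representative. -/
theorem exists_mono_of_finite_rel {X : Sp S} (hX : IsAlgSpace X) {U : Over S}
    (φ : (yon S).obj U ⟶ X) (hφ : RepWith @Etale φ) (u u' : U.left)
    (he : Points.ofPt φ u = Points.ofPt φ u')
    (hfin : ∀ (R : Over S) (s t : R ⟶ U), IsPullback ((yon S).map t) ((yon S).map s) φ φ →
          {r : ↥R.left | s.left r = u ∧ t.left r = u'}.Finite) :
    ∃ p : FieldPt X, Points.mk p = Points.ofPt φ u ∧ Mono p.toHom := by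
  let κ := U.left.residueField u
  let κ' := U.left.residueField u'
  let q : (yon S).obj (resPt u) ⟶ X := (yon S).map (resMap u) ≫ φ
  let q' : (yon S).obj (resPt u') ⟶ X := (yon S).map (resMap u') ≫ φ
  obtain ⟨R, s, t', sqR⟩ := hφ.1 φ
  obtain ⟨t, rfl⟩ := (yon S).map_surjective t'
  -- `W'` = the fibre of the relation over `u'`
  obtain ⟨W', w', f', sqW'⟩ := hφ.1 q'
  obtain ⟨f', rfl⟩ := (yon S).map_surjective f'
  have hwe' : Etale w'.left := hφ.2 _ _ _ sqW'
  have sqP' := IsPullback.of_hasPullback f' (resMap u)
  have bigP' : IsPullback ((yon S).map (pullback.fst f' (resMap u) ≫ w'))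
      ((yon S).map (pullback.snd f' (resMap u))) q' q := by
    rw [Functor.map_comp]
    exact (sqP'.map (yon S)).paste_horiz sqW'.flip
  -- its map to `R` is injective
  obtain ⟨m, hm⟩ := (yon S).map_surjective (sqR.lift ((yon S).map ((pullback.fst f' (resMap u) ≫ w') ≫ resMap u'))
    ((yon S).map (pullback.snd f' (resMap u) ≫ resMap u))
    (by rw [Functor.map_comp _ _ (resMap u'), Functor.map_comp _ _ (resMap u), Category.assoc, Category.assoc]
        exact bigP'.w))
  have hmt : m ≫ t = (pullback.fst f' (resMap u) ≫ w') ≫ resMap u' :=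
    (yon S).map_injective (by rw [Functor.map_comp, hm, sqR.lift_fst])
  have hms : m ≫ s = pullback.snd f' (resMap u) ≫ resMap u :=
    (yon S).map_injective (by rw [Functor.map_comp, hm, sqR.lift_snd])
  have : Mono m := by
    refine ⟨fun {T} g₁ g₂ e => (yon S).map_injective (bigP'.hom_ext ?_ ?_)⟩
    · have : Mono (resMap u') := (Over.forget S).mono_of_mono_map (mono_resMap_left u')
      rw [← Functor.map_comp, ← Functor.map_comp, (cancel_mono (resMap u')).1
        (show (g₁ ≫ pullback.fst f' (resMap u) ≫ w') ≫ resMap u' = (g₂ ≫ pullback.fst f' (resMap u) ≫ w') ≫ resMap u' by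
          simp only [Category.assoc] at hmt ⊢; rw [← hmt, reassoc_of% e])]
    · have : Mono (resMap u) := (Over.forget S).mono_of_mono_map (mono_resMap_left u)
      rw [← Functor.map_comp, ← Functor.map_comp, (cancel_mono (resMap u)).1
        (show (g₁ ≫ pullback.snd f' (resMap u)) ≫ resMap u = (g₂ ≫ pullback.snd f' (resMap u)) ≫ resMap u by
          simp only [Category.assoc] at hms ⊢; rw [← hms, reassoc_of% e])]
  have hinj : Function.Injective m.left := by
    have : Mono m.left := Over.mono_left_of_mono m
    exact m.left.injective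
  have hsub : ∀ z, s.left (m.left z) = u ∧ t.left (m.left z) = u' := fun z => by
    constructor
    · rw [← Scheme.Hom.comp_apply, ← Over.comp_left, hms, Over.comp_left, Scheme.Hom.comp_apply]
      exact Scheme.fromSpecResidueField_apply u _
    · rw [← Scheme.Hom.comp_apply, ← Over.comp_left, hmt, Over.comp_left, Scheme.Hom.comp_apply]
      exact Scheme.fromSpecResidueField_apply u' _
  have hP'fin : Finite (pullback f' (resMap u)).left := by
    have := hfin R s t sqR
    refine Finite.of_finite_univ (Set.Finite.of_finite_image (f := m.left) (this.subset ?_) hinj.injOn)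
    rintro _ ⟨z, -, rfl⟩
    exact hsub z
  have : Mono (pullback.fst f' (resMap u)).left := MorphismProperty.of_isPullback
    (P := monomorphisms Scheme.{u}) (sqP'.map (Over.forget S)).flip (mono_resMap_left u)
  let wK' : W'.left ⟶ Spec (CommRingCat.of κ') := w'.left
  have : IsOpenImmersion (pullback.fst f' (resMap u)).left :=
    @isOpenImmersion_of_mono_etale_field κ' _ _ _ (pullback.fst f' (resMap u)).left ‹_› wK' hwe'
  have : Etale wK' := hwe'
  have hfe : Etale ((pullback.fst f' (resMap u)).left ≫ wK') := inferInstance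
  have hff : IsFinite ((pullback.fst f' (resMap u)).left ≫ wK') :=
    @isFinite_of_finite_etale κ' _ _ _ hfe hP'fin
  have : IsFinite (pullback.fst f' (resMap u) ≫ w').left := hff
  -- a common extension
  obtain ⟨r₀, hr₀⟩ : ∃ r₀ : R.left, s.left r₀ = u ∧ t.left r₀ = u' := by
    obtain ⟨z, hz1, hz2⟩ := exists_point_of_isPullback sqR (Points.ofScheme U u') (Points.ofScheme U u)
      (by rw [← Points.ofPt_eq_map_ofScheme, ← Points.ofPt_eq_map_ofScheme, he])
    obtain ⟨z, rfl⟩ := (Points.schemeEquiv R).surjective z
    refine ⟨z, (Points.schemeEquiv U).injective (Eq.trans ?_ hz2), (Points.schemeEquiv U).injective (Eq.trans ?_ hz1)⟩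
    all_goals
      change Points.ofScheme _ _ = Points.map _ (Points.ofScheme _ _)
      rw [← Points.ofPt_eq_map_ofScheme, ← Category.comp_id ((yon S).map _), ofPt_map]
  obtain ⟨g, hg⟩ := exists_resLift s r₀ u hr₀.1
  obtain ⟨g', hg'⟩ := exists_resLift t r₀ u' hr₀.2
  have hgq : (yon S).map g ≫ q = (yon S).map g' ≫ q' := by
    simp only [q, q']
    rw [← Functor.map_comp_assoc, ← Functor.map_comp_assoc, hg, hg', Functor.map_comp, Functor.map_comp,
      Category.assoc, Category.assoc, ← sqR.w]
  let e' := pullback.fst f' (resMap u) ≫ w'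
  have : Subsingleton (resPt r₀).left := inferInstanceAs (Subsingleton (Spec (R.left.residueField r₀)))
  have hQ : Finite (pullback g' e').left := finite_pullback_of_isFinite g' e'
  have bigQ := ((IsPullback.of_hasPullback g' e').map (yon S)).paste_vert bigP'
  -- the self product of `q`
  obtain ⟨W, w, f, sqW⟩ := hφ.1 q
  obtain ⟨f, rfl⟩ := (yon S).map_surjective f
  have hwe : Etale w.left := hφ.2 _ _ _ sqW
  have sqP := IsPullback.of_hasPullback f (resMap u)
  let e₂ := pullback.fst f (resMap u) ≫ w
  have bigP : IsPullback ((yon S).map e₂) ((yon S).map (pullback.snd f (resMap u))) q q := by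
    rw [Functor.map_comp]
    exact (sqP.map (yon S)).paste_horiz sqW.flip
  have bigB := ((IsPullback.of_hasPullback g e₂).map (yon S)).paste_vert bigP
  rw [← hgq] at bigQ
  let ι₀ : pullback g' e' ≅ pullback g e₂ := (yon S).preimageIso (bigQ.isoIsPullback _ _ bigB)
  have : Finite (pullback g e₂).left :=
    @Finite.of_equiv _ _ hQ ((Over.forget S).mapIso ι₀).hom.homeomorph.toEquiv
  have : Surjective g.left := ⟨fun y => ⟨IsLocalRing.closedPoint _,
    @Subsingleton.elim (Spec (U.left.residueField u)) inferInstance _ y⟩⟩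
  have : Surjective (pullback.snd g e₂).left :=
    MorphismProperty.of_isPullback (P := @Surjective) ((IsPullback.of_hasPullback g e₂).map (Over.forget S)) ‹_›
  have hPfin : Finite (pullback f (resMap u)).left :=
    Finite.of_surjective _ (pullback.snd g e₂).left.surjective
  have : Mono (pullback.fst f (resMap u)).left := MorphismProperty.of_isPullback
    (P := monomorphisms Scheme.{u}) (sqP.map (Over.forget S)).flip (mono_resMap_left u)
  let wK : W.left ⟶ Spec (CommRingCat.of κ) := w.left
  have : IsOpenImmersion (pullback.fst f (resMap u)).left :=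
    @isOpenImmersion_of_mono_etale_field κ _ _ _ (pullback.fst f (resMap u)).left ‹_› wK hwe
  have : Etale wK := hwe
  have h1 : Etale ((pullback.fst f (resMap u)).left ≫ wK) := inferInstance
  have h2 : IsFinite ((pullback.fst f (resMap u)).left ≫ wK) :=
    @isFinite_of_finite_etale κ _ _ _ h1 hPfin
  have hfin₂ : IsFinite e₂.left := h2
  have het₂ : Etale e₂.left := h1
  obtain ⟨k, _, str', c, m', -, hmq, hmm⟩ :=
    @exists_mono_of_finite_etale_self S X hX _ _ _ q _ (pullback.snd f (resMap u)) e₂ bigP.flip hfin₂ het₂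
  refine ⟨fieldPtOfHom m', ?_, by rw [toHom_fieldPtOfHom]; exact hmm⟩
  have h3 : Points.ofPt q (IsLocalRing.closedPoint κ) = Points.ofPt φ u := by
    rw [ofPt_map]; exact congrArg (Points.ofPt φ) (Scheme.fromSpecResidueField_apply _ _)
  rw [← h3, ← hmq]
  refine Eq.trans ?_ (ofPt_map c m' _).symm
  have h4 := Points.ofPt_toHom (fieldPtOfHom m') (c.left (IsLocalRing.closedPoint κ))
  rw [toHom_fieldPtOfHom] at h4
  exact h4.symm

end

end Groth.Agent.H13AlgSp
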