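import Groth.Agent.H13AlgSp.FibreChart
import Groth.Agent.H13AlgSp.GeomRedBC
import Groth.Agent.H06GeomRed.Open
import Groth.Agent.H13AlgSp.MonoPoint

/-!
Geometrically reduced fibres of morphisms of algebraic spaces in charts.
-/

set_option backward.isDefEq.respectTransparency false

universe u

open CategoryTheory CategoryTheory.Limits AlgebraicGeometry Topology Opposite
open AlgSp Groth.Agent.H12AlgSp Groth.Agent.H13AlgSp

namespace Groth.Agent.H13AlgSp.FibreRed

variable {S : Scheme.{u}} {X Y : Sp S}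

theorem isReduced_of_flat_surjective {A B : Scheme.{u}} (g : A ⟶ B) [Flat g] [Surjective g] [IsReduced A] :
    IsReduced B := by
  have : ∀ y : B, _root_.IsReduced (B.presheaf.stalk y) := fun y => by
    obtain ⟨x, rfl⟩ := g.surjective y
    exact isReduced_stalk_of_flat g x
  exact isReduced_of_isReduced_stalk _

theorem isReduced_chart {F : Sp S} (hF : IsAlgSpace F)
    (h : EtaleLocally (fun U => IsReduced U) F) {V : Over S} {b : (yon S).obj V ⟶ F}
    (hb : RepWith @Etale b) : IsReduced V.left :=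
  etaleLocally_chart (Q := fun U => IsReduced U)
    (fun g hg hB => by have := hg; have := hB; exact isReduced_of_smooth_mor g)
    (fun g hg hs hA => by
      have := hg; have := hs; have := hA
      exact isReduced_of_flat_surjective g)
    hF h hb

/-- The base changes of `f` along `g` are reduced. -/
def RedAlong (f : X ⟶ Y) {Z : Over S} (g : (yon S).obj Z ⟶ Y) : Prop :=
  ∀ (Q : Sp S) (q₁ : Q ⟶ X) (q₂ : Q ⟶ (yon S).obj Z), IsPullback q₁ q₂ f g →
    EtaleLocally (fun U => IsReduced U) Q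

/-- A chart of the target together with an atlas of the base change along it. -/
theorem exists_chart_over (hX : IsAlgSpace X) (hY : IsAlgSpace Y) (f : X ⟶ Y) {T : Over S}
    {b : (yon S).obj T ⟶ Y} (hb : RepWith @Etale b) :
    ∃ (U : Over S) (l : (yon S).obj U ⟶ pullback f b) (h : U ⟶ T), RepWith @Etale l ∧ RepWith @Surjective l ∧
      l ≫ pullback.snd f b = (yon S).map h ∧ RepWith @Etale (l ≫ pullback.fst f b) ∧
      (l ≫ pullback.fst f b) ≫ f = (yon S).map h ≫ b := by
  obtain ⟨U, p, hp, hps⟩ := (isAlgSpace_pullback hY.diag hX (IsAlgSpace.yon_obj T) f b).atlas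
  obtain ⟨h, hh⟩ := (yon S).map_surjective (p ≫ pullback.snd f b)
  exact ⟨U, p, h, hp, hps, hh.symm,
    repWith_comp hp (repWith_of_isPullback (IsPullback.of_hasPullback f b).flip hb),
    by simp [hh, pullback.condition]⟩

theorem redAlong_of_chart (hX : IsAlgSpace X) (hY : IsAlgSpace Y) {f : X ⟶ Y} {U T : Over S}
    {b : (yon S).obj T ⟶ Y} (hb : RepWith @Etale b) {h : U ⟶ T} {l : (yon S).obj U ⟶ pullback f b}
    (hl : RepWith @Etale (l ≫ pullback.fst f b)) (hls : RepWith @Surjective l)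
    (hh : l ≫ pullback.snd f b = (yon S).map h) {Z : Over S} (i : Z ⟶ T)
    (hr : IsReduced (pullback h.left i.left)) : RedAlong f ((yon S).map i ≫ b) := by
  intro Q q₁ q₂ hQ
  have w : (l ≫ pullback.fst f b) ≫ f = (yon S).map h ≫ b := by
    rw [← hh, Category.assoc, Category.assoc, pullback.condition]
  obtain ⟨F, p, q, c, hc, sqF, -, -, hs⟩ := exists_fibre_chart hX hY hl hb w i hQ
  exact ⟨F, c, hc, hs (IsPullback.of_hasPullback f b) l rfl hh hls, isReduced_of_isOpenImmersion sqF.isoPullback.hom⟩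

theorem isReduced_of_redAlong (hX : IsAlgSpace X) (hY : IsAlgSpace Y) {f : X ⟶ Y} {U T : Over S}
    {a : (yon S).obj U ⟶ X} {b : (yon S).obj T ⟶ Y} {h : U ⟶ T} (ha : RepWith @Etale a) (hb : RepWith @Etale b)
    (w : a ≫ f = (yon S).map h ≫ b) {Z : Over S} (i : Z ⟶ T) (hr : RedAlong f ((yon S).map i ≫ b)) :
    IsReduced (pullback h.left i.left) := by
  obtain ⟨F, p, q, c, hc, sqF, -, -, -⟩ := exists_fibre_chart hX hY ha hb w i
    (IsPullback.of_hasPullback f ((yon S).map i ≫ b))
  have := isReduced_chart (isAlgSpace_pullback hY.diag hX (IsAlgSpace.yon_obj _) _ _)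
    (hr _ _ _ (IsPullback.of_hasPullback f ((yon S).map i ≫ b))) hc
  exact isReduced_of_isOpenImmersion sqF.isoPullback.inv

theorem redAlong_descend (hX : IsAlgSpace X) (hY : IsAlgSpace Y) {f : X ⟶ Y} {Z Z' : Over S} (c : Z' ⟶ Z)
    [Flat c.left] [Surjective c.left] {g : (yon S).obj Z ⟶ Y} (hr : RedAlong f ((yon S).map c ≫ g)) :
    RedAlong f g := by
  intro Q q₁ q₂ hQ
  have sqE := IsPullback.of_hasPullback f ((yon S).map c ≫ g)
  have sq : IsPullback (hQ.lift (pullback.fst f _) (pullback.snd f _ ≫ (yon S).map c)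
      (by rw [Category.assoc]; exact sqE.w)) (pullback.snd f ((yon S).map c ≫ g)) q₂ ((yon S).map c) := by
    refine IsPullback.of_right ?_ (hQ.lift_snd _ _ _) hQ
    rw [hQ.lift_fst]
    exact sqE
  obtain ⟨U, p, hp, hps⟩ := (isAlgSpace_of_isPullback hY.diag hX (IsAlgSpace.yon_obj Z) hQ).atlas
  obtain ⟨W, r, w, h, b, hb, -, sqW, -⟩ := exists_baseChange_chart sq p
  have := isReduced_chart (isAlgSpace_pullback hY.diag hX (IsAlgSpace.yon_obj _) _ _)
    (hr _ _ _ sqE) (repWith_of_isPullback hb hp)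
  have : Flat r.left := MorphismProperty.of_isPullback sqW.flip ‹Flat c.left›
  have : Surjective r.left := MorphismProperty.of_isPullback sqW.flip ‹Surjective c.left›
  exact ⟨U, p, hp, hps, isReduced_of_flat_surjective r.left⟩

/-- The fibre over a field point is geometrically reduced. -/
abbrev GeomRedPt (f : X ⟶ Y) (k : FieldPt Y) : Prop :=
  ∀ (k' : Type u) [Field k'] (φ : k.K →+* k'),
    RedAlong f ((yon S).map (Over.homMk (Spec.map (CommRingCat.ofHom φ)) rfl :
            Over.mk (Spec.map (CommRingCat.ofHom φ) ≫ k.str) ⟶ k.pt) ≫ k.toHom)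

theorem redAlong_of_geomReduced (hX : IsAlgSpace X) (hY : IsAlgSpace Y) {f : X ⟶ Y} {U T : Over S}
    {b : (yon S).obj T ⟶ Y} (hb : RepWith @Etale b) {h : U ⟶ T} {l : (yon S).obj U ⟶ pullback f b}
    (hl : RepWith @Etale (l ≫ pullback.fst f b)) (hls : RepWith @Surjective l)
    (hh : l ≫ pullback.snd f b = (yon S).map h) (t : T.left)
    (hG : GeometricallyReduced (h.left.fiberToSpecResidueField t)) (p : FieldPt Y)
    (hp : Points.mk p = Points.ofPt b t) : RedAlong f p.toHom := by
  obtain ⟨W, pr, r', sqW⟩ := hb.rep p.toHom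
  obtain ⟨r, rfl⟩ := (yon S).map_surjective r'
  obtain ⟨z, hz, -⟩ := exists_point_of_isPullback sqW (Points.ofScheme T t)
    (Points.ofScheme p.pt (IsLocalRing.closedPoint p.K))
    (by rw [← Points.ofPt_eq_map_ofScheme, ← Points.ofPt_eq_map_ofScheme, Points.ofPt_toHom, hp])
  obtain ⟨w, rfl⟩ := (Points.schemeEquiv W).surjective z
  have hw : r.left w = t := by
    apply (Points.schemeEquiv T).injective
    refine Eq.trans ?_ hz
    change Points.ofScheme _ _ = Points.map _ (Points.ofScheme _ _)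
    rw [← Points.ofPt_eq_map_ofScheme, ← Category.comp_id ((yon S).map r), ofPt_map]
  let c : resPt w ⟶ p.pt := resMap w ≫ pr
  obtain ⟨_, _, _⟩ := faithfullyFlat_to_fieldPt p (FieldPt.ofPt ((yon S).map r ≫ b) w) c
  refine redAlong_descend hX hY c ?_
  rw [show (yon S).map c ≫ p.toHom = (yon S).map (resMap w ≫ r) ≫ b by
    rw [Functor.map_comp, Functor.map_comp, Category.assoc, Category.assoc, sqW.w]]
  refine redAlong_of_chart hX hY hb hl hls hh _ ?_
  refine (H7Flat.GeomReduced.geometricallyReduced_fiber_iff h.left t).1 hG (W.left.residueField w) (resMap w ≫ r).left ?_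
  show r.left (W.left.fromSpecResidueField w _) = t
  rw [Scheme.fromSpecResidueField_apply, hw]

theorem geomReduced_of_pt (hX : IsAlgSpace X) (hY : IsAlgSpace Y) {f : X ⟶ Y} {U T : Over S}
    {a : (yon S).obj U ⟶ X} {b : (yon S).obj T ⟶ Y} {h : U ⟶ T} (ha : RepWith @Etale a) (hb : RepWith @Etale b)
    (w : a ≫ f = (yon S).map h ≫ b) (t : T.left) (k : FieldPt Y) (hk : Points.mk k = Points.ofPt b t)
    (hG : GeomRedPt f k) : GeometricallyReduced (h.left.fiberToSpecResidueField t) := by
  refine (H7Flat.GeomReduced.geometricallyReduced_fiber_iff h.left t).2 fun K _ a' ha' => ?_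
  let i : Over.mk (a' ≫ T.hom) ⟶ T := Over.homMk a' rfl
  let p := fieldPtOfHom ((yon S).map i ≫ b)
  have hp : Points.mk p = Points.mk k := by
    rw [hk, ← Points.ofPt_toHom, toHom_fieldPtOfHom]
    rw [ofPt_map]
    exact congrArg _ ha'
  obtain ⟨Ω, _, s, A, B, hAB⟩ := rel_iff_toHom.1 (Points.mk_eq_mk_iff.1 hp)
  obtain ⟨φ', hφ'⟩ := Spec.map_surjective B.left
  obtain rfl : s = Spec.map φ' ≫ k.str := by rw [hφ']; exact (Over.w B).symm
  obtain rfl : B = (Over.homMk (Spec.map (CommRingCat.ofHom φ'.hom)) rfl :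
      Over.mk (Spec.map (CommRingCat.ofHom φ'.hom) ≫ k.str) ⟶ k.pt) :=
    Over.OverMorphism.ext hφ'.symm
  have h1 := hG Ω φ'.hom
  rw [← hAB, toHom_fieldPtOfHom, ← Category.assoc, ← Functor.map_comp] at h1
  have := isReduced_of_redAlong hX hY ha hb w _ h1
  obtain ⟨_, _, -⟩ := faithfullyFlat_to_fieldPt p (fieldPtOfHom ((yon S).map A ≫ p.toHom)) A
  let m : pullback h.left (A ≫ i).left ⟶ pullback h.left a' :=
    pullback.map _ _ _ _ (𝟙 _) A.left (𝟙 _) (by simp) (by simp [i])
  have sqm : IsPullback m (pullback.snd _ _) (pullback.snd h.left a') A.left := by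
    refine IsPullback.of_right ?_ (pullback.lift_snd _ _ _) (IsPullback.of_hasPullback h.left a')
    rw [show m ≫ pullback.fst h.left a' = pullback.fst h.left (A ≫ i).left from
      (pullback.lift_fst _ _ _).trans (Category.comp_id _)]
    exact IsPullback.of_hasPullback _ _
  have : Flat m := MorphismProperty.of_isPullback sqm.flip ‹Flat A.left›
  have : Surjective m := MorphismProperty.of_isPullback sqm.flip ‹Surjective A.left›
  exact isReduced_of_flat_surjective m

/-- The fibre over a point of the target is geometrically reduced. -/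
abbrev GeomRedFib (f : X ⟶ Y) (y : Points Y) : Prop := ∀ k : FieldPt Y, Points.mk k = y → GeomRedPt f k

theorem geomRedPt_of_geomReduced (hX : IsAlgSpace X) (hY : IsAlgSpace Y) {f : X ⟶ Y} {U T : Over S}
    {b : (yon S).obj T ⟶ Y} (hb : RepWith @Etale b) {h : U ⟶ T} {l : (yon S).obj U ⟶ pullback f b}
    (hl : RepWith @Etale (l ≫ pullback.fst f b)) (hls : RepWith @Surjective l)
    (hh : l ≫ pullback.snd f b = (yon S).map h) (t : T.left)
    (hG : GeometricallyReduced (h.left.fiberToSpecResidueField t)) :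
    GeomRedFib f (Points.ofPt b t) := by
  intro k hk k' _ φ
  let j : Over.mk (Spec.map (CommRingCat.ofHom φ) ≫ k.str) ⟶ k.pt := Over.homMk (Spec.map (CommRingCat.ofHom φ)) rfl
  let p := fieldPtOfHom (K := k') ((yon S).map j ≫ k.toHom)
  have e : p.toHom = (yon S).map j ≫ k.toHom := toHom_fieldPtOfHom _
  show RedAlong f ((yon S).map j ≫ k.toHom)
  rw [← e]
  refine redAlong_of_geomReduced hX hY hb hl hls hh t hG p ?_
  rw [← hk, ← Points.ofPt_toHom p, e]
  show Points.ofPt ((yon S).map j ≫ k.toHom) (IsLocalRing.closedPoint k') = _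
  rw [ofPt_map, ← Points.ofPt_toHom k]

theorem geomRedFib_iff (hX : IsAlgSpace X) (hY : IsAlgSpace Y) {f : X ⟶ Y} {U T : Over S}
    {b : (yon S).obj T ⟶ Y} (hb : RepWith @Etale b) {h : U ⟶ T} {l : (yon S).obj U ⟶ pullback f b}
    (hl : RepWith @Etale (l ≫ pullback.fst f b)) (hls : RepWith @Surjective l)
    (hh : l ≫ pullback.snd f b = (yon S).map h) (t : T.left) :
    GeomRedFib f (Points.ofPt b t) ↔ GeometricallyReduced (h.left.fiberToSpecResidueField t) := by
  refine ⟨fun H => geomReduced_of_pt hX hY hl hb ?_ t (FieldPt.ofPt b t) rfl (H _ rfl),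
    geomRedPt_of_geomReduced hX hY hb hl hls hh t⟩
  rw [← hh, Category.assoc, Category.assoc, pullback.condition]

theorem geomRed_tfae (hX : IsAlgSpace X) (hY : IsAlgSpace Y) (f : X ⟶ Y) (y : Points Y) :
    [∃ k : FieldPt Y, Points.mk k = y ∧ GeomRedPt f k, GeomRedFib f y,
      ∀ k : FieldPt Y, Points.mk k = y → RedAlong f k.toHom].TFAE := by
  obtain ⟨T, b, hb, hbs⟩ := hY.atlas
  obtain ⟨t, rfl⟩ := surjective_ofPt_of_repWith le_rfl hbs y
  obtain ⟨U, l, h, -, hls, hh, hl, w⟩ := exists_chart_over hX hY f hb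
  tfae_have 1 → 2 := fun ⟨k, hk, hG⟩ =>
    geomRedPt_of_geomReduced hX hY hb hl hls hh t (geomReduced_of_pt hX hY hl hb w t k hk hG)
  tfae_have 2 → 3 := fun H k hk =>
    redAlong_of_geomReduced hX hY hb hl hls hh t ((geomRedFib_iff hX hY hb hl hls hh t).1 H) k hk
  tfae_have 3 → 1 := fun H => by
    refine ⟨FieldPt.ofPt b t, rfl, geomRedPt_of_geomReduced hX hY hb hl hls hh t ?_ _ rfl⟩
    refine (H7Flat.GeomReduced.geometricallyReduced_fiber_iff h.left t).2 fun K _ a' ha' => ?_
    let i : Over.mk (a' ≫ T.hom) ⟶ T := Over.homMk a' rfl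
    refine isReduced_of_redAlong hX hY hl hb w i ?_
    have := H (fieldPtOfHom ((yon S).map i ≫ b)) (by
      rw [← Points.ofPt_toHom, toHom_fieldPtOfHom]
      rw [ofPt_map]
      exact congrArg _ ha')
    rw [toHom_fieldPtOfHom] at this
    exact this
  tfae_finish

end Groth.Agent.H13AlgSp.FibreRed
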