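import Groth.Agent.H13AlgSp.GeomRedBC
import Groth.Agent.H02CA.GeomIrred
import Groth.Agent.H06Desc.Discrete

/-!
Products of spaces over a field: projections and connected components.
-/

universe u

open CategoryTheory CategoryTheory.Limits AlgebraicGeometry Opposite Topology
open AlgSp Groth.Agent.H12AlgSp

namespace Groth.Agent.H13AlgSp

theorem isPullback_prod_map_snd' {C : Type*} [Category C] [HasBinaryProducts C] {X A B : C} (h : A ⟶ B) :
    IsPullback (prod.map (𝟙 X) h) (prod.snd : X ⨯ A ⟶ A) (prod.snd : X ⨯ B ⟶ B) h := by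
  refine ⟨⟨prod.map_snd _ _⟩, ⟨PullbackCone.IsLimit.mk _
    (fun s => prod.lift (s.fst ≫ prod.fst) s.snd) (fun s => ?_) (fun s => prod.lift_snd _ _)
    fun s m h1 h2 => ?_⟩⟩
  · apply prod.hom_ext
    · simp [Limits.prod.lift_fst, Limits.prod.lift_snd]
    · simpa [Limits.prod.lift_fst, Limits.prod.lift_snd] using s.condition.symm
  · apply prod.hom_ext
    · have := h1 =≫ prod.fst
      simpa [Limits.prod.lift_fst, Limits.prod.lift_snd] using this
    · simpa [Limits.prod.lift_fst, Limits.prod.lift_snd] using h2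

theorem isPullback_prod_map_fst' {C : Type*} [Category C] [HasBinaryProducts C] {Y A B : C} (h : A ⟶ B) :
    IsPullback (prod.map h (𝟙 Y)) (prod.fst : A ⨯ Y ⟶ A) (prod.fst : B ⨯ Y ⟶ B) h := by
  refine ⟨⟨prod.map_fst _ _⟩, ⟨PullbackCone.IsLimit.mk _
    (fun s => prod.lift s.snd (s.fst ≫ prod.snd)) (fun s => ?_) (fun s => prod.lift_fst _ _)
    fun s m h1 h2 => ?_⟩⟩
  · apply prod.hom_ext
    · simpa [Limits.prod.lift_fst, Limits.prod.lift_snd] using s.condition.symm
    · simp [Limits.prod.lift_fst, Limits.prod.lift_snd]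
  · apply prod.hom_ext
    · simpa [Limits.prod.lift_fst, Limits.prod.lift_snd] using h2
    · have := h1 =≫ prod.snd
      simpa [Limits.prod.lift_fst, Limits.prod.lift_snd] using this

variable {k : Type u} [Field k]

theorem isOpenMap_prod_snd (X Y : Sp (Spec (CommRingCat.of k))) (hX : IsAlgSpace X) :
    IsOpenMap (Points.map (prod.snd : X ⨯ Y ⟶ Y)) := by
  obtain ⟨U, a, ha, has⟩ := hX.atlas
  have hterm : IsTerminal ((yon (Spec (CommRingCat.of k))).obj (Over.mk (𝟙 _))) :=
    IsTerminal.isTerminalObj (yon _) _ Over.mkIdTerminal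
  have sq : IsPullback (prod.fst : (yon _).obj U ⨯ Y ⟶ (yon _).obj U) prod.snd
      ((yon _).map (Over.mkIdTerminal.from U)) (hterm.from Y) := by
    rw [hterm.hom_ext ((yon _).map (Over.mkIdTerminal.from U)) (hterm.from _)]
    exact IsPullback.of_is_product (prodIsProd _ _) hterm
  have hU : RepWith @UniversallyOpen ((yon (Spec (CommRingCat.of k))).map (Over.mkIdTerminal.from U)) := by
    refine (repWith_yon_map_iff _ _).2 ?_
    let g : U.left ⟶ Spec (CommRingCat.of k) := (Over.mkIdTerminal.from U).left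
    exact Groth.Agent.H06Desc.universallyOpen_of_discreteTopology g
  have ho : IsOpenMap (Points.map (prod.snd : (yon _).obj U ⨯ Y ⟶ Y)) :=
    isOpenMap_map_of_repWith le_rfl (repWith_of_isPullback sq hU)
  have hsur : Function.Surjective (Points.map (prod.map a (𝟙 Y))) := by
    intro w
    obtain ⟨u, hu⟩ := surjective_ofPt_of_repWith le_rfl has (Points.map prod.fst w)
    obtain ⟨z, hz, -⟩ := exists_point_of_isPullback (isPullback_prod_map_fst' (Y := Y) a) w
      (Points.ofScheme U u) (by rw [← Points.ofPt_eq_map_ofScheme, hu])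
    exact ⟨z, hz⟩
  intro W hW
  have h := ho _ (hW.preimage (Points.continuous_map (prod.map a (𝟙 Y))))
  have e : (prod.snd : (yon _).obj U ⨯ Y ⟶ Y) = prod.map a (𝟙 Y) ≫ prod.snd := by simp
  rw [e, show Points.map (prod.map a (𝟙 Y) ≫ prod.snd) = Points.map (prod.snd : X ⨯ Y ⟶ Y) ∘ Points.map (prod.map a (𝟙 Y))
    from funext fun z => Points.map_comp _ _ z, Set.image_comp, Set.image_preimage_eq _ hsur] at h
  exact h

/-- Geometric connectedness over the base field. -/
abbrev GeomConn (X : Sp (Spec (CommRingCat.of k))) : Prop :=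
  ∀ (K : Type u) [Field K] [Algebra k K], ConnectedSpace (Points (bcSp X K))

theorem isConnected_preimage_prod_snd {X Y : Sp (Spec (CommRingCat.of k))} (hX : GeomConn X) (y : Points Y) :
    IsConnected (Points.map (prod.snd : X ⨯ Y ⟶ Y) ⁻¹' {y}) := by
  obtain ⟨r, rfl⟩ := Quotient.exists_rep y
  obtain ⟨φ, hφ⟩ := Spec.map_surjective (R := CommRingCat.of k) (S := CommRingCat.of r.K) r.str
  letI : Algebra k r.K := φ.hom.toAlgebra
  have hpt : extObj k r.K = r.pt := by
    change Over.mk _ = Over.mk r.str
    rw [← hφ]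
    rfl
  have hc : ConnectedSpace (Points (X ⨯ (yon _).obj r.pt)) := by
    rw [← hpt]
    exact hX r.K
  have sq := isPullback_prod_map_snd' (X := X) r.toHom
  convert isConnected_range (Points.continuous_map (prod.map (𝟙 X) r.toHom)) using 1
  ext w
  constructor
  · intro hw
    obtain ⟨z, hz, -⟩ := exists_point_of_isPullback sq w (Points.ofScheme r.pt (IsLocalRing.closedPoint r.K))
      (by rw [← Points.ofPt_eq_map_ofScheme, Points.ofPt_toHom]; exact hw)
    exact ⟨z, hz⟩
  · rintro ⟨z, rfl⟩
    rw [Set.mem_preimage, ← Points.map_comp, sq.w, Points.map_comp]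
    obtain ⟨t, ht⟩ := (Points.schemeEquiv r.pt).surjective (Points.map prod.snd z)
    rw [← ht]
    change Points.map r.toHom (Points.ofScheme r.pt t) = _
    rw [← Points.ofPt_eq_map_ofScheme, Points.ofPt_toHom]
    rfl

theorem isCoinducing_prod_snd {X Y : Sp (Spec (CommRingCat.of k))} (hX : IsAlgSpace X) (hc : GeomConn X) :
    IsCoinducing (Points.map (prod.snd : X ⨯ Y ⟶ Y)) :=
  ((isOpenMap_prod_snd X Y hX).isQuotientMap (Points.continuous_map _)
    fun y => (isConnected_preimage_prod_snd hc y).nonempty).isCoinducing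

theorem connectedSpace_prod {X Y : Sp (Spec (CommRingCat.of k))} (hX : IsAlgSpace X) (hc : GeomConn X)
    [ConnectedSpace (Points Y)] : ConnectedSpace (Points (X ⨯ Y)) := by
  have := (isCoinducing_prod_snd (Y := Y) hX hc).isConnected_preimage_of_isClosed
    (fun y => isConnected_preimage_prod_snd hc y) isClosed_univ isConnected_univ
  rwa [Set.preimage_univ, ← connectedSpace_iff_univ] at this

/-- The swap of factors on points. -/
noncomputable def prodSwap (X Y : Sp (Spec (CommRingCat.of k))) : Points (X ⨯ Y) ≃ₜ Points (Y ⨯ X) where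
  toFun := Points.map (prod.braiding X Y).hom
  invFun := Points.map (prod.braiding X Y).inv
  left_inv z := by rw [← Points.map_comp, Iso.hom_inv_id, Points.map_id]
  right_inv z := by rw [← Points.map_comp, Iso.inv_hom_id, Points.map_id]
  continuous_toFun := Points.continuous_map _
  continuous_invFun := Points.continuous_map _

theorem prod_fst_eq (X Y : Sp (Spec (CommRingCat.of k))) :
    Points.map (prod.fst : X ⨯ Y ⟶ X) = Points.map (prod.snd : Y ⨯ X ⟶ X) ∘ prodSwap X Y := by
  funext z
  change _ = Points.map _ (Points.map _ z)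
  rw [← Points.map_comp]
  congr 1
  simp [Limits.prod.lift_fst, Limits.prod.lift_snd]

theorem geomConn_ext_of_isSepClosed [IsSepClosed k] (K : Type u) [Field K] [Algebra k K] :
    GeomConn ((yon (Spec (CommRingCat.of k))).obj (extObj k K)) := by
  intro L _ _
  obtain ⟨W, r, w, b, hb, -, sqW⟩ := exists_bc_chart ((yon _).obj (extObj k K)) L (𝟙 _)
  have : IsIso b := hb.isIso_snd_of_isIso
  have hWc : ConnectedSpace W.left := by
    have := Groth.Agent.H02CA.GeomIrred.connectedSpace_of_isSepClosed (k := k) L K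
    let i := sqW.isoPullback ≪≫ pullbackSpecIso k K L
    exact i.hom.homeomorph.connectedSpace_iff.mpr this
  have hP : ConnectedSpace (Points ((yon _).obj W)) := (Points.schemeHomeo W).connectedSpace_iff.mp hWc
  have hs : Function.Surjective (Points.map b) := fun z =>
    ⟨Points.map (inv b) z, by rw [← Points.map_comp, IsIso.inv_hom_id, Points.map_id]⟩
  rw [connectedSpace_iff_univ, ← hs.range_eq]
  exact isConnected_range (Points.continuous_map b)

end Groth.Agent.H13AlgSp
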