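import Groth.Agent.H12AlgSp.Presentation
import Groth.Prelude.Def_Grpd

/-!
The groupoid scheme of the kernel pair of a map from a scheme to a sheaf.
-/

universe u

open CategoryTheory CategoryTheory.Limits AlgebraicGeometry
open AlgSp Groth.Agent.H12AlgSp

namespace Groth.Agent.H13AlgSp

variable {S : Scheme.{u}} {X : Sp S} {U R : Over S} {p : (yon S).obj U ⟶ X} {s t : R ⟶ U}
  (sq : IsPullback ((yon S).map t) ((yon S).map s) p p)

include sq in
theorem pair_ext {T : Over S} {r r' : T ⟶ R} (h₁ : r ≫ t = r' ≫ t) (h₂ : r ≫ s = r' ≫ s) : r = r' :=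
  (yon S).map_injective (sq.hom_ext (by rw [← Functor.map_comp, ← Functor.map_comp, h₁])
    (by rw [← Functor.map_comp, ← Functor.map_comp, h₂]))

/-- The arrow with given target and source. -/
noncomputable def pairLift {T : Over S} (a b : T ⟶ U) (h : (yon S).map a ≫ p = (yon S).map b ≫ p) : T ⟶ R :=
  (yon S).preimage (sq.lift _ _ h)

theorem pairLift_t {T : Over S} (a b : T ⟶ U) (h : (yon S).map a ≫ p = (yon S).map b ≫ p) :
    pairLift sq a b h ≫ t = a := (yon S).map_injective (by
  rw [Functor.map_comp, pairLift, Functor.map_preimage, sq.lift_fst])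

theorem pairLift_s {T : Over S} (a b : T ⟶ U) (h : (yon S).map a ≫ p = (yon S).map b ≫ p) :
    pairLift sq a b h ≫ s = b := (yon S).map_injective (by
  rw [Functor.map_comp, pairLift, Functor.map_preimage, sq.lift_snd])

include sq in
theorem scheme_pair_ext {T : Scheme.{u}} {r r' : T ⟶ R.left} (h₁ : r ≫ t.left = r' ≫ t.left)
    (h₂ : r ≫ s.left = r' ≫ s.left) : r = r' := by
  have hw : r' ≫ R.hom = r ≫ R.hom := by rw [← Over.w s, ← Category.assoc, ← Category.assoc, h₂]
  have e := pair_ext sq (T := Over.mk (r ≫ R.hom)) (r := Over.homMk r) (r' := Over.homMk r' hw)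
    (Over.OverMorphism.ext h₁) (Over.OverMorphism.ext h₂)
  exact congrArg CommaMorphism.left e

/-- The composable pairs. -/
noncomputable abbrev composable (s t : R ⟶ U) : Over S := Over.mk (pullback.fst s.left t.left ≫ R.hom)

/-- The first projection of composable pairs. -/
noncomputable def composableFst (s t : R ⟶ U) : composable s t ⟶ R := Over.homMk (pullback.fst s.left t.left)

/-- The second projection of composable pairs. -/
noncomputable def composableSnd (s t : R ⟶ U) : composable s t ⟶ R :=
  Over.homMk (pullback.snd s.left t.left) (by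
    show pullback.snd s.left t.left ≫ R.hom = pullback.fst s.left t.left ≫ R.hom
    rw [← Over.w t, ← pullback.condition_assoc, Over.w s, Over.w t])

/-- The composition. -/
noncomputable def compArrow : composable s t ⟶ R :=
  pairLift sq (composableFst s t ≫ t) (composableSnd s t ≫ s) (by
    rw [Functor.map_comp, Category.assoc, sq.w, ← Category.assoc, ← Functor.map_comp,
      show composableFst s t ≫ s = composableSnd s t ≫ t from Over.OverMorphism.ext pullback.condition,
      Functor.map_comp, Category.assoc, sq.w, ← Category.assoc, ← Functor.map_comp])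

theorem compArrow_t : (compArrow sq).left ≫ t.left = pullback.fst s.left t.left ≫ t.left :=
  congrArg CommaMorphism.left (pairLift_t sq _ _ _)

theorem compArrow_s : (compArrow sq).left ≫ s.left = pullback.snd s.left t.left ≫ s.left :=
  congrArg CommaMorphism.left (pairLift_s sq _ _ _)

theorem lift_compArrow_t {T : Scheme.{u}} (α β : T ⟶ R.left) (h : α ≫ s.left = β ≫ t.left) :
    (pullback.lift α β h ≫ (compArrow sq).left) ≫ t.left = α ≫ t.left := by
  rw [Category.assoc, compArrow_t, pullback.lift_fst_assoc]

theorem lift_compArrow_s {T : Scheme.{u}} (α β : T ⟶ R.left) (h : α ≫ s.left = β ≫ t.left) :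
    (pullback.lift α β h ≫ (compArrow sq).left) ≫ s.left = β ≫ s.left := by
  rw [Category.assoc, compArrow_s, pullback.lift_snd_assoc]

/-- The identities. -/
noncomputable def idArrow : U ⟶ R := pairLift sq (𝟙 U) (𝟙 U) rfl

theorem idArrow_t : (idArrow sq).left ≫ t.left = 𝟙 U.left := congrArg CommaMorphism.left (pairLift_t sq _ _ _)

theorem idArrow_s : (idArrow sq).left ≫ s.left = 𝟙 U.left := congrArg CommaMorphism.left (pairLift_s sq _ _ _)

/-- The inverses. -/
noncomputable def invArrow : R ⟶ R := pairLift sq s t sq.w.symm

theorem invArrow_t : (invArrow sq).left ≫ t.left = s.left := congrArg CommaMorphism.left (pairLift_t sq _ _ _)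

theorem invArrow_s : (invArrow sq).left ≫ s.left = t.left := congrArg CommaMorphism.left (pairLift_s sq _ _ _)

/-- The groupoid scheme of a kernel pair. -/
noncomputable def kernelPairGrpd : Grpd.GroupoidScheme S where
  U := U.left
  R := R.left
  pU := U.hom
  pR := R.hom
  s := s.left
  t := t.left
  e := (idArrow sq).left
  i := (invArrow sq).left
  c := (compArrow sq).left
  s_over := Over.w s
  t_over := Over.w t
  comp_s α β h := lift_compArrow_s sq α β h
  comp_t α β h := lift_compArrow_t sq α β h
  assoc α β γ h₁ h₂ := scheme_pair_ext sq (by simp only [lift_compArrow_t]) (by simp only [lift_compArrow_s])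
  e_s := idArrow_s sq
  e_t := idArrow_t sq
  comp_e α := scheme_pair_ext sq (by rw [lift_compArrow_t])
    (by rw [lift_compArrow_s, Category.assoc, Category.assoc, idArrow_s, Category.comp_id])
  e_comp α := scheme_pair_ext sq (by rw [lift_compArrow_t, Category.assoc, Category.assoc, idArrow_t, Category.comp_id])
    (by rw [lift_compArrow_s])
  i_s := invArrow_s sq
  i_t := invArrow_t sq
  comp_i α := scheme_pair_ext sq (by rw [lift_compArrow_t, Category.assoc, Category.assoc, idArrow_t, Category.comp_id])
    (by rw [lift_compArrow_s, Category.assoc, invArrow_s, Category.assoc, Category.assoc, idArrow_s, Category.comp_id])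
  i_comp α := scheme_pair_ext sq
    (by rw [lift_compArrow_t, Category.assoc, invArrow_t, Category.assoc, Category.assoc, idArrow_t, Category.comp_id])
    (by rw [lift_compArrow_s, Category.assoc, Category.assoc, idArrow_s, Category.comp_id])

theorem mono_kernelPairGrpd_j : Mono (kernelPairGrpd sq).j := ⟨fun {T} (r r' : T ⟶ R.left) e => by
  let G := kernelPairGrpd sq
  have ht : G.j ≫ pullback.fst _ _ = t.left := pullback.lift_fst _ _ _
  have hs : G.j ≫ pullback.snd _ _ = s.left := pullback.lift_snd _ _ _
  refine scheme_pair_ext sq ?_ ?_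
  · rw [← ht]; exact (Category.assoc _ _ _).symm.trans ((congrArg (· ≫ _) e).trans (Category.assoc _ _ _))
  · rw [← hs]; exact (Category.assoc _ _ _).symm.trans ((congrArg (· ≫ _) e).trans (Category.assoc _ _ _))⟩

end Groth.Agent.H13AlgSp
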