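import Groth.Agent.H13AlgSp.Sober
import Groth.Agent.H13AlgSp.KernelPairGrpd
import Groth.Agent.H12AlgSp.OpenScheme
import Groth.Agent.H13Grpd.Coeq
import Groth.Agent.H7Flat.QuasiFiniteDense
import Groth.Agent.H18Descent.Basic

/-!
Decent algebraic spaces have dense open subschemes.
-/

universe u

open CategoryTheory CategoryTheory.Limits AlgebraicGeometry Opposite Topology TopologicalSpace
open AlgSp Groth.Agent.H12AlgSp

namespace Groth.Agent.H13AlgSp

variable {S : Scheme.{u}} {X : Sp S} {U R : Over S} {a : (yon S).obj U ⟶ X} {s t : R ⟶ U}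
  (sq : IsPullback ((yon S).map t) ((yon S).map s) a a)

include sq in
theorem ofPt_target_eq_source (r : R.left) : Points.ofPt a (t.left r) = Points.ofPt a (s.left r) := by
  rw [← ofPt_map t a r, sq.w, ofPt_map]

include sq in
theorem exists_arrow_of_ofPt_eq {u v : U.left} (h : Points.ofPt a u = Points.ofPt a v) :
    ∃ r : R.left, t.left r = u ∧ s.left r = v := by
  obtain ⟨z, hz₁, hz₂⟩ := exists_point_of_isPullback sq (Points.ofScheme U u) (Points.ofScheme U v)
    ((Points.ofPt_eq_map_ofScheme a u).symm.trans (h.trans (Points.ofPt_eq_map_ofScheme a v)))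
  obtain ⟨r, rfl⟩ : ∃ r, Points.ofScheme R r = z := ⟨_, (Points.schemeEquiv R).apply_symm_apply z⟩
  have key : ∀ φ : R ⟶ U, Points.map ((yon S).map φ) (Points.ofScheme R r) = Points.ofScheme U (φ.left r) :=
    fun φ => by
      rw [← Points.ofPt_eq_map_ofScheme]
      exact (Points.schemeEquiv U).symm.injective
        ((Points.toScheme_ofPt φ r).trans (Points.toScheme_ofScheme U _).symm)
  exact ⟨r, (Points.schemeEquiv U).injective ((key t).symm.trans hz₁),
    (Points.schemeEquiv U).injective ((key s).symm.trans hz₂)⟩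

include sq in
/-- Finiteness of the source map propagates along the arrows. -/
theorem isFinite_morphismRestrict_saturation [Etale s.left] [Etale t.left] {V Vs : U.left.Opens}
    (hV : IsFinite (s.left ∣_ V)) (hVs : (Vs : Set U.left) = s.left '' (t.left ⁻¹' (V : Set U.left))) :
    IsFinite (s.left ∣_ Vs) := by
  let E := t.left ⁻¹ᵁ V
  let c : E.toScheme ⟶ Vs.toScheme := IsOpenImmersion.lift Vs.ι (E.ι ≫ s.left) (by
    rw [Scheme.Opens.range_ι, hVs]; rintro _ ⟨z, rfl⟩; exact ⟨z.1, z.2, rfl⟩)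
  have hc : c ≫ Vs.ι = E.ι ≫ s.left := IsOpenImmersion.lift_fac _ _ _
  have : Etale c := by
    have : Etale (c ≫ Vs.ι) := by rw [hc]; infer_instance
    exact Etale.of_comp c Vs.ι
  have : Surjective c := ⟨fun v => by
    obtain ⟨r, hr, hrv⟩ := hVs.le v.2
    exact ⟨⟨r, hr⟩, Subtype.ext ((congr(($hc) ⟨r, hr⟩)).trans hrv)⟩⟩
  -- the two base changes agree
  let A := pullback s.left (E.ι ≫ s.left)
  let B := pullback s.left (E.ι ≫ t.left)
  let f₁ := pullback.fst s.left (E.ι ≫ s.left)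
  let f₂ := pullback.snd s.left (E.ι ≫ s.left)
  let g₁ := pullback.fst s.left (E.ι ≫ t.left)
  let g₂ := pullback.snd s.left (E.ι ≫ t.left)
  have hf : f₁ ≫ s.left = f₂ ≫ E.ι ≫ s.left := pullback.condition
  have hg : g₁ ≫ s.left = g₂ ≫ E.ι ≫ t.left := pullback.condition
  have h₁ : f₁ ≫ s.left = (f₂ ≫ E.ι ≫ (invArrow sq).left) ≫ t.left := by
    rw [Category.assoc, Category.assoc, invArrow_t]; exact hf
  let φ : A ⟶ B := pullback.lift (pullback.lift f₁ (f₂ ≫ E.ι ≫ (invArrow sq).left) h₁ ≫ (compArrow sq).left) f₂ (by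
    refine (lift_compArrow_s sq _ _ h₁).trans ?_
    rw [Category.assoc, Category.assoc, invArrow_s])
  have h₂ : g₁ ≫ s.left = (g₂ ≫ E.ι) ≫ t.left := by rw [Category.assoc]; exact hg
  let ψ : B ⟶ A := pullback.lift (pullback.lift g₁ (g₂ ≫ E.ι) h₂ ≫ (compArrow sq).left) g₂ (by
    refine (lift_compArrow_s sq _ _ h₂).trans ?_
    rw [Category.assoc])
  have hφ₁ : φ ≫ g₁ = pullback.lift f₁ (f₂ ≫ E.ι ≫ (invArrow sq).left) h₁ ≫ (compArrow sq).left := pullback.lift_fst _ _ _
  have hφ₂ : φ ≫ g₂ = f₂ := pullback.lift_snd _ _ _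
  have hψ₁ : ψ ≫ f₁ = pullback.lift g₁ (g₂ ≫ E.ι) h₂ ≫ (compArrow sq).left := pullback.lift_fst _ _ _
  have hψ₂ : ψ ≫ f₂ = g₂ := pullback.lift_snd _ _ _
  have hφψ : φ ≫ ψ = 𝟙 A := by
    apply pullback.hom_ext <;> rw [Category.id_comp, Category.assoc]
    · show φ ≫ ψ ≫ f₁ = f₁
      refine scheme_pair_ext sq ?_ ?_
      · rw [Category.assoc φ, hψ₁]
        show φ ≫ (pullback.lift g₁ (g₂ ≫ E.ι) h₂ ≫ (compArrow sq).left) ≫ t.left = _
        rw [lift_compArrow_t, ← Category.assoc, hφ₁, lift_compArrow_t]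
      · rw [Category.assoc φ, hψ₁]
        show φ ≫ (pullback.lift g₁ (g₂ ≫ E.ι) h₂ ≫ (compArrow sq).left) ≫ s.left = _
        rw [lift_compArrow_s, Category.assoc, reassoc_of% hφ₂]; exact hf.symm
    · show φ ≫ ψ ≫ f₂ = f₂; rw [hψ₂, hφ₂]
  have hψφ : ψ ≫ φ = 𝟙 B := by
    apply pullback.hom_ext <;> rw [Category.id_comp, Category.assoc]
    · show ψ ≫ φ ≫ g₁ = g₁
      refine scheme_pair_ext sq ?_ ?_
      · rw [Category.assoc ψ, hφ₁]
        show ψ ≫ (pullback.lift f₁ (f₂ ≫ E.ι ≫ (invArrow sq).left) h₁ ≫ (compArrow sq).left) ≫ t.left = _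
        rw [lift_compArrow_t, ← Category.assoc, hψ₁, lift_compArrow_t]
      · rw [Category.assoc ψ, hφ₁]
        show ψ ≫ (pullback.lift f₁ (f₂ ≫ E.ι ≫ (invArrow sq).left) h₁ ≫ (compArrow sq).left) ≫ s.left = _
        rw [lift_compArrow_s, Category.assoc, Category.assoc, invArrow_s, reassoc_of% hψ₂]; exact hg.symm
    · show ψ ≫ φ ≫ g₂ = g₂; rw [hφ₂, hψ₂]
  have : IsIso φ := ⟨ψ, hφψ, hψφ⟩
  -- the base change along the target is finite
  have hB : IsFinite g₂ := by
    have sqB := (IsPullback.of_hasPullback (s.left ∣_ V) (t.left ∣_ V)).paste_horiz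
      (isPullback_morphismRestrict s.left V).flip
    rw [morphismRestrict_ι] at sqB
    have h' : IsFinite (pullback.snd (s.left ∣_ V) (t.left ∣_ V)) :=
      MorphismProperty.pullback_snd (P := @IsFinite) _ _ hV
    rw [show g₂ = sqB.isoPullback.inv ≫ pullback.snd (s.left ∣_ V) (t.left ∣_ V) from
      sqB.isoPullback_inv_snd.symm]
    infer_instance
  have hA : IsFinite f₂ := by rw [← hφ₂]; infer_instance
  have sqA := (IsPullback.of_hasPullback (s.left ∣_ Vs) c).paste_horiz (isPullback_morphismRestrict s.left Vs).flip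
  rw [hc] at sqA
  have h' : IsFinite (pullback.snd (s.left ∣_ Vs) c) := by
    rw [← sqA.isoPullback_hom_snd]; infer_instance
  exact MorphismProperty.of_isPullback_of_descendsAlong (P := @IsFinite)
    (Q := @Surjective ⊓ @Flat ⊓ @LocallyOfFinitePresentation)
    (IsPullback.of_hasPullback (s.left ∣_ Vs) c).flip ⟨⟨inferInstance, inferInstance⟩, inferInstance⟩ h'

/-- A finite étale equivalence relation on an open of an affine is effective, with the open subspace it covers
a scheme. -/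
theorem exists_iso_openSub_of_finite {X : Sp S} (hX : IsAlgSpace X) {U R : Over S} [IsAffine U.left]
    {a : (yon S).obj U ⟶ X} (ha : RepWith @Etale a) {s t : R ⟶ U}
    (sq : IsPullback ((yon S).map t) ((yon S).map s) a a) {Vs : U.left.Opens}
    (hinv : s.left ⁻¹ᵁ Vs = t.left ⁻¹ᵁ Vs) (hfin : IsFinite (s.left ∣_ Vs)) :
    ∃ (Y : Over S) (μ : (yon S).obj Y ⟶ openSub (Points.ofPt a '' (Vs : Set U.left))), IsIso μ := by
  let W : Set (Points X) := Points.ofPt a '' (Vs : Set U.left)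
  have hW : IsOpen W := isOpenMap_ofPt_of_repWith etale_le_universallyOpen ha _ Vs.2
  have hes : Etale s.left := ha.property a _ s sq
  let G := kernelPairGrpd sq
  have := mono_kernelPairGrpd_j sq
  let G' := Groth.Agent.H13Grpd.restr (G := G) hinv
  have h₁ : IsFinite G'.s := hfin
  have h₂ : Flat G'.s := inferInstanceAs (Flat (s.left ∣_ Vs))
  have h₃ : LocallyOfFinitePresentation G'.s := inferInstanceAs (LocallyOfFinitePresentation (s.left ∣_ Vs))
  have hb : ∀ x : G'.U, ∃ O : G'.U.Opens, IsAffineOpen O ∧ G'.t.base '' (G'.s.base ⁻¹' {x}) ⊆ (O : Set G'.U) :=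
    fun x => by
      let F : Set Vs.toScheme := Groth.Agent.H13Grpd.orbit G' x
      have hF : F.Finite := (G'.s.finite_preimage_singleton x).image _
      obtain ⟨f, hf, hfV⟩ := Groth.Agent.H13Grpd.exists_basicOpen_finite (isAffineOpen_top U.left)
        (hF.image Vs.ι) (O := Vs) (by rintro _ ⟨y, -, rfl⟩; exact y.2) le_top
      refine ⟨Vs.ι ⁻¹ᵁ U.left.basicOpen f,
        ((isAffineOpen_top U.left).basicOpen f).preimage_of_isOpenImmersion Vs.ι
          (by rw [Scheme.Opens.opensRange_ι]; exact hfV), fun y hy => hf ⟨y, hy, rfl⟩⟩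
  let q := Groth.Agent.H13Grpd.proj hb
  obtain ⟨sqY, hqf, hqflat, hqlfp⟩ := Groth.Agent.H13Grpd.isPullback_and_finLocFree hb
  have hqs : Surjective q := ⟨Groth.Agent.H13Grpd.surjective_proj hb⟩
  obtain ⟨hcol⟩ := Groth.Agent.H13Grpd.nonempty_isColimit_proj hb
  obtain ⟨m, hm⟩ : ∃ m : Groth.Agent.H13Grpd.Quotient G' ⟶ S, q ≫ m = G'.pU := by
    obtain ⟨m, hm⟩ := Cofork.IsColimit.desc' hcol G'.pU (G'.t_over.trans G'.s_over.symm)
    exact ⟨m, hm⟩
  let V₁ : Over S := Over.mk (Vs.ι ≫ U.hom)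
  let R₁ : Over S := Over.mk ((s.left ⁻¹ᵁ Vs).ι ≫ R.hom)
  let iV : V₁ ⟶ U := Over.homMk Vs.ι
  let iR : R₁ ⟶ R := Over.homMk (s.left ⁻¹ᵁ Vs).ι
  let rt : (s.left ⁻¹ᵁ Vs).toScheme ⟶ Vs.toScheme := Groth.Agent.H13Grpd.restrT (G := G) hinv
  have hrt : rt ≫ Vs.ι = (s.left ⁻¹ᵁ Vs).ι ≫ t.left := Groth.Agent.H13Grpd.restrT_ι (G := G) hinv
  let t₁ : R₁ ⟶ V₁ := Over.homMk rt (by
    show rt ≫ Vs.ι ≫ U.hom = (s.left ⁻¹ᵁ Vs).ι ≫ R.hom
    rw [reassoc_of% hrt, Over.w t])
  let s₁ : R₁ ⟶ V₁ := Over.homMk (s.left ∣_ Vs) (by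
    show (s.left ∣_ Vs) ≫ Vs.ι ≫ U.hom = (s.left ⁻¹ᵁ Vs).ι ≫ R.hom
    rw [morphismRestrict_ι_assoc, Over.w s])
  let Y : Over S := Over.mk m
  let q₁ : V₁ ⟶ Y := Over.homMk q hm
  -- the kernel pair of the chart of the open subspace
  obtain ⟨l, hl⟩ := exists_openSub_lift (W := W) ((yon S).map iV ≫ a) fun v => by
    rw [ofPt_map]; exact ⟨_, v.2, rfl⟩
  have hiV : RepWith @Etale ((yon S).map iV) := (repWith_yon_map_iff _ _).2 (inferInstanceAs (Etale Vs.ι))
  have := mono_openSubι (X := X) W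
  have : Mono ((yon S).map iV) := inferInstance
  have hwt : t₁ ≫ iV = iR ≫ t :=
    Over.OverMorphism.ext hrt
  have hsR : IsPullback iR s₁ s iV :=
    IsPullback.of_map (Over.forget S) (Over.OverMorphism.ext (morphismRestrict_ι s.left Vs).symm)
      (isPullback_morphismRestrict s.left Vs).flip
  have sqA := (hsR.map (yon S)).paste_horiz sq
  rw [← Functor.map_comp, ← hwt, Functor.map_comp] at sqA
  have hl' : ((yon S).map iV ≫ a) = l ≫ openSubι W := hl.symm
  have sqL : IsPullback ((yon S).map t₁) ((yon S).map s₁) l l := by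
    have hw : (yon S).map t₁ ≫ l = (yon S).map s₁ ≫ l := by
      rw [← cancel_mono (openSubι W), Category.assoc, Category.assoc, hl, ← Category.assoc]
      exact sqA.w
    refine ⟨⟨hw⟩, ⟨PullbackCone.IsLimit.mk _
      (fun c => sqA.lift (c.fst ≫ (yon S).map iV) c.snd (by
        rw [Category.assoc, hl', reassoc_of% c.condition]))
      (fun c => (cancel_mono ((yon S).map iV)).1 (by rw [Category.assoc, sqA.lift_fst]))
      (fun c => sqA.lift_snd _ _ _)
      (fun c n h₁ h₂ => sqA.hom_ext (by rw [sqA.lift_fst, ← h₁, Category.assoc]) (by rw [sqA.lift_snd, h₂]))⟩⟩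
  have hle : RepWith @Etale l := by
    refine repWith_of_comp l (openSubι W) ?_ (hl.symm ▸ repWith_comp hiV ha)
    have : IsIso (pullback.diagonal (openSubι W)) := inferInstance
    exact repWith_of_isIso _
  have hls : RepWith @Surjective l := repWith_surjective_of_map hle.1 fun y => by
    obtain ⟨v, hv, hvy⟩ := (range_openSubι hX W).le ⟨y, rfl⟩
    refine ⟨Points.ofScheme V₁ (⟨v, hv⟩ : Vs.toScheme), injective_map_of_mono (openSubι W) ?_⟩
    rw [← Points.map_comp, hl, ← Points.ofPt_eq_map_ofScheme, ofPt_map]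
    exact hvy
  obtain ⟨colL⟩ := nonempty_isColimit_of_atlas hle hls sqL
  -- the quotient scheme is a quotient sheaf
  have sqS : IsPullback t₁ s₁ q₁ q₁ :=
    IsPullback.of_map (Over.forget S) (Over.OverMorphism.ext sqY.w) sqY
  have sqY₁ := sqS.map (yon S)
  have : Epi ((yon S).map q₁) := epi_of_local_lifts _ fun T y => by
    obtain ⟨φ, rfl⟩ := (yon S).map_surjective y
    let P := pullback q φ.left
    have h1 : Flat (pullback.snd q φ.left) := MorphismProperty.pullback_snd _ _ hqflat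
    have h2 : LocallyOfFinitePresentation (pullback.snd q φ.left) := MorphismProperty.pullback_snd _ _ hqlfp
    have h3 : Surjective (pullback.snd q φ.left) := MorphismProperty.pullback_snd _ _ hqs
    let c : Over.mk (pullback.snd q φ.left ≫ T.hom) ⟶ T := Over.homMk (pullback.snd q φ.left)
    let k : Over.mk (pullback.snd q φ.left ≫ T.hom) ⟶ V₁ := Over.homMk (pullback.fst q φ.left) (by
      show pullback.fst q φ.left ≫ G'.pU = pullback.snd q φ.left ≫ T.hom
      rw [← hm, pullback.condition_assoc]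
      exact congrArg _ (Over.w φ))
    exact ⟨PUnit, fun _ => _, fun _ => c, ofArrows_mem_J _ (fun _ => h1) (fun _ => h2)
      (fun x => ⟨⟨⟩, h3.surj x⟩), fun _ => ⟨(yon S).map k, by
        rw [← Functor.map_comp, ← Functor.map_comp]
        exact congrArg _ (Over.OverMorphism.ext pullback.condition)⟩⟩
  have r := IsRegularEpiCategory.regularEpiOfEpi ((yon S).map q₁)
  have : IsRegularEpi ((yon S).map q₁) := r
  have colY := IsKernelPair.toCoequalizer' sqY₁
  let e := colY.coconePointUniqueUpToIso colL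
  exact ⟨Y, e.hom, inferInstance⟩

set_option maxHeartbeats 800000 in
/-- Decent spaces contain open subschemes meeting every nonempty open. -/
theorem exists_open_scheme_meeting {X : Sp S} (hX : IsAlgSpace X) (hd : IsDecent X) {W : Set (Points X)}
    (hW : IsOpen W) (hne : W.Nonempty) :
    ∃ (W' : Set (Points X)) (Y : Over S) (μ : (yon S).obj Y ⟶ openSub W'),
      IsIso μ ∧ IsOpen W' ∧ (W' ∩ W).Nonempty := by
  classical
  obtain ⟨U₀, a₀, ha₀, has₀⟩ := hX.atlas
  obtain ⟨x₁, hx₁⟩ := hne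
  obtain ⟨u₁, rfl⟩ := surjective_ofPt_of_repWith le_rfl has₀ x₁
  let O₀ : U₀.left.Opens := ⟨Points.ofPt a₀ ⁻¹' W, hW.preimage (Points.continuous_ofPt a₀)⟩
  obtain ⟨O, hO, hu₁, hOO⟩ := exists_isAffineOpen_mem_and_subset (U := O₀) (x := u₁) hx₁
  have : IsAffine O.toScheme := hO
  let A : CommRingCat.{u} := Γ(O.toScheme, ⊤)
  let iA : Spec A ⟶ U₀.left := O.toScheme.isoSpec.inv ≫ O.ι
  let U : Over S := Over.mk (iA ≫ U₀.hom)
  have : IsAffine U.left := inferInstanceAs (IsAffine (Spec A))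
  let jU : U ⟶ U₀ := Over.homMk iA
  let a : (yon S).obj U ⟶ X := (yon S).map jU ≫ a₀
  have ha : RepWith @Etale a :=
    repWith_comp ((repWith_yon_map_iff _ _).2 (inferInstanceAs (Etale iA))) ha₀
  have hmemW : ∀ v : U.left, Points.ofPt a v ∈ W := fun v => by
    rw [ofPt_map]
    exact hOO (O.toScheme.isoSpec.inv v).2
  obtain ⟨R, s, t', sq⟩ := ha.1 a
  obtain ⟨t, rfl⟩ := (yon S).map_surjective t'
  let sA : R.left ⟶ Spec A := s.left
  have hse : Etale s.left := ha.2 a _ s sq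
  have hte : Etale t.left := ha.2 a _ t sq.flip
  have : Etale sA := hse
  have : IsSeparated sA := isSeparated_of_selfProduct sq
  have hfinfib : ∀ v : PrimeSpectrum A, (sA ⁻¹' {(v : Spec A)}).Finite := fun v => by
    obtain ⟨p, hp, -, hqc⟩ := hd (Points.ofPt a (v : U.left))
    refine (finite_fibre_rel hX p hqc ha sq).subset fun r hr => ?_
    change Points.ofPt ((yon S).map t ≫ a) r = Points.mk p
    rw [ofPt_map, hp, ofPt_target_eq_source sq r]
    exact congrArg (Points.ofPt a) hr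
  have hne' : (PrimeSpectrum.zeroLocus ((⊥ : Ideal A) : Set A)).Nonempty :=
    ⟨O.toScheme.isoSpec.hom ⟨u₁, hu₁⟩, fun x hx => by
      rw [SetLike.mem_coe, Ideal.mem_bot] at hx; rw [hx]; exact zero_mem _⟩
  obtain ⟨m, f, ⟨v₀, -, hv₀⟩, hf⟩ := exists_basic_constant ⊥ (fun n => {v | AtLeast sA n (v : Spec A)}) hne'
    (fun n => isOpen_atLeast sA n) (Set.eq_univ_of_forall fun v => atLeast_zero sA _)
    (fun v _ => exists_not_atLeast sA (hfinfib v))
  let D : (Spec A).Opens := PrimeSpectrum.basicOpen f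
  have hDa : IsAffineOpen D := by
    rw [show D = (Spec A).basicOpen ((Scheme.ΓSpecIso A).inv f) from (basicOpen_eq_of_affine f).symm]
    exact (isAffineOpen_top (Spec A)).basicOpen _
  have hc : IsCompact (sA ⁻¹' (Set.univ ∩ (D : Set (Spec A)))) :=
    isCompact_preimage_of_constant sA isClosed_univ D.2 hDa.isCompact (fun v _ => hfinfib v)
      fun v hv => hf (v : PrimeSpectrum A) ⟨fun x hx => by
        rw [SetLike.mem_coe, Ideal.mem_bot] at hx; rw [hx]; exact zero_mem _, hv.2⟩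
  rw [Set.univ_inter] at hc
  have : CompactSpace (sA ⁻¹ᵁ D).toScheme := isCompact_iff_compactSpace.1 hc
  have : IsAffine D.toScheme := hDa
  have : QuasiCompact (sA ∣_ D) := (quasiCompact_iff_compactSpace _).2 inferInstance
  have : LocallyQuasiFinite (sA ∣_ D) := lqf_of_etale _
  obtain ⟨V₀, -, hV₀ne, hV₀f⟩ := Groth.Agent.H7Flat.exists_isFinite_morphismRestrict (sA ∣_ D) ⊤
    ⟨⟨v₀, hv₀⟩, trivial⟩
  let V : U.left.Opens := D.ι ''ᵁ V₀
  have hVf : IsFinite (s.left ∣_ V) :=
    (MorphismProperty.arrow_mk_iso_iff (P := @IsFinite) (morphismRestrictRestrict sA D V₀)).1 hV₀f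
  let W' : Set (Points X) := Points.ofPt a '' (V : Set U.left)
  have hW' : IsOpen W' := isOpenMap_ofPt_of_repWith etale_le_universallyOpen ha _ V.2
  let Vs : U.left.Opens := ⟨Points.ofPt a ⁻¹' W', hW'.preimage (Points.continuous_ofPt a)⟩
  have hinv : s.left ⁻¹ᵁ Vs = t.left ⁻¹ᵁ Vs := by
    ext r
    show Points.ofPt a (s.left r) ∈ W' ↔ Points.ofPt a (t.left r) ∈ W'
    rw [ofPt_target_eq_source sq r]
  have hVs : (Vs : Set U.left) = s.left '' (t.left ⁻¹' (V : Set U.left)) := by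
    ext v
    constructor
    · rintro ⟨u, hu, e⟩
      obtain ⟨r, rfl, rfl⟩ := exists_arrow_of_ofPt_eq sq e
      exact ⟨r, hu, rfl⟩
    · rintro ⟨r, hr, rfl⟩
      exact ⟨t.left r, hr, ofPt_target_eq_source sq r⟩
  have hVsW : Points.ofPt a '' (Vs : Set U.left) = W' := by
    refine Set.Subset.antisymm (Set.image_preimage_subset (Points.ofPt a) W') ?_
    rintro _ ⟨u, hu, rfl⟩
    exact ⟨u, ⟨u, hu, rfl⟩, rfl⟩
  obtain ⟨Y, μ, hμ⟩ := exists_iso_openSub_of_finite hX ha sq hinv
    (isFinite_morphismRestrict_saturation sq hVf hVs)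
  obtain ⟨z, hz⟩ := hV₀ne
  refine ⟨_, Y, μ, hμ, hVsW.symm ▸ hW', Points.ofPt a z.1, ?_, hmemW _⟩
  rw [hVsW]
  exact ⟨z.1, ⟨z, hz, rfl⟩, rfl⟩

/-- A decent algebraic space has a dense open subscheme. -/
theorem exists_dense_open_subscheme (X : Space S) (hX : IsDecent X.obj) :
    ∃ (X' : Space S) (j : X' ⟶ X), RepWith @IsOpenImmersion j.hom ∧ X'.obj.obj.IsRepresentable ∧
      Dense (Set.range (Points.map j.hom)) := by
  obtain ⟨X', j, hj, hrep, hmax⟩ := exists_largest_open_subscheme X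
  refine ⟨X', j, hj, hrep, dense_iff_inter_open.2 fun W hW hne => ?_⟩
  obtain ⟨W', Y, μ, hμ, hW', x, hxW', hxW⟩ := exists_open_scheme_meeting X.property hX hW hne
  let X'' : Space S := ⟨openSub W', isAlgSpace_of_representable _ (repWith_openSubι hW').1 X.property⟩
  let j'' : X'' ⟶ X := ObjectProperty.homMk (openSubι W')
  obtain ⟨k, hk⟩ := hmax X'' j'' (repWith_openSubι hW') (representableByOfIso (asIso μ)).isRepresentable
  obtain ⟨z, rfl⟩ := (range_openSubι X.property W').ge hxW'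
  refine ⟨_, hxW, Points.map k.hom z, ?_⟩
  rw [← Points.map_comp]
  exact congrArg (fun g => Points.map g z) (congrArg InducedCategory.Hom.hom hk)

end Groth.Agent.H13AlgSp
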