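import Groth.Agent.H14AlgSt.IdealLemmas
import Groth.Agent.H12AlgSp.AffineMor
import Groth.Agent.H12AlgSp.OpenSub
import Groth.Agent.H13Cartier.Space
import Groth.Agent.H13AlgSp.Refinement
import Groth.Prelude.Def_AlgSpSub

/-!
Reduced induced closed subspaces of algebraic spaces.
-/

universe u

open CategoryTheory CategoryTheory.Limits AlgebraicGeometry Opposite
open AlgSp Groth.Agent.H12AlgSp Groth.Agent.H13Cartier
open Groth.Agent.H14AlgSt (comap_eq_bot_iff_factors comap_vanishingIdeal_of_smooth)

namespace Groth.Agent.H13AlgSp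

variable {S : Scheme.{u}} {X : Sp S} {U : Over S} (p : (yon S).obj U ⟶ X) (I : U.left.IdealSheafData)

/-- Sections whose lifts to a chart lie in a closed subscheme of the chart. -/
def InIdeal {T : Over S} (x : (yon S).obj T ⟶ X) : Prop :=
  ∀ (A : Over S) (a : A ⟶ T) (d : A ⟶ U), (yon S).map a ≫ x = (yon S).map d ≫ p → I.comap d.left = ⊥

variable {p I}

theorem InIdeal.precomp {T T' : Over S} (f : T' ⟶ T) {x : (yon S).obj T ⟶ X} (h : InIdeal p I x) :
    InIdeal p I ((yon S).map f ≫ x) := fun A a d e => h A (a ≫ f) d (by rw [Functor.map_comp, Category.assoc, e])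

variable (p I)

/-- The subsheaf of sections lying in a closed subscheme of a chart. -/
noncomputable def idealSubfunctor : Subfunctor X.obj where
  obj T := {s | InIdeal p I ((J S).uliftYonedaEquiv.symm s)}
  map {T T'} f s hs := by
    change InIdeal p I _
    have e : (J S).uliftYonedaEquiv.symm (X.obj.map f s) =
        (yon S).map f.unop ≫ (J S).uliftYonedaEquiv.symm s := by
      rw [Equiv.symm_apply_eq, ← GrothendieckTopology.uliftYonedaEquiv_naturality, Equiv.apply_symm_apply]
      rfl
    rw [e]
    exact InIdeal.precomp f.unop hs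

theorem isSheaf_idealSubfunctor : Presheaf.IsSheaf (J S) (idealSubfunctor p I).toFunctor := by
  rw [isSheaf_iff_isSheaf_of_type, Subfunctor.isSheaf_iff _ ((isSheaf_iff_isSheaf_of_type _ _).1 X.property)]
  intro T s hs A a d e
  obtain ⟨κ, C, c, hfl, -, hc, hR⟩ := exists_cover_of_mem_J hs
  have hp : ∀ i, IsPullback (pullback.fst a (c i)).left (pullback.snd a (c i)).left a.left (c i).left :=
    fun i => (IsPullback.of_hasPullback a (c i)).map (Over.forget S)
  have : ∀ i, Flat (pullback.fst a (c i)).left := fun i =>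
    MorphismProperty.of_isPullback (hp i).flip (hfl i)
  refine Groth.Agent.H14AlgSt.eq_bot_of_comap_eq_bot _ _ (fun i => (pullback.fst a (c i)).left)
    (fun t => ?_) fun i => ?_
  · obtain ⟨i, w, hw⟩ := hc (a.left t)
    obtain ⟨z, hz, -⟩ := Scheme.exists_preimage_of_isPullback (hp i) t w hw.symm
    exact ⟨i, z, hz⟩
  · rw [← Scheme.IdealSheafData.comap_comp, ← Over.comp_left]
    have h : InIdeal p I ((J S).uliftYonedaEquiv.symm (X.obj.map (c i).op s)) := hR i
    refine h _ (pullback.snd a (c i)) _ ?_
    rw [show (J S).uliftYonedaEquiv.symm (X.obj.map (c i).op s) =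
      (yon S).map (c i) ≫ (J S).uliftYonedaEquiv.symm s by
        rw [Equiv.symm_apply_eq, ← GrothendieckTopology.uliftYonedaEquiv_naturality, Equiv.apply_symm_apply],
      ← Category.assoc, ← Functor.map_comp, ← pullback.condition, Functor.map_comp, Functor.map_comp,
      Category.assoc, Category.assoc]
    exact congrArg ((yon S).map _ ≫ ·) e

/-- The subsheaf cut out by a closed subscheme of a chart. -/
noncomputable def idealSub : Sp S := ⟨(idealSubfunctor p I).toFunctor, isSheaf_idealSubfunctor p I⟩

/-- Its inclusion. -/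
noncomputable def idealSubι : idealSub p I ⟶ X := ObjectProperty.homMk (idealSubfunctor p I).ι

instance mono_idealSubι : Mono (idealSubι p I) := by
  refine mono_of_yon fun T a b e => (J S).uliftYonedaEquiv.injective (Subtype.ext ?_)
  have := congrArg (J S).uliftYonedaEquiv e
  rwa [GrothendieckTopology.uliftYonedaEquiv_comp, GrothendieckTopology.uliftYonedaEquiv_comp] at this

variable {p I}

theorem inIdeal_of_factor {T : Over S} (l : (yon S).obj T ⟶ idealSub p I) : InIdeal p I (l ≫ idealSubι p I) := by
  have h : InIdeal p I ((J S).uliftYonedaEquiv.symm ((J S).uliftYonedaEquiv l).1) :=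
    ((J S).uliftYonedaEquiv l).2
  convert h
  rw [eq_comm, Equiv.symm_apply_eq, GrothendieckTopology.uliftYonedaEquiv_comp]
  rfl

theorem exists_factor_of_inIdeal {T : Over S} {x : (yon S).obj T ⟶ X} (h : InIdeal p I x) :
    ∃ l : (yon S).obj T ⟶ idealSub p I, l ≫ idealSubι p I = x := by
  refine ⟨(J S).uliftYonedaEquiv.symm ⟨(J S).uliftYonedaEquiv x, ?_⟩, ?_⟩
  · change InIdeal p I _
    rwa [Equiv.symm_apply_apply]
  · apply (J S).uliftYonedaEquiv.injective
    rw [GrothendieckTopology.uliftYonedaEquiv_comp, Equiv.apply_symm_apply]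
    rfl

/-- An invariant ideal on a chart cuts out a closed subspace pulling back to it. -/
theorem exists_isPullback_idealSub (hI : ∀ (A : Over S) (d d' : A ⟶ U),
    (yon S).map d ≫ p = (yon S).map d' ≫ p → I.comap d.left = I.comap d'.left) :
    ∃ q : (yon S).obj (subOver U I) ⟶ idealSub p I,
      IsPullback q ((yon S).map (subIncl U I)) (idealSubι p I) p := by
  have hself : InIdeal p I ((yon S).map (subIncl U I) ≫ p) := fun A a d e => by
    rw [hI A d (a ≫ subIncl U I) (by rw [← e, Functor.map_comp, Category.assoc]), comap_eq_bot_iff_factors]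
    exact ⟨a.left, rfl⟩
  obtain ⟨q, hq⟩ := exists_factor_of_inIdeal hself
  have : Mono (subIncl U I).left := inferInstanceAs (Mono I.subschemeι)
  have : Mono (subIncl U I) := (Over.forget S).mono_of_mono_map ‹_›
  refine ⟨q, isPullback_of_points hq fun T l m e => ?_⟩
  obtain ⟨m, rfl⟩ := (yon S).map_surjective m
  obtain ⟨g, hg⟩ := (comap_eq_bot_iff_factors I m.left).1
    (inIdeal_of_factor l T (𝟙 T) m (by rw [e, CategoryTheory.Functor.map_id, Category.id_comp]))
  have hgS : g ≫ I.subschemeι ≫ U.hom = T.hom := by rw [← Category.assoc, hg, Over.w]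
  refine ⟨Over.homMk g hgS, ?_⟩
  rw [← Functor.map_comp]
  exact congrArg (yon S).map (Over.OverMorphism.ext hg)
where
  isPullback_of_points {A : Over S} {F G : Sp S} {i : F ⟶ G} [Mono i] {B : Over S} {b : A ⟶ B} [Mono b]
      {q : (yon S).obj A ⟶ F} {g : (yon S).obj B ⟶ G} (w : q ≫ i = (yon S).map b ≫ g)
      (h : ∀ (T : Over S) (l : (yon S).obj T ⟶ F) (m : (yon S).obj T ⟶ (yon S).obj B), l ≫ i = m ≫ g →
        ∃ a : T ⟶ A, (yon S).map a ≫ (yon S).map b = m) :
      IsPullback q ((yon S).map b) i g := by
    have := (yon S).map_mono b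
    refine IsPullback.of_map (sheafToPresheaf (J S) (Type (u + 1))) w ?_
    refine IsPullback.of_forall_isPullback_app fun T => ?_
    rw [Types.isPullback_iff]
    refine ⟨?_, fun k₁ k₂ ⟨_, e⟩ => ULift.ext _ _ ((cancel_mono b).1 (congrArg ULift.down e)), ?_⟩
    · exact congrArg (fun t => t.hom.app T) w
    · intro z m e
      let l : (yon S).obj T.unop ⟶ F := (J S).uliftYonedaEquiv.symm z
      let m' : (yon S).obj T.unop ⟶ (yon S).obj B := (J S).uliftYonedaEquiv.symm m
      obtain ⟨a, ha⟩ := h T.unop l m' (by
        apply (J S).uliftYonedaEquiv.injective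
        rw [GrothendieckTopology.uliftYonedaEquiv_comp, GrothendieckTopology.uliftYonedaEquiv_comp,
          Equiv.apply_symm_apply, Equiv.apply_symm_apply]
        exact e)
      have hl : (yon S).map a ≫ q = l := by
        rw [← cancel_mono i, Category.assoc, w, reassoc_of% ha]
        apply (J S).uliftYonedaEquiv.injective
        rw [GrothendieckTopology.uliftYonedaEquiv_comp, GrothendieckTopology.uliftYonedaEquiv_comp,
          Equiv.apply_symm_apply, Equiv.apply_symm_apply]
        exact e.symm
      refine ⟨(J S).uliftYonedaEquiv ((yon S).map a), ?_, ?_⟩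
      · refine ((J S).uliftYonedaEquiv_comp _ _).symm.trans ?_
        change (J S).uliftYonedaEquiv ((yon S).map a ≫ q) = z
        rw [hl]
        exact Equiv.apply_symm_apply _ _
      · refine ((J S).uliftYonedaEquiv_comp _ _).symm.trans ?_
        change (J S).uliftYonedaEquiv ((yon S).map a ≫ (yon S).map b) = m
        rw [ha]
        exact Equiv.apply_symm_apply _ _

/-- Every closed set of points carries a reduced closed subspace. -/
theorem exists_isRedInduced (hX : IsAlgSpace X) {T : Set (Points X)} (hT : IsClosed T) :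
    ∃ (Z : Sp S) (i : Z ⟶ X), IsAlgSpace Z ∧ IsRedInduced T i := by
  obtain ⟨U, p, hp, hps⟩ := hX.atlas
  let C : TopologicalSpace.Closeds U.left := ⟨Points.ofPt p ⁻¹' T, hT.preimage (Points.continuous_ofPt p)⟩
  let I := Scheme.IdealSheafData.vanishingIdeal C
  obtain ⟨R, s, t, sq⟩ := hp.rep p
  obtain ⟨t, rfl⟩ := (yon S).map_surjective t
  have : Etale s.left := hp.property p _ s sq
  have : Etale t.left := hp.property p _ t sq.flip
  have key : I.comap s.left = I.comap t.left := by
    rw [comap_vanishingIdeal_of_smooth, comap_vanishingIdeal_of_smooth]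
    congr 1
    ext r
    change Points.ofPt p (s.left r) ∈ T ↔ Points.ofPt p (t.left r) ∈ T
    rw [← ofPt_map s p r, ← ofPt_map t p r, sq.w]
  have hI : ∀ (A : Over S) (d d' : A ⟶ U), (yon S).map d ≫ p = (yon S).map d' ≫ p →
      I.comap d.left = I.comap d'.left := fun A d d' e => by
    obtain ⟨l, hl⟩ := (yon S).map_surjective (sq.lift ((yon S).map d) ((yon S).map d') e)
    have h1 : l ≫ t = d := (yon S).map_injective (by rw [Functor.map_comp, hl, sq.lift_fst])
    have h2 : l ≫ s = d' := (yon S).map_injective (by rw [Functor.map_comp, hl, sq.lift_snd])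
    rw [← h1, ← h2, Over.comp_left, Over.comp_left, Scheme.IdealSheafData.comap_comp,
      Scheme.IdealSheafData.comap_comp, key]
  obtain ⟨q, sqq⟩ := exists_isPullback_idealSub hI
  have hq : RepWith @Etale q := repWith_of_isPullback sqq.flip hp
  have hqs : RepWith @Surjective q := repWith_of_isPullback sqq.flip hps
  have sqm : IsPullback (idealSubι p I) (Limits.diag (idealSub p I)) (Limits.diag X)
      (prod.map (idealSubι p I) (idealSubι p I)) := by
    have := isPullback_diag_prodMap (IsPullback.id_horiz (𝟙 (idealSub p I))) (F := idealSub p I)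
    refine ⟨⟨by ext <;> simp⟩, ⟨PullbackCone.IsLimit.mk _ (fun c => c.snd ≫ prod.fst) (fun c => ?_) (fun c => ?_)
      fun c m h1 h2 => ?_⟩⟩
    · have h₁ := c.condition =≫ prod.fst
      simp [Limits.prod.lift_fst] at h₁
      simp [h₁]
    · have h₁ := c.condition =≫ prod.fst
      have h₂ := c.condition =≫ prod.snd
      simp [Limits.prod.lift_fst, Limits.prod.lift_snd] at h₁ h₂
      apply Limits.prod.hom_ext
      · simp [Limits.prod.lift_fst]
      · rw [← cancel_mono (idealSubι p I)]
        simp [Limits.prod.lift_snd, ← h₂, ← h₁]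
    · have h₁ := h2 =≫ prod.fst
      simpa [Limits.prod.lift_fst] using h₁
  have hZ : IsAlgSpace (idealSub p I) :=
    ⟨representable_of_isPullback sqm hX.diag, _, q, hq, hqs⟩
  have hcl : RepWith @IsClosedImmersion (idealSubι p I) :=
    repWith_of_etale_cover (fun _ _ k (_ : IsClosedImmersion k) => inferInstanceAs (IsAffineHom k)) hZ hX hp hps sqq
      ((repWith_yon_map_iff _ _).2 (inferInstanceAs (IsClosedImmersion I.subschemeι)))
  refine ⟨_, idealSubι p I, hZ, hcl, ?_, _, q, hq, hqs, Groth.Agent.H14AlgSt.isReduced_vanishingIdeal C⟩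
  ext x
  obtain ⟨u, rfl⟩ := surjective_ofPt_of_repWith le_rfl hps x
  have h := Set.ext_iff.mp (preimage_ofPt_range sqq) u
  rw [Set.mem_preimage] at h
  rw [h, show Set.range (subIncl U I).left = I.support from I.range_subschemeι]
  exact Iff.of_eq (congrArg (fun Z : Set U.left => u ∈ Z) (Scheme.IdealSheafData.coe_support_vanishingIdeal C))

end Groth.Agent.H13AlgSp
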