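import Groth.Agent.H13AlgSp.FibreCount
import Groth.Agent.H12AlgSp.QCPoint

/-!
Decent spaces are sober: every irreducible closed subset has a generic point.
-/

universe u

open CategoryTheory CategoryTheory.Limits AlgebraicGeometry Opposite Topology
open AlgSp Groth.Agent.H12AlgSp

namespace Groth.Agent.H13AlgSp

/-- An element of a prime minimal over `I` is killed modulo the radical by an element outside the prime. -/
theorem exists_mul_mem_radical {A : Type*} [CommRing A] {I P : Ideal A} (hP : P ∈ I.minimalPrimes)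
    {g : A} (hg : g ∈ P) : ∃ z, z ∉ P ∧ z * g ∈ I.radical := by
  by_contra hc
  push Not at hc
  have hPp : P.IsPrime := hP.1.1
  let M : Submonoid A :=
    { carrier := {x | ∃ n z, z ∉ P ∧ x = g ^ n * z}
      one_mem' := ⟨0, 1, fun h => hPp.ne_top ((Ideal.eq_top_iff_one _).2 h), by simp⟩
      mul_mem' := by
        rintro _ _ ⟨n, z, hz, rfl⟩ ⟨m, w, hw, rfl⟩
        exact ⟨n + m, z * w, fun h => (hPp.mem_or_mem h).elim hz hw, by ring⟩ }
  have hd : Disjoint (I : Set A) M := Set.disjoint_left.2 fun x hx ⟨n, z, hz, e⟩ => by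
    rcases n with _ | n
    · exact hz (hP.1.2 (by simpa [e] using hx))
    · refine hc z hz ⟨n + 1, ?_⟩
      rw [show (z * g) ^ (n + 1) = z ^ n * (g ^ (n + 1) * z) by ring, ← e]
      exact I.mul_mem_left _ hx
  obtain ⟨Q, hQ, hIQ, hQM⟩ := Ideal.exists_le_prime_disjoint I M hd
  have hQP : Q ≤ P := fun x hx => by
    by_contra hxP
    exact Set.disjoint_left.1 hQM hx ⟨0, x, hxP, by simp⟩
  exact Set.disjoint_left.1 hQM (hP.2 ⟨hQ, hIQ⟩ hQP hg)
    ⟨1, 1, fun h => hPp.ne_top ((Ideal.eq_top_iff_one _).2 h), by simp⟩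

/-- Baire property of closed subsets of spectra for decreasing sequences of opens with empty intersection. -/
theorem exists_basic_constant {A : Type*} [CommRing A] (I : Ideal A) (L : ℕ → Set (PrimeSpectrum A))
    (hne : (PrimeSpectrum.zeroLocus (I : Set A)).Nonempty) (hopen : ∀ n, IsOpen (L n)) (h0 : L 0 = Set.univ)
    (hbdd : ∀ v ∈ PrimeSpectrum.zeroLocus (I : Set A), ∃ n, v ∉ L n) :
    ∃ (m : ℕ) (f : A), (PrimeSpectrum.zeroLocus (I : Set A) ∩ PrimeSpectrum.basicOpen f).Nonempty ∧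
      ∀ v ∈ PrimeSpectrum.zeroLocus (I : Set A) ∩ PrimeSpectrum.basicOpen f, v ∈ L m ∧ v ∉ L (m + 1) := by
  classical
  let C := PrimeSpectrum.zeroLocus (I : Set A)
  have step : ∀ (V : Set (PrimeSpectrum A)) (f : A), IsOpen V → (C ∩ PrimeSpectrum.basicOpen f ∩ V).Nonempty →
      ∃ g, (C ∩ PrimeSpectrum.basicOpen (f * g)).Nonempty ∧ (PrimeSpectrum.basicOpen g : Set (PrimeSpectrum A)) ⊆ V := by
    rintro V f hV ⟨v, ⟨hvC, hvf⟩, hvV⟩
    obtain ⟨_, ⟨g, rfl⟩, hvg, hgV⟩ := PrimeSpectrum.isTopologicalBasis_basic_opens.exists_subset_of_mem_open hvV hV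
    exact ⟨g, ⟨v, hvC, by rw [PrimeSpectrum.basicOpen_mul]; exact ⟨hvf, hvg⟩⟩, hgV⟩
  have hb : ∃ (n : ℕ) (f : A), (C ∩ PrimeSpectrum.basicOpen f).Nonempty ∧
      ∀ v ∈ C ∩ PrimeSpectrum.basicOpen f, v ∉ L (n + 1) := by
    by_contra hc
    push Not at hc
    have hs : ∀ (n : ℕ) (f : {f : A // (C ∩ PrimeSpectrum.basicOpen f).Nonempty}),
        ∃ g : A, (C ∩ PrimeSpectrum.basicOpen (f.1 * g)).Nonempty ∧
          (PrimeSpectrum.basicOpen g : Set (PrimeSpectrum A)) ⊆ L (n + 1) := fun n f => by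
      obtain ⟨v, hv, hvL⟩ := hc n f.1 f.2
      exact step _ _ (hopen _) ⟨v, hv, hvL⟩
    choose g hg hgL using hs
    have h1 : (C ∩ PrimeSpectrum.basicOpen (1 : A)).Nonempty := by
      obtain ⟨v, hv⟩ := hne
      exact ⟨v, hv, fun h => v.isPrime.ne_top ((Ideal.eq_top_iff_one _).2 h)⟩
    let h : ℕ → {f : A // (C ∩ PrimeSpectrum.basicOpen f).Nonempty} :=
      Nat.rec ⟨1, h1⟩ fun n f => ⟨f.1 * g n f, hg n f⟩
    have hdvd : ∀ n m, n ≤ m → (h n).1 ∣ (h m).1 := by
      intro n m hnm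
      induction hnm with
      | refl => exact dvd_rfl
      | step _ ih => exact ih.trans (Dvd.intro _ rfl)
    let M : Submonoid A :=
      { carrier := {x | ∃ n k, x ∣ (h n).1 ^ k}
        one_mem' := ⟨0, 0, one_dvd _⟩
        mul_mem' := by
          rintro x y ⟨n, k, hx⟩ ⟨m, l, hy⟩
          refine ⟨max n m, k + l, ?_⟩
          rw [pow_add]
          exact mul_dvd_mul (hx.trans (pow_dvd_pow_of_dvd (hdvd _ _ (le_max_left _ _)) k))
            (hy.trans (pow_dvd_pow_of_dvd (hdvd _ _ (le_max_right _ _)) l)) }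
    have hd : Disjoint (I : Set A) M := Set.disjoint_left.2 fun x hx ⟨n, k, hk⟩ => by
      obtain ⟨v, hvC, hv⟩ := (h n).2
      exact hv (v.isPrime.mem_of_pow_mem k (hvC (I.mem_of_dvd hk hx)))
    obtain ⟨Q, hQ, hIQ, hQM⟩ := Ideal.exists_le_prime_disjoint I M hd
    obtain ⟨n, hn⟩ := hbdd ⟨Q, hQ⟩ hIQ
    rcases n with _ | n
    · exact hn (h0 ▸ Set.mem_univ _)
    · refine hn (hgL n (h n) fun hmem => Set.disjoint_left.1 hQM hmem ⟨n + 1, 1, ?_⟩)
      rw [pow_one]
      exact Dvd.intro_left _ rfl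
  obtain ⟨f, hf, hfL⟩ := Nat.find_spec hb
  rcases hN : Nat.find hb with _ | n
  · exact ⟨0, f, hf, fun v hv => ⟨h0 ▸ Set.mem_univ v, hN ▸ hfL v hv⟩⟩
  · have hlt := Nat.find_min hb (show n < Nat.find hb by omega)
    push Not at hlt
    obtain ⟨v, hv, hvL⟩ := hlt f hf
    obtain ⟨g, hg, hgL⟩ := step _ f (hopen (n + 1)) ⟨v, hv, hvL⟩
    refine ⟨n + 1, f * g, hg, fun w hw => ?_⟩
    rw [PrimeSpectrum.basicOpen_mul] at hw
    exact ⟨hgL hw.2.2, hN ▸ hfL w ⟨hw.1, hw.2.1⟩⟩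

variable {S : Scheme.{u}}

theorem isSeparated_of_selfProduct {X : Sp S} {U R : Over S} [IsAffine U.left] {a : (yon S).obj U ⟶ X}
    {s t : R ⟶ U} (sq : IsPullback ((yon S).map t) ((yon S).map s) a a) : IsSeparated s.left := by
  let hU : U ⟶ Over.mk (𝟙 S) := Over.homMk U.hom (by simp)
  have hst : t ≫ hU = s ≫ hU := Over.OverMorphism.ext (by simp [hU])
  let j : R ⟶ pullback hU hU := pullback.lift t s hst
  have : Mono j := by
    refine ⟨fun {T} g₁ g₂ e => (yon S).map_injective (sq.hom_ext ?_ ?_)⟩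
    · rw [← Functor.map_comp, ← Functor.map_comp]
      refine congrArg _ ?_
      rw [← pullback.lift_fst (f := hU) t s hst, ← Category.assoc, ← Category.assoc,
        show g₁ ≫ j = g₂ ≫ j from e]
    · rw [← Functor.map_comp, ← Functor.map_comp]
      refine congrArg _ ?_
      rw [← pullback.lift_snd (f := hU) t s hst, ← Category.assoc, ← Category.assoc,
        show g₁ ≫ j = g₂ ≫ j from e]
  have : Mono j.left := Over.mono_left_of_mono j
  have : IsSeparated hU.left := inferInstanceAs (IsSeparated U.hom)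
  have : IsSeparated (pullback.snd hU hU).left :=
    MorphismProperty.of_isPullback (P := @IsSeparated)
      ((IsPullback.of_hasPullback hU hU).map (Over.forget S)) (inferInstanceAs (IsSeparated hU.left))
  have h : IsSeparated (j.left ≫ (pullback.snd hU hU).left) := inferInstance
  rwa [← Over.comp_left, pullback.lift_snd] at h

set_option maxHeartbeats 800000 in
/-- Decent spaces have generic points. -/
theorem exists_genericPoint_of_isDecent {X : Sp S} (hX : IsAlgSpace X) (hd : IsDecent X) {T : Set (Points X)}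
    (hTi : IsIrreducible T) (hTc : IsClosed T) : ∃ x, IsGenericPoint x T := by
  classical
  obtain ⟨U₀, a₀, ha₀, has₀⟩ := hX.atlas
  obtain ⟨x₁, hx₁⟩ := hTi.1
  obtain ⟨u₁, rfl⟩ := surjective_ofPt_of_repWith le_rfl has₀ x₁
  obtain ⟨O, hO, hu₁, -⟩ := exists_isAffineOpen_mem_and_subset (U := (⊤ : U₀.left.Opens)) (x := u₁) trivial
  have : IsAffine O.toScheme := hO
  let A : CommRingCat.{u} := Γ(O.toScheme, ⊤)
  let iA : Spec A ⟶ U₀.left := O.toScheme.isoSpec.inv ≫ O.ι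
  let U : Over S := Over.mk (iA ≫ U₀.hom)
  have : IsAffine U.left := inferInstanceAs (IsAffine (Spec A))
  let jU : U ⟶ U₀ := Over.homMk iA
  let a : (yon S).obj U ⟶ X := (yon S).map jU ≫ a₀
  have ha : RepWith @Etale a :=
    repWith_comp ((repWith_yon_map_iff _ _).2 (inferInstanceAs (Etale iA))) ha₀
  let pa : PrimeSpectrum A → Points X := fun v => Points.ofPt a (v : U.left)
  have hpa : Continuous pa := Points.continuous_ofPt a
  have hpao : IsOpenMap pa := isOpenMap_ofPt_of_repWith etale_le_universallyOpen ha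
  obtain ⟨I, hI⟩ := (PrimeSpectrum.isClosed_iff_zeroLocus_ideal (pa ⁻¹' T)).1 (hTc.preimage hpa)
  have hne : (PrimeSpectrum.zeroLocus (I : Set A)).Nonempty := by
    rw [← hI]
    refine ⟨O.toScheme.isoSpec.hom ⟨u₁, hu₁⟩, ?_⟩
    change Points.ofPt a (O.toScheme.isoSpec.hom ⟨u₁, hu₁⟩ : U.left) ∈ T
    rw [ofPt_map jU a₀]
    have : iA (O.toScheme.isoSpec.hom ⟨u₁, hu₁⟩) = u₁ := by
      change (O.toScheme.isoSpec.hom ≫ iA) ⟨u₁, hu₁⟩ = u₁
      simp only [iA, Iso.hom_inv_id_assoc]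
      rfl
    change Points.ofPt a₀ (iA _) ∈ T
    rw [this]
    exact hx₁
  obtain ⟨R, s, t', sq⟩ := ha.1 a
  obtain ⟨t, rfl⟩ := (yon S).map_surjective t'
  let sA : R.left ⟶ Spec A := s.left
  let tA : R.left ⟶ Spec A := t.left
  have : Etale sA := ha.2 a _ s sq
  have : Etale tA := ha.2 a _ t sq.flip
  have : IsSeparated sA := isSeparated_of_selfProduct sq
  have hrel : ∀ r : R.left, pa (tA r) = pa (sA r) := fun r => by
    change Points.ofPt a (t.left r) = Points.ofPt a (s.left r)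
    rw [← ofPt_map t a r, sq.w, ofPt_map]
  have hfin : ∀ v : PrimeSpectrum A, (sA ⁻¹' {(v : Spec A)}).Finite := fun v => by
    obtain ⟨p, hp, -, hqc⟩ := hd (pa v)
    refine (finite_fibre_rel hX p hqc ha sq).subset fun r hr => ?_
    change Points.ofPt ((yon S).map t ≫ a) r = Points.mk p
    rw [ofPt_map, hp]
    exact (hrel r).trans (congrArg pa hr)
  obtain ⟨m, f, hfne, hf⟩ := exists_basic_constant I (fun n => {v | AtLeast sA n (v : Spec A)}) hne
    (fun n => isOpen_atLeast sA n) (Set.eq_univ_of_forall fun v => atLeast_zero sA _)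
    (fun v _ => exists_not_atLeast sA (hfin v))
  obtain ⟨v₀, hv₀C, hv₀f⟩ := hfne
  obtain ⟨P, hP, hPv⟩ := Ideal.exists_minimalPrimes_le (show I ≤ v₀.asIdeal from hv₀C)
  let u₀ : PrimeSpectrum A := ⟨P, hP.1.1⟩
  have hu₀C : u₀ ∈ PrimeSpectrum.zeroLocus (I : Set A) := hP.1.2
  have hu₀f : f ∉ P := fun h => hv₀f (hPv h)
  have hu₀T : pa u₀ ∈ T := hI.ge hu₀C
  refine ⟨pa u₀, isGenericPoint_iff_specializes.2 fun x => ⟨fun h => h.mem_closed hTc hu₀T, fun hx => ?_⟩⟩
  rw [specializes_iff_mem_closure]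
  have hTopen : (T ∩ pa '' (PrimeSpectrum.basicOpen f : Set (PrimeSpectrum A))).Nonempty :=
    ⟨pa u₀, hu₀T, u₀, hu₀f, rfl⟩
  refine closure_minimal ?_ isClosed_closure
    (subset_closure_inter_of_isPreirreducible_of_isOpen hTi.2 (hpao _ (PrimeSpectrum.basicOpen f).2) hTopen hx)
  rintro _ ⟨hyT, y, hyf, rfl⟩
  by_contra hy
  have hW : IsOpen ((PrimeSpectrum.basicOpen f : Set (PrimeSpectrum A)) ∩ pa ⁻¹' (closure {pa u₀})ᶜ) :=
    (PrimeSpectrum.basicOpen f).2.inter (isClosed_closure.isOpen_compl.preimage hpa)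
  obtain ⟨_, ⟨h, rfl⟩, hyh, hhW⟩ :=
    PrimeSpectrum.isTopologicalBasis_basic_opens.exists_subset_of_mem_open
      (show y ∈ (PrimeSpectrum.basicOpen f : Set (PrimeSpectrum A)) ∩ pa ⁻¹' (closure {pa u₀})ᶜ from ⟨hyf, hy⟩) hW
  let C : Set (Spec A) := PrimeSpectrum.zeroLocus (I : Set A)
  let D : Set (Spec A) := (PrimeSpectrum.basicOpen h : Set (PrimeSpectrum A))
  have hRc : IsCompact (sA ⁻¹' (C ∩ D)) :=
    isCompact_preimage_of_constant sA (PrimeSpectrum.isClosed_zeroLocus _) (PrimeSpectrum.basicOpen h).2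
      (PrimeSpectrum.isCompact_basicOpen h) (fun v _ => hfin v) (fun v hv => by
        refine hf (v : PrimeSpectrum A) ?_
        exact ⟨hv.1, (hhW hv.2).1⟩)
  let G : Set (PrimeSpectrum A) := tA '' (sA ⁻¹' D)
  have hG : IsOpen G := tA.isOpenMap _ ((PrimeSpectrum.basicOpen h).2.preimage sA.continuous)
  have hCG : ∀ r, (sA r : PrimeSpectrum A) ∈ PrimeSpectrum.zeroLocus (I : Set A) ↔
      (tA r : PrimeSpectrum A) ∈ PrimeSpectrum.zeroLocus (I : Set A) := fun r => by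
    refine ((Set.ext_iff.1 hI _).symm.trans ?_).trans (Set.ext_iff.1 hI _)
    change pa (sA r) ∈ T ↔ pa (tA r) ∈ T
    rw [hrel r]
  have hu₀G : u₀ ∉ G := by
    rintro ⟨r, hr, hrt⟩
    refine (hhW hr).2 ?_
    change pa (sA r) ∈ closure {pa u₀}
    rw [← hrel r, hrt]
    exact subset_closure rfl
  have hM : IsCompact (tA '' (sA ⁻¹' (C ∩ D))) := hRc.image tA.continuous
  obtain ⟨gs, hgs⟩ := hM.elim_finite_subcover
    (fun g : {g : A // (PrimeSpectrum.basicOpen g : Set (PrimeSpectrum A)) ⊆ G} =>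
      (PrimeSpectrum.basicOpen g.1 : Set (PrimeSpectrum A)))
    (fun g => (PrimeSpectrum.basicOpen g.1).2) (by
      rintro _ ⟨r, hr, rfl⟩
      obtain ⟨_, ⟨g, rfl⟩, hrg, hgG⟩ := PrimeSpectrum.isTopologicalBasis_basic_opens.exists_subset_of_mem_open
        (show tA r ∈ G from ⟨r, hr.2, rfl⟩) hG
      exact Set.mem_iUnion.2 ⟨⟨g, hgG⟩, hrg⟩)
  have hgP : ∀ g : {g : A // (PrimeSpectrum.basicOpen g : Set (PrimeSpectrum A)) ⊆ G}, g.1 ∈ P := fun g => by
    by_contra hg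
    exact hu₀G (g.2 hg)
  choose z hzP hzg using fun g => exists_mul_mem_radical hP (hgP g)
  let Z := f * ∏ g ∈ gs, z g
  have hZP : Z ∉ P := fun hmem => by
    rcases hP.1.1.mem_or_mem hmem with h1 | h1
    · exact hu₀f h1
    · obtain ⟨g, -, hg⟩ := (hP.1.1.prod_mem_iff).1 h1
      exact hzP g hg
  have h1 : (T ∩ pa '' (PrimeSpectrum.basicOpen Z : Set (PrimeSpectrum A))).Nonempty :=
    ⟨pa u₀, hu₀T, u₀, hZP, rfl⟩
  have h2 : (T ∩ pa '' (PrimeSpectrum.basicOpen h : Set (PrimeSpectrum A))).Nonempty :=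
    ⟨pa y, hyT, y, hyh, rfl⟩
  obtain ⟨τ, hτT, ⟨v, hvZ, hvτ⟩, ⟨w, hwh, hwτ⟩⟩ := hTi.2 _ _ (hpao _ (PrimeSpectrum.basicOpen Z).2)
    (hpao _ (PrimeSpectrum.basicOpen h).2) h1 h2
  have hvC : v ∈ PrimeSpectrum.zeroLocus (I : Set A) := hI.le (show pa v ∈ T by rw [hvτ]; exact hτT)
  obtain ⟨q, hq₁, hq₂⟩ := exists_point_of_isPullback sq (Points.ofScheme U (v : U.left))
    (Points.ofScheme U (w : U.left)) (by
      rw [← Points.ofPt_eq_map_ofScheme, ← Points.ofPt_eq_map_ofScheme]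
      exact hvτ.trans hwτ.symm)
  obtain ⟨r, rfl⟩ := (Points.schemeEquiv R).surjective q
  have key : ∀ (k : R ⟶ U) (x : U.left),
      Points.map ((yon S).map k) (Points.schemeEquiv R r) = Points.ofScheme U x → k.left r = x := by
    intro k x he
    apply (Points.schemeEquiv U).injective
    refine Eq.trans ?_ he
    change Points.ofScheme _ _ = Points.map _ (Points.ofScheme _ _)
    rw [← Points.ofPt_eq_map_ofScheme, ← Category.comp_id ((yon S).map k), ofPt_map]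
  have hrt : tA r = v := key t v hq₁
  have hrs : sA r = w := key s w hq₂
  have hrC : (sA r : PrimeSpectrum A) ∈ PrimeSpectrum.zeroLocus (I : Set A) := by
    rw [hCG, hrt]; exact hvC
  obtain ⟨g, hg, hvg⟩ := Set.mem_iUnion₂.1 (hgs ⟨r, ⟨hrC, by rw [hrs]; exact hwh⟩, hrt⟩)
  have hmem : z g * g.1 ∈ v.asIdeal := (v.isPrime.radical_le_iff.2 hvC) (hzg g)
  rcases v.isPrime.mem_or_mem hmem with h' | h'
  · exact hvZ (Ideal.mul_mem_left _ f (Ideal.IsPrime.prod_mem_iff.2 ⟨g, hg, h'⟩))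
  · exact hvg h'

theorem quasiSober_of_isDecent {X : Sp S} (hX : IsAlgSpace X) (hd : IsDecent X) : QuasiSober (Points X) :=
  ⟨fun hi hc => exists_genericPoint_of_isDecent hX hd hi hc⟩

end Groth.Agent.H13AlgSp
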