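import Groth.Agent.H12AlgSp.Immersion
import Groth.Agent.H12AlgSp.OpenScheme
import Groth.Agent.H12AlgSp.FppfBootstrap
import Groth.Agent.H13AlgSp.LocP
import Groth.Prelude.Def_AlgSpSub

/-!
Elementary distinguished squares: gluing morphisms.
-/

set_option autoImplicit false
set_option backward.isDefEq.respectTransparency false

universe u

open CategoryTheory CategoryTheory.Limits AlgebraicGeometry Opposite
open AlgSp Groth.Agent.H12AlgSp

namespace Groth.Agent.H13AlgSp

variable {S : Scheme.{u}} {U V W : Sp S} {j : U ⟶ W} {f : V ⟶ W}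

theorem mem_range_map_of_elemDistSq (hsq : IsElemDistSq j f) (w : Points W) :
    w ∈ Set.range (Points.map j) ∨ w ∈ Set.range (Points.map f) := by
  obtain ⟨-, -, T, P, i, p₁, p₂, ⟨-, hT, -⟩, sq, hiso⟩ := hsq
  refine or_iff_not_imp_left.2 fun hw => ?_
  obtain ⟨z, rfl⟩ := hT.ge hw
  exact ⟨Points.map (inv p₁ ≫ p₂) z, by
    rw [← Points.map_comp, Category.assoc, ← sq.w, IsIso.inv_hom_id_assoc]⟩

theorem isReducedSp_yon {A : Over S} [IsReduced A.left] : IsReducedSp ((yon S).obj A) :=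
  ⟨A, 𝟙 _, repWith_of_isIso _, repWith_of_isIso _, ‹_›⟩

/-- Two field-valued points of `V` with the same image outside of `U` agree. -/
theorem eq_of_not_mem_range (hsq : IsElemDistSq j f) {A : Over S} [IsReduced A.left]
    (x₁ x₂ : (yon S).obj A ⟶ V) (e : x₁ ≫ f = x₂ ≫ f)
    (h : Set.range (Points.map (x₁ ≫ f)) ⊆ (Set.range (Points.map j))ᶜ) : x₁ = x₂ := by
  obtain ⟨-, -, T, P, i, p₁, p₂, ⟨hi, hT, -⟩, sq, hiso⟩ := hsq
  obtain ⟨z, hz⟩ := exists_factor_closed hi isReducedSp_yon (x₁ ≫ f) (h.trans hT.ge)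
  have e₁ : sq.lift z x₁ hz = sq.lift z x₂ (hz.trans e) := by
    rw [← cancel_mono p₁, sq.lift_fst, sq.lift_fst]
  rw [← sq.lift_snd z x₁ hz, e₁, sq.lift_snd]

/-- Maps out of the two pieces which agree on the intersection agree on every pair of points of the etale piece. -/
theorem comp_eq_of_elemDistSq (hsq : IsElemDistSq j f) (hV : IsAlgSpace V) (hW : IsAlgSpace W) {P Z : Sp S}
    {p : P ⟶ U} {q : P ⟶ V} (hP : IsPullback p q j f) {h₁ : U ⟶ Z} {h₂ : V ⟶ Z} (hc : p ≫ h₁ = q ≫ h₂)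
    {A : Over S} (x₁ x₂ : (yon S).obj A ⟶ V) (e : x₁ ≫ f = x₂ ≫ f) : x₁ ≫ h₂ = x₂ ≫ h₂ := by
  have := mono_of_openImmersion hsq.1
  have hd := isOpenImmersion_diagonal_of_etale hV hW (locP_etale_of_isEtaleMor hsq.2.1)
  obtain ⟨B, β, kB, sqB⟩ := hsq.1.rep (x₁ ≫ f)
  obtain ⟨E, ε, kE, sqE⟩ := hd.rep (pullback.lift x₁ x₂ e)
  have hoB : IsOpenImmersion β.left := hsq.1.property _ kB β sqB
  have hoE : IsOpenImmersion ε.left := hd.property _ kE ε sqE
  have eE₁ : kE = (yon S).map ε ≫ x₁ := by simpa using congrArg (· ≫ pullback.fst f f) sqE.w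
  have eE₂ : kE = (yon S).map ε ≫ x₂ := by simpa using congrArg (· ≫ pullback.snd f f) sqE.w
  have hcov : ∀ t : A.left, t ∈ Set.range β.left ∨ t ∈ Set.range ε.left := by
    intro t
    refine or_iff_not_imp_left.2 fun ht => ?_
    let σ : Over.mk (A.left.fromSpecResidueField t ≫ A.hom) ⟶ A :=
      Over.homMk (A.left.fromSpecResidueField t) rfl
    have hred : IsReduced (Over.mk (A.left.fromSpecResidueField t ≫ A.hom)).left :=
      inferInstanceAs (IsReduced (Spec (A.left.residueField t)))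
    have key : (yon S).map σ ≫ x₁ = (yon S).map σ ≫ x₂ := by
      refine eq_of_not_mem_range hsq _ _ (by rw [Category.assoc, Category.assoc, e]) ?_
      rw [range_map_yon]
      rintro _ ⟨s, rfl⟩ hs
      rw [Category.assoc, ofPt_map] at hs
      have hst : σ.left s = t := A.left.fromSpecResidueField_apply t s
      rw [hst] at hs
      exact ht ((preimage_ofPt_range sqB).le hs)
    obtain ⟨l, hl⟩ := (yon S).map_surjective (sqE.lift ((yon S).map σ ≫ x₁) ((yon S).map σ) (by
      apply pullback.hom_ext <;> simp [key]))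
    have hl' : l ≫ ε = σ := (yon S).map_injective (by rw [Functor.map_comp, hl, sqE.lift_snd])
    refine ⟨l.left (IsLocalRing.closedPoint _), ?_⟩
    rw [← Scheme.Hom.comp_apply, ← Over.comp_left, hl']
    exact A.left.fromSpecResidueField_apply t _
  refine hom_ext_of_cover (fun b : ULift.{u} Bool => match b with | ⟨true⟩ => β | ⟨false⟩ => ε)
    (C := fun b => match b with | ⟨true⟩ => B | ⟨false⟩ => E) (ofArrows_mem_J _ ?_ ?_ ?_) ?_
  · rintro ⟨⟨⟩⟩ <;> dsimp only <;> infer_instance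
  · rintro ⟨⟨⟩⟩ <;> dsimp only <;> infer_instance
  · intro t
    rcases hcov t with h | h
    exacts [⟨⟨true⟩, h⟩, ⟨⟨false⟩, h⟩]
  · rintro ⟨⟨⟩⟩ <;> dsimp only
    · rw [← Category.assoc, ← Category.assoc, ← eE₁, ← eE₂]
    · have e₁ : kB ≫ j = ((yon S).map β ≫ x₁) ≫ f := sqB.w.trans (Category.assoc _ _ _).symm
      have e₂ : kB ≫ j = ((yon S).map β ≫ x₂) ≫ f := by rw [e₁, Category.assoc, Category.assoc, e]
      rw [← Category.assoc, ← Category.assoc, ← hP.lift_snd kB _ e₁, Category.assoc, ← hc, ← Category.assoc,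
        hP.lift_fst]
      conv_rhs => rw [← hP.lift_snd kB _ e₂, Category.assoc, ← hc, ← Category.assoc, hP.lift_fst]

/-- An elementary distinguished square is a pushout of sheaves. -/
theorem existsUnique_desc_of_elemDistSq (hsq : IsElemDistSq j f) (hU : IsAlgSpace U) (hV : IsAlgSpace V)
    (hW : IsAlgSpace W) {P Z : Sp S} {p : P ⟶ U} {q : P ⟶ V} (hP : IsPullback p q j f) (h₁ : U ⟶ Z)
    (h₂ : V ⟶ Z) (hc : p ≫ h₁ = q ≫ h₂) : ∃! k : W ⟶ Z, j ≫ k = h₁ ∧ f ≫ k = h₂ := by
  obtain ⟨A, a, ha, has⟩ := hU.atlas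
  obtain ⟨B, b, hb, hbs⟩ := hV.atlas
  have hepiA := epi_of_etale_surjective ha has
  have hepiB := epi_of_etale_surjective hb hbs
  have haj : RepWith @Etale (a ≫ j) :=
    repWith_comp ha (repWith_le (fun _ _ k (_ : IsOpenImmersion k) => inferInstanceAs (Etale k)) hsq.1)
  have hbf : RepWith @Etale (b ≫ f) := hsq.2.1 b hb
  let C : ULift.{u} Bool → Over S := fun i => match i with | ⟨true⟩ => A | ⟨false⟩ => B
  let c : ∀ i, (yon S).obj (C i) ⟶ W ⨯ Z := fun i => match i with
    | ⟨true⟩ => prod.lift (a ≫ j) (a ≫ h₁)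
    | ⟨false⟩ => prod.lift (b ≫ f) (b ≫ h₂)
  obtain ⟨T, inc, l, ho, hs, hl, -⟩ := exists_sigma_lift C c
  have hlA : (yon S).map (inc ⟨true⟩) ≫ l ≫ prod.fst = a ≫ j := by
    rw [← Category.assoc, hl]; exact prod.lift_fst _ _
  have hlB : (yon S).map (inc ⟨false⟩) ≫ l ≫ prod.fst = b ≫ f := by
    rw [← Category.assoc, hl]; exact prod.lift_fst _ _
  have hzA : (yon S).map (inc ⟨true⟩) ≫ l ≫ prod.snd = a ≫ h₁ := by
    rw [← Category.assoc, hl]; exact prod.lift_snd _ _
  have hzB : (yon S).map (inc ⟨false⟩) ≫ l ≫ prod.snd = b ≫ h₂ := by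
    rw [← Category.assoc, hl]; exact prod.lift_snd _ _
  have hepi : Epi (l ≫ prod.fst) := by
    refine epi_of_local_lifts _ fun Y y => ?_
    obtain ⟨A', α, kA, sqA⟩ := haj.rep y
    obtain ⟨B', β, kB, sqB⟩ := hbf.rep y
    have : Etale α.left := haj.property _ kA α sqA
    have : Etale β.left := hbf.property _ kB β sqB
    refine ⟨ULift.{u} Bool, fun i => match i with | ⟨true⟩ => A' | ⟨false⟩ => B',
      fun i => match i with | ⟨true⟩ => α | ⟨false⟩ => β, ofArrows_mem_J _ ?_ ?_ ?_, ?_⟩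
    · rintro ⟨⟨⟩⟩ <;> dsimp only <;> infer_instance
    · rintro ⟨⟨⟩⟩ <;> dsimp only <;> infer_instance
    · intro t
      rcases mem_range_map_of_elemDistSq hsq (Points.ofPt y t) with ⟨x, hx⟩ | ⟨x, hx⟩
      · obtain ⟨x, rfl⟩ := surjective_map_of_repWith le_rfl has x
        exact ⟨⟨true⟩, (preimage_ofPt_range sqA).le ⟨x, by rw [Points.map_comp, hx]⟩⟩
      · obtain ⟨x, rfl⟩ := surjective_map_of_repWith le_rfl hbs x
        exact ⟨⟨false⟩, (preimage_ofPt_range sqB).le ⟨x, by rw [Points.map_comp, hx]⟩⟩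
    · rintro ⟨⟨⟩⟩
      · exact ⟨kB ≫ (yon S).map (inc ⟨false⟩), by rw [Category.assoc, hlB]; exact sqB.w⟩
      · exact ⟨kA ≫ (yon S).map (inc ⟨true⟩), by rw [Category.assoc, hlA]; exact sqA.w⟩
  have := mono_of_openImmersion hsq.1
  have hpair : ∀ (Y : Over S) (s t : Y ⟶ T), (yon S).map s ≫ l ≫ prod.fst = (yon S).map t ≫ l ≫ prod.fst →
      (yon S).map s ≫ l ≫ prod.snd = (yon S).map t ≫ l ≫ prod.snd := by
    intro Y s t e
    let g : ULift.{u} Bool × ULift.{u} Bool → Over S := fun i =>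
      pullback (pullback.snd (inc i.1) s ≫ t) (inc i.2)
    let γ : ∀ i, g i ⟶ Y := fun i => pullback.fst _ _ ≫ pullback.snd (inc i.1) s
    have hγ : ∀ i, IsOpenImmersion (γ i).left := fun i => by
      have h1 : IsOpenImmersion (pullback.snd (inc i.1) s).left :=
        MorphismProperty.of_isPullback ((IsPullback.of_hasPullback (inc i.1) s).map (Over.forget S)) (ho i.1)
      have h2 : IsOpenImmersion (pullback.fst (pullback.snd (inc i.1) s ≫ t) (inc i.2)).left :=
        MorphismProperty.of_isPullback ((IsPullback.of_hasPullback _ (inc i.2)).flip.map (Over.forget S)) (ho i.2)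
      exact inferInstanceAs (IsOpenImmersion (_ ≫ _))
    refine hom_ext_of_cover γ (ofArrows_mem_J _ (fun i => have := hγ i; inferInstance)
      (fun i => have := hγ i; inferInstance) fun y => ?_) fun i => ?_
    · obtain ⟨i₁, z₁, hz₁⟩ := hs (s.left y)
      obtain ⟨v, -, hv⟩ := Scheme.exists_preimage_of_isPullback
        ((IsPullback.of_hasPullback (inc i₁) s).map (Over.forget S)) z₁ y hz₁
      obtain ⟨i₂, z₂, hz₂⟩ := hs ((pullback.snd (inc i₁) s ≫ t).left v)
      obtain ⟨w, hw, -⟩ := Scheme.exists_preimage_of_isPullback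
        ((IsPullback.of_hasPullback (pullback.snd (inc i₁) s ≫ t) (inc i₂)).map (Over.forget S)) v z₂ hz₂.symm
      refine ⟨(i₁, i₂), w, ?_⟩
      change (pullback.snd (inc i₁) s).left ((pullback.fst (pullback.snd (inc i₁) s ≫ t) (inc i₂)).left w) = y
      exact (congrArg _ hw).trans hv
    · have es : γ i ≫ s = (pullback.fst _ _ ≫ pullback.fst (inc i.1) s) ≫ inc i.1 := by
        simp only [γ, Category.assoc, pullback.condition]
      have et : γ i ≫ t = pullback.snd _ _ ≫ inc i.2 :=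
        (Category.assoc _ _ _).trans pullback.condition
      have e' := congrArg ((yon S).map (γ i) ≫ ·) e
      revert e'
      simp only [← Category.assoc, ← Functor.map_comp, es, et]
      generalize pullback.fst (pullback.snd (inc i.1) s ≫ t) (inc i.2) ≫ pullback.fst (inc i.1) s = s'
      generalize pullback.snd (pullback.snd (inc i.1) s ≫ t) (inc i.2) = t'
      obtain ⟨⟨⟨⟩⟩, ⟨⟨⟩⟩⟩ := i <;> intro e' <;>
        simp only [Functor.map_comp, Category.assoc, hlA, hlB, hzA, hzB] at e' ⊢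
      · rw [← Category.assoc, ← Category.assoc] at e' ⊢
        exact comp_eq_of_elemDistSq hsq hV hW hP hc _ _ (by simpa using e')
      · rw [← Category.assoc, ← Category.assoc] at e' ⊢
        rw [← hP.lift_snd ((yon S).map t' ≫ a) ((yon S).map s' ≫ b) (by simpa using e'.symm), Category.assoc, ← hc,
          hP.lift_fst_assoc]
      · rw [← Category.assoc, ← Category.assoc] at e' ⊢
        conv_rhs => rw [← hP.lift_snd ((yon S).map s' ≫ a) ((yon S).map t' ≫ b) (by simpa using e'), Category.assoc,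
          ← hc, hP.lift_fst_assoc]
      · rw [← Category.assoc, ← Category.assoc] at e' ⊢
        rw [(cancel_mono j).1 (show ((yon S).map s' ≫ a) ≫ j = ((yon S).map t' ≫ a) ≫ j by simpa using e')]
  have := IsRegularEpiCategory.regularEpiOfEpi (l ≫ prod.fst)
  have hdesc : ∀ {Y : Sp S} (g₁ g₂ : Y ⟶ (yon S).obj T), g₁ ≫ l ≫ prod.fst = g₂ ≫ l ≫ prod.fst →
      g₁ ≫ l ≫ prod.snd = g₂ ≫ l ≫ prod.snd := fun g₁ g₂ e => hom_ext_yon fun Y y => by
    obtain ⟨s, hs'⟩ := (yon S).map_surjective (y ≫ g₁)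
    obtain ⟨t, ht'⟩ := (yon S).map_surjective (y ≫ g₂)
    rw [← Category.assoc y, ← Category.assoc y, ← hs', ← ht']
    exact hpair Y s t (by rw [hs', ht', Category.assoc, Category.assoc, e])
  let k := EffectiveEpi.desc (l ≫ prod.fst) (l ≫ prod.snd) hdesc
  have hk : (l ≫ prod.fst) ≫ k = l ≫ prod.snd := EffectiveEpi.fac _ _ hdesc
  refine ⟨k, ⟨?_, ?_⟩, ?_⟩
  · rw [← cancel_epi a, ← Category.assoc, ← hlA, Category.assoc, hk, hzA]
  · rw [← cancel_epi b, ← Category.assoc, ← hlB, Category.assoc, hk, hzB]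
  · rintro k' ⟨e₁, e₂⟩
    rw [← cancel_epi (l ≫ prod.fst), hk]
    refine hom_ext_of_cover inc (ofArrows_mem_J _ (fun i => have := ho i; inferInstance)
      (fun i => have := ho i; inferInstance) hs) ?_
    rintro ⟨⟨⟩⟩
    · rw [← Category.assoc, hlB, hzB, Category.assoc, e₂]
    · rw [← Category.assoc, hlA, hzA, Category.assoc, e₁]

end Groth.Agent.H13AlgSp
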