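import Groth.Agent.S10419
import Groth.Agent.H13AlgSp.DistSq
import Groth.Agent.H13AlgSp.RedInduced

/-!
Induction along elementary distinguished squares with affine etale part.
-/

set_option autoImplicit false
set_option backward.isDefEq.respectTransparency false
set_option linter.style.haveILetI false

universe u

open CategoryTheory CategoryTheory.Limits AlgebraicGeometry Opposite
open AlgSp Groth.Agent.H12AlgSp

namespace Groth.Agent.H13AlgSp

variable {S : Scheme.{u}}

theorem isAlgSpace_openSub {X : Sp S} (hX : IsAlgSpace X) {O : Set (Points X)} (hO : IsOpen O) :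
    IsAlgSpace (openSub O) :=
  isAlgSpace_of_representable _ (repWith_openSubι hO).1 hX

theorem isQuasiCompactSp_of_isCompact_range {U X : Sp S} (hU : IsAlgSpace U) {j : U ⟶ X}
    (hj : RepWith @IsOpenImmersion j) (hc : IsCompact (Set.range (Points.map j))) : IsQuasiCompactSp U := by
  haveI := mono_of_openImmersion hj
  have he : Topology.IsOpenEmbedding (Points.map j) :=
    .of_continuous_injective_isOpenMap (Points.continuous_map j) (injective_map_of_mono j)
      (isOpenMap_map_of_repWith (fun _ _ k (_ : IsOpenImmersion k) => inferInstance) hj)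
  haveI : CompactSpace (Points U) := by
    constructor
    rwa [he.toIsEmbedding.toIsInducing.isCompact_iff, Set.image_univ]
  exact isQuasiCompactSp_of_compactSpace hU

theorem isCompact_range_of_isQuasiCompactSp {U X : Sp S} (j : U ⟶ X) (h : IsQuasiCompactSp U) :
    IsCompact (Set.range (Points.map j)) := by
  haveI := compactSpace_points_of_isQuasiCompactSp h
  exact isCompact_range (Points.continuous_map j)

theorem isOpen_range_openImmersion {U X : Sp S} {j : U ⟶ X} (hj : RepWith @IsOpenImmersion j) :
    IsOpen (Set.range (Points.map j)) :=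
  (isOpenMap_map_of_repWith (fun _ _ k (_ : IsOpenImmersion k) => inferInstance) hj).isOpen_range

theorem repWith_openImmersion_of_fac {A B C : Sp S} (a : A ⟶ B) (b : B ⟶ C) [Mono b] {c : A ⟶ C}
    (h : a ≫ b = c) {P : MorphismProperty Scheme.{u}} [P.IsStableUnderBaseChange] [P.IsMultiplicative]
    [P.RespectsIso] (hc : RepWith P c) : RepWith P a := by
  subst h
  have : IsIso (pullback.diagonal b) := inferInstance
  exact repWith_of_comp a b (repWith_of_isIso _) hc

/-- An elementary distinguished square from a morphism which is bijective outside of the open part. -/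
theorem isElemDistSq_mk {U W T : Sp S} {A : Over S} {k : U ⟶ W} (hk : RepWith @IsOpenImmersion k)
    {a : (yon S).obj A ⟶ W} (ha : RepWith @Etale a) {i : T ⟶ W}
    (hi : IsRedInduced (Set.range (Points.map k))ᶜ i) (s : T ⟶ (yon S).obj A) (hs : s ≫ a = i)
    (huniq : ∀ {Z : Sp S} (y : Z ⟶ T) (x : Z ⟶ (yon S).obj A), y ≫ i = x ≫ a → x = y ≫ s) :
    IsElemDistSq k a := by
  refine ⟨hk, fun _ φ hφ => repWith_comp hφ ha, T, T, i, 𝟙 T, s, hi, ?_, inferInstance⟩
  refine IsPullback.of_isLimit' ⟨by rw [Category.id_comp, hs]⟩ (PullbackCone.IsLimit.mk _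
    (fun c => c.fst) (fun c => Category.comp_id _) (fun c => (huniq c.fst c.snd c.condition).symm)
    (fun c m h₁ _ => by rw [← Category.comp_id m]; exact h₁))

theorem exists_redInduced_compl {U W : Sp S} (hW : IsAlgSpace W) {k : U ⟶ W} (hk : RepWith @IsOpenImmersion k) :
    ∃ (T : Sp S) (i : T ⟶ W), IsAlgSpace T ∧ IsRedInduced (Set.range (Points.map k))ᶜ i :=
  exists_isRedInduced hW (isOpen_range_openImmersion hk).isClosed_compl

/-- Two open subspaces covering a space, one of them a scheme. -/
theorem isElemDistSq_of_cover {U W : Sp S} (hW : IsAlgSpace W) {A : Over S} {k : U ⟶ W}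
    (hk : RepWith @IsOpenImmersion k) {a : (yon S).obj A ⟶ W} (ha : RepWith @IsOpenImmersion a)
    (hcov : Set.range (Points.map k) ∪ Set.range (Points.map a) = Set.univ) : IsElemDistSq k a := by
  obtain ⟨T, i, -, hi⟩ := exists_redInduced_compl hW hk
  obtain ⟨s, hs⟩ := exists_factor_open ha i (fun w hw =>
    ((hcov.ge (Set.mem_univ w)).resolve_left (hi.2.1.le hw)))
  haveI := mono_of_openImmersion ha
  refine isElemDistSq_mk hk (repWith_le (fun _ _ f (_ : IsOpenImmersion f) => inferInstanceAs (Etale f)) ha)
    hi s hs fun y x e => ?_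
  rw [← cancel_mono a, Category.assoc, hs, e]

variable {X : Sp S}

/-- Induction along elementary distinguished squares, starting from a quasi-compact open. -/
theorem open_induction [QuasiSeparatedSpace S] (hX : IsAlgSpace X) (hXc : IsQuasiCompactSp X)
    (hXs : IsQuasiSeparatedSp X) {O₀ : Set (Points X)} (hO₀ : IsOpen O₀) (hO₀c : IsCompact O₀)
    (Q : Set (Points X) → Prop) (h0 : Q O₀)
    (step : ∀ (O O' : Set (Points X)) (k : openSub O ⟶ openSub O') (A : Over S)
      (a : (yon S).obj A ⟶ openSub O'), IsOpen O → IsCompact O → IsOpen O' → IsCompact O' → O₀ ⊆ O →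
      k ≫ openSubι O' = openSubι O → IsAffine A.left → IsElemDistSq k a → Q O → Q O') :
    Q Set.univ := by
  classical
  obtain ⟨n, Uo, j, kk, T, i, hj, hjk, hj1, hlast, hi, hV⟩ := Groth.Agent.S10419.result ⟨X, hX⟩ hXc hXs
  let R : ℕ → Set (Points X) := fun p => Set.range (Points.map (j p).hom)
  have hRmono : ∀ p, R (p + 1) ⊆ R p := fun p =>
    range_map_subset_of_factor (g := (kk p).hom) (congrArg InducedCategory.Hom.hom (hjk p))
  have hR1 : R 1 = Set.univ := Set.eq_univ_of_forall fun x => ⟨Points.map (inv (j 1)).hom x, by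
    have h : (inv (j 1)).hom ≫ (j 1).hom = 𝟙 X :=
      congrArg InducedCategory.Hom.hom (IsIso.inv_hom_id (j 1))
    rw [← Points.map_comp, h, Points.map_id]⟩
  have hRlast : R (n + 1) = ∅ := @Set.range_eq_empty _ _ hlast _
  have hRc : ∀ p, 1 ≤ p → IsCompact (R p) := fun p hp => by
    obtain ⟨V, f, -, hVc, -, hfs, -⟩ := hV p hp
    haveI := hVc
    convert isCompact_range (Points.continuous_ofPt (f ≫ (j p).hom)) using 1
    ext x
    constructor
    · rintro ⟨y, rfl⟩
      obtain ⟨v, rfl⟩ := surjective_ofPt_of_repWith le_rfl hfs y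
      exact ⟨v, (Points.map_ofPt _ _ _).symm⟩
    · rintro ⟨v, rfl⟩
      exact ⟨Points.ofPt f v, Points.map_ofPt _ _ _⟩
  have main : ∀ p, 1 ≤ p → Q (O₀ ∪ R (p + 1)) → Q (O₀ ∪ R p) := by
    intro p hp hQ
    obtain ⟨V, f, -, hVc, hfe, hfs, hiso⟩ := hV p hp
    haveI := hVc
    have hge : RepWith @Etale (f ≫ (j p).hom) := repWith_comp hfe
      (repWith_le (fun _ _ k (_ : IsOpenImmersion k) => inferInstanceAs (Etale k)) (hj p))
    have hgo := isOpenMap_ofPt_of_repWith (fun _ _ k (_ : Etale k) => inferInstance) hge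
    let B : Finset V.left.affineOpens → Set (Points X) := fun l =>
      O₀ ∪ R (p + 1) ∪ ⋃ A ∈ l, Points.ofPt (f ≫ (j p).hom) '' (A.1 : Set V.left)
    have hBo : ∀ l, IsOpen (B l) := fun l => (hO₀.union (isOpen_range_openImmersion (hj (p + 1)))).union
      (isOpen_biUnion fun A _ => hgo _ A.1.2)
    have hBc : ∀ l, IsCompact (B l) := fun l => (hO₀c.union (hRc (p + 1) (by omega))).union
      (l.isCompact_biUnion fun A _ => A.2.isCompact.image (Points.continuous_ofPt _))
    have hBsub : ∀ l, B l ⊆ O₀ ∪ R p := by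
      intro l x hx
      rcases hx with (hx | hx) | hx
      · exact .inl hx
      · exact .inr (hRmono p hx)
      · obtain ⟨A, -, v, -, rfl⟩ := Set.mem_iUnion₂.1 hx
        exact .inr ⟨Points.ofPt f v, Points.map_ofPt _ _ _⟩
    obtain ⟨l, hl⟩ : ∃ l : Finset V.left.affineOpens, ∀ v : V.left, ∃ A ∈ l, v ∈ A.1 := by
      obtain ⟨l, hl⟩ := isCompact_univ.elim_finite_subcover (fun A : V.left.affineOpens => (A.1 : Set V.left))
        (fun A => A.1.2) (fun v _ => by
          have := V.left.isBasis_affineOpens
          obtain ⟨W, hW, hv, -⟩ := TopologicalSpace.Opens.isBasis_iff_nbhd.mp this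
            (TopologicalSpace.Opens.mem_top v)
          exact Set.mem_iUnion.2 ⟨⟨W, hW⟩, hv⟩)
      exact ⟨l, fun v => by simpa using hl (Set.mem_univ v)⟩
    have hBl : B l = O₀ ∪ R p := (hBsub l).antisymm fun x hx => by
      rcases hx with hx | ⟨y, rfl⟩
      · exact .inl (.inl hx)
      · obtain ⟨v, rfl⟩ := surjective_ofPt_of_repWith le_rfl hfs y
        obtain ⟨A, hA, hv⟩ := hl v
        exact .inr (Set.mem_iUnion₂.2 ⟨A, hA, v, hv, (Points.map_ofPt _ _ _).symm⟩)
    rw [← hBl]
    clear hBl hl
    induction l using Finset.induction_on with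
    | empty => simpa [B] using hQ
    | @insert A l hA ih =>
      have hsub : B l ⊆ B (insert A l) := Set.union_subset_union_right _
        (Set.biUnion_subset_biUnion_left fun _ h => Finset.mem_insert_of_mem h)
      obtain ⟨k, hk⟩ := exists_factor_open (repWith_openSubι (hBo (insert A l))) (openSubι (B l))
        (by rw [range_openSubι hX, range_openSubι hX]; exact hsub)
      have hmemA : ∀ t : A.1.toScheme, Points.ofPt ((yon S).map (openIncl V A.1) ≫ f ≫ (j p).hom) t ∈
          B (insert A l) := fun t => by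
        rw [ofPt_map]
        exact .inr (Set.mem_iUnion₂.2 ⟨A, Finset.mem_insert_self A l, t.1, t.2, rfl⟩)
      obtain ⟨a, ha⟩ := exists_openSub_lift (T := openOver V A.1) ((yon S).map (openIncl V A.1) ≫ f ≫ (j p).hom) hmemA
      haveI : IsOpenImmersion (openIncl V A.1).left := inferInstanceAs (IsOpenImmersion A.1.ι)
      have hincl : RepWith @IsOpenImmersion ((yon S).map (openIncl V A.1)) :=
        (repWith_yon_map_iff _ _).2 inferInstance
      haveI := mono_of_openImmersion hincl
      have hko : RepWith @IsOpenImmersion k :=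
        repWith_openImmersion_of_fac k _ hk (repWith_openSubι (hBo l))
      have hae : RepWith @Etale a := repWith_openImmersion_of_fac a _ ha
        (repWith_comp (repWith_le (fun _ _ k (_ : IsOpenImmersion k) => inferInstanceAs (Etale k)) hincl) hge)
      refine step _ _ k _ a (hBo l) (hBc l) (hBo _) (hBc _) (fun x hx => .inl (.inl hx)) hk A.2 ?_ ih
      obtain ⟨T', i', -, hi'⟩ := exists_redInduced_compl (isAlgSpace_openSub hX (hBo (insert A l))) hko
      have hT' : ∀ z, Points.map (i' ≫ openSubι (B (insert A l))) z ∈ B (insert A l) ∧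
          Points.map (i' ≫ openSubι (B (insert A l))) z ∉ B l := by
        intro z
        refine ⟨(range_openSubι hX _).le ⟨Points.map i' z, (Points.map_comp _ _ _).symm⟩, fun h => ?_⟩
        obtain ⟨w, hw⟩ := (range_openSubι hX (B l)).ge h
        refine hi'.2.1.le ⟨z, rfl⟩ ⟨w, injective_map_of_mono (openSubι (B (insert A l))) ?_⟩
        rw [← Points.map_comp, hk, hw, Points.map_comp]
      have hT'A : ∀ z, ∃ v ∈ A.1, Points.map (i' ≫ openSubι (B (insert A l))) z =
          Points.ofPt (f ≫ (j p).hom) v := by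
        intro z
        obtain ⟨h₁, h₂⟩ := hT' z
        rcases h₁ with h₁ | h₁
        · exact absurd (Or.inl h₁) h₂
        · obtain ⟨A', hA', v, hv, e⟩ := Set.mem_iUnion₂.1 h₁
          rcases Finset.mem_insert.1 hA' with rfl | hA'
          · exact ⟨v, hv, e.symm⟩
          · exact absurd (.inr (Set.mem_iUnion₂.2 ⟨A', hA', v, hv, e⟩)) h₂
      obtain ⟨t₁, ht₁⟩ := exists_factor_open (hj p) (i' ≫ openSubι (B (insert A l))) (by
        rintro _ ⟨z, rfl⟩
        obtain ⟨v, -, hv⟩ := hT'A z
        exact ⟨Points.ofPt f v, by rw [Points.map_ofPt, hv]⟩)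
      have ht₁k : Set.range (Points.map t₁) ⊆ (Set.range (Points.map (kk p).hom))ᶜ := by
        rintro _ ⟨z, rfl⟩ ⟨w, hw⟩
        refine (hT' z).2 (.inl (.inr ⟨w, ?_⟩))
        rw [← ht₁, Points.map_comp, ← hw, ← Points.map_comp]
        exact congrArg (fun φ => Points.map φ w) (congrArg InducedCategory.Hom.hom (hjk p)).symm
      obtain ⟨t₂, ht₂⟩ := exists_factor_closed (hi p).1 hi'.2.2 t₁ (ht₁k.trans (hi p).2.1.ge)
      haveI := hiso _ _ _ (IsPullback.of_hasPullback (i p).hom f)
      let σ : (T p).obj ⟶ (yon S).obj V := inv (pullback.fst (i p).hom f) ≫ pullback.snd (i p).hom f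
      have hσ : σ ≫ f = (i p).hom := by
        simp only [σ, Category.assoc, ← pullback.condition, IsIso.inv_hom_id_assoc]
      haveI := mono_of_openImmersion (hj p)
      haveI : Mono (i p).hom :=
        mono_of_repWith (fun _ _ k (_ : IsClosedImmersion k) => (inferInstance : Mono k)) (hi p).1
      have huniq : ∀ z₁ z₂ : Points ((yon S).obj V), Points.map f z₁ = Points.map f z₂ →
          Points.map f z₁ ∉ Set.range (Points.map (kk p).hom) → z₁ = z₂ := by
        intro z₁ z₂ e hz
        obtain ⟨c, hc⟩ := (hi p).2.1.ge hz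
        obtain ⟨w₁, h11, h12⟩ := exists_point_of_isPullback (IsPullback.of_hasPullback (i p).hom f) c z₁ hc
        obtain ⟨w₂, h21, h22⟩ :=
          exists_point_of_isPullback (IsPullback.of_hasPullback (i p).hom f) c z₂ (hc.trans e)
        have : w₁ = w₂ := injective_map_of_mono (pullback.fst (i p).hom f) (h11.trans h21.symm)
        rw [← h12, this, h22]
      obtain ⟨s, hs⟩ := exists_factor_open hincl (t₂ ≫ σ) (by
        rintro _ ⟨z, rfl⟩
        obtain ⟨v, hv, e⟩ := hT'A z
        have e' : Points.map f (Points.map (t₂ ≫ σ) z) = Points.ofPt f v := by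
          apply injective_map_of_mono (j p).hom
          rw [← Points.map_comp, ← Points.map_comp, Category.assoc, reassoc_of% hσ, reassoc_of% ht₂, ht₁, e,
            Points.map_ofPt]
        have hz : Points.map f (Points.ofScheme V v) = Points.ofPt f v := (Points.ofPt_eq_map_ofScheme f v).symm
        rw [huniq _ (Points.ofScheme V v) (e'.trans hz.symm) (by
          rw [← Points.map_comp, Category.assoc, hσ, ht₂]
          exact ht₁k ⟨z, rfl⟩)]
        refine ⟨Points.ofScheme (openOver V A.1) ⟨v, hv⟩, ?_⟩
        rw [← Points.ofPt_eq_map_ofScheme]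
        exact ((congrArg (fun φ => Points.ofPt φ _) (Category.comp_id _).symm).trans (ofPt_map _ _ _)).trans
          ((Points.ofPt_eq_map_ofScheme (𝟙 _) v).trans (Points.map_id _)))
      refine isElemDistSq_mk hko hae hi' s ?_ fun y x e => ?_
      · rw [← cancel_mono (openSubι (B (insert A l))), Category.assoc, ha, reassoc_of% hs, ← ht₁]
        rw [reassoc_of% hσ, reassoc_of% ht₂]
      · have h : (x ≫ (yon S).map (openIncl V A.1)) ≫ f = (y ≫ t₂) ≫ (i p).hom := by
          rw [← cancel_mono (j p).hom]
          have := congrArg (· ≫ openSubι (B (insert A l))) e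
          simp only [Category.assoc] at this ⊢
          rw [reassoc_of% ht₂, ht₁, this, ha]
        rw [← cancel_mono ((yon S).map (openIncl V A.1)), Category.assoc, hs]
        have hl := pullback.lift_snd (y ≫ t₂) (x ≫ (yon S).map (openIncl V A.1)) h.symm
        rw [← hl, ← Category.assoc]
        simp only [σ, ← Category.assoc]
        congr 1
        rw [IsIso.eq_comp_inv, pullback.lift_fst]
  have down : ∀ m, m ≤ n → Q (O₀ ∪ R (n + 1 - m)) := by
    intro m
    induction m with
    | zero => intro _; simpa [hRlast] using h0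
    | succ m ih =>
      intro hm
      refine main _ (by omega) ?_
      have : n + 1 - (m + 1) + 1 = n + 1 - m := by omega
      rw [this]
      exact ih (by omega)
  simpa [hR1] using down n le_rfl

end Groth.Agent.H13AlgSp
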