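import Groth.Agent.H13AlgSp.AffVanish
import Groth.Agent.H12AlgSp.BCMod.EtSite
import Mathlib.CategoryTheory.Sites.SheafCohomology.Basic

/-!
Quasi-coherent modules on small etale sites have no higher cohomology over affine objects.
-/

set_option autoImplicit false
set_option backward.isDefEq.respectTransparency false
set_option linter.style.haveILetI false

universe u

open CategoryTheory CategoryTheory.Limits AlgebraicGeometry Opposite CategoryTheory.Abelian
open AlgSp Groth.Agent.H12AlgSp.BCMod

namespace Groth.Agent.H13AlgSp.AffVanish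

variable {S : Scheme.{u}} {X : Sp S}

theorem aff_iso {E E' : EtOver X} (e : E ≅ E') (h : (etAff X).aff E) : (etAff X).aff E' := by
  haveI : IsAffine E.obj.left.left := h
  haveI : IsIso e.hom.hom.left.left := ⟨e.inv.hom.left.left,
    congrArg (fun m : E ⟶ E => m.hom.left.left) e.hom_inv_id,
    congrArg (fun m : E' ⟶ E' => m.hom.left.left) e.inv_hom_id⟩
  exact IsAffine.of_isIso (inv e.hom.hom.left.left)

theorem isAffAcyclic_toAbEt (M : ModEt X) [hM : M.IsQuasicoherent] :
    IsAffAcyclic (etAff X) ((toAbEt X).obj M).obj :=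
  isAffAcyclic_of_allBC (P := toPM (Rsh := OEt X) M) aff_iso ((isQuasicoherent_iff_isBCEt M).1 hM)

/-- The global sections of a sheaf, when the site has an affine terminal object. -/
noncomputable def evTop {E : EtOver X} (hT : IsTerminal E) (F : AbEt X) :
    ((constantSheaf (etTop X) AddCommGrpCat.{u + 1}).obj (AddCommGrpCat.of (ULift ℤ)) ⟶ F) ≃ F.obj.obj (op E) :=
  (Ext.addEquiv₀.symm.trans (CategoryTheory.Sheaf.H.equiv₀ F hT)).toEquiv

theorem evTop_comp {E : EtOver X} (hT : IsTerminal E) {F G : AbEt X}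
    (φ : (constantSheaf (etTop X) AddCommGrpCat.{u + 1}).obj (AddCommGrpCat.of (ULift ℤ)) ⟶ F) (g : F ⟶ G) :
    evTop hT G (φ ≫ g) = g.hom.app _ (evTop hT F φ) := by
  have h := (CategoryTheory.Sheaf.H.equiv₀_naturality (f := g) hT (Ext.mk₀ φ)).symm
  rw [CategoryTheory.Sheaf.H.map_apply, Ext.mk₀_comp_mk₀] at h
  exact h

/-- Vanishing over an affine terminal object. -/
theorem subsingleton_HModEt {E : EtOver X} (hT : IsTerminal E) (hE : IsAffine E.obj.left.left) (M : ModEt X)
    [M.IsQuasicoherent] (p : ℕ) : Subsingleton (HModEt X M (p + 1)) :=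
  subsingleton_ext (A := etAff X) aff_iso hE (evTop hT) (fun φ g => evTop_comp hT φ g) p _ (isAffAcyclic_toAbEt M)

end Groth.Agent.H13AlgSp.AffVanish
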