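import Groth.Prelude.Def_AlgSpCov
import Groth.Agent.H13AlgSp.LocP
import Groth.Agent.H12AlgSp.LocPCancel

/-!
Properties of morphisms of algebraic spaces local on source-and-target in the smooth and in the
etale-smooth sense.
-/

universe u

open CategoryTheory CategoryTheory.Limits AlgebraicGeometry Opposite
open AlgSp Groth.Agent.H12AlgSp

namespace Groth.Agent.H13AlgSp.LocalST

variable {S : Scheme.{u}} {X Y Z : Sp S} {P : MorphismProperty (Sp S)}

theorem isEtaleMor_id (X : Sp S) : IsEtaleMor (𝟙 X) := fun _ φ hφ => by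
  rwa [Category.comp_id]

theorem isEtaleMor_comp {f : X ⟶ Y} {g : Y ⟶ Z} (hf : IsEtaleMor f) (hg : IsEtaleMor g) :
    IsEtaleMor (f ≫ g) := fun _ φ hφ => by
  rw [← Category.assoc]
  exact hg _ (hf φ hφ)

theorem locP_smooth_of_isEtaleMor {f : X ⟶ Y} (h : IsEtaleMor f) : LocP @Smooth f :=
  locP_mono (fun _ _ f (_ : Etale f) => inferInstanceAs (Smooth f)) (locP_etale_of_isEtaleMor h)

theorem locP_smooth_id (X : Sp S) : LocP @Smooth (𝟙 X) := locP_smooth_of_isEtaleMor (isEtaleMor_id X)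

theorem exists_small_surjection (hX : IsAlgSpace X) :
    ∃ (ι : Type u) (x : ι → Points X), Function.Surjective x := by
  obtain ⟨U, p, -, hps⟩ := hX.atlas
  exact ⟨_, Points.ofPt p, surjective_ofPt_of_repWith le_rfl hps⟩

theorem isCover_single {Q : MorphismProperty (Sp S)} {g : X ⟶ Y} (hg : Q g)
    (hs : IsSurjectiveMor g) : IsCover Q (ι := PUnit.{u+1}) (fun _ => X) (fun _ => g) :=
  ⟨fun _ => hg, fun x => ⟨PUnit.unit, hs x⟩⟩

theorem isCover_id {Q : MorphismProperty (Sp S)} (hQ : Q (𝟙 X)) :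
    IsCover Q (ι := PUnit.{u+1}) (fun _ => X) (fun _ => 𝟙 X) :=
  isCover_single hQ (fun x => ⟨x, Points.map_id x⟩)

/-! ### Properties smooth local on source-and-target -/

section Smooth

theorem localOnSource (hP : IsSmoothLocalST P) : IsLocalOnSource (IsSmCover (S := S)) P := by
  intro ι X Xi g hX hXi hg Y f hY
  refine ⟨fun h i => hP.precomp (hXi i) hX hY _ _ (hg.1 i) h, fun h => ?_⟩
  refine (hP.locality hX hY f).2 fun x => ?_
  obtain ⟨i, v, hv⟩ := hg.2 x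
  exact ⟨Xi i, Y, g i, 𝟙 Y, g i ≫ f, v, hXi i, hY, hg.1 i, locP_smooth_id Y,
    (Category.comp_id _).symm, hv, h i⟩

theorem localOnBase (hP : IsSmoothLocalST P) : IsLocalOnBase (IsSmCover (S := S)) P := by
  intro ι Y Yi g hY hYi hg X f hX Xi p q hXi sq
  refine ⟨fun h i => hP.baseChange hX hY (hXi i) (hYi i) f (g i) (p i) (q i) (sq i) (hg.1 i) h,
    fun h => ?_⟩
  refine (hP.locality hX hY f).2 fun x => ?_
  obtain ⟨i, y, hy⟩ := hg.2 (Points.map f x)
  obtain ⟨v, hv, -⟩ := exists_point_of_isPullback (sq i) x y hy.symm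
  exact ⟨Xi i, Yi i, q i, g i, p i, v, hXi i, hYi i,
    H13AlgSp.locP_of_isPullback (hYi i) hY (sq i).flip (hg.1 i), hg.1 i, (sq i).w, hv, h i⟩

theorem postcomp (hP : IsSmoothLocalST P) (hX : IsAlgSpace X) (hY : IsAlgSpace Y)
    (hZ : IsAlgSpace Z) {f : X ⟶ Y} {g : Y ⟶ Z} (hf : P f) (hg : LocP @Smooth g) : P (f ≫ g) :=
  (hP.locality hX hZ _).2 fun x => ⟨X, Y, 𝟙 X, g, f, x, hX, hY, locP_smooth_id X, hg,
    Category.id_comp _, Points.map_id x, hf⟩

theorem mk_of_local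
    (h1 : IsLocalOnSource (IsSmCover (S := S)) P) (h2 : IsLocalOnBase (IsSmCover (S := S)) P)
    (h3 : ∀ ⦃X Y Z : Sp S⦄, IsAlgSpace X → IsAlgSpace Y → IsAlgSpace Z → ∀ (f : X ⟶ Y) (g : Y ⟶ Z),
      P f → LocP @Smooth g → P (f ≫ g)) : IsSmoothLocalST P where
  precomp X Y Z hX hY hZ f g hf hg := by
    refine (h1 (ι := ULift.{u} Bool) (fun b => bif b.down then Y else X)
      (fun b => match b with | ⟨true⟩ => 𝟙 Y | ⟨false⟩ => f) hY ?_ ⟨?_, ?_⟩ g hZ).1 hg ⟨false⟩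
    · rintro ⟨_ | _⟩ <;> assumption
    · rintro ⟨_ | _⟩
      exacts [hf, locP_smooth_id Y]
    · exact fun y => ⟨⟨true⟩, y, Points.map_id y⟩
  baseChange X Y X' Y' hX hY hX' hY' f g f' g' sq hg hf := by
    refine (h2 (ι := ULift.{u} Bool) (fun b => bif b.down then Y else Y')
      (fun b => match b with | ⟨true⟩ => 𝟙 Y | ⟨false⟩ => g) hY ?_ ⟨?_, ?_⟩ f hX
      (fun b => bif b.down then X else X')
      (fun b => match b with | ⟨true⟩ => f | ⟨false⟩ => f')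
      (fun b => match b with | ⟨true⟩ => 𝟙 X | ⟨false⟩ => g') ?_ ?_).1 hf ⟨false⟩
    · rintro ⟨_ | _⟩ <;> assumption
    · rintro ⟨_ | _⟩
      exacts [hg, locP_smooth_id Y]
    · exact fun y => ⟨⟨true⟩, y, Points.map_id y⟩
    · rintro ⟨_ | _⟩ <;> assumption
    · rintro ⟨_ | _⟩
      exacts [sq, IsPullback.id_horiz f]
  locality := by
    intro X Y hX hY f
    refine ⟨fun h x => ⟨X, Y, 𝟙 X, 𝟙 Y, f, x, hX, hY, locP_smooth_id X, locP_smooth_id Y,
      by simp, Points.map_id x, h⟩, fun h => ?_⟩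
    obtain ⟨ι, x, hx⟩ := exists_small_surjection hX
    choose U V a b e v hU hV ha hb he hv hP using fun i => h (x i)
    refine (h1 U a hX hU ⟨ha, fun y => ?_⟩ f hY).2 fun i => ?_
    · obtain ⟨i, rfl⟩ := hx y
      exact ⟨i, v i, hv i⟩
    · rw [he i]
      exact h3 (hU i) (hV i) hY _ _ (hP i) (hb i)

end Smooth

/-! ### Properties etale-smooth local on source-and-target -/

section EtaleSmooth

theorem localOnSource' (hP : IsEtaleSmoothLocalST P) : IsLocalOnSource (IsEtCover (S := S)) P := by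
  intro ι X Xi g hX hXi hg Y f hY
  refine ⟨fun h i => hP.precomp (hXi i) hX hY _ _ (hg.1 i) h, fun h => ?_⟩
  refine (hP.locality hX hY f).2 fun x => ?_
  obtain ⟨i, v, hv⟩ := hg.2 x
  refine ⟨Y, X, Xi i, 𝟙 Y, 𝟙 X, f, g i, v, hY, hX, hXi i, locP_smooth_id Y,
    IsPullback.id_horiz f, hg.1 i, ?_, h i⟩
  rw [Category.comp_id, hv]

theorem localOnBase' (hP : IsEtaleSmoothLocalST P) : IsLocalOnBase (IsSmCover (S := S)) P := by
  intro ι Y Yi g hY hYi hg X f hX Xi p q hXi sq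
  refine ⟨fun h i => hP.baseChange hX hY (hXi i) (hYi i) f (g i) (p i) (q i) (sq i) (hg.1 i) h,
    fun h => ?_⟩
  refine (hP.locality hX hY f).2 fun x => ?_
  obtain ⟨i, y, hy⟩ := hg.2 (Points.map f x)
  obtain ⟨v, hv, -⟩ := exists_point_of_isPullback (sq i) x y hy.symm
  refine ⟨Yi i, Xi i, Xi i, g i, q i, p i, 𝟙 _, v, hYi i, hXi i, hXi i, hg.1 i, sq i,
    isEtaleMor_id _, ?_, ?_⟩
  · rw [Category.id_comp, hv]
  · rw [Category.id_comp]; exact h i

/-- A morphism to the source of an etale morphism is the etale graph followed by the projection. -/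
theorem exists_graph (hX : IsAlgSpace X) (hY : IsAlgSpace Y) (hZ : IsAlgSpace Z) (f : X ⟶ Y)
    {g : Y ⟶ Z} (hg : IsEtaleMor g) :
    ∃ (W : Sp S) (p : W ⟶ X) (q : W ⟶ Y) (e : X ⟶ W), IsAlgSpace W ∧
      IsPullback p q (f ≫ g) g ∧ IsEtaleMor e ∧ e ≫ p = 𝟙 X ∧ e ≫ q = f := by
  have sq := IsPullback.of_hasPullback (f ≫ g) g
  have hW : IsAlgSpace (pullback (f ≫ g) g) := isAlgSpace_of_isPullback hZ.diag hX hY sq
  refine ⟨_, _, _, sq.lift (𝟙 X) f (Category.id_comp _), hW, sq, ?_, sq.lift_fst .., sq.lift_snd ..⟩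
  refine isEtaleMor_of_locP_etale hW ?_
  refine locP_of_postcomp (g := pullback.fst (f ≫ g) g) etLocal_etale
    (fun _ _ _ f g (h : Etale (f ≫ g)) (_ : Etale g) => Etale.of_comp f g) hX ?_
    (H13AlgSp.locP_of_isPullback hY hZ sq.flip (H13AlgSp.locP_etale_of_isEtaleMor hg))
  rw [sq.lift_fst]
  exact H13AlgSp.locP_etale_of_isEtaleMor (isEtaleMor_id X)

theorem postcomp' (hP : IsEtaleSmoothLocalST P) (hX : IsAlgSpace X) (hY : IsAlgSpace Y)
    (hZ : IsAlgSpace Z) {f : X ⟶ Y} {g : Y ⟶ Z} (hf : P f) (hg : IsEtaleMor g) : P (f ≫ g) := by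
  obtain ⟨W, p, q, e, hW, sq, he, hep, heq⟩ := exists_graph hX hY hZ f hg
  refine (hP.locality hX hZ _).2 fun x => ⟨Y, W, X, g, p, q, e, x, hY, hW, hX,
    locP_smooth_of_isEtaleMor hg, sq, he, ?_, ?_⟩
  · rw [hep, Points.map_id]
  · rwa [heq]

theorem cancel' (hP : IsEtaleSmoothLocalST P) (hX : IsAlgSpace X) (hY : IsAlgSpace Y)
    (hZ : IsAlgSpace Z) {f : X ⟶ Y} {g : Y ⟶ Z} (hg : IsEtaleMor g) (h : P (f ≫ g)) : P f := by
  obtain ⟨W, p, q, e, hW, sq, he, -, heq⟩ := exists_graph hX hY hZ f hg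
  rw [← heq]
  exact hP.precomp hX hW hY e q he
    (hP.baseChange hX hZ hW hY _ _ q p sq (locP_smooth_of_isEtaleMor hg) h)

end EtaleSmooth

end Groth.Agent.H13AlgSp.LocalST
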