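import Groth.Agent.H13AlgSp.InductionPrinciple
import Groth.Agent.H12AlgSp.OpenCover
import Groth.Agent.H12AlgSp.LimitScheme
import Groth.Agent.H12AlgSp.QSApps
import Groth.Agent.H13AlgSp.LocalST
import Groth.Prelude.Def_AlgSpEt

/-!
The induction principle on the site of algebraic spaces etale over a space.
-/

set_option autoImplicit false
set_option backward.isDefEq.respectTransparency false
set_option linter.style.haveILetI false

universe u

open CategoryTheory CategoryTheory.Limits AlgebraicGeometry Opposite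
open AlgSp Groth.Agent.H12AlgSp

namespace Groth.Agent.H13AlgSp

variable {S : Scheme.{u}}

theorem ext_yon_of_isEmpty {W : Sp S} {T : Over S} [IsEmpty T.left] (x y : (yon S).obj T ⟶ W) : x = y :=
  hom_ext_of_cover (κ := PEmpty.{u + 1}) (C := PEmpty.elim) (fun e => e.elim)
    (ofArrows_mem_J _ (fun e => e.elim) (fun e => e.elim) fun w => isEmptyElim w) fun e => e.elim

/-- A space without points is the empty scheme. -/
theorem exists_affine_iso_of_isEmpty (W : Sp S) [IsEmpty (Points W)] :
    ∃ A : Over S, IsAffine A.left ∧ Nonempty ((yon S).obj A ≅ W) := by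
  haveI hE : IsEmpty (∅ : Scheme.{u}) := inferInstance
  let E : Over S := Over.mk (Scheme.emptyTo S)
  haveI : IsEmpty E.left := hE
  obtain ⟨a, -⟩ := Groth.Agent.H12AlgSp.exists_glue (G := W) (T := E) (κ := PEmpty.{u + 1}) (C := PEmpty.elim)
    (fun e => e.elim) (ofArrows_mem_J _ (fun e => e.elim) (fun e => e.elim) fun w => isEmptyElim w)
    (fun e => e.elim) (fun e => e.elim)
  haveI : Mono a := mono_of_yon fun T x y _ => by
    obtain ⟨x', rfl⟩ := (yon S).map_surjective x
    obtain ⟨y', rfl⟩ := (yon S).map_surjective y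
    haveI : IsEmpty T.left := ⟨fun t => hE.false (x'.left t)⟩
    exact ext_yon_of_isEmpty _ _
  haveI : IsIso a := by
    refine isIso_of_mono_of_local_lifts a fun T y => ?_
    haveI : IsEmpty T.left := ⟨fun t => IsEmpty.false (Points.ofPt y t)⟩
    exact ⟨PEmpty.{u + 1}, PEmpty.elim, fun e => e.elim,
      ofArrows_mem_J _ (fun e => e.elim) (fun e => e.elim) fun w => isEmptyElim w, fun e => e.elim⟩
  exact ⟨E, isAffine_of_isEmpty (X := E.left), ⟨asIso a⟩⟩

theorem exists_empty_open {W : Sp S} (hW : IsAlgSpace W) :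
    ∃ (A : Over S) (a : (yon S).obj A ⟶ W), IsAffine A.left ∧ RepWith @IsOpenImmersion a := by
  haveI : IsEmpty (Points (openSub (∅ : Set (Points W)))) := ⟨fun z =>
    ((range_openSubι hW ∅).le ⟨z, rfl⟩ : _ ∈ (∅ : Set _))⟩
  obtain ⟨A, hA, ⟨e⟩⟩ := exists_affine_iso_of_isEmpty (openSub (∅ : Set (Points W)))
  exact ⟨A, e.hom ≫ openSubι ∅, hA, repWith_comp (repWith_of_isIso _) (repWith_openSubι isOpen_empty)⟩

/-- The trivial square. -/
theorem exists_elemDistSq_of_range_univ {U W : Sp S} (hW : IsAlgSpace W) {k : U ⟶ W}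
    (hk : RepWith @IsOpenImmersion k) (h : Set.range (Points.map k) = Set.univ) :
    ∃ (A : Over S) (a : (yon S).obj A ⟶ W), IsAffine A.left ∧ IsElemDistSq k a := by
  obtain ⟨A, a, hA, ha⟩ := exists_empty_open hW
  exact ⟨A, a, hA, isElemDistSq_of_cover hW hk ha (by rw [h, Set.univ_union])⟩

theorem range_map_iso_comp {A B X : Sp S} (e : A ≅ B) (j : B ⟶ X) :
    Set.range (Points.map (e.hom ≫ j)) = Set.range (Points.map j) := by
  ext x
  constructor
  · rintro ⟨a, rfl⟩
    exact ⟨_, (Points.map_comp _ _ _).symm⟩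
  · rintro ⟨b, rfl⟩
    exact ⟨Points.map e.inv b, by rw [← Points.map_comp, Iso.inv_hom_id_assoc]⟩

theorem isElemDistSq_comp_iso {U V W W' : Sp S} {k : U ⟶ W} {f : V ⟶ W} (h : IsElemDistSq k f) (φ : W ≅ W') :
    IsElemDistSq (k ≫ φ.hom) (f ≫ φ.hom) := by
  obtain ⟨hk, hf, T, P, i, p₁, p₂, hi, sq, hiso⟩ := h
  refine ⟨repWith_comp hk (repWith_of_isIso _), fun _ ψ hψ => ?_, T, P, i ≫ φ.hom, p₁, p₂,
    ⟨repWith_comp hi.1 (repWith_of_isIso _), ?_, hi.2.2⟩, ?_, hiso⟩
  · rw [← Category.assoc]
    exact repWith_comp (hf ψ hψ) (repWith_of_isIso _)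
  · have hbij : Function.Bijective (Points.map φ.hom) := Function.bijective_iff_has_inverse.2
      ⟨Points.map φ.inv, fun x => by rw [← Points.map_comp, Iso.hom_inv_id, Points.map_id],
        fun x => by rw [← Points.map_comp, Iso.inv_hom_id, Points.map_id]⟩
    have e₁ : Points.map (i ≫ φ.hom) = Points.map φ.hom ∘ Points.map i := funext (Points.map_comp _ _)
    have e₂ : Points.map (k ≫ φ.hom) = Points.map φ.hom ∘ Points.map k := funext (Points.map_comp _ _)
    rw [e₁, e₂, Set.range_comp, Set.range_comp, hi.2.1, Set.image_compl_eq hbij]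
  · exact sq.of_iso (Iso.refl _) (Iso.refl _) (Iso.refl _) φ (by simp) (by simp) (by simp) (by simp)

theorem isQuasiSeparatedSp_yon_affine [QuasiSeparatedSpace S] {U : Over S} (h : IsAffine U.left) :
    IsQuasiSeparatedSp ((yon S).obj U) :=
  have : QuasiSeparated U.hom := QuasiSeparated.of_comp U.hom (terminal.from S)
  (repWith_diag_yon_iff @QuasiCompact U).2 this.1

theorem isQuasiCompactSp_yon_affine {U : Over S} (h : IsAffine U.left) :
    IsQuasiCompactSp ((yon S).obj U) := isQuasiCompactSp_yon_iff.2 inferInstance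

theorem range_pullback_fst_comp {A B E G : Sp S} (u : A ⟶ E) (a : B ⟶ E) (g : E ⟶ G) [Mono g] :
    Set.range (Points.map (pullback.fst u a ≫ u ≫ g)) =
      Set.range (Points.map (u ≫ g)) ∩ Set.range (Points.map (a ≫ g)) := by
  ext x
  constructor
  · rintro ⟨z, rfl⟩
    exact ⟨⟨_, (Points.map_comp _ _ _).symm⟩,
      ⟨Points.map (pullback.snd u a) z, by rw [← Points.map_comp, pullback.condition_assoc]⟩⟩
  · rintro ⟨⟨w, hw⟩, ⟨v, hv⟩⟩
    obtain ⟨z, hz, -⟩ := exists_point_of_isPullback (IsPullback.of_hasPullback u a) w v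
      (injective_map_of_mono g (by rw [← Points.map_comp, ← Points.map_comp, hw, hv]))
    exact ⟨z, by rw [Points.map_comp, hz, hw]⟩

theorem range_openIncl_comp {T : Over S} (O : T.left.Opens) {F : Sp S} (e : (yon S).obj T ⟶ F) :
    Set.range (Points.map ((yon S).map (openIncl T O) ≫ e)) = Points.ofPt e '' (O : Set T.left) := by
  rw [range_map_yon]
  ext x
  constructor
  · rintro ⟨t, rfl⟩
    exact ⟨t.1, t.2, (ofPt_map (openIncl T O) e t).symm⟩
  · rintro ⟨t, ht, rfl⟩
    exact ⟨⟨t, ht⟩, ofPt_map (openIncl T O) e ⟨t, ht⟩⟩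

theorem injective_ofPt_iso {T : Over S} {F : Sp S} (e : (yon S).obj T ≅ F) :
    Function.Injective (Points.ofPt e.hom) := fun t₁ t₂ h => by
  rw [Points.ofPt_eq_map_ofScheme, Points.ofPt_eq_map_ofScheme] at h
  have := congrArg (Points.map e.inv) h
  rw [← Points.map_comp, ← Points.map_comp, Iso.hom_inv_id, Points.map_id, Points.map_id] at this
  simpa using congrArg (Points.toScheme T) this

theorem inter_basicOpen {T : Over S} [DecidableEq Γ(T.left, ⊤)] {F : Sp S} (e : (yon S).obj T ≅ F) (G : Finset Γ(T.left, ⊤))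
    (g : Γ(T.left, ⊤)) :
    (⋃ g' ∈ G, Points.ofPt e.hom '' (T.left.basicOpen g' : Set T.left)) ∩
        Points.ofPt e.hom '' (T.left.basicOpen g : Set T.left) =
      ⋃ g' ∈ G.image (g * ·), Points.ofPt e.hom '' (T.left.basicOpen g' : Set T.left) := by
  rw [Finset.set_biUnion_finset_image, Set.iUnion₂_inter]
  refine Set.iUnion₂_congr fun g' _ => ?_
  rw [← Set.image_inter (injective_ofPt_iso e), Scheme.basicOpen_mul, Set.inter_comm]
  rfl

theorem exists_finset_basicOpen_range {A : Over S} (hA : IsAffine A.left) {P : Sp S} {j : P ⟶ (yon S).obj A}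
    (hj : RepWith @IsOpenImmersion j) (hP : IsQuasiCompactSp P) :
    ∃ F : Finset Γ(A.left, ⊤),
      Set.range (Points.map j) = ⋃ g ∈ F, Points.ofPt (Iso.refl ((yon S).obj A)).hom '' (A.left.basicOpen g : Set A.left) := by
  classical
  let R : Set A.left := Points.ofPt (Iso.refl ((yon S).obj A)).hom ⁻¹' Set.range (Points.map j)
  have hR : Points.ofPt (Iso.refl ((yon S).obj A)).hom '' R = Set.range (Points.map j) := by
    refine Set.image_preimage_eq_of_subset fun z _ => ⟨Points.toScheme A z, ?_⟩
    rw [Points.ofPt_eq_map_ofScheme, Points.ofScheme_toScheme]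
    exact Points.map_id z
  have hRo : IsOpen R := (isOpen_range_openImmersion hj).preimage (Points.continuous_ofPt _)
  have hRc : IsCompact R := by
    have hind := (Topology.IsOpenEmbedding.of_continuous_injective_isOpenMap
      (Points.continuous_ofPt (Iso.refl ((yon S).obj A)).hom) (injective_ofPt_iso _)
      (isOpenMap_ofPt_of_repWith (fun _ _ k (_ : IsOpenImmersion k) => inferInstance)
        (repWith_of_isIso _))).toIsEmbedding.toIsInducing
    rw [hind.isCompact_iff, hR]
    exact isCompact_range_of_isQuasiCompactSp j hP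
  obtain ⟨F, hF⟩ := hRc.elim_finite_subcover
    (fun g : {g : Γ(A.left, ⊤) // (A.left.basicOpen g : Set A.left) ⊆ R} => (A.left.basicOpen g.1 : Set A.left))
    (fun g => (A.left.basicOpen g.1).isOpen) (fun t ht => by
      obtain ⟨g, hg, htg⟩ := (isAffineOpen_top A.left).exists_basicOpen_le (V := ⟨R, hRo⟩) ⟨t, ht⟩ trivial
      exact Set.mem_iUnion.2 ⟨⟨g, hg⟩, htg⟩)
  refine ⟨F.image Subtype.val, ?_⟩
  rw [← hR, Finset.set_biUnion_finset_image, ← Set.image_iUnion₂]
  exact congrArg _ (hF.antisymm (Set.iUnion₂_subset fun g _ => g.2))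

variable {X : AlgSp.Space S}

/-- An algebraic space with an etale map to an object of the site. -/
noncomputable def etObj {F : Sp S} (hF : IsAlgSpace F) (W : EtSpOver X) (g : F ⟶ W.obj.left.obj)
    (hg : IsEtaleMor g) : EtSpOver X :=
  ⟨Over.mk (show (⟨F, hF⟩ : AlgSp.Space S) ⟶ X from ObjectProperty.homMk (g ≫ W.obj.hom.hom)),
    LocalST.isEtaleMor_comp hg W.property⟩

/-- The structure map of `etObj`. -/
noncomputable def etObjHom {F : Sp S} (hF : IsAlgSpace F) (W : EtSpOver X) (g : F ⟶ W.obj.left.obj)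
    (hg : IsEtaleMor g) : etObj hF W g hg ⟶ W :=
  ObjectProperty.homMk (Over.homMk (ObjectProperty.homMk g) (InducedCategory.hom_ext rfl))

theorem hom_w {E W : EtSpOver X} (j : E ⟶ W) : j.hom.left.hom ≫ W.obj.hom.hom = E.obj.hom.hom :=
  congrArg InducedCategory.Hom.hom (Over.w j.hom)

/-- Lift of a map to a morphism in the site. -/
noncomputable def etHom {E W : EtSpOver X} (g : E.obj.left.obj ⟶ W.obj.left.obj)
    (h : g ≫ W.obj.hom.hom = E.obj.hom.hom) : E ⟶ W :=
  ObjectProperty.homMk (Over.homMk (ObjectProperty.homMk g) (InducedCategory.hom_ext h))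

theorem isEtaleMor_of_openImm {A B : Sp S} {g : A ⟶ B} (hg : RepWith @IsOpenImmersion g) : IsEtaleMor g :=
  fun _ _ hφ => repWith_comp hφ (repWith_le (fun _ _ f (_ : IsOpenImmersion f) => inferInstanceAs (Etale f)) hg)

variable [QuasiSeparatedSpace S]

/-- The induction principle on a class of objects which is closed under quasi-compact opens. -/
theorem site_induction (B P : EtSpOver X → Prop)
    (h1 : ∀ W, B W → IsQuasiCompactSp W.obj.left.obj ∧ IsQuasiSeparatedSp W.obj.left.obj)
    (h2 : ∀ (W U : EtSpOver X) (j : U ⟶ W), B W → RepWith @IsOpenImmersion j.hom.left.hom →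
      IsQuasiCompactSp U.obj.left.obj → B U)
    (h3 : ∀ (V : EtSpOver X) (T : Over S), IsAffine T.left →
      Nonempty ((yon S).obj T ≅ V.obj.left.obj) → B V ∧ P V)
    (h4 : ∀ (W U V UV : EtSpOver X) (j : U ⟶ W) (f : V ⟶ W) (p : UV ⟶ U) (q : UV ⟶ V),
      B W → IsQuasiCompactSp U.obj.left.obj →
      (∃ T : Over S, IsAffine T.left ∧ Nonempty ((yon S).obj T ≅ V.obj.left.obj)) →
      IsElemDistSq j.hom.left.hom f.hom.left.hom →
      IsPullback p.hom.left.hom q.hom.left.hom j.hom.left.hom f.hom.left.hom →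
      P U → P V → P UV → P W)
    (W : EtSpOver X) (hW : B W) : P W := by
  classical
  have small : ∀ (n : ℕ) (V : EtSpOver X) (T : Over S) (e : (yon S).obj T ≅ V.obj.left.obj), IsAffine T.left →
      ∀ (F : Finset Γ(T.left, ⊤)), F.card ≤ n → ∀ (E : EtSpOver X) (j : E ⟶ V),
      RepWith @IsOpenImmersion j.hom.left.hom →
      Set.range (Points.map j.hom.left.hom) = ⋃ g ∈ F, Points.ofPt e.hom '' (T.left.basicOpen g : Set T.left) →
      P E := by
    intro n
    induction n with
    | zero =>
      intro V T e hT F hF E j hj hr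
      rw [Finset.card_eq_zero.1 (Nat.le_zero.1 hF)] at hr
      haveI : IsEmpty (Points E.obj.left.obj) := ⟨fun z => by simpa using hr.le ⟨z, rfl⟩⟩
      obtain ⟨A, hA, he⟩ := exists_affine_iso_of_isEmpty E.obj.left.obj
      exact (h3 E A hA he).2
    | succ n ih =>
      intro V T e hT F hF E j hj hr
      rcases F.eq_empty_or_nonempty with rfl | ⟨g, hg⟩
      · exact ih V T e hT ∅ (Nat.zero_le _) E j hj hr
      have hcard : (F.erase g).card ≤ n := by rw [Finset.card_erase_of_mem hg]; omega
      have hEa := E.obj.left.property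
      have hVa := V.obj.left.property
      haveI := mono_of_openImmersion hj
      let O : Set (Points V.obj.left.obj) := ⋃ g' ∈ F.erase g, Points.ofPt e.hom '' (T.left.basicOpen g' : Set T.left)
      have heo := isOpenMap_ofPt_of_repWith (fun _ _ k (_ : IsOpenImmersion k) => inferInstance)
        (repWith_of_isIso (P := @IsOpenImmersion) e.hom)
      have hOo : IsOpen O := isOpen_biUnion fun g' _ => heo _ (T.left.basicOpen g').isOpen
      have hOc : IsCompact O := (F.erase g).isCompact_biUnion fun g' _ =>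
        ((isAffineOpen_top T.left).basicOpen g').isCompact.image (Points.continuous_ofPt _)
      obtain ⟨u, hu⟩ := exists_factor_open hj (openSubι O) (by
        rw [range_openSubι hVa, hr]
        exact Set.biUnion_subset_biUnion_left fun _ => Finset.mem_of_mem_erase)
      have hmem : ∀ t : (T.left.basicOpen g).toScheme,
          Points.ofPt ((yon S).map (openIncl T (T.left.basicOpen g)) ≫ e.hom) t ∈
            Set.range (Points.map j.hom.left.hom) := fun t => by
        rw [ofPt_map, hr]
        exact Set.mem_iUnion₂.2 ⟨g, hg, t.1, t.2, rfl⟩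
      obtain ⟨a, ha⟩ := exists_factor_open hj
        ((yon S).map (openIncl T (T.left.basicOpen g)) ≫ e.hom) (by
          rw [range_map_yon]
          rintro _ ⟨t, rfl⟩
          exact hmem t)
      haveI : IsOpenImmersion (openIncl T (T.left.basicOpen g)).left :=
        inferInstanceAs (IsOpenImmersion (T.left.basicOpen g).ι)
      have hao : RepWith @IsOpenImmersion a := repWith_openImmersion_of_fac a _ ha
        (repWith_comp ((repWith_yon_map_iff _ _).2 inferInstance) (repWith_of_isIso _))
      have hko : RepWith @IsOpenImmersion u := repWith_openImmersion_of_fac u _ hu (repWith_openSubι hOo)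
      have haff : IsAffine (openOver T (T.left.basicOpen g)).left := (isAffineOpen_top T.left).basicOpen g
      let U := etObj (isAlgSpace_openSub hVa hOo) E u (isEtaleMor_of_openImm hko)
      let A := etObj (IsAlgSpace.yon_obj (openOver T (T.left.basicOpen g))) E a (isEtaleMor_of_openImm hao)
      have hUc : IsQuasiCompactSp (openSub O) := isQuasiCompactSp_of_isCompact_range (isAlgSpace_openSub hVa hOo)
        (repWith_openSubι hOo) (by rwa [range_openSubι hVa])
      have hpb := isAlgSpace_pullback hEa.diag (isAlgSpace_openSub hVa hOo)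
        (IsAlgSpace.yon_obj (openOver T (T.left.basicOpen g))) u a
      have hfst : RepWith @IsOpenImmersion (pullback.fst u a) :=
        repWith_of_isPullback (IsPullback.of_hasPullback u a).flip hao
      let UV := etObj hpb U (pullback.fst u a) (isEtaleMor_of_openImm hfst)
      have hEc : IsQuasiCompactSp E.obj.left.obj := isQuasiCompactSp_of_isCompact_range hEa hj (by
        rw [hr]
        exact F.isCompact_biUnion fun g' _ =>
          ((isAffineOpen_top T.left).basicOpen g').isCompact.image (Points.continuous_ofPt _))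
      have hEB : B E := h2 V E j (h3 V T hT ⟨e⟩).1 hj hEc
      refine h4 E U A UV (etObjHom _ _ _ _) (etObjHom _ _ _ _) (etObjHom _ _ _ _)
        (etHom (pullback.snd u a) ?_) hEB hUc ⟨_, haff, ⟨Iso.refl _⟩⟩ ?_ (IsPullback.of_hasPullback u a) ?_
        (h3 A _ haff ⟨Iso.refl _⟩).2 ?_
      · change pullback.snd u a ≫ a ≫ E.obj.hom.hom = pullback.fst u a ≫ u ≫ E.obj.hom.hom
        rw [← Category.assoc, ← pullback.condition, Category.assoc]
      · refine isElemDistSq_of_cover hEa hko hao (Set.eq_univ_of_forall fun z => ?_)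
        obtain ⟨g', hg', t, ht, hz⟩ := Set.mem_iUnion₂.1 (hr.le ⟨z, rfl⟩)
        by_cases hgg : g' = g
        · subst hgg
          refine .inr ⟨Points.ofScheme (openOver T (T.left.basicOpen g')) ⟨t, ht⟩,
            injective_map_of_mono j.hom.left.hom ?_⟩
          change Points.map j.hom.left.hom (Points.map a _) = _
          rw [← Points.map_comp, ha, ← Points.ofPt_eq_map_ofScheme]
          exact (ofPt_map _ _ _).trans hz
        · obtain ⟨w, hw⟩ := (range_openSubι hVa O).ge
            (Set.mem_iUnion₂.2 ⟨g', Finset.mem_erase.2 ⟨hgg, hg'⟩, t, ht, hz⟩)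
          exact .inl ⟨w, injective_map_of_mono j.hom.left.hom (by rw [← Points.map_comp, hu, hw])⟩
      · exact ih V T e hT _ hcard U (etObjHom _ _ _ _ ≫ j) (by
          change RepWith @IsOpenImmersion (u ≫ j.hom.left.hom)
          rw [hu]
          exact repWith_openSubι hOo) (by
          change Set.range (Points.map (u ≫ j.hom.left.hom)) = _
          rw [hu, range_openSubι hVa])
      · refine ih V T e hT ((F.erase g).image (g * ·)) (Finset.card_image_le.trans hcard) UV
          (etObjHom _ _ _ _ ≫ etObjHom _ _ _ _ ≫ j) ?_ ?_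
        · change RepWith @IsOpenImmersion (pullback.fst u a ≫ u ≫ j.hom.left.hom)
          rw [hu]
          exact repWith_comp hfst (repWith_openSubι hOo)
        · change Set.range (Points.map (pullback.fst u a ≫ u ≫ j.hom.left.hom)) = _
          rw [range_pullback_fst_comp, hu, ha, range_openSubι hVa, range_openIncl_comp]
          exact inter_basicOpen e _ g
  have hWa := W.obj.left.property
  let Q : Set (Points W.obj.left.obj) → Prop := fun O => ∀ (E : EtSpOver X) (j : E ⟶ W),
    RepWith @IsOpenImmersion j.hom.left.hom → Set.range (Points.map j.hom.left.hom) = O → P E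
  suffices Q Set.univ from this W (𝟙 W) (repWith_of_isIso (𝟙 _))
    (Set.eq_univ_of_forall fun x => ⟨x, Points.map_id x⟩)
  refine open_induction hWa (h1 W hW).1 (h1 W hW).2 isOpen_empty isCompact_empty Q ?_ ?_
  · intro E j _ hr
    haveI : IsEmpty (Points E.obj.left.obj) := ⟨fun z => by simpa using hr.le ⟨z, rfl⟩⟩
    obtain ⟨A, hA, he⟩ := exists_affine_iso_of_isEmpty E.obj.left.obj
    exact (h3 E A hA he).2
  intro O O' k A a hO hOc hO' hO'c _ hk hA hsq ihQ E j hj hr
  haveI := mono_of_openImmersion hj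
  have hEa := E.obj.left.property
  obtain ⟨φ, hφ⟩ := exists_factor_open hj (openSubι O') (by rw [range_openSubι hWa, hr])
  obtain ⟨ψ, hψ⟩ := exists_factor_open (repWith_openSubι hO') j.hom.left.hom (by rw [range_openSubι hWa, hr])
  let eφ : openSub O' ≅ E.obj.left.obj := ⟨φ, ψ,
    by rw [← cancel_mono (openSubι O'), Category.assoc, hψ, hφ, Category.id_comp],
    by rw [← cancel_mono j.hom.left.hom, Category.assoc, hφ, hψ, Category.id_comp]⟩
  have hsq' := isElemDistSq_comp_iso hsq eφ
  let U := etObj (isAlgSpace_openSub hWa hO) E (k ≫ φ) (isEtaleMor_of_openImm hsq'.1)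
  let V := etObj (IsAlgSpace.yon_obj A) E (a ≫ φ) hsq'.2.1
  have hpb := isAlgSpace_pullback hEa.diag (isAlgSpace_openSub hWa hO) (IsAlgSpace.yon_obj A) (k ≫ φ) (a ≫ φ)
  have hsnd : RepWith @IsOpenImmersion (pullback.snd (k ≫ φ) (a ≫ φ)) :=
    repWith_of_isPullback (IsPullback.of_hasPullback _ _) hsq'.1
  let UV := etObj hpb V (pullback.snd (k ≫ φ) (a ≫ φ)) (isEtaleMor_of_openImm hsnd)
  have hEc : IsQuasiCompactSp E.obj.left.obj := isQuasiCompactSp_of_isCompact_range hEa hj (by rwa [hr])
  have hUc : IsQuasiCompactSp (openSub O) := isQuasiCompactSp_of_isCompact_range (isAlgSpace_openSub hWa hO)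
    (repWith_openSubι hO) (by rwa [range_openSubι hWa])
  have hEB : B E := h2 W E j hW hj hEc
  refine h4 E U V UV (etObjHom _ _ _ _) (etObjHom _ _ _ _) (etHom (pullback.fst (k ≫ φ) (a ≫ φ)) ?_)
    (etObjHom _ _ _ _) hEB hUc ⟨_, hA, ⟨Iso.refl _⟩⟩ hsq' (IsPullback.of_hasPullback _ _) ?_
    (h3 V _ hA ⟨Iso.refl _⟩).2 ?_
  · change pullback.fst _ _ ≫ (k ≫ φ) ≫ E.obj.hom.hom = pullback.snd _ _ ≫ (a ≫ φ) ≫ E.obj.hom.hom
    rw [← Category.assoc, pullback.condition, Category.assoc]
  · refine ihQ U (etObjHom _ _ _ _ ≫ j) ?_ ?_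
    · change RepWith @IsOpenImmersion ((k ≫ φ) ≫ j.hom.left.hom)
      rw [Category.assoc, hφ, hk]
      exact repWith_openSubι hO
    · change Set.range (Points.map ((k ≫ φ) ≫ j.hom.left.hom)) = _
      rw [Category.assoc, hφ, hk, range_openSubι hWa]
  · have hUVc : IsQuasiCompactSp (pullback (k ≫ φ) (a ≫ φ)) :=
      (qcqs_of_isPullback (isAlgSpace_openSub hWa hO) hEa (IsAlgSpace.yon_obj A) hpb
        (IsPullback.of_hasPullback _ _) hUc (isQuasiSeparatedSp_of_mono (h1 W hW).2 (openSubι O))
        (h1 E hEB).2 (isQuasiCompactSp_yon_affine hA) (isQuasiSeparatedSp_yon_affine hA)).1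
    obtain ⟨F, hF⟩ := exists_finset_basicOpen_range hA hsnd hUVc
    exact small F.card V A (Iso.refl _) hA F le_rfl UV (etObjHom _ _ _ _) hsnd hF

end Groth.Agent.H13AlgSp
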