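import Groth.Agent.H13AlgSp.ZFree
import Groth.Agent.H13AlgSp.EtVanish
import Groth.Agent.S10766

/-!
Cohomological dimension of quasi-compact quasi-separated algebraic spaces.
-/

set_option autoImplicit false
set_option backward.isDefEq.respectTransparency false
set_option linter.style.haveILetI false

universe u

open CategoryTheory CategoryTheory.Limits AlgebraicGeometry Opposite CategoryTheory.Abelian
open AlgSp Groth.Agent.H12AlgSp Groth.Agent.H12AlgSp.BCMod

namespace Groth.Agent.H13AlgSp.ZFree

variable {S : Scheme.{u}} {X : Sp S}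

section Rep

variable (E : EtOver X)

/-- Sections over an object of the site. -/
noncomputable def evObj (F : AbEt X) : ((zSh X).obj ((toSpOver X).obj E) ⟶ F) ≃ F.obj.obj (op E) :=
  (zEquiv X _ F).trans
    { toFun := fun η => η.app (op E) (𝟙 _)
      invFun := fun s =>
        { app := fun E' => TypeCat.ofHom fun g =>
            F.obj.map (EtOver.homMk (E := E'.unop) (E' := E) ((yon S).preimage g.left) (by
              rw [(yon S).map_preimage]; exact Over.w g)).op s
          naturality := fun E₁ E₂ k => by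
            ext g
            change F.obj.map _ s = F.obj.map k (F.obj.map _ s)
            rw [← CategoryTheory.comp_apply, ← Functor.map_comp]
            refine congrArg (fun m => F.obj.map m s) (Quiver.Hom.unop_inj (EtOver.hom_ext _ _ ((yon S).map_injective ?_)))
            change (yon S).map ((yon S).preimage ((yon S).map k.unop.hom.left ≫ g.left)) =
              (yon S).map (k.unop.hom.left ≫ (yon S).preimage g.left)
            rw [Functor.map_comp, (yon S).map_preimage, (yon S).map_preimage] }
      left_inv := fun η => by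
        ext E' g
        refine Eq.trans (NatTrans.naturality_apply η (EtOver.homMk (E := E'.unop) (E' := E) ((yon S).preimage g.left)
          (by rw [(yon S).map_preimage]; exact Over.w g)).op (𝟙 ((toSpOver X).obj E))).symm ?_
        refine congrArg (fun t => η.app E' t) (Over.OverMorphism.ext ?_)
        change (yon S).map ((yon S).preimage g.left) ≫ 𝟙 _ = g.left
        exact (Category.comp_id _).trans ((yon S).map_preimage _)
      right_inv := fun s => by
        change F.obj.map _ s = s
        refine (congrArg (fun m => F.obj.map m s) (a₂ := 𝟙 (op E))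
          (Quiver.Hom.unop_inj (EtOver.hom_ext _ _ ((yon S).map_injective ?_)))).trans (by simp)
        change (yon S).map ((yon S).preimage (𝟙 _)) = (yon S).map (𝟙 E.obj.left)
        rw [(yon S).map_preimage, CategoryTheory.Functor.map_id]
        }

theorem evObj_comp {F G : AbEt X} (φ : (zSh X).obj ((toSpOver X).obj E) ⟶ F) (g : F ⟶ G) :
    evObj E G (φ ≫ g) = g.hom.app (op E) (evObj E F φ) :=
  congrArg (fun η => η.app (op E) (𝟙 _)) (zEquiv_naturality_right X φ g)

theorem subsingleton_ext_obj (hE : IsAffine E.obj.left.left) (M : ModEt X) [M.IsQuasicoherent] (p : ℕ) :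
    Subsingleton (Ext.{u + 1} ((zSh X).obj ((toSpOver X).obj E)) ((toAbEt X).obj M) (p + 1)) :=
  AffVanish.subsingleton_ext (A := etAff X) AffVanish.aff_iso hE (evObj E) (fun φ g => evObj_comp E φ g) p _
    (AffVanish.isAffAcyclic_toAbEt M)

end Rep

/-- The free abelian group on one element. -/
noncomputable def freeUniqueIso (A : Type (u + 1)) [Unique A] :
    AddCommGrpCat.free.{u + 1}.obj A ≅ AddCommGrpCat.of (ULift.{u + 1} ℤ) :=
  ((FreeAbelianGroup.uniqueEquiv A).trans AddEquiv.ulift.symm).toAddCommGrpIso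

/-- The free sheaf on the base is the constant sheaf. -/
noncomputable def topIso (X : Sp S) : (zSh X).obj (Over.mk (𝟙 X)) ≅
    (constantSheaf (etTop X) AddCommGrpCat.{u + 1}).obj (AddCommGrpCat.of (ULift.{u + 1} ℤ)) :=
  letI : ∀ E : (EtOver X)ᵒᵖ, Unique (((hPre X).obj (Over.mk (𝟙 X))).obj E) := fun E =>
    { default := Over.homMk E.unop.obj.hom (Category.comp_id _)
      uniq := fun g => Over.OverMorphism.ext
        ((Category.comp_id g.left).symm.trans ((Over.w g).trans rfl)) }
  (presheafToSheaf (etTop X) _).mapIso (NatIso.ofComponents (fun E => freeUniqueIso _) fun {E E'} k => by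
    refine AddCommGrpCat.hom_ext (FreeAbelianGroup.lift_ext _ _ fun a => ?_)
    rw [show a = default from Subsingleton.elim _ _]
    simp [freeUniqueIso, FreeAbelianGroup.uniqueEquiv])

theorem subsingleton_of_iso {Z Z' G : AbEt X} (e : Z ≅ Z') {n : ℕ} (h : Subsingleton (Ext.{u + 1} Z G n)) :
    Subsingleton (Ext.{u + 1} Z' G n) := by
  refine subsingleton_of_forall_eq 0 fun x => ?_
  have h0 : (Ext.mk₀ e.hom).comp x (zero_add n) = 0 := Subsingleton.elim _ _
  have : x = (Ext.mk₀ e.inv).comp ((Ext.mk₀ e.hom).comp x (zero_add n)) (zero_add n) := by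
    rw [Ext.mk₀_comp_mk₀_assoc, Iso.inv_hom_id, Ext.mk₀_id_comp]
  rw [this, h0, Ext.comp_zero]

/-- Cohomological dimension is finite. -/
theorem exists_bound [QuasiSeparatedSpace S] (X : Space S) (hqc : IsQuasiCompactSp X.obj)
    (hqs : IsQuasiSeparatedSp X.obj) :
    ∃ n : ℕ, ∀ M : ModEt X.obj, M.IsQuasicoherent → ∀ q : ℕ, n ≤ q → Subsingleton (HModEt X.obj M q) := by
  let P : EtSpOver X → Prop := fun W => ∃ n : ℕ, ∀ M : ModEt X.obj, M.IsQuasicoherent → ∀ q : ℕ, n ≤ q →
    Subsingleton (Ext.{u + 1} ((zSh X.obj).obj (Over.mk W.obj.hom.hom)) ((toAbEt X.obj).obj M) q)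
  have hP := Groth.Agent.S10766.result X hqc hqs P (fun W T hT ⟨e⟩ => by
      let E : EtOver X.obj := EtOver.mk (e.hom ≫ W.obj.hom.hom) (W.property e.hom (repWith_of_isIso _))
      let i : (toSpOver X.obj).obj E ≅ Over.mk W.obj.hom.hom := Over.isoMk e rfl
      refine ⟨1, fun M hM q hq => ?_⟩
      obtain ⟨p, rfl⟩ : ∃ p, q = p + 1 := ⟨q - 1, by omega⟩
      exact subsingleton_of_iso ((zSh X.obj).mapIso i) (subsingleton_ext_obj E hT M p))
    (fun W U V UV j f p q _ _ _ ⟨T, hT, ⟨e⟩⟩ hsq hpb ⟨nU, hU⟩ ⟨nV, hV⟩ ⟨nUV, hUV⟩ => by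
      refine ⟨nU + nV + nUV + 1, fun M hM n hn => ?_⟩
      obtain ⟨m, rfl⟩ : ∃ m, n = m + 1 := ⟨n - 1, by omega⟩
      exact subsingleton_ext_of_sq (X := X.obj)
        (U := Over.mk U.obj.hom.hom) (V := Over.mk V.obj.hom.hom) (UV := Over.mk UV.obj.hom.hom)
        (W := Over.mk W.obj.hom.hom)
        (j := Over.homMk j.hom.left.hom (congrArg (fun k => k.hom) (Over.w j.hom)))
        (f := Over.homMk f.hom.left.hom (congrArg (fun k => k.hom) (Over.w f.hom)))
        (p := Over.homMk p.hom.left.hom (congrArg (fun k => k.hom) (Over.w p.hom)))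
        (q := Over.homMk q.hom.left.hom (congrArg (fun k => k.hom) (Over.w q.hom)))
        W.obj.left.property hsq hpb e _ m (hU M hM _ (by omega)) (hV M hM _ (by omega)) (hUV M hM _ (by omega)))
    ⟨Over.mk (𝟙 X), fun _ φ hφ => (Category.comp_id φ).symm ▸ hφ⟩ hqc hqs
  obtain ⟨n, hn⟩ := hP
  exact ⟨n, fun M hM q hq => subsingleton_of_iso (topIso X.obj) (hn M hM q hq)⟩

end Groth.Agent.H13AlgSp.ZFree
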