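import Mathlib.CategoryTheory.Abelian.GrothendieckCategory.EnoughInjectives
import Mathlib.CategoryTheory.Abelian.GrothendieckAxioms.Basic
import Mathlib.Algebra.Homology.DerivedCategory.Ext.ExactSequences
import Mathlib.Algebra.Homology.DerivedCategory.Ext.EnoughInjectives

/-!
`Ext` groups out of a fixed object and filtered colimits.
-/

set_option autoImplicit false
set_option backward.isDefEq.respectTransparency false
set_option linter.style.haveILetI false

universe w v u w'

open CategoryTheory CategoryTheory.Limits CategoryTheory.Abelian MorphismProperty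

namespace Groth.Agent.H13AlgSp.ColimExt

variable {C : Type u} [Category.{v} C] [Abelian C] [HasExt.{w} C]

section

variable {J : Type w'} [SmallCategory J] [HasColimitsOfShape J C] (Z : C)

/-- Pushing forward along a morphism. -/
noncomputable abbrev push {F G : C} (φ : F ⟶ G) {n : ℕ} (x : Ext.{w} Z F n) : Ext.{w} Z G n :=
  x.comp (Ext.mk₀ φ) (add_zero n)

theorem push_comp {F G H : C} (φ : F ⟶ G) (ψ : G ⟶ H) {n : ℕ} (x : Ext.{w} Z F n) :
    push Z (φ ≫ ψ) x = push Z ψ (push Z φ x) := by
  rw [push, push, push, Ext.comp_assoc_of_second_deg_zero, Ext.mk₀_comp_mk₀]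

theorem push_sub {F G : C} (φ : F ⟶ G) {n : ℕ} (a b : Ext.{w} Z F n) :
    push Z φ (a - b) = push Z φ a - push Z φ b :=
  map_sub (((Ext.mk₀ φ).postcomp Z (add_zero n))) a b

/-- Every class of the colimit comes from a stage. -/
def ExtSurj (n : ℕ) (D : J ⥤ C) : Prop :=
  ∀ x : Ext.{w} Z (colimit D) n, ∃ (j : J) (y : Ext.{w} Z (D.obj j) n), push Z (colimit.ι D j) y = x

/-- Every class killed in the colimit is killed at a stage. -/
def ExtInj (n : ℕ) (D : J ⥤ C) : Prop :=
  ∀ (j : J) (y : Ext.{w} Z (D.obj j) n), push Z (colimit.ι D j) y = 0 →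
    ∃ (k : J) (f : j ⟶ k), push Z (D.map f) y = 0

theorem ExtInj.eq_stage {n : ℕ} {D : J ⥤ C} {Z : C} (h : ExtInj Z n D) {i : J} (a b : Ext.{w} Z (D.obj i) n)
    (he : push Z (colimit.ι D i) a = push Z (colimit.ι D i) b) :
    ∃ (k : J) (f : i ⟶ k), push Z (D.map f) a = push Z (D.map f) b := by
  obtain ⟨k, f, hf⟩ := h i (a - b) ((push_sub Z _ _ _).trans (sub_eq_zero.2 he))
  exact ⟨k, f, sub_eq_zero.1 ((push_sub Z _ _ _).symm.trans hf)⟩

end

open ZeroObject IsGrothendieckAbelian

variable [IsGrothendieckAbelian.{w} C]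

variable (C) in
/-- `X ↦ (X ⟶ 0)`. -/
noncomputable def toArrow : C ⥤ Arrow C where
  obj X := Arrow.mk (0 : X ⟶ (0 : C))
  map f := Arrow.homMk f (𝟙 _) (by simp)
  map_id X := by ext <;> simp
  map_comp f g := by ext <;> simp

variable (C) in
/-- A functorial injective object. -/
noncomputable def inj : C ⥤ C :=
  toArrow C ⋙ (functorialFactorizationData (monomorphisms C) (monomorphisms C).rlp).Z

variable (C) in
/-- The functorial embedding into an injective object. -/
noncomputable def toInj : 𝟭 C ⟶ inj C where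
  app X := (functorialFactorizationData (monomorphisms C) (monomorphisms C).rlp).i.app ((toArrow C).obj X)
  naturality X Y f := (functorialFactorizationData (monomorphisms C) (monomorphisms C).rlp).i.naturality
    ((toArrow C).map f)

theorem mono_toInj (X : C) : Mono ((toInj C).app X) :=
  (functorialFactorizationData (monomorphisms C) (monomorphisms C).rlp).hi _

theorem injective_inj (X : C) : Injective ((inj C).obj X) :=
  inferInstanceAs (Injective (monoMapFactorizationDataRlp (0 : X ⟶ 0)).Z)

variable {J : Type w'} [SmallCategory J] [IsFiltered J] [HasColimitsOfShape J C] [HasExactColimitsOfShape J C]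

/-- Dimension shifting for filtered colimits. -/
theorem extSurj_extInj (Z : C) (h₀ : ∀ D : J ⥤ C, ExtSurj Z 0 D ∧ ExtInj Z 0 D)
    (hacy : ∀ D : J ⥤ C, (∀ j, Injective (D.obj j)) → ∀ n : ℕ, Subsingleton (Ext.{w} Z (colimit D) (n + 1))) :
    ∀ (n : ℕ) (D : J ⥤ C), ExtSurj Z n D ∧ ExtInj Z n D := by
  intro n
  induction n with
  | zero => exact h₀
  | succ n ih =>
    intro D
    let E : J ⥤ C := D ⋙ inj C
    let η : D ⟶ E := Functor.whiskerLeft D (toInj C)
    have hEinj : ∀ j, Injective (E.obj j) := fun j => injective_inj (D.obj j)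
    haveI : ∀ j, Mono (η.app j) := fun j => mono_toInj (D.obj j)
    haveI : Mono η := NatTrans.mono_of_mono_app η
    let S := ShortComplex.mk η (cokernel.π η) (cokernel.condition η)
    have hS : S.ShortExact := { exact := ShortComplex.exact_of_g_is_cokernel _ (cokernelIsCokernel _) }
    let Q : J ⥤ C := S.X₃
    have hj : ∀ j, (S.map ((evaluation J C).obj j)).ShortExact := fun j => hS.map_of_exact _
    have hC : (S.map colim).ShortExact := hS.map_of_exact _
    let Sj : J → ShortComplex C := fun j => S.map ((evaluation J C).obj j)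
    let m : ∀ j, Sj j ⟶ S.map colim := fun j => ShortComplex.homMk (colimit.ι D j) (colimit.ι E j)
      (colimit.ι Q j) (colimit.ι_map η j) (colimit.ι_map (cokernel.π η) j)
    let t : ∀ {i j : J}, (i ⟶ j) → (Sj i ⟶ Sj j) := fun f => ShortComplex.homMk (D.map f) (E.map f) (Q.map f)
      (η.naturality f) ((cokernel.π η).naturality f)
    let δ : ∀ {T : ShortComplex C}, T.ShortExact → Ext.{w} Z T.X₃ n → Ext.{w} Z T.X₁ (n + 1) :=
      fun h z => z.comp h.extClass rfl
    have hnat : ∀ {T T' : ShortComplex C} (h : T.ShortExact) (h' : T'.ShortExact) (φ : T ⟶ T')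
        (z : Ext.{w} Z T.X₃ n), push Z φ.τ₁ (δ h z) = δ h' (push Z φ.τ₃ z) := by
      intro T T' h h' φ z
      change (z.comp h.extClass rfl).comp (Ext.mk₀ φ.τ₁) (add_zero _) =
        (z.comp (Ext.mk₀ φ.τ₃) (add_zero n)).comp h'.extClass rfl
      rw [Ext.comp_assoc_of_third_deg_zero, ShortComplex.ShortExact.extClass_naturality h h' φ,
        Ext.comp_assoc_of_second_deg_zero]
    haveI : ∀ j, Subsingleton (Ext.{w} Z (E.obj j) (n + 1)) := fun j =>
      subsingleton_of_forall_eq 0 fun e =>
        haveI := hEinj j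
        Ext.eq_zero_of_injective e
    haveI : Subsingleton (Ext.{w} Z (colimit E) (n + 1)) := hacy E hEinj n
    refine ⟨fun x => ?_, fun j a ha => ?_⟩
    · obtain ⟨y, rfl⟩ := Ext.covariant_sequence_exact₁ _ hC x
        (Subsingleton.elim (α := Ext.{w} Z (colimit E) (n + 1)) _ _) rfl
      obtain ⟨j, z, hz⟩ := (ih Q).1 y
      refine ⟨j, δ (hj j) z, ?_⟩
      exact (hnat (hj j) hC (m j) z).trans (congrArg (δ hC) hz)
    · obtain ⟨b, rfl⟩ := Ext.covariant_sequence_exact₁ _ (hj j) a
        (Subsingleton.elim (α := Ext.{w} Z (E.obj j) (n + 1)) _ _) rfl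
      obtain ⟨c, hc⟩ := Ext.covariant_sequence_exact₃ _ hC (push Z (colimit.ι Q j) b) rfl
        ((hnat (hj j) hC (m j) b).symm.trans ha)
      replace hc : push Z (S.map colim).g c = push Z (colimit.ι Q j) b := hc
      obtain ⟨i, c', hc'⟩ := (ih E).1 c
      let k := IsFiltered.max i j
      let p : i ⟶ k := IsFiltered.leftToMax i j
      let q : j ⟶ k := IsFiltered.rightToMax i j
      let c'' := push Z (E.map p) c'
      let b' := push Z (Q.map q) b
      have hdiff : push Z (colimit.ι Q k) (b' - push Z ((cokernel.π η).app k) c'') = 0 := by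
        rw [push_sub, sub_eq_zero]
        refine ((push_comp Z _ _ b).symm.trans ?_).trans (push_comp Z _ _ c'')
        refine (congrArg (fun φ => push Z φ b) (colimit.w Q q)).trans (hc.symm.trans ?_)
        refine (congrArg (push Z (S.map colim).g) hc'.symm).trans ?_
        refine ((push_comp Z _ _ c').symm.trans ?_).trans (push_comp Z _ _ c')
        refine congrArg (fun φ => push Z φ c') ?_
        change colimit.ι E i ≫ colimMap (cokernel.π η) = E.map p ≫ (cokernel.π η).app k ≫ colimit.ι Q k
        rw [← colimit.ι_map, colimit.w_assoc]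
        rfl
      obtain ⟨l, f, hf⟩ := (ih Q).2 k _ hdiff
      rw [push_sub, sub_eq_zero] at hf
      refine ⟨l, q ≫ f, ?_⟩
      refine (hnat (hj j) (hj l) (t (q ≫ f)) b).trans ?_
      have h3 : push Z (Q.map (q ≫ f)) b = push Z (Sj l).g (push Z (E.map f) c'') := by
        rw [Functor.map_comp, push_comp]
        refine (hf.trans (push_comp Z _ _ c'').symm).trans (Eq.trans ?_ (push_comp Z _ _ c''))
        exact congrArg (fun φ => push Z φ c'') ((cokernel.π η).naturality f).symm
      change (push Z (Q.map (q ≫ f)) b).comp (hj l).extClass rfl = 0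
      rw [h3, push, Ext.comp_assoc_of_second_deg_zero, (hj l).comp_extClass, Ext.comp_zero]

end Groth.Agent.H13AlgSp.ColimExt
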