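import Groth.Agent.H13AlgSp.AffColim
import Groth.Agent.H13AlgSp.ColimExt
import Groth.Agent.H13AlgSp.CohDim

/-!
Cohomology of quasi-compact quasi-separated algebraic spaces commutes with filtered colimits.
-/

set_option autoImplicit false
set_option backward.isDefEq.respectTransparency false
set_option linter.style.haveILetI false

universe u

open CategoryTheory CategoryTheory.Limits AlgebraicGeometry Opposite CategoryTheory.Abelian
open AlgSp Groth.Agent.H12AlgSp Groth.Agent.H12AlgSp.BCMod Groth.Agent.H13AlgSp.ColimExt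

namespace Groth.Agent.H13AlgSp.ZFree

theorem subsingleton_ext_biprod {C : Type*} [Category C] [Abelian C] [HasExt.{u + 1} C] {A B G : C} {n : ℕ}
    (hA : Subsingleton (Ext.{u + 1} A G n)) (hB : Subsingleton (Ext.{u + 1} B G n)) :
    Subsingleton (Ext.{u + 1} (A ⊞ B) G n) :=
  Ext.biprodAddEquiv.injective.subsingleton

variable {S : Scheme.{u}} {X : Sp S} (J : Type (u + 1)) [SmallCategory J] [IsFiltered J]

/-- Sheaf cohomology of a space commutes with filtered colimits. -/
def Good (Z : AbEt X) : Prop :=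
  (∀ D : J ⥤ AbEt X, ExtSurj Z 0 D ∧ ExtInj Z 0 D) ∧
    ∀ D : J ⥤ AbEt X, (∀ j, Injective (D.obj j)) → ∀ n : ℕ, Subsingleton (Ext.{u + 1} Z (colimit D) (n + 1))

variable {J}

theorem good_obj (E : EtOver X) (hE : IsAffine E.obj.left.left) :
    Good J ((zSh X).obj ((toSpOver X).obj E)) := by
  refine ⟨fun D => ⟨fun x => ?_, fun j y hy => ?_⟩, fun D hD n => ?_⟩
  · obtain ⟨φ, rfl⟩ := (Ext.mk₀_bijective _ _).surjective x
    obtain ⟨j, t, ht⟩ := AffColim.colim_surj (A := etAff X) D hE (evObj E _ φ)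
    refine ⟨j, Ext.mk₀ ((evObj E _).symm t), ?_⟩
    rw [push, Ext.mk₀_comp_mk₀]
    exact congrArg Ext.mk₀ ((evObj E _).injective (by rw [evObj_comp, Equiv.apply_symm_apply, ht]))
  · obtain ⟨φ, rfl⟩ := (Ext.mk₀_bijective _ _).surjective y
    have h0 : ∀ F : AbEt X, evObj E F 0 = 0 := fun F => by
      have := evObj_comp E (0 : _ ⟶ F) (0 : F ⟶ F)
      rw [comp_zero] at this
      exact this
    rw [push, Ext.mk₀_comp_mk₀, ← Ext.mk₀_zero (C := AbEt X)] at hy
    have hy' := congrArg (evObj E _) ((Ext.mk₀_bijective _ _).injective hy)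
    rw [evObj_comp, h0] at hy'
    obtain ⟨k, f, hf⟩ := AffColim.colim_inj (A := etAff X) D hE (evObj E _ φ) hy'
    refine ⟨k, f, ?_⟩
    rw [push, Ext.mk₀_comp_mk₀, ← Ext.mk₀_zero (C := AbEt X)]
    exact congrArg Ext.mk₀ ((evObj E _).injective (by rw [evObj_comp, h0, hf]))
  · exact AffVanish.subsingleton_ext (A := etAff X) AffVanish.aff_iso hE (evObj E)
      (fun φ g => evObj_comp E φ g) n _
      (AffColim.isAffAcyclic_colimit D AffVanish.aff_iso fun j =>
        @AffVanish.isAffAcyclic_of_injective _ _ _ _ (etAff X) _ _ (D.obj j) (hD j))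

theorem good_iso {Z Z' : AbEt X} (e : Z ≅ Z') (h : Good J Z) : Good J Z' := by
  have inj : ∀ {F : AbEt X} (a : Ext.{u + 1} Z' F 0), (Ext.mk₀ e.hom).comp a (zero_add 0) = 0 → a = 0 := fun a ha => by
    have : a = (Ext.mk₀ e.inv).comp ((Ext.mk₀ e.hom).comp a (zero_add 0)) (zero_add 0) := by
      rw [Ext.mk₀_comp_mk₀_assoc, Iso.inv_hom_id, Ext.mk₀_id_comp]
    rw [this, ha, Ext.comp_zero]
  refine ⟨fun D => ⟨fun x => ?_, fun j y hy => ?_⟩, fun D hD n => subsingleton_of_iso e (h.2 D hD n)⟩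
  · obtain ⟨j, y, hy⟩ := (h.1 D).1 ((Ext.mk₀ e.hom).comp x (zero_add 0))
    refine ⟨j, (Ext.mk₀ e.inv).comp y (zero_add 0), ?_⟩
    rw [push, Ext.comp_assoc_of_third_deg_zero]
    refine (congrArg (fun t => (Ext.mk₀ e.inv).comp t (zero_add 0)) hy).trans ?_
    rw [Ext.mk₀_comp_mk₀_assoc, Iso.inv_hom_id, Ext.mk₀_id_comp]
  · obtain ⟨k, f, hf⟩ := (h.1 D).2 j ((Ext.mk₀ e.hom).comp y (zero_add 0)) (by
      rw [push, Ext.comp_assoc_of_third_deg_zero]
      exact (congrArg (fun t => (Ext.mk₀ e.hom).comp t (zero_add 0)) hy).trans (Ext.comp_zero _ _ _ _ _))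
    refine ⟨k, f, inj _ ?_⟩
    rw [push] at hf ⊢
    rwa [← Ext.comp_assoc_of_third_deg_zero]

section MV

variable {U V UV W : Over X} {j : U ⟶ W} {f : V ⟶ W} {p : UV ⟶ U} {q : UV ⟶ V}
  (hX : IsAlgSpace W.left) (hsq : IsElemDistSq j.left f.left) (hpb : IsPullback p.left q.left j.left f.left)
  {T : Over S} (e : (yon S).obj T ≅ V.left)

set_option maxHeartbeats 800000 in
include hX hsq hpb e in
theorem good_of_sq (hU : Good J ((zSh X).obj U)) (hV : Good J ((zSh X).obj V)) (hUV : Good J ((zSh X).obj UV)) :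
    Good J ((zSh X).obj W) := by
  have hP := isPushout_zSh hX hsq hpb e
  refine ⟨fun D => ⟨fun x => ?_, fun i y hy => ?_⟩, fun D hD n => ?_⟩
  · obtain ⟨φ, rfl⟩ := (Ext.mk₀_bijective _ _).surjective x
    obtain ⟨a, ya, ha⟩ := (hU.1 D).1 (Ext.mk₀ ((zSh X).map j ≫ φ))
    obtain ⟨b, yb, hb⟩ := (hV.1 D).1 (Ext.mk₀ ((zSh X).map f ≫ φ))
    obtain ⟨α, rfl⟩ := (Ext.mk₀_bijective _ _).surjective ya
    obtain ⟨β, rfl⟩ := (Ext.mk₀_bijective _ _).surjective yb
    rw [push, Ext.mk₀_comp_mk₀] at ha hb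
    replace ha := (Ext.mk₀_bijective _ _).injective ha
    replace hb := (Ext.mk₀_bijective _ _).injective hb
    let k := IsFiltered.max a b
    let fa : a ⟶ k := IsFiltered.leftToMax a b
    let fb : b ⟶ k := IsFiltered.rightToMax a b
    obtain ⟨l, g, hg⟩ := (hUV.1 D).2.eq_stage (i := k) (Ext.mk₀ ((zSh X).map p ≫ α ≫ D.map fa))
      (Ext.mk₀ ((zSh X).map q ≫ β ≫ D.map fb)) (by
        rw [push, push, Ext.mk₀_comp_mk₀, Ext.mk₀_comp_mk₀]
        simp only [Category.assoc, colimit.w, ha, hb, hP.w_assoc])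
    rw [push, push, Ext.mk₀_comp_mk₀, Ext.mk₀_comp_mk₀] at hg
    replace hg := (Ext.mk₀_bijective _ _).injective hg
    simp only [Category.assoc] at hg
    refine ⟨l, Ext.mk₀ (hP.desc (α ≫ D.map fa ≫ D.map g) (β ≫ D.map fb ≫ D.map g) hg), ?_⟩
    rw [push, Ext.mk₀_comp_mk₀]
    refine congrArg Ext.mk₀ (hP.hom_ext ?_ ?_)
    · rw [hP.inl_desc_assoc, Category.assoc, Category.assoc, colimit.w, colimit.w, ha]
    · rw [hP.inr_desc_assoc, Category.assoc, Category.assoc, colimit.w, colimit.w, hb]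
  · obtain ⟨φ, rfl⟩ := (Ext.mk₀_bijective _ _).surjective y
    rw [push, Ext.mk₀_comp_mk₀, Ext.mk₀_eq_zero_iff] at hy
    obtain ⟨a, ga, ha⟩ := (hU.1 D).2 i (Ext.mk₀ ((zSh X).map j ≫ φ)) (by
      rw [push, Ext.mk₀_comp_mk₀, Category.assoc, hy, comp_zero, Ext.mk₀_zero])
    obtain ⟨b, gb, hb⟩ := (hV.1 D).2 i (Ext.mk₀ ((zSh X).map f ≫ φ)) (by
      rw [push, Ext.mk₀_comp_mk₀, Category.assoc, hy, comp_zero, Ext.mk₀_zero])
    rw [push, Ext.mk₀_comp_mk₀, Ext.mk₀_eq_zero_iff, Category.assoc] at ha hb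
    obtain ⟨l, ua, ub, hu⟩ := IsFiltered.span ga gb
    refine ⟨l, ga ≫ ua, ?_⟩
    rw [push, Ext.mk₀_comp_mk₀, Ext.mk₀_eq_zero_iff]
    refine hP.hom_ext ?_ ?_
    · rw [D.map_comp, comp_zero]
      simp only [← Category.assoc] at ha ⊢
      exact (congrArg (· ≫ D.map ua) ha).trans zero_comp
    · rw [hu, D.map_comp, comp_zero]
      simp only [← Category.assoc] at hb ⊢
      exact (congrArg (· ≫ D.map ub) hb).trans zero_comp
  · cases n with
    | succ n => exact subsingleton_ext_of_sq hX hsq hpb e _ _ (hU.2 D hD _) (hV.2 D hD _) (hUV.2 D hD _)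
    | zero =>
      haveI := hU.2 D hD 0
      haveI := hV.2 D hD 0
      have hm := mono_zSh_map hX hsq hpb e
      let K : ShortComplex (AbEt X) := ShortComplex.mk (biprod.lift ((zSh X).map p) (-(zSh X).map q))
        (biprod.desc ((zSh X).map j) ((zSh X).map f))
        (by rw [biprod.lift_desc, Preadditive.neg_comp, hP.w, add_neg_cancel])
      let sqr : Square (AbEt X) :=
        { X₁ := (zSh X).obj UV, X₂ := (zSh X).obj U, X₃ := (zSh X).obj V, X₄ := (zSh X).obj W
          f₁₂ := (zSh X).map p, f₁₃ := (zSh X).map q, f₂₄ := (zSh X).map j, f₃₄ := (zSh X).map f, fac := hP.w }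
      have hs : sqr.IsPushout := hP
      have hK : K.ShortExact :=
        { exact := ShortComplex.exact_of_g_is_cokernel _ hs.isColimitCokernelCofork
          mono_f := by
            have : Mono (K.f ≫ biprod.snd) := by
              change Mono (biprod.lift _ _ ≫ biprod.snd)
              rw [biprod.lift_snd]; infer_instance
            exact mono_of_mono _ biprod.snd
          epi_g := (K.exact_and_epi_g_iff_g_is_cokernel.2 ⟨hs.isColimitCokernelCofork⟩).2 }
      refine subsingleton_of_forall_eq 0 fun x => ?_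
      haveI : Subsingleton (Ext.{u + 1} K.X₂ (colimit D) (0 + 1)) :=
        subsingleton_ext_biprod (hU.2 D hD 0) (hV.2 D hD 0)
      obtain ⟨y, rfl⟩ := Ext.contravariant_sequence_exact₃ hK (colimit D) x (Subsingleton.elim _ _) (add_comm 1 0)
      obtain ⟨i, y', hy'⟩ := (hUV.1 D).1 y
      obtain ⟨φ, rfl⟩ := (Ext.mk₀_bijective _ _).surjective y'
      haveI := hD i
      have hfac : K.f ≫ biprod.desc 0 (-Injective.factorThru φ ((zSh X).map q)) ≫ colimit.ι D i =
          φ ≫ colimit.ι D i := by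
        change biprod.lift _ _ ≫ _ = _
        rw [← Category.assoc, biprod.lift_desc, comp_zero, zero_add, Preadditive.neg_comp_neg,
          Injective.comp_factorThru]
      rw [← hy', push, Ext.mk₀_comp_mk₀, ← hfac, ← Ext.mk₀_comp_mk₀,
        ← Ext.comp_assoc_of_second_deg_zero, hK.extClass_comp, Ext.zero_comp]

end MV

variable (J) in
theorem good_top [QuasiSeparatedSpace S] (X : Space S) (hqc : IsQuasiCompactSp X.obj)
    (hqs : IsQuasiSeparatedSp X.obj) :
    Good J ((constantSheaf (etTop X.obj) AddCommGrpCat.{u + 1}).obj (AddCommGrpCat.of (ULift.{u + 1} ℤ))) := by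
  let P : EtSpOver X → Prop := fun W => Good J ((zSh X.obj).obj (Over.mk W.obj.hom.hom))
  have hP := Groth.Agent.S10766.result X hqc hqs P (fun W T hT ⟨e⟩ => by
      let E : EtOver X.obj := EtOver.mk (e.hom ≫ W.obj.hom.hom) (W.property e.hom (repWith_of_isIso _))
      let i : (toSpOver X.obj).obj E ≅ Over.mk W.obj.hom.hom := Over.isoMk e rfl
      exact good_iso ((zSh X.obj).mapIso i) (good_obj E hT))
    (fun W U V UV j f p q _ _ _ ⟨T, hT, ⟨e⟩⟩ hsq hpb hU hV hUV =>
      good_of_sq (X := X.obj)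
        (U := Over.mk U.obj.hom.hom) (V := Over.mk V.obj.hom.hom) (UV := Over.mk UV.obj.hom.hom)
        (W := Over.mk W.obj.hom.hom)
        (j := Over.homMk j.hom.left.hom (congrArg (fun k => k.hom) (Over.w j.hom)))
        (f := Over.homMk f.hom.left.hom (congrArg (fun k => k.hom) (Over.w f.hom)))
        (p := Over.homMk p.hom.left.hom (congrArg (fun k => k.hom) (Over.w p.hom)))
        (q := Over.homMk q.hom.left.hom (congrArg (fun k => k.hom) (Over.w q.hom)))
        W.obj.left.property hsq hpb e hU hV hUV)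
    ⟨Over.mk (𝟙 X), fun _ φ hφ => (Category.comp_id φ).symm ▸ hφ⟩ hqc hqs
  exact good_iso (topIso X.obj) hP

theorem preservesColimitsOfShape_HEtF [QuasiSeparatedSpace S] (X : Space S) (hqc : IsQuasiCompactSp X.obj)
    (hqs : IsQuasiSeparatedSp X.obj) (n : ℕ) :
    PreservesColimitsOfShape J (HEtF X.obj n) := by
  haveI : ReflectsColimitsOfShape J (CategoryTheory.forget AddCommGrpCat.{u + 1}) :=
    reflectsColimitsOfShape_of_reflectsIsomorphisms
  refine ⟨fun {D} => preservesColimit_of_preserves_colimit_cocone (colimit.isColimit D) ?_⟩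
  obtain ⟨hs, hi⟩ := extSurj_extInj _ (good_top J X hqc hqs).1 (good_top J X hqc hqs).2 n D
  refine isColimitOfReflects (CategoryTheory.forget AddCommGrpCat.{u + 1})
    (Types.FilteredColimit.isColimitOf' _ _ (fun x => ?_) fun i a b h => ?_)
  · obtain ⟨j, y, hy⟩ := hs x
    exact ⟨j, y, hy.symm⟩
  · exact hi.eq_stage a b h

end Groth.Agent.H13AlgSp.ZFree
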