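import Groth.Agent.H13AlgSp.DecentGeneric
import Groth.Agent.H05EGA4.Points
import Groth.Agent.H06Jacobson.Rings
import Groth.Agent.H13AlgSp.EtaleLocally

/-!
Jacobson decent spaces; proper generizations of a point.
-/

universe u

open CategoryTheory CategoryTheory.Limits AlgebraicGeometry Opposite Topology
open AlgSp Groth.Agent.H12AlgSp

namespace Groth.Agent.H13AlgSp

variable {S : Scheme.{u}}

/-- Closedness of points agrees on charts over a Jacobson chart. -/
theorem isClosed_transfer {X : Sp S} (hX : IsAlgSpace X) {U V : Over S}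
    {a : (yon S).obj U ⟶ X} {b : (yon S).obj V ⟶ X} (ha : RepWith @Etale a) (hb : RepWith @Etale b)
    [JacobsonSpace V.left] {u : U.left} (hu : IsClosed ({u} : Set U.left)) {v : V.left}
    (he : Points.ofPt a u = Points.ofPt b v) : IsClosed ({v} : Set V.left) := by
  obtain ⟨W, g, h, w, hg, hh, hgw, hhw⟩ := exists_common_chart hX ha hb he
  have := lqf_of_etale g.left
  have hw : IsClosed ({w} : Set W.left) := by
    rw [← closure_subset_iff_isClosed]
    intro z hz
    have h1 : w ⤳ z := specializes_iff_mem_closure.2 hz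
    have h2 : g.left z = u :=
      (h1.map g.left.continuous).mem_closed hu (show g.left w ∈ ({u} : Set U.left) from hgw)
    exact (Groth.Agent.H05EGA4.eq_of_specializes_of_fibre g.left h1 (hgw.trans h2.symm)).symm
  rw [← hhw]
  exact h.left.closePoints_subset_preimage_closedPoints hw

theorem ftPt_iff_isClosed {X : Sp S} (hX : IsAlgSpace X) (hd : IsDecent X)
    (hJ : EtaleLocally (fun U => JacobsonSpace ↥U) X) (x : Points X) :
    HasAt (fun U u => IsClosed ({u} : Set ↥U)) X x ↔ IsClosed ({x} : Set (Points X)) := by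
  obtain ⟨U₀, a₀, ha₀, has₀, hJ₀⟩ := hJ
  constructor
  · rintro ⟨U, a, u, ha, rfl, hu⟩
    rw [← closure_subset_iff_isClosed]
    intro x' hx'
    obtain ⟨w, rfl⟩ := surjective_ofPt_of_repWith le_rfl has₀ x'
    obtain ⟨w', hw', he⟩ := generalizingMap_chart hd ha₀ (specializes_iff_mem_closure.2 hx')
    have hc : IsClosed ({w'} : Set U₀.left) := isClosed_transfer hX ha ha₀ hu he.symm
    rw [show w = w' from hw'.mem_closed hc rfl, he]
    rfl
  · intro hx
    obtain ⟨u₁, hu₁⟩ := surjective_ofPt_of_repWith le_rfl has₀ x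
    obtain ⟨u, hu, huc⟩ := nonempty_inter_closedPoints (Z := Points.ofPt a₀ ⁻¹' {x}) ⟨u₁, hu₁⟩
      (hx.preimage (Points.continuous_ofPt a₀)).isLocallyClosed
    exact ⟨U₀, a₀, u, ha₀, hu, huc⟩

theorem jacobsonSpace_points {X : Sp S} (hX : IsAlgSpace X) (hd : IsDecent X)
    (hJ : EtaleLocally (fun U => JacobsonSpace ↥U) X) : JacobsonSpace (Points X) := by
  have hJ' := hJ
  obtain ⟨U₀, a₀, ha₀, has₀, hJ₀⟩ := hJ'
  refine ⟨fun {Z} hZ => (closure_minimal Set.inter_subset_left hZ).antisymm fun z hz => ?_⟩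
  obtain ⟨u, rfl⟩ := surjective_ofPt_of_repWith le_rfl has₀ z
  have hu : u ∈ closure ((Points.ofPt a₀ ⁻¹' Z) ∩ closedPoints U₀.left) := by
    rw [closure_inter_closedPoints (hZ.preimage (Points.continuous_ofPt a₀))]
    exact hz
  refine closure_mono ?_ (image_closure_subset_closure_image (Points.continuous_ofPt a₀) ⟨u, hu, rfl⟩)
  rintro _ ⟨w, ⟨hwZ, hwc⟩, rfl⟩
  exact ⟨hwZ, (ftPt_iff_isClosed hX hd hJ _).1 ⟨U₀, a₀, w, ha₀, rfl, hwc⟩⟩

/-- The image in a decent space of a locally closed point of a chart is a locally closed point. -/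
theorem isLocallyClosed_image_singleton {X : Sp S} (hd : IsDecent X) {U : Over S} {a : (yon S).obj U ⟶ X}
    (ha : RepWith @Etale a) {u : U.left} (hu : IsLocallyClosed ({u} : Set U.left)) :
    IsLocallyClosed ({Points.ofPt a u} : Set (Points X)) := by
  obtain ⟨N₀, C, hN₀, hC, e⟩ := hu
  have huN₀ : u ∈ N₀ ∩ C := e ▸ rfl
  obtain ⟨A, hA, huA, hAN⟩ := exists_isAffineOpen_mem_and_subset (U := (⟨N₀, hN₀⟩ : U.left.Opens)) (x := u) huN₀.1
  let F : Set U.left := (A : Set U.left) ∩ Points.ofPt a ⁻¹' {Points.ofPt a u}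
  have hF : F.Finite := by
    refine ((finite_fibre_of_isDecent hd (Points.ofPt a u) (openOver U A) _ hA
      (repWith_etale_openIncl ha A)).image fun z => (openIncl U A).left z).subset ?_
    rintro w ⟨hwA, hw⟩
    exact ⟨⟨w, hwA⟩, (ofPt_map (openIncl U A) _ _).trans hw, rfl⟩
  obtain ⟨O, hO, huO, hOF⟩ := exists_open_inter_eq hF
    (fun b hb c hc h => (eq_of_specializes_chart hd ha h (hc.2.trans hb.2.symm)).symm) (u := u) ⟨huA, rfl⟩
  have hN : IsOpen ((A : Set U.left) ∩ O) := A.isOpen.inter hO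
  refine ⟨Points.ofPt a '' ((A : Set U.left) ∩ O), closure {Points.ofPt a u},
    isOpenMap_ofPt_of_repWith etale_le_universallyOpen ha _ hN, isClosed_closure, ?_⟩
  refine Set.Subset.antisymm ?_ ?_
  · rintro _ rfl
    exact ⟨⟨u, ⟨huA, huO⟩, rfl⟩, subset_closure rfl⟩
  · rintro _ ⟨⟨n, hn, rfl⟩, hcl⟩
    obtain ⟨u', hu', he⟩ := generalizingMap_chart hd ha (specializes_iff_mem_closure.2 hcl)
    have hu'N := hu'.mem_open hN hn
    have : u' = u := hOF u' ⟨hu'N.1, he⟩ hu'N.2
    subst this
    have hnC : n ∈ C := hu'.mem_closed hC huN₀.2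
    have : n ∈ ({u'} : Set U.left) := e ▸ ⟨hAN hn.1, hnC⟩
    rw [Set.mem_singleton_iff.1 this]
    rfl

theorem etaleLocally_jacobson {X : Sp S} (hX : IsAlgSpace X) (hd : IsDecent X) [JacobsonSpace (Points X)] :
    EtaleLocally (fun U => JacobsonSpace ↥U) X := by
  obtain ⟨U, a, ha, has⟩ := hX.atlas
  refine ⟨U, a, ha, has, jacobsonSpace_iff_locallyClosed.2 fun Z hne ⟨O, C, hO, hC, e⟩ => ?_⟩
  subst e
  obtain ⟨u, hu, hlc⟩ := Groth.Agent.H05EGA4.exists_singleton_locallyClosed_of_inter U.left hO hC hne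
  refine ⟨u, hu, ?_⟩
  have hx := (isLocallyClosed_image_singleton hd ha hlc)
  have hxc : IsClosed ({Points.ofPt a u} : Set (Points X)) := isClosed_singleton_of_isLocallyClosed_singleton hx
  change IsClosed ({u} : Set U.left)
  rw [← closure_subset_iff_isClosed]
  intro w hw
  have h1 : u ⤳ w := specializes_iff_mem_closure.2 hw
  exact eq_of_specializes_chart hd ha h1
    ((h1.map (Points.continuous_ofPt a)).mem_closed hxc rfl)

set_option maxHeartbeats 800000 in
/-- Proper generizations of a point of a decent locally Noetherian space. -/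
theorem punctured_generizations {X : Sp S} (hX : IsAlgSpace X) (hd : IsDecent X) (hN : IsLocNoethSp X)
    (x : Points X) :
    TopologicalSpace.NoetherianSpace {x' : Points X // x' ⤳ x ∧ x' ≠ x} ∧
      SpectralSpace {x' : Points X // x' ⤳ x ∧ x' ≠ x} ∧
      QuasiSober {x' : Points X // x' ⤳ x ∧ x' ≠ x} ∧
      JacobsonSpace {x' : Points X // x' ⤳ x ∧ x' ≠ x} := by
  have := quasiSober_of_isDecent hX hd
  have := t0Space_points hX hd
  obtain ⟨U, a, ha, has⟩ := hX.atlas
  obtain ⟨u, rfl⟩ := surjective_ofPt_of_repWith le_rfl has x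
  have : IsLocallyNoetherian U.left := etaleLocally_chart
    (fun g hg hB => @isLocallyNoetherian_of_etale _ _ g hg hB)
    (fun g hg hs hA => @isLocallyNoetherian_of_flat_lfp_surjective _ _ g
      inferInstance inferInstance hs hA) hX hN ha
  let A := U.left.presheaf.stalk u
  let P : Set (PrimeSpectrum A) := {IsLocalRing.closedPoint A}ᶜ
  let φ : Spec A ⟶ U.left := U.left.fromSpecStalk u
  let pa : PrimeSpectrum A → Points X := fun p => Points.ofPt a (φ p)
  have hpa : Continuous pa := (Points.continuous_ofPt a).comp φ.continuous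
  have hgen : ∀ p : PrimeSpectrum A, φ p ⤳ u := fun p => by
    have : φ p ∈ Set.range φ := ⟨p, rfl⟩
    rwa [Scheme.range_fromSpecStalk] at this
  have hφ : φ (IsLocalRing.closedPoint A) = u := Scheme.fromSpecStalk_closedPoint
  have hpac : pa (IsLocalRing.closedPoint A) = Points.ofPt a u := congrArg (Points.ofPt a) hφ
  let f : P → {x' : Points X // x' ⤳ Points.ofPt a u ∧ x' ≠ Points.ofPt a u} := fun p =>
    ⟨pa p.1, (hgen p.1).map (Points.continuous_ofPt a), fun e => p.2 (φ.isEmbedding.injective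
      ((eq_of_specializes_chart hd ha (hgen p.1) e.symm).symm.trans hφ.symm))⟩
  have hf : Continuous f := (hpa.comp continuous_subtype_val).subtype_mk _
  have hlift : ∀ (x' : Points X) (p : PrimeSpectrum A), x' ⤳ pa p → ∃ q, q ⤳ p ∧ pa q = x' := fun x' p h => by
    obtain ⟨w, hw, hwx⟩ := generalizingMap_chart hd ha h
    obtain ⟨q, rfl⟩ : w ∈ Set.range φ := by rw [Scheme.range_fromSpecStalk]; exact hw.trans (hgen p)
    exact ⟨q, φ.isEmbedding.isInducing.specializes_iff.1 hw, hwx⟩
  have hfs : Function.Surjective f := by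
    rintro ⟨x', hx', hne⟩
    obtain ⟨q, -, hq⟩ := hlift x' (IsLocalRing.closedPoint A)
      (hpac.symm ▸ hx')
    refine ⟨⟨q, fun e => hne ?_⟩, Subtype.ext hq⟩
    rw [← hq, show q = IsLocalRing.closedPoint A from e]
    exact hpac
  have : IsNoetherianRing A := inferInstance
  have hnoeth : TopologicalSpace.NoetherianSpace {x' : Points X // x' ⤳ Points.ofPt a u ∧ x' ≠ Points.ofPt a u} :=
    TopologicalSpace.noetherianSpace_of_surjective f hf hfs
  have hsober : QuasiSober {x' : Points X // x' ⤳ Points.ofPt a u ∧ x' ≠ Points.ofPt a u} := ⟨fun {Z} hZ hZc => by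
    obtain ⟨ξ, hξ⟩ := QuasiSober.sober (hZ.image Subtype.val continuous_subtype_val.continuousOn).closure
      isClosed_closure
    obtain ⟨z, hz⟩ := hZ.1
    have hξz : ξ ⤳ z.1 := hξ.specializes (subset_closure ⟨z, hz, rfl⟩)
    refine ⟨⟨ξ, hξz.trans z.2.1, fun e => z.2.2 (Specializes.antisymm z.2.1 (e ▸ hξz)).eq⟩, ?_⟩
    refine Set.Subset.antisymm (closure_minimal ?_ hZc) fun w hw => ?_
    · rintro _ rfl
      exact hZc.closure_subset (closure_subtype.2 hξ.mem)
    · rw [closure_subtype, Set.image_singleton]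
      exact (hξ.specializes (subset_closure ⟨w, hw, rfl⟩)).mem_closure⟩
  refine ⟨hnoeth, ⟨⟩, hsober, jacobsonSpace_iff_locallyClosed.2 fun Z hne ⟨O, C, hO, hC, e⟩ => ?_⟩
  subst e
  have : CompactSpace ↥O := isCompact_iff_compactSpace.1 (TopologicalSpace.NoetherianSpace.isCompact O)
  obtain ⟨z₀, hz₀O, hz₀C⟩ := hne
  obtain ⟨⟨z, hzO⟩, hzC, hz⟩ :=
    (hC.preimage continuous_subtype_val : IsClosed ((↑) ⁻¹' C : Set O)).exists_closed_singleton ⟨⟨z₀, hz₀O⟩, hz₀C⟩
  have hzlc := hz.isLocallyClosed.image hO.isOpenEmbedding_subtypeVal.isInducing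
    (by rw [Subtype.range_coe]; exact hO.isLocallyClosed)
  rw [Set.image_singleton] at hzlc
  refine ⟨z, ⟨hzO, hzC⟩, ?_⟩
  have := (Groth.Agent.H06Jacobson.punctured A).1
  have hclosed : ∀ q : P, f q = z → IsClosed ({q} : Set P) := fun q hq => by
    refine isClosed_singleton_of_isLocallyClosed_singleton ?_
    obtain ⟨B, hB, huB, -⟩ := exists_isAffineOpen_mem_and_subset (U := (⊤ : U.left.Opens)) (x := u) trivial
    have hfin : (f ⁻¹' {z}).Finite := by
      let F : Set U.left :=
        (fun b : (openOver U B).left => (openIncl U B).left b) '' (Points.ofPt ((yon S).map (openIncl U B) ≫ a) ⁻¹' {z.1})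
      have h1 : F.Finite := (finite_fibre_of_isDecent hd z.1 (openOver U B) _ hB
        (repWith_etale_openIncl ha B)).image _
      let ψ : P → U.left := fun p => φ p.1
      have hψ : Function.Injective ψ := fun p p' h => Subtype.ext (φ.isEmbedding.injective h)
      refine (h1.preimage (f := ψ) hψ.injOn).subset ?_
      intro p hp
      have hpB : φ p.1 ∈ B := (hgen p.1).mem_open B.isOpen huB
      refine Set.mem_preimage.2 ⟨⟨φ p.1, hpB⟩, ?_, rfl⟩
      exact (ofPt_map (openIncl U B) a _).trans (congrArg Subtype.val hp)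
    obtain ⟨V, hV, hqV, hVf⟩ := exists_open_inter_eq hfin
      (fun b hb c hc h => Subtype.ext (φ.isEmbedding.injective ((eq_of_specializes_chart hd ha
        ((h.map continuous_subtype_val).map φ.continuous)
        ((congrArg Subtype.val hc).trans (congrArg Subtype.val hb).symm)).symm))) (u := q) hq
    have : ({q} : Set P) = V ∩ f ⁻¹' {z} :=
      Set.Subset.antisymm (fun _ h => by rw [Set.mem_singleton_iff.1 h]; exact ⟨hqV, hq⟩)
        fun p hp => hVf p hp.2 hp.1
    rw [this]
    exact hV.isLocallyClosed.inter (hzlc.preimage hf)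
  change IsClosed {z}
  rw [← closure_subset_iff_isClosed]
  intro z' hz'
  obtain ⟨q, rfl⟩ := hfs z'
  obtain ⟨q', hq', hq'z⟩ := hlift z.1 q.1
    ((specializes_iff_mem_closure.2 hz').map continuous_subtype_val)
  have hq'P : q' ∈ P := fun e => z.2.2 (by
    rw [← hq'z, show q' = IsLocalRing.closedPoint A from e]
    exact hpac)
  have hs : (⟨q', hq'P⟩ : P) ⤳ q := (subtype_specializes_iff _ _).2 hq'
  have hfq : f ⟨q', hq'P⟩ = z := Subtype.ext hq'z
  have hq : q = ⟨q', hq'P⟩ :=
    Set.mem_singleton_iff.1 (hs.mem_closed (hclosed _ hfq) (Set.mem_singleton _))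
  rw [hq]
  exact Set.mem_singleton_iff.2 hfq

end Groth.Agent.H13AlgSp
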