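import Groth.Agent.H13AlgSp.LocP
import Groth.Agent.H13Desc.Flat
import Groth.Agent.H18Descent.Basic
import Groth.Prelude.Def_AlgSpCov

/-!
Descent of properties of morphisms of algebraic spaces on base and source.
-/

universe u

open CategoryTheory CategoryTheory.Limits AlgebraicGeometry Opposite MorphismProperty
open AlgSp Groth.Agent.H12AlgSp

namespace Groth.Agent.H13AlgSp

variable {S : Scheme.{u}} {F G : Sp S} {P : MorphismProperty Scheme.{u}}

/-- Base change of an etale chart of a fibre product along a morphism of schemes. -/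
theorem exists_chart_baseChange {A B B' : Over S} {Q Q' : Sp S} {f : F ⟶ G}
    {β : (yon S).obj B ⟶ G} {fst : Q ⟶ F} {snd : Q ⟶ (yon S).obj B} (sq : IsPullback fst snd f β)
    {α : (yon S).obj A ⟶ Q} {k : A ⟶ B} (hα : RepWith @Etale α) (hk : α ≫ snd = (yon S).map k)
    (j : B' ⟶ B) {fst' : Q' ⟶ F} {snd' : Q' ⟶ (yon S).obj B'}
    (sq' : IsPullback fst' snd' f ((yon S).map j ≫ β)) :
    ∃ α' : (yon S).obj (pullback k j) ⟶ Q',
      RepWith @Etale α' ∧ α' ≫ snd' = (yon S).map (pullback.snd k j) := by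
  let κ := sq.lift fst' (snd' ≫ (yon S).map j) (by rw [Category.assoc]; exact sq'.w)
  have sqκ : IsPullback κ snd' snd ((yon S).map j) :=
    IsPullback.of_right (by rw [sq.lift_fst]; exact sq') (sq.lift_snd _ _ _) sq
  have sqA := (IsPullback.of_hasPullback k j).map (yon S)
  rw [← hk] at sqA
  let α' := sqκ.lift ((yon S).map (pullback.fst k j) ≫ α) ((yon S).map (pullback.snd k j))
    (by rw [Category.assoc]; exact sqA.w)
  have h1 : IsPullback ((yon S).map (pullback.fst k j)) α' α κ :=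
    IsPullback.of_bot (by rw [sqκ.lift_snd]; exact sqA) (sqκ.lift_fst _ _ _).symm sqκ
  exact ⟨α', repWith_of_isPullback h1 hα, sqκ.lift_snd ..⟩

theorem EtaleFibre.baseChange {A B B' : Over S} {Q : Sp S} {f : F ⟶ G}
    {β : (yon S).obj B ⟶ G} {fst : Q ⟶ F} {snd : Q ⟶ (yon S).obj B} (sq : IsPullback fst snd f β)
    {α : (yon S).obj A ⟶ Q} {k : A ⟶ B} (hα : RepWith @Etale α) (hk : α ≫ snd = (yon S).map k)
    (j : B' ⟶ B) {F' G' : Sp S} {f' : F' ⟶ G'} {q : F' ⟶ F} {g : G' ⟶ G} (sqf : IsPullback q f' f g)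
    (l : (yon S).obj B' ⟶ G') (hl : l ≫ g = (yon S).map j ≫ β) (hf' : EtaleFibre P f') :
    P (pullback.snd k j).left := by
  have sq'' := IsPullback.of_hasPullback f' l
  have big : IsPullback (pullback.fst f' l ≫ q) (pullback.snd f' l) f ((yon S).map j ≫ β) := by
    rw [← hl]; exact sq''.paste_horiz sqf
  obtain ⟨α', hα', e⟩ := exists_chart_baseChange sq hα hk j big
  exact hf' l _ _ sq'' α' _ hα' e

/-- A property descending along fpqc morphisms descends along finite fpqc families of affines. -/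
theorem of_finite_affine_fpqc [P.IsStableUnderBaseChange] [IsZariskiLocalAtTarget P]
    [P.DescendsAlong Groth.Agent.H18Descent.fpqc.{u}] {A B : Scheme.{u}} (g : A ⟶ B) [IsAffine B] {m : ℕ}
    {W : Fin m → Scheme.{u}} (c : ∀ j, W j ⟶ B) [∀ j, IsAffine (W j)] [∀ j, Flat (c j)]
    (hsurj : ∀ b : B, ∃ j, b ∈ Set.range (c j)) (h : ∀ j, P (pullback.snd g (c j))) : P g := by
  let q := Sigma.desc c
  have hq : Groth.Agent.H18Descent.fpqc.{u} q := by
    refine ⟨⟨⟨fun b => ?_⟩, IsZariskiLocalAtSource.sigmaDesc (fun j => ‹∀ j, Flat (c j)› j)⟩, ?_⟩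
    · obtain ⟨j, w, rfl⟩ := hsurj b
      exact ⟨Sigma.ι W j w, by rw [← Scheme.Hom.comp_apply, Sigma.ι_desc]⟩
    · exact (HasAffineProperty.iff_of_isAffine (P := @QuasiCompact)).2 inferInstance
  refine MorphismProperty.of_pullback_fst_of_descendsAlong (P := P) hq ?_
  refine IsZariskiLocalAtTarget.of_openCover (sigmaOpenCover W) fun j => ?_
  have big := (IsPullback.of_hasPullback (pullback.fst q g) (Sigma.ι W j)).paste_horiz
    (IsPullback.of_hasPullback q g).flip
  rw [Sigma.ι_desc] at big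
  change P (pullback.snd (pullback.fst q g) (Sigma.ι W j))
  rw [← big.isoPullback_hom_snd]
  exact (P.cancel_left_of_respectsIso _ _).2 (h j)

theorem etaleFibre_of_fpqc [EtaleLocalST P] [IsZariskiLocalAtTarget P]
    [P.DescendsAlong Groth.Agent.H18Descent.fpqc.{u}] {f : F ⟶ G} {ι : Type u} {Gi : ι → Sp S}
    {g : ∀ i, Gi i ⟶ G} (hg : IsFpqcCover Gi g) {Fi : ι → Sp S} {p : ∀ i, Fi i ⟶ Gi i}
    {q : ∀ i, Fi i ⟶ F} (sq : ∀ i, IsPullback (q i) (p i) f (g i)) (hp : ∀ i, EtaleFibre P (p i)) :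
    EtaleFibre P f := by
  have key : ∀ ⦃A B : Over S⦄ ⦃Q : Sp S⦄ (β : (yon S).obj B ⟶ G) (fst : Q ⟶ F)
      (snd : Q ⟶ (yon S).obj B), IsAffine B.left → IsPullback fst snd f β →
      ∀ (α : (yon S).obj A ⟶ Q) (h : A ⟶ B),
        RepWith @Etale α → α ≫ snd = (yon S).map h → P h.left := by
    intro A B Q β fst snd hB sqQ α k hα hk
    obtain ⟨m, W, c, haff, hflat, hsurj, hlift⟩ := hg.2 B hB β
    refine of_finite_affine_fpqc (m := m) k.left (fun j => (c j).left) hsurj fun j => ?_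
    obtain ⟨i, l, hl⟩ := hlift j
    have h1 := EtaleFibre.baseChange sqQ hα hk (c j) (sq i) l hl (hp i)
    have h2 := ((IsPullback.of_hasPullback k (c j)).map (Over.forget S))
    have h3 := h2.isoPullback_hom_snd
    change P (pullback.snd ((Over.forget S).map k) ((Over.forget S).map (c j)))
    rw [← P.cancel_left_of_respectsIso h2.isoPullback.hom, h3]
    exact h1
  intro A B Q β fst snd sqQ α k hα hk
  refine IsZariskiLocalAtTarget.of_iSup_eq_top (fun U : B.left.affineOpens => U.1)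
    (iSup_affineOpens_eq_top _) fun U => ?_
  let j : Over.mk (U.1.ι ≫ B.hom) ⟶ B := Over.homMk U.1.ι rfl
  have sq' := IsPullback.of_hasPullback f ((yon S).map j ≫ β)
  obtain ⟨α', hα', e⟩ := exists_chart_baseChange sqQ hα hk j sq'
  have hU : IsAffine (Over.mk (U.1.ι ≫ B.hom)).left := U.2
  have h1 := key _ _ _ hU sq' α' _ hα' e
  have h2 := ((IsPullback.of_hasPullback k j).map (Over.forget S))
  have h4 : IsPullback (k.left ⁻¹ᵁ U.1).ι (k.left ∣_ U.1) k.left U.1.ι :=
    (isPullback_morphismRestrict k.left U.1).flip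
  rw [← h4.isoIsPullback_hom_snd _ _ h2]
  exact (P.cancel_left_of_respectsIso _ _).2 h1

theorem isLocalOnBase_fpqc_locP (P : MorphismProperty Scheme.{u}) [EtaleLocalST P]
    [IsZariskiLocalAtTarget P] [P.DescendsAlong Groth.Agent.H18Descent.fpqc.{u}] :
    IsLocalOnBase (IsFpqcCover (S := S)) (LocP P) := by
  intro ι Y Yi g hY hYi hg X f hX Xi p q hXi sq
  exact ⟨fun hf i => locP_of_isPullback hX hY (sq i) hf, fun hp =>
    (etaleFibre_of_fpqc hg sq fun i => etaleFibre_of_locP (hXi i) (hYi i) (hp i)).locP⟩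

/-- The members of an fpqc cover are jointly surjective on points. -/
theorem exists_point_of_fpqcCover {X : Sp S} {ι : Type u} {Xi : ι → Sp S} {g : ∀ i, Xi i ⟶ X}
    (hg : IsFpqcCover Xi g) (x : Points X) : ∃ i, x ∈ Set.range (Points.map (g i)) := by
  induction x using Points.ind with | h p =>
  obtain ⟨m, W, c, -, -, hsurj, hlift⟩ := hg.2 p.pt (by dsimp; infer_instance) p.toHom
  obtain ⟨j, w, hw⟩ := hsurj (IsLocalRing.closedPoint p.K)
  obtain ⟨i, l, hl⟩ := hlift j
  refine ⟨i, Points.ofPt l w, ?_⟩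
  rw [Points.map_ofPt, hl, ofPt_map, hw, Points.ofPt_toHom]

/-- Descent of `P` on the source along a family of morphisms having `P'`, jointly surjective on points. -/
theorem etaleFibre_of_source {P P' : MorphismProperty Scheme.{u}}
    (hsrc : ∀ {A B : Scheme.{u}} (k : A ⟶ B) {κ : Type u} (C : κ → Scheme.{u}) (c : ∀ i, C i ⟶ A),
      (∀ a, ∃ i, a ∈ Set.range (c i)) → (∀ i, P' (c i)) → (∀ i, P (c i ≫ k)) → P k)
    (hG : IsAlgSpace G) {f : F ⟶ G} (hF : IsAlgSpace F) {ι : Type u} {Fi : ι → Sp S}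
    (hFi : ∀ i, IsAlgSpace (Fi i)) {g : ∀ i, Fi i ⟶ F}
    (hpts : ∀ x : Points F, ∃ i, x ∈ Set.range (Points.map (g i)))
    (hg : ∀ i, EtaleFibre P' (g i)) (hgf : ∀ i, EtaleFibre P (g i ≫ f)) :
    EtaleFibre P f := by
  intro A B Q β fst snd sq α k hα hk
  have sqR := fun i => IsPullback.of_hasPullback (g i) (α ≫ fst)
  have hR := fun i => isAlgSpace_of_isPullback hF.diag (hFi i) (IsAlgSpace.yon_obj A) (sqR i)
  choose C d hde hds using fun i => (hR i).atlas
  choose c hc using fun i => (yon S).map_surjective (d i ≫ pullback.snd (g i) (α ≫ fst))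
  refine hsrc k.left (fun i => (C i).left) (fun i => (c i).left) (fun a => ?_) (fun i => ?_) fun i => ?_
  · obtain ⟨i, y, hy⟩ := hpts (Points.ofPt (α ≫ fst) a)
    obtain ⟨r, -, hr⟩ := exists_point_of_isPullback (sqR i) y (Points.ofScheme A a)
      (by rw [hy, ← Points.ofPt_eq_map_ofScheme])
    obtain ⟨t, rfl⟩ := surjective_ofPt_of_repWith le_rfl (hds i) r
    refine ⟨i, t, (Points.schemeEquiv A).injective ?_⟩
    refine Eq.trans ?_ hr
    rw [Points.map_ofPt, ← hc, ← Category.comp_id ((yon S).map (c i)), ofPt_map]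
    rfl
  · exact hg i _ _ _ (sqR i) (d i) (c i) (hde i) (hc i).symm
  · have sqQ := IsPullback.of_hasPullback (g i) fst
    have big := sqQ.paste_vert sq
    let α' := sqQ.lift (pullback.fst (g i) (α ≫ fst)) (pullback.snd (g i) (α ≫ fst) ≫ α)
      (by rw [Category.assoc]; exact (sqR i).w)
    have h1 : IsPullback α' (pullback.snd (g i) (α ≫ fst)) (pullback.snd (g i) fst) α :=
      IsPullback.of_right (by rw [sqQ.lift_fst]; exact sqR i) (sqQ.lift_snd _ _ _) sqQ
    refine hgf i β (pullback.fst (g i) fst) (pullback.snd (g i) fst ≫ snd) big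
      (d i ≫ α') (c i ≫ k) (repWith_comp (hde i) (repWith_of_isPullback h1.flip hα)) ?_
    rw [Functor.map_comp, hc, Category.assoc, Category.assoc, ← hk, ← Category.assoc α',
      sqQ.lift_snd, Category.assoc]

theorem flat_of_jointly_surjective {A B : Scheme.{u}} (k : A ⟶ B) {κ : Type u} (C : κ → Scheme.{u})
    (c : ∀ i, C i ⟶ A) (hs : ∀ a, ∃ i, a ∈ Set.range (c i)) (hc : ∀ i, Flat (c i))
    (hck : ∀ i, Flat (c i ≫ k)) : Flat k := by
  have : Surjective (𝟙 (∐ C) ≫ Sigma.desc c) := by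
    rw [Category.id_comp]
    refine ⟨fun a => ?_⟩
    obtain ⟨i, w, rfl⟩ := hs a
    exact ⟨Sigma.ι C i w, by rw [← Scheme.Hom.comp_apply, Sigma.ι_desc]⟩
  have : Flat (𝟙 (∐ C) ≫ Sigma.desc c) := by
    rw [Category.id_comp]; exact IsZariskiLocalAtSource.sigmaDesc hc
  have : Flat (Sigma.desc c ≫ k) := by
    rw [show Sigma.desc c ≫ k = Sigma.desc fun i => c i ≫ k from Sigma.hom_ext _ _ (by simp)]
    exact IsZariskiLocalAtSource.sigmaDesc hck
  exact Groth.Agent.H13Desc.flat_of_refinement (Sigma.desc c) k (𝟙 _)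

end Groth.Agent.H13AlgSp

namespace Groth.Agent.H13AlgSp

variable {S : Scheme.{u}}

instance flat_descends_fpqc : MorphismProperty.DescendsAlong (@Flat : MorphismProperty Scheme.{u})
    Groth.Agent.H18Descent.fpqc.{u} := by
  constructor
  intro A X Y Z fst snd f g h ⟨⟨hf₁, hf₂⟩, hf₃⟩ hfst
  have : Flat snd := MorphismProperty.of_isPullback (P := @Flat) h hf₂
  have : Surjective snd := MorphismProperty.of_isPullback (P := @Surjective) h hf₁
  have : Flat (snd ≫ g) := by rw [← h.w]; infer_instance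
  have : Flat (𝟙 A ≫ snd) := by rw [Category.id_comp]; infer_instance
  have : Surjective (𝟙 A ≫ snd) := by rw [Category.id_comp]; infer_instance
  exact Groth.Agent.H13Desc.flat_of_refinement snd g (𝟙 A)

theorem isLocalOnSource_of_descent {τ : CovNotion S} {P P' : MorphismProperty Scheme.{u}}
    [EtaleLocalST P] [EtaleLocalST P'] (hle : P' ≤ P)
    (hτ : ∀ {ι : Type u} {X : Sp S} (Xi : ι → Sp S) (g : ∀ i, Xi i ⟶ X), IsAlgSpace X →
      (∀ i, IsAlgSpace (Xi i)) → τ Xi g →
      (∀ i, LocP P' (g i)) ∧ ∀ x : Points X, ∃ i, x ∈ Set.range (Points.map (g i)))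
    (hsrc : ∀ {A B : Scheme.{u}} (k : A ⟶ B) {κ : Type u} (C : κ → Scheme.{u}) (c : ∀ i, C i ⟶ A),
      (∀ a, ∃ i, a ∈ Set.range (c i)) → (∀ i, P' (c i)) → (∀ i, P (c i ≫ k)) → P k) :
    IsLocalOnSource τ (LocP P) := by
  intro ι X Xi g hX hXi hg Y f hY
  obtain ⟨hP', hpts⟩ := hτ Xi g hX hXi hg
  refine ⟨fun hf i => locP_comp (hXi i) hX hY (fun _ _ a b h ha hb e => hle _ (hP' i a b h ha hb e)) hf,
    fun h => (etaleFibre_of_source hsrc hY hX hXi hpts
      (fun i => etaleFibre_of_locP (hXi i) hX (hP' i))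
      fun i => etaleFibre_of_locP (hXi i) hY (h i)).locP⟩

theorem isLocalOnSource_etale {P : MorphismProperty Scheme.{u}} [EtaleLocalST P]
    (hsrc : ∀ {A B : Scheme.{u}} (k : A ⟶ B),
      (∀ a, ∃ (C : Scheme.{u}) (c : C ⟶ A), Etale c ∧ a ∈ Set.range c ∧ P (c ≫ k)) → P k) :
    IsLocalOnSource (IsEtCover (S := S)) (LocP P) :=
  isLocalOnSource_of_descent (P' := @Etale) EtaleLocalST.etale_le
    (fun Xi g hX hXi hg => ⟨fun i => (isEtaleMor_iff_locP (hXi i) hX).1 (hg.1 i), hg.2⟩)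
    fun k _ C c hs hc h => hsrc k fun a => by
      obtain ⟨i, hi⟩ := hs a
      exact ⟨C i, c i, hc i, hi, h i⟩

theorem isLocalOnSource_etale_isEtaleMor : IsLocalOnSource (IsEtCover (S := S)) IsEtaleMor := by
  intro ι X Xi g hX hXi hg Y f hY
  simp only [isEtaleMor_iff_locP hX hY, fun i => isEtaleMor_iff_locP (f := g i ≫ f) (hXi i) hY]
  exact isLocalOnSource_etale (fun k h => EtaleSource.of_etale_covering @Etale
    EtaleSource.descends_etale k h) Xi g hX hXi hg f hY

theorem isLocalOnBase_fpqc_isEtaleMor : IsLocalOnBase (IsFpqcCover (S := S)) IsEtaleMor := by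
  intro ι Y Yi g hY hYi hg X f hX Xi p q hXi sq
  simp only [isEtaleMor_iff_locP hX hY, fun i => isEtaleMor_iff_locP (f := p i) (hXi i) (hYi i)]
  exact isLocalOnBase_fpqc_locP @Etale Yi g hY hYi hg f hX Xi p q hXi sq

end Groth.Agent.H13AlgSp
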