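import Groth.Agent.H13AlgSp.AffineDescent
import Groth.Agent.H13AlgSp.RelRep
import Groth.Agent.H13AlgSp.LocPDescent
import Groth.Prelude.Def_AlgSpMor5

/-!
Representable affine morphisms are fpqc local on the base.
-/

universe u

open CategoryTheory CategoryTheory.Limits AlgebraicGeometry Opposite MorphismProperty
open AlgSp Groth.Agent.H12AlgSp

namespace Groth.Agent.H13AlgSp

variable {S : Scheme.{u}} {P : MorphismProperty Scheme.{u}}

/-- Two represented base changes along the same map have the same properties. -/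
theorem property_of_squares [P.RespectsIso] {F G : Sp S} {f : F ⟶ G} {T : Over S}
    {g : (yon S).obj T ⟶ G} {W W' : Over S} {i : W ⟶ T} {i' : W' ⟶ T} {a : (yon S).obj W ⟶ F}
    {a' : (yon S).obj W' ⟶ F} (sq : IsPullback a ((yon S).map i) f g)
    (sq' : IsPullback a' ((yon S).map i') f g) (h : P i.left) : P i'.left := by
  let e := (yon S).preimageIso (sq'.isoIsPullback _ _ sq)
  have he : e.hom ≫ i = i' := (yon S).map_injective (by
    rw [Functor.map_comp]
    simp [e])
  have : IsIso e.hom.left := inferInstanceAs (IsIso ((Over.forget S).map e.hom))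
  rw [← he, Over.comp_left]
  exact (P.cancel_left_of_respectsIso _ _).2 h

theorem exists_iso_of_local_rep_property [P.IsStableUnderBaseChange] [IsZariskiLocalAtTarget P]
    {Q : Sp S} {T : Over S} (q : Q ⟶ (yon S).obj T) {B : Set T.left.Opens}
    (hB : TopologicalSpace.Opens.IsBasis B)
    (h : ∀ V : B, ∃ (W : Over S) (i : W ⟶ openOver T V.1) (l : (yon S).obj W ⟶ Q),
      IsPullback l ((yon S).map i) q ((yon S).map (openIncl T V.1)) ∧ P i.left) :
    ∃ (GT : Over S) (γ : GT ⟶ T) (μ : (yon S).obj GT ⟶ Q),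
      IsIso μ ∧ μ ≫ q = (yon S).map γ ∧ P γ.left := by
  obtain ⟨GT, γ, μ, hμ, hμq⟩ := exists_iso_of_local_rep' q hB fun V => by
    obtain ⟨W, i, l, sq, -⟩ := h V
    exact ⟨W, i, l, sq⟩
  refine ⟨GT, γ, μ, hμ, hμq, IsZariskiLocalAtTarget.of_iSup_eq_top (fun V : B => V.1) ?_ fun V => ?_⟩
  · rw [eq_top_iff]
    intro x _
    obtain ⟨U, hU, hx, -⟩ := TopologicalSpace.Opens.isBasis_iff_nbhd.mp hB (TopologicalSpace.Opens.mem_top x)
    exact TopologicalSpace.Opens.mem_iSup.2 ⟨⟨U, hU⟩, hx⟩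
  obtain ⟨W, i, l, sq, hP⟩ := h V
  have sqG := IsPullback.of_hasPullback γ (openIncl T V.1)
  have sq₀ : IsPullback μ ((yon S).map γ) q (𝟙 _) :=
    IsPullback.of_horiz_isIso ⟨by rw [hμq, Category.comp_id]⟩
  have sq' := (sqG.map (yon S)).paste_horiz sq₀
  rw [Category.comp_id] at sq'
  have h1 : P (pullback.snd γ (openIncl T V.1)).left := property_of_squares sq sq' hP
  have h4 : IsPullback (γ.left ⁻¹ᵁ V.1).ι (γ.left ∣_ V.1) γ.left V.1.ι :=
    (isPullback_morphismRestrict γ.left V.1).flip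
  rw [← h4.isoIsPullback_hom_snd _ _ (sqG.map (Over.forget S))]
  exact (P.cancel_left_of_respectsIso _ _).2 h1

/-- `P` holds for the representable `f` as soon as it holds over affine bases. -/
theorem repWith_of_affine_base [P.IsStableUnderBaseChange] [IsZariskiLocalAtTarget P] {F G : Sp S}
    {f : F ⟶ G}
    (h : ∀ ⦃Z : Over S⦄, IsAffine Z.left → ∀ g : (yon S).obj Z ⟶ G,
      ∃ (W : Over S) (i : W ⟶ Z) (fst : (yon S).obj W ⟶ F),
        IsPullback fst ((yon S).map i) f g ∧ P i.left) : RepWith P f := by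
  refine MorphismProperty.relative.of_exists fun T g => ?_
  have sqQ := IsPullback.of_hasPullback f g
  obtain ⟨GT, γ, μ, hμ, hμq, hγ⟩ := exists_iso_of_local_rep_property (P := P) (pullback.snd f g)
    T.left.isBasis_affineOpens fun V => by
      have hV : IsAffine (openOver T V.1).left := V.2
      obtain ⟨W, i, fst, sq, hi⟩ := h hV ((yon S).map (openIncl T V.1) ≫ g)
      refine ⟨W, i, sqQ.lift fst ((yon S).map i ≫ (yon S).map (openIncl T V.1))
        (by rw [Category.assoc]; exact sq.w), ?_, hi⟩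
      exact IsPullback.of_right (by rw [sqQ.lift_fst]; exact sq) (sqQ.lift_snd _ _ _) sqQ
  refine ⟨GT, μ ≫ pullback.fst f g, γ, ?_, hγ⟩
  have sq₀ : IsPullback μ ((yon S).map γ) (pullback.snd f g) (𝟙 _) :=
    IsPullback.of_horiz_isIso ⟨by rw [hμq, Category.comp_id]⟩
  have := sq₀.paste_horiz sqQ
  rwa [Category.id_comp] at this

/-- An affine-type property of morphisms over an affine base which holds after a finite fpqc cover. -/
theorem exists_rep_of_finite_fpqc [P.IsStableUnderBaseChange] [IsZariskiLocalAtTarget P]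
    [P.DescendsAlong Groth.Agent.H18Descent.fpqc.{u}] (hPaff : P ≤ @IsAffineHom)
    {Q : Sp S} (hQ : IsAlgSpace Q) {Z : Over S} [IsAffine Z.left] (pr : Q ⟶ (yon S).obj Z) {m : ℕ}
    {W : Fin m → Over S} (c : ∀ j, W j ⟶ Z) [∀ j, IsAffine (W j).left] [∀ j, Flat (c j).left]
    (hs : ∀ z : Z.left, ∃ j, z ∈ Set.range (c j).left)
    (hr : ∀ j, ∃ (V : Over S) (b : V ⟶ W j) (a : (yon S).obj V ⟶ Q),
      IsPullback a ((yon S).map b) pr ((yon S).map (c j)) ∧ P b.left) :
    ∃ (Z₀ : Over S) (z₀ : Z₀ ⟶ Z) (fst : (yon S).obj Z₀ ⟶ Q),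
      IsPullback fst ((yon S).map z₀) pr (𝟙 _) ∧ IsAffine Z₀.left ∧ P z₀.left := by
  let σ : (∐ fun j => (W j).left) ⟶ Z.left := Sigma.desc fun j => (c j).left
  let WS : Over S := Over.mk (σ ≫ Z.hom)
  let cS : WS ⟶ Z := Over.homMk σ rfl
  have hWS : IsAffine WS.left := inferInstanceAs (IsAffine (∐ fun j => (W j).left))
  have hflat : Flat cS.left :=
    IsZariskiLocalAtSource.sigmaDesc (P := @Flat) fun j => ‹∀ j, Flat (c j).left› j
  have hsurj : Surjective cS.left := ⟨fun z => by
    obtain ⟨j, w, rfl⟩ := hs z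
    refine ⟨Sigma.ι (fun j => (W j).left) j w, ?_⟩
    change σ _ = _
    rw [← Scheme.Hom.comp_apply, Sigma.ι_desc]⟩
  let ι : ∀ j, W j ⟶ WS := fun j => Over.homMk (Sigma.ι (fun j => (W j).left) j) (by
    change _ ≫ σ ≫ Z.hom = _
    rw [Sigma.ι_desc_assoc]
    exact Over.w (c j))
  have hιc : ∀ j, ι j ≫ cS = c j := fun j => Over.OverMorphism.ext (Sigma.ι_desc _ _)
  let B : Set WS.left.Opens := {V | IsAffineOpen V ∧ ∃ j, (V : Set WS.left) ⊆ Set.range (ι j).left}
  have hB : TopologicalSpace.Opens.IsBasis B := by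
    rw [TopologicalSpace.Opens.isBasis_iff_nbhd]
    intro U x hx
    obtain ⟨j, y, hy⟩ : ∃ j, x ∈ Set.range (ι j).left :=
      ⟨_, (sigmaOpenCover fun j => (W j).left).covers x⟩
    have : IsOpenImmersion (ι j).left :=
      inferInstanceAs (IsOpenImmersion (Sigma.ι (fun j => (W j).left) j))
    obtain ⟨V, hV, hxV, hle⟩ := TopologicalSpace.Opens.isBasis_iff_nbhd.mp WS.left.isBasis_affineOpens
      (show x ∈ U ⊓ (ι j).left.opensRange from ⟨hx, y, hy⟩)
    exact ⟨V, ⟨hV, j, fun z hz => (hle hz).2⟩, hxV, hle.trans inf_le_left⟩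
  have sqQ := IsPullback.of_hasPullback pr ((yon S).map cS)
  obtain ⟨GT, γ, μ, hμ, hμq, hγ⟩ := exists_iso_of_local_rep_property (P := P)
    (pullback.snd pr ((yon S).map cS)) hB fun V => by
      obtain ⟨j, hj⟩ := V.2.2
      have : IsOpenImmersion (ι j).left :=
        inferInstanceAs (IsOpenImmersion (Sigma.ι (fun j => (W j).left) j))
      have hsub : Set.range V.1.ι ⊆ Set.range (ι j).left := by rwa [Scheme.Opens.range_ι]
      let t : openOver WS V.1 ⟶ W j := Over.homMk (IsOpenImmersion.lift (ι j).left V.1.ι hsub) (by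
        rw [← Over.w (ι j), IsOpenImmersion.lift_fac_assoc]
        rfl)
      have ht : t ≫ ι j = openIncl WS V.1 := Over.OverMorphism.ext (IsOpenImmersion.lift_fac _ _ hsub)
      obtain ⟨V', b, a, sq, hb⟩ := hr j
      have sq1 := ((IsPullback.of_hasPullback b t).map (yon S)).paste_horiz sq
      rw [← Functor.map_comp, ← hιc, ← Category.assoc, ht, Functor.map_comp] at sq1
      refine ⟨pullback b t, pullback.snd b t, sqQ.lift ((yon S).map (pullback.fst b t) ≫ a)
        ((yon S).map (pullback.snd b t) ≫ (yon S).map (openIncl WS V.1))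
        (by rw [Category.assoc (f := (yon S).map (pullback.snd b t))]; exact sq1.w), ?_, ?_⟩
      · exact IsPullback.of_right (by rw [sqQ.lift_fst]; exact sq1) (sqQ.lift_snd _ _ _) sqQ
      · exact MorphismProperty.of_isPullback (P := P) ((IsPullback.of_hasPullback b t).map (Over.forget S)) hb
  have hγaff : IsAffineHom γ.left := hPaff _ hγ
  have hGT : IsAffine GT.left := isAffine_of_isAffineHom γ.left
  have sqG : IsPullback (μ ≫ pullback.fst pr ((yon S).map cS)) ((yon S).map γ) pr ((yon S).map cS) := by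
    have sq₀ : IsPullback μ ((yon S).map γ) (pullback.snd pr ((yon S).map cS)) (𝟙 _) :=
      IsPullback.of_horiz_isIso ⟨by rw [hμq, Category.comp_id]⟩
    have := sq₀.paste_horiz sqQ
    rwa [Category.id_comp] at this
  obtain ⟨Z₀, z₀, κ, hZ₀, hκ, hκz⟩ := exists_iso_affine hQ pr cS (μ ≫ pullback.fst pr ((yon S).map cS)) γ sqG
  have sqZ : IsPullback (inv κ) ((yon S).map z₀) pr (𝟙 _) :=
    IsPullback.of_horiz_isIso ⟨by rw [Category.comp_id, IsIso.inv_comp_eq, hκz]⟩
  refine ⟨Z₀, z₀, inv κ, sqZ, hZ₀, ?_⟩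
  have sq' := ((IsPullback.of_hasPullback z₀ cS).map (yon S)).paste_horiz sqZ
  rw [Category.comp_id] at sq'
  have h1 : P (pullback.snd z₀ cS).left := property_of_squares sqG sq' hγ
  exact MorphismProperty.of_isPullback_of_descendsAlong (P := P) (Q := Groth.Agent.H18Descent.fpqc.{u})
    ((IsPullback.of_hasPullback z₀ cS).map (Over.forget S)).flip
    ⟨⟨hsurj, hflat⟩, inferInstanceAs (QuasiCompact cS.left)⟩ h1

theorem repWith_of_fpqc [P.IsStableUnderBaseChange] [IsZariskiLocalAtTarget P]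
    [P.DescendsAlong Groth.Agent.H18Descent.fpqc.{u}] (hPaff : P ≤ @IsAffineHom)
    {F G : Sp S} (hF : IsAlgSpace F) (hG : IsAlgSpace G) {f : F ⟶ G} {ι : Type u} {Gi : ι → Sp S}
    {g : ∀ i, Gi i ⟶ G} (hg : IsFpqcCover Gi g) {Fi : ι → Sp S} {p : ∀ i, Fi i ⟶ Gi i}
    {q : ∀ i, Fi i ⟶ F} (sq : ∀ i, IsPullback (q i) (p i) f (g i)) (hp : ∀ i, RepWith P (p i)) :
    RepWith P f := by
  refine repWith_of_affine_base fun Z hZ β => ?_
  obtain ⟨m, W, c, haff, hflat, hsurj, hlift⟩ := hg.2 Z hZ β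
  have sqQ := IsPullback.of_hasPullback f β
  have hr : ∀ j, ∃ (V : Over S) (b : V ⟶ W j) (a : (yon S).obj V ⟶ pullback f β),
      IsPullback a ((yon S).map b) (pullback.snd f β) ((yon S).map (c j)) ∧ P b.left := by
    intro j
    obtain ⟨i, l, hl⟩ := hlift j
    obtain ⟨V, b, a, sqV⟩ := (hp i).1 l
    have big := sqV.paste_horiz (sq i)
    rw [hl] at big
    refine ⟨V, b, sqQ.lift (a ≫ q i) ((yon S).map b ≫ (yon S).map (c j))
      (by rw [Category.assoc (f := (yon S).map b)]; exact big.w), ?_, (hp i).2 l a b sqV⟩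
    exact IsPullback.of_right (by rw [sqQ.lift_fst]; exact big) (sqQ.lift_snd _ _ _) sqQ
  have := haff
  have := hflat
  obtain ⟨Z₀, z₀, fst, sqZ, -, hz⟩ := exists_rep_of_finite_fpqc hPaff
    (isAlgSpace_of_isPullback hG.diag hF (IsAlgSpace.yon_obj Z) sqQ) (pullback.snd f β) c hsurj hr
  refine ⟨Z₀, z₀, fst ≫ pullback.fst f β, ?_, hz⟩
  have := sqZ.paste_horiz sqQ
  rwa [Category.id_comp] at this

theorem isLocalOnBase_fpqc_repWith [P.IsStableUnderBaseChange] [IsZariskiLocalAtTarget P]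
    [P.DescendsAlong Groth.Agent.H18Descent.fpqc.{u}] (hPaff : P ≤ @IsAffineHom) :
    IsLocalOnBase (IsFpqcCover (S := S)) (RepWith P) := by
  intro ι Y Yi g hY hYi hg X f hX Xi p q hXi sq
  exact ⟨fun hf i => repWith_of_isPullback (sq i) hf, fun hp => repWith_of_fpqc hPaff hX hY hg sq hp⟩

theorem isAffineMor_iff {F G : Sp S} {f : F ⟶ G} : IsAffineMor f ↔ RepWith @IsAffineHom f := by
  refine ⟨fun h => repWith_of_affine_base fun Z hZ g => ?_, fun h Z hZ g => ?_⟩
  · obtain ⟨W, i, fst, sq, hW⟩ := h hZ g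
    exact ⟨W, i, fst, sq, inferInstance⟩
  · obtain ⟨W, i, fst, sq⟩ := h.1 g
    have : IsAffineHom i.left := h.2 g fst i sq
    exact ⟨W, i, fst, sq, isAffine_of_isAffineHom i.left⟩

theorem isIntegralMor_iff {F G : Sp S} {f : F ⟶ G} : IsIntegralMor f ↔ RepWith @IsIntegralHom f := by
  refine ⟨fun h => repWith_of_affine_base fun Z hZ g => ?_, fun h Z hZ g => ?_⟩
  · obtain ⟨W, i, fst, sq, -, hi⟩ := h hZ g
    exact ⟨W, i, fst, sq, hi⟩
  · obtain ⟨W, i, fst, sq⟩ := h.1 g
    have : IsIntegralHom i.left := h.2 g fst i sq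
    exact ⟨W, i, fst, sq, isAffine_of_isAffineHom i.left, this⟩

theorem isFiniteMor_iff {F G : Sp S} {f : F ⟶ G} : IsFiniteMor f ↔ RepWith @IsFinite f := by
  refine ⟨fun h => repWith_of_affine_base fun Z hZ g => ?_, fun h Z hZ g => ?_⟩
  · obtain ⟨W, i, fst, sq, -, hi⟩ := h hZ g
    exact ⟨W, i, fst, sq, hi⟩
  · obtain ⟨W, i, fst, sq⟩ := h.1 g
    have : IsFinite i.left := h.2 g fst i sq
    exact ⟨W, i, fst, sq, isAffine_of_isAffineHom i.left, this⟩

theorem finLocFree_eq : (finLocFree : MorphismProperty Scheme.{u}) =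
    (@IsFinite ⊓ @Flat ⊓ @LocallyOfFinitePresentation : MorphismProperty Scheme.{u}) := by
  ext X Y f
  exact ⟨fun ⟨a, b, c⟩ => ⟨⟨a, b⟩, c⟩, fun ⟨⟨a, b⟩, c⟩ => ⟨a, b, c⟩⟩

theorem mono_iff_locP_openImmersion {F G : Sp S} (hF : IsAlgSpace F) (hG : IsAlgSpace G) {f : F ⟶ G} :
    RepWith @IsOpenImmersion f ↔ Mono f ∧ LocP @Etale f := by
  constructor
  · intro h
    refine ⟨mono_of_repWith (fun _ _ i (_ : IsOpenImmersion i) => inferInstanceAs (Mono i)) h, ?_⟩
    exact (etaleFibre_of_repWith (repWith_le (fun _ _ i (_ : IsOpenImmersion i) =>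
      inferInstanceAs (Etale i)) h)).locP
  rintro ⟨hm, he⟩
  have hfib := etaleFibre_of_locP hF hG he
  refine MorphismProperty.relative.of_exists fun T g => ?_
  have sqQ := IsPullback.of_hasPullback f g
  obtain ⟨U, d, hde, hds⟩ := (isAlgSpace_of_isPullback hG.diag hF (IsAlgSpace.yon_obj T) sqQ).atlas
  obtain ⟨t, ht⟩ := (yon S).map_surjective (d ≫ pullback.snd f g)
  have hte : Etale t.left := hfib g _ _ sqQ d t hde ht.symm
  let O : T.left.Opens := ⟨Set.range t.left, t.left.isOpenMap.isOpen_range⟩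
  have hm' : Mono (pullback.snd f g) := MorphismProperty.of_isPullback
    (P := MorphismProperty.monomorphisms (Sp S)) sqQ hm
  have hsubO : Set.range t.left ⊆ Set.range O.ι := by rw [Scheme.Opens.range_ι]; exact subset_rfl
  let t₀ : U.left ⟶ O.toScheme := IsOpenImmersion.lift O.ι t.left hsubO
  have ht₀ : t₀ ≫ O.ι = t.left := IsOpenImmersion.lift_fac _ _ _
  let t' : U ⟶ openOver T O := CategoryTheory.Over.homMk (U := U) (V := openOver T O) t₀ (by
    change t₀ ≫ O.ι ≫ T.hom = U.hom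
    rw [reassoc_of% ht₀]; exact Over.w t)
  have htO : t' ≫ openIncl T O = t := Over.OverMorphism.ext ht₀
  have ht's : Surjective t'.left := ⟨fun x => by
    obtain ⟨u, hu⟩ := x.2
    refine ⟨u, O.ι.injective ?_⟩
    exact ((Scheme.Hom.comp_apply t₀ O.ι u).symm.trans congr($(ht₀) u)).trans hu⟩
  have hte' : Etale t'.left := by
    have : Etale (t'.left ≫ O.ι) := by
      rw [show t'.left ≫ O.ι = t.left from congrArg (fun s => Over.Hom.left s) htO]; exact hte
    have : Etale (t₀ ≫ O.ι) := by rw [ht₀]; exact hte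
    exact Etale.of_comp t₀ O.ι
  have sqP := IsPullback.of_hasPullback (pullback.snd f g) ((yon S).map (openIncl T O))
  have h1 : IsIso (pullback.snd (pullback.snd f g) ((yon S).map (openIncl T O))) := by
    have : Mono (pullback.snd (pullback.snd f g) ((yon S).map (openIncl T O))) := inferInstance
    refine isIso_of_mono_of_local_lifts _ fun Z y => ?_
    obtain ⟨y, rfl⟩ := (yon S).map_surjective y
    have sq := (IsPullback.of_hasPullback t' y).map (Over.forget S)
    have : Etale (pullback.snd t' y).left := MorphismProperty.of_isPullback (P := @Etale) sq hte'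
    have : Surjective (pullback.snd t' y).left := MorphismProperty.of_isPullback (P := @Surjective) sq ht's
    refine ⟨PUnit, fun _ => _, fun _ => pullback.snd t' y, ofArrows_mem_J _ (fun _ => inferInstance)
      (fun _ => inferInstance) (fun z => ⟨⟨⟩, (pullback.snd t' y).left.surjective z⟩),
      fun _ => ⟨(yon S).map (pullback.fst t' y) ≫ sqP.lift d ((yon S).map t')
        (by rw [← ht, ← Functor.map_comp, htO]), ?_⟩⟩
    rw [Category.assoc, sqP.lift_snd, ← Functor.map_comp, ← Functor.map_comp, pullback.condition]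
  have h2 : IsIso (pullback.fst (pullback.snd f g) ((yon S).map (openIncl T O))) := by
    have : IsOpenImmersion (openIncl T O).left := inferInstanceAs (IsOpenImmersion O.ι)
    have : Mono (openIncl T O) := (Over.forget S).mono_of_mono_map (inferInstanceAs (Mono O.ι))
    have : Mono ((yon S).map (openIncl T O)) := (yon S).map_mono _
    have : Mono (pullback.fst (pullback.snd f g) ((yon S).map (openIncl T O))) := inferInstance
    refine isIso_of_mono_of_local_lifts _ fun Z y => ?_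
    obtain ⟨V, v, k, sq⟩ := hde.1 y
    have hve : Etale v.left := hde.2 y k v sq
    have hvs : Surjective v.left := hds.2 y k v sq
    exact ⟨PUnit, fun _ => V, fun _ => v, ofArrows_mem_J _ (fun _ => inferInstance) (fun _ => inferInstance)
      (fun z => ⟨⟨⟩, v.left.surjective z⟩),
      fun _ => ⟨k ≫ sqP.lift d ((yon S).map t') (by rw [← ht, ← Functor.map_comp, htO]),
        by rw [Category.assoc, sqP.lift_fst]; exact sq.w⟩⟩
  refine ⟨openOver T O, inv (pullback.snd (pullback.snd f g) ((yon S).map (openIncl T O))) ≫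
    pullback.fst _ _ ≫ pullback.fst f g, openIncl T O, ?_, inferInstanceAs (IsOpenImmersion O.ι)⟩
  have sq0 : IsPullback (inv (pullback.snd (pullback.snd f g) ((yon S).map (openIncl T O))) ≫
      pullback.fst _ _) ((yon S).map (openIncl T O)) (pullback.snd f g) (𝟙 _) :=
    IsPullback.of_horiz_isIso ⟨by rw [Category.assoc, sqP.w, IsIso.inv_hom_id_assoc, Category.comp_id]⟩
  have := sq0.paste_horiz sqQ
  rw [Category.id_comp, Category.assoc] at this
  exact this

theorem isLocalOnBase_fpqc_openImmersion :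
    IsLocalOnBase (IsFpqcCover (S := S)) (RepWith @IsOpenImmersion) := by
  intro ι Y Yi g hY hYi hg X f hX Xi p q hXi sq
  refine ⟨fun hf i => repWith_of_isPullback (sq i) hf, fun hp => ?_⟩
  have h := fun i => (mono_iff_locP_openImmersion (hXi i) (hYi i)).1 (hp i)
  exact (mono_iff_locP_openImmersion hX hY).2 ⟨mono_of_fpqc hX.diag hg sq fun i => (h i).1,
    (etaleFibre_of_fpqc hg sq fun i => etaleFibre_of_locP (hXi i) (hYi i) (h i).2).locP⟩

end Groth.Agent.H13AlgSp
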