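import Groth.Agent.H12AlgSp.OpenSub
import Groth.Agent.H12AlgSp.Univ
import Groth.Agent.H12AlgSp.PointsTop
import Groth.Agent.H12AlgSp.LocP
import Groth.Agent.H12AlgSp.Proper
import Groth.Prelude.Def_AlgSpCov

/-!
The largest open over which a property local on the base holds.
-/

universe u

open CategoryTheory CategoryTheory.Limits AlgebraicGeometry Opposite
open AlgSp Groth.Agent.H12AlgSp

namespace Groth.Agent.H13AlgSp

variable {S : Scheme.{u}}

/-- A class of morphisms usable for coverings. -/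
structure CovClass (Q : MorphismProperty (Sp S)) : Prop where
  openImm : ∀ {F G : Sp S}, IsAlgSpace F → IsAlgSpace G → ∀ (j : F ⟶ G), RepWith @IsOpenImmersion j → Q j
  comp : ∀ {F G H : Sp S}, IsAlgSpace F → IsAlgSpace G → IsAlgSpace H → ∀ (a : F ⟶ G) (b : G ⟶ H),
    Q a → Q b → Q (a ≫ b)
  baseChange : ∀ {F G G' F' : Sp S}, IsAlgSpace F → IsAlgSpace G → IsAlgSpace G' →
    ∀ {a : F ⟶ G} {g : G' ⟶ G} {fst : F' ⟶ F} {a' : F' ⟶ G'}, IsPullback fst a' a g → Q a → Q a'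
  open_range : ∀ {F G : Sp S}, IsAlgSpace F → IsAlgSpace G → ∀ (a : F ⟶ G), Q a →
    IsOpen (Set.range (Points.map a))

variable (P Q : MorphismProperty (Sp S)) {X Y : Sp S} (f : X ⟶ Y)

/-- The base change of `f` to any algebraic space isomorphic onto the open has the property. -/
def HoldsOn (V : TopologicalSpace.Opens (Points Y)) : Prop :=
  ∀ (W₀ X₀ : Sp S) (j₀ : W₀ ⟶ Y) (j₀' : X₀ ⟶ X) (f₀ : X₀ ⟶ W₀), IsAlgSpace W₀ → IsAlgSpace X₀ →
    RepWith @IsOpenImmersion j₀ → Set.range (Points.map j₀) = (V : Set (Points Y)) →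
    IsPullback j₀' f₀ f j₀ → P f₀

/-- The base change of `f` along `g` has the property. -/
def HasBC {Y' : Sp S} (g : Y' ⟶ Y) : Prop :=
  ∃ (X' : Sp S) (g' : X' ⟶ X) (f' : X' ⟶ Y'), IsAlgSpace X' ∧ IsPullback g' f' f g ∧ P f'

variable {P Q}

/-- A property local on the base holds over a largest open. -/
theorem exists_largest_open (hQ : CovClass Q)
    (hP : IsLocalOnBase (fun _ _ Yi g => IsCover Q Yi g : CovNotion S) P) (hX : IsAlgSpace X) (hY : IsAlgSpace Y) :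
    ∃ W : TopologicalSpace.Opens (Points Y), HoldsOn P f W ∧ (∀ V, HoldsOn P f V → V ≤ W) ∧
      (∀ (Y' X' : Sp S) (g : Y' ⟶ Y) (g' : X' ⟶ X) (f' : X' ⟶ Y'), IsAlgSpace Y' → IsAlgSpace X' →
        Q g → IsPullback g' f' f g → P f' → Set.range (Points.map g) ⊆ (W : Set (Points Y))) ∧
      (∀ (Y' X' : Sp S) (g : Y' ⟶ Y) (g' : X' ⟶ X) (f' : X' ⟶ Y'), IsAlgSpace Y' → IsAlgSpace X' →
        Q g → IsPullback g' f' f g → ∀ W' : TopologicalSpace.Opens (Points Y'), HoldsOn P f' W' →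
        (∀ V', HoldsOn P f' V' → V' ≤ W') → (W' : Set (Points Y')) = Points.map g ⁻¹' W) := by
  let W : Set (Points Y) :=
    {y | ∃ (Y' : Sp S) (g : Y' ⟶ Y), IsAlgSpace Y' ∧ Q g ∧ HasBC P f g ∧ y ∈ Set.range (Points.map g)}
  have h3 : ∀ (Y' X' : Sp S) (g : Y' ⟶ Y) (g' : X' ⟶ X) (f' : X' ⟶ Y'), IsAlgSpace Y' → IsAlgSpace X' →
      Q g → IsPullback g' f' f g → P f' → Set.range (Points.map g) ⊆ W :=
    fun Y' X' g g' f' hY' hX' hg sq hf y hy => ⟨Y', g, hY', hg, ⟨X', g', f', hX', sq, hf⟩, hy⟩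
  have hWo : IsOpen W := by
    refine isOpen_iff_forall_mem_open.2 fun y ⟨Y', g, hY', hg, hbc, hy⟩ =>
      ⟨Set.range (Points.map g), fun z hz => ⟨Y', g, hY', hg, hbc, hz⟩, hQ.open_range hY' hY g hg, hy⟩
  have hW : HoldsOn P f ⟨W, hWo⟩ := by
    intro W₀ X₀ j₀ j₀' f₀ hW₀ hX₀ hj hr sq
    have := mono_of_openImmersion hj
    obtain ⟨A, a, hae, has⟩ := hW₀.atlas
    choose Y' g hY' hg hbc y hy using fun t : A.left =>
      (hr.le ⟨Points.ofPt a t, rfl⟩ : Points.map j₀ (Points.ofPt a t) ∈ W)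
    have hsub : ∀ t, Set.range (Points.map (g t)) ⊆ Set.range (Points.map j₀) := fun t z hz =>
      hr.ge ⟨Y' t, g t, hY' t, hg t, hbc t, hz⟩
    choose g₀ hg₀ using fun t => exists_factor_open hj (g t) (hsub t)
    choose X' g' f' hX' sqt hf' using hbc
    have hcov : IsCover Q Y' g₀ := ⟨fun t => hQ.baseChange (hY' t) hY hW₀
      (IsPullback.of_horiz_isIso_mono (fst := 𝟙 _) (snd := g₀ t) (f := g t) (g := j₀)
        ⟨by rw [Category.id_comp, hg₀]⟩) (hg t), fun w => by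
      obtain ⟨t, rfl⟩ := surjective_ofPt_of_repWith le_rfl has w
      exact ⟨t, y t, injective_map_of_mono j₀ (by rw [← Points.map_comp, hg₀, hy])⟩⟩
    let q : ∀ t, X' t ⟶ X₀ := fun t => sq.lift (g' t) (f' t ≫ g₀ t)
      (by rw [Category.assoc, hg₀]; exact (sqt t).w)
    refine (hP Y' g₀ hW₀ hY' hcov f₀ hX₀ X' f' q hX' fun t => ?_).2 hf'
    refine IsPullback.of_right ?_ (sq.lift_snd _ _ _) sq
    rw [sq.lift_fst, hg₀]
    exact sqt t
  have h2 : ∀ V, HoldsOn P f V → V ≤ ⟨W, hWo⟩ := by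
    intro V hV y hy
    obtain ⟨V₀, j, hV₀, hj, hjr⟩ := exists_open_subspace hY V.2
    have hXV := isAlgSpace_pullback hY.diag hX hV₀ f j
    exact h3 _ _ j _ _ hV₀ hXV (hQ.openImm hV₀ hY j hj) (IsPullback.of_hasPullback f j)
      (hV _ _ j _ _ hV₀ hXV hj hjr (IsPullback.of_hasPullback f j)) (hjr.ge hy)
  refine ⟨⟨W, hWo⟩, hW, h2, h3, ?_⟩
  intro Y' X' g g' f' hY' hX' hg sq W' hW' hmax
  apply Set.Subset.antisymm
  · intro y hy
    obtain ⟨V₀, j, hV₀, hj, hjr⟩ := exists_open_subspace hY' W'.2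
    have hXV := isAlgSpace_pullback hY'.diag hX' hV₀ f' j
    have sq' := IsPullback.of_hasPullback f' j
    obtain ⟨z, rfl⟩ := hjr.ge hy
    exact h3 _ _ (j ≫ g) _ _ hV₀ hXV (hQ.comp hV₀ hY' hY j g (hQ.openImm hV₀ hY' j hj) hg)
      (sq'.paste_horiz sq) (hW' _ _ j _ _ hV₀ hXV hj hjr sq') ⟨z, Points.map_comp _ _ _⟩
  · have hpre : IsOpen (Points.map g ⁻¹' W) := hWo.preimage (Points.continuous_map g)
    refine hmax ⟨_, hpre⟩ fun W₂ X₂ j₂ j₂' f₂ hW₂ hX₂ hj₂ hr₂ sq₂ => ?_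
    obtain ⟨V₀, j, hV₀, hj, hjr⟩ := exists_open_subspace hY hWo
    obtain ⟨h, hh⟩ := exists_factor_open hj (j₂ ≫ g) (by
      rintro _ ⟨w, rfl⟩
      rw [Points.map_comp]
      exact hjr.ge (hr₂.le ⟨w, rfl⟩))
    have := mono_of_openImmersion hj
    have hQh : Q h := hQ.baseChange hW₂ hY hV₀
      (IsPullback.of_horiz_isIso_mono (fst := 𝟙 _) (snd := h) (f := j₂ ≫ g) (g := j)
        ⟨by rw [Category.id_comp, hh]⟩) (hQ.comp hW₂ hY' hY j₂ g (hQ.openImm hW₂ hY' j₂ hj₂) hg)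
    have hXV := isAlgSpace_pullback hY.diag hX hV₀ f j
    have sqj := IsPullback.of_hasPullback f j
    let k : X₂ ⟶ pullback f j := sqj.lift (j₂' ≫ g') (f₂ ≫ h)
      (by rw [Category.assoc, Category.assoc, hh, sq.w, reassoc_of% sq₂.w])
    have sqh : IsPullback k f₂ (pullback.snd f j) h := by
      refine IsPullback.of_right ?_ (sqj.lift_snd _ _ _) sqj
      rw [sqj.lift_fst, hh]
      exact sq₂.paste_horiz sq
    let Yi : ULift.{u} Bool → Sp S := fun b => cond b.down W₂ V₀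
    let Xi : ULift.{u} Bool → Sp S := fun b => cond b.down X₂ (pullback f j)
    refine (hP Yi (fun b => match b with | ⟨true⟩ => h | ⟨false⟩ => 𝟙 V₀) hV₀
      (fun b => match b with | ⟨true⟩ => hW₂ | ⟨false⟩ => hV₀) ⟨fun b => match b with
        | ⟨true⟩ => hQh
        | ⟨false⟩ => hQ.openImm hV₀ hV₀ _ (repWith_of_isIso _),
        fun v => ⟨⟨false⟩, v, Points.map_id v⟩⟩
      (pullback.snd f j) hXV Xi (fun b => match b with | ⟨true⟩ => f₂ | ⟨false⟩ => pullback.snd f j)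
      (fun b => match b with | ⟨true⟩ => k | ⟨false⟩ => 𝟙 _)
      (fun b => match b with | ⟨true⟩ => hX₂ | ⟨false⟩ => hXV)
      (fun b => match b with | ⟨true⟩ => sqh | ⟨false⟩ => (IsPullback.of_horiz_isIso (fst := 𝟙 (pullback f j)) (snd := pullback.snd f j) (f := pullback.snd f j) (g := 𝟙 V₀) ⟨by simp⟩))).1
      (hW _ _ j _ _ hV₀ hXV hj hjr sqj) ⟨true⟩

theorem covClass_inf {Q₁ Q₂ : MorphismProperty (Sp S)} (h₁ : CovClass Q₁) (h₂ : CovClass Q₂) :
    CovClass (Q₁ ⊓ Q₂) where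
  openImm hF hG j hj := ⟨h₁.openImm hF hG j hj, h₂.openImm hF hG j hj⟩
  comp hF hG hH a b ha hb := ⟨h₁.comp hF hG hH a b ha.1 hb.1, h₂.comp hF hG hH a b ha.2 hb.2⟩
  baseChange hF hG hG' _ _ _ _ sq ha := ⟨h₁.baseChange hF hG hG' sq ha.1, h₂.baseChange hF hG hG' sq ha.2⟩
  open_range hF hG a ha := h₁.open_range hF hG a ha.1

theorem isOpen_range_of_univOpen {F G : Sp S} (hG : IsAlgSpace G) {a : F ⟶ G} (h : IsUnivOpenMor a) :
    IsOpen (Set.range (Points.map a)) :=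
  (h hG (𝟙 G) (𝟙 F) a (IsPullback.of_horiz_isIso ⟨by simp⟩)).isOpen_range

theorem covClass_fppf : CovClass (S := S)
    (fun _ _ f => LocP @Flat f ∧ LocP @LocallyOfFinitePresentation f) where
  openImm _ _ j hj := ⟨locP_of_repWith etLocal_flat (repWith_le (fun _ _ g (_ : IsOpenImmersion g) =>
      inferInstanceAs (Flat g)) hj), locP_of_repWith etLocal_lfp (repWith_le (fun _ _ g (_ : IsOpenImmersion g) =>
      inferInstanceAs (LocallyOfFinitePresentation g)) hj)⟩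
  comp hF hG hH _ _ ha hb := ⟨Groth.Agent.H12AlgSp.locP_comp etLocal_flat hF hG hH ha.1 hb.1, Groth.Agent.H12AlgSp.locP_comp etLocal_lfp hF hG hH ha.2 hb.2⟩
  baseChange hF hG hG' _ _ _ _ sq ha :=
    ⟨Groth.Agent.H12AlgSp.locP_of_isPullback etLocal_flat sq hF hG hG' ha.1, Groth.Agent.H12AlgSp.locP_of_isPullback etLocal_lfp sq hF hG hG' ha.2⟩
  open_range hF hG _ ha := isOpen_range_of_univOpen hG (isUnivOpenMor_of_flat_lfp hF hG ha.1 ha.2)

theorem covClass_smooth : CovClass (S := S) (LocP @Smooth) where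
  openImm _ _ j hj := locP_of_repWith etLocal_smooth (repWith_le (fun _ _ g (_ : IsOpenImmersion g) =>
      inferInstanceAs (Smooth g)) hj)
  comp hF hG hH _ _ ha hb := Groth.Agent.H12AlgSp.locP_comp etLocal_smooth hF hG hH ha hb
  baseChange hF hG hG' _ _ _ _ sq ha := Groth.Agent.H12AlgSp.locP_of_isPullback etLocal_smooth sq hF hG hG' ha
  open_range hF hG _ ha := isOpen_range_of_univOpen hG (isUnivOpenMor_of_flat_lfp hF hG
    (locP_mono (fun _ _ g (_ : Smooth g) => inferInstanceAs (Flat g)) ha)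
    (locP_mono (fun _ _ g (_ : Smooth g) => inferInstanceAs (LocallyOfFinitePresentation g)) ha))

theorem covClass_etale : CovClass (S := S) IsEtaleMor where
  openImm _ hG j hj := isEtaleMor_of_locP_etale hG (locP_of_repWith etLocal_etale
    (repWith_le (fun _ _ g (_ : IsOpenImmersion g) => inferInstanceAs (Etale g)) hj))
  comp hF hG hH _ _ ha hb := isEtaleMor_of_locP_etale hH
    (Groth.Agent.H12AlgSp.locP_comp etLocal_etale hF hG hH (locP_etale_of_isEtaleMor ha) (locP_etale_of_isEtaleMor hb))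
  baseChange hF hG hG' _ _ _ _ sq ha := isEtaleMor_of_locP_etale hG'
    (Groth.Agent.H12AlgSp.locP_of_isPullback etLocal_etale sq hF hG hG' (locP_etale_of_isEtaleMor ha))
  open_range hF hG _ ha := isOpen_range_of_univOpen hG (isUnivOpenMor_of_flat_lfp hF hG
    (locP_mono (fun _ _ g (_ : Etale g) => inferInstanceAs (Flat g)) (locP_etale_of_isEtaleMor ha))
    (locP_mono (fun _ _ g (_ : Etale g) => inferInstanceAs (LocallyOfFinitePresentation g))
      (locP_etale_of_isEtaleMor ha)))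

end Groth.Agent.H13AlgSp
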