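import Groth.Agent.H13AlgSp.EtaleShift
import Groth.Agent.H13AlgSp.LargestOpen
import Groth.Agent.H13Inf.Basic
import Mathlib.RingTheory.RingHom.LocallyStandardSmooth

/-!
Properties etale local on the source and smooth local on the base are etale-smooth local on
source-and-target.
-/

universe u

open CategoryTheory CategoryTheory.Limits AlgebraicGeometry Opposite
open AlgSp Groth.Agent.H12AlgSp

namespace Groth.Agent.H13AlgSp.EtaleSmooth

variable {S : Scheme.{u}} {P : MorphismProperty (Sp S)}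

/-- Affine space over an affine scheme. -/
noncomputable abbrev affSpace {R : Type u} [CommRing R] (s : Spec (CommRingCat.of R) ⟶ S) (n : ℕ) : Over S :=
  Over.mk (Spec.map (CommRingCat.ofHom (MvPolynomial.C (R := R) (σ := Fin n))) ≫ s)

/-- The projection of affine space. -/
noncomputable abbrev affProj {R : Type u} [CommRing R] (s : Spec (CommRingCat.of R) ⟶ S) (n : ℕ) :
    affSpace s n ⟶ Over.mk s :=
  Over.homMk (Spec.map (CommRingCat.ofHom (MvPolynomial.C (R := R) (σ := Fin n))))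

theorem locP_smooth_affProj {R : Type u} [CommRing R] (s : Spec (CommRingCat.of R) ⟶ S) (n : ℕ) :
    LocP @Smooth ((yon S).map (affProj s n)) := by
  refine locP_of_repWith etLocal_smooth ((repWith_yon_map_iff _ _).2 ?_)
  refine (HasRingHomProperty.Spec_iff (P := @Smooth)).2 ?_
  exact (RingHom.smooth_algebraMap (R := R) (S := MvPolynomial (Fin n) R)).2 ⟨inferInstance, inferInstance⟩

theorem surjective_affProj {R : Type u} [CommRing R] (s : Spec (CommRingCat.of R) ⟶ S) (n : ℕ) :
    IsSurjectiveMor ((yon S).map (affProj s n)) := by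
  intro x
  obtain ⟨v, rfl⟩ := (Points.schemeEquiv (Over.mk s)).surjective x
  let σ : Over.mk s ⟶ affSpace s n :=
    Over.homMk (Spec.map (CommRingCat.ofHom (MvPolynomial.eval (fun _ => (0 : R))))) (by
      simp only [Over.mk_hom, ← Category.assoc, ← Spec.map_comp, ← CommRingCat.ofHom_comp]
      rw [show (MvPolynomial.eval (fun _ : Fin n => (0 : R))).comp MvPolynomial.C = RingHom.id R from
        RingHom.ext fun r => MvPolynomial.eval_C r, CommRingCat.ofHom_id, Spec.map_id]
      exact Category.id_comp _)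
  have hσ : σ ≫ affProj s n = 𝟙 _ := Over.OverMorphism.ext (by
    simp only [Over.comp_left, σ, Over.homMk_left, ← Spec.map_comp, ← CommRingCat.ofHom_comp, Over.id_left]
    rw [show (MvPolynomial.eval (fun _ : Fin n => (0 : R))).comp MvPolynomial.C = RingHom.id R from
      RingHom.ext fun r => MvPolynomial.eval_C r, CommRingCat.ofHom_id, Spec.map_id]
    rfl)
  refine ⟨Points.map ((yon S).map σ) (Points.schemeEquiv _ v), ?_⟩
  rw [← Points.map_comp, ← Functor.map_comp, hσ, CategoryTheory.Functor.map_id, Points.map_id]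

/-- Extension of a point to a bigger field. -/
theorem exists_common_field {A B C : Sp S} (f : A ⟶ C) (g : B ⟶ C) (x : Points A) (y : Points B)
    (e : Points.map f x = Points.map g y) :
    ∃ (L : Type u) (_ : Field L) (_ : IsAlgClosed L) (str : Spec (CommRingCat.of L) ⟶ S)
      (a : (yon S).obj (Over.mk str) ⟶ A) (b : (yon S).obj (Over.mk str) ⟶ B),
      a ≫ f = b ≫ g ∧ Points.ofPt a (IsLocalRing.closedPoint L) = x := by
  induction x using Points.ind with | h p =>
  induction y using Points.ind with | h q =>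
  rw [Points.map_mk, Points.map_mk, Points.mk_eq_mk_iff, rel_iff_toHom] at e
  obtain ⟨Ω, hΩ, w, a, b, e⟩ := e
  simp only [FieldPt.toHom_map] at e
  let L := AlgebraicClosure Ω
  let i : Spec (CommRingCat.of L) ⟶ Spec (CommRingCat.of Ω) := Spec.map (CommRingCat.ofHom (algebraMap Ω L))
  let iO : Over.mk (i ≫ w) ⟶ Over.mk w := Over.homMk i
  refine ⟨L, inferInstance, inferInstance, i ≫ w, (yon S).map (iO ≫ a) ≫ p.toHom,
    (yon S).map (iO ≫ b) ≫ q.toHom, ?_, ?_⟩
  · simp only [Functor.map_comp, Category.assoc]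
    exact congrArg ((yon S).map iO ≫ ·) e
  · rw [ofPt_map]
    exact Points.ofPt_toHom p _

theorem isEtaleMor_of_isPullback {A B C Q : Sp S} (hA : IsAlgSpace A) (hB : IsAlgSpace B) (hC : IsAlgSpace C)
    (hQ : IsAlgSpace Q) {fst : Q ⟶ A} {snd : Q ⟶ B} {f : A ⟶ C} {g : B ⟶ C} (sq : IsPullback fst snd f g)
    (hg : IsEtaleMor g) : IsEtaleMor fst :=
  TopInv.isEtaleMor_snd hB hC hA hQ sq.flip hg

/-- A morphism etale over a scheme gives an etale morphism of fibre products. -/
theorem exists_etale_pullbackMap {X Y G A : Sp S} (hX : IsAlgSpace X) (hY : IsAlgSpace Y) (hG : IsAlgSpace G)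
    (hA : IsAlgSpace A) (f : X ⟶ Y) (π : A ⟶ Y) (g : G ⟶ A) (hg : IsEtaleMor g) :
    ∃ gX : pullback f (g ≫ π) ⟶ pullback f π, gX ≫ pullback.fst f π = pullback.fst f (g ≫ π) ∧
      gX ≫ pullback.snd f π = pullback.snd f (g ≫ π) ≫ g ∧ IsEtaleMor gX := by
  have sqA := IsPullback.of_hasPullback f π
  have sqG := IsPullback.of_hasPullback f (g ≫ π)
  let gX := sqA.lift (pullback.fst f (g ≫ π)) (pullback.snd f (g ≫ π) ≫ g)
    (by rw [Category.assoc]; exact sqG.w)
  refine ⟨gX, sqA.lift_fst _ _ _, sqA.lift_snd _ _ _, ?_⟩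
  have sq : IsPullback gX (pullback.snd f (g ≫ π)) (pullback.snd f π) g :=
    IsPullback.of_right (by rw [sqA.lift_fst]; exact sqG) (sqA.lift_snd _ _ _) sqA
  exact isEtaleMor_of_isPullback (isAlgSpace_pb hX hA hY f π) hG hA (isAlgSpace_pb hX hG hY f (g ≫ π)) sq hg

variable (hP : Hyp P)
include hP

/-- Translations spread the property from an open of the affine space over the source to the full
preimage of its image. -/
theorem exists_open_of_affineSpace {R : Type u} [CommRing R] {s : Spec (CommRingCat.of R) ⟶ S} {n : ℕ}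
    {X : Sp S} (hX : IsAlgSpace X) (f : X ⟶ (yon S).obj (Over.mk s)) {O : Sp S} (hO : IsAlgSpace O)
    (j : O ⟶ pullback f ((yon S).map (affProj s n))) (hj : RepWith @IsOpenImmersion j)
    (hPj : P (j ≫ pullback.snd f ((yon S).map (affProj s n)))) :
    ∃ (X₀ : Sp S) (e : X₀ ⟶ X), IsAlgSpace X₀ ∧ IsEtaleMor e ∧
      Set.range (Points.map e) = Set.range (Points.map (j ≫ pullback.fst f ((yon S).map (affProj s n)))) ∧
      P (e ≫ f) := by
  have hY := IsAlgSpace.yon_obj (S := S)
  let pY := (yon S).map (affProj s n)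
  have hAX := isAlgSpace_pb hX (hY (affSpace s n)) (hY (Over.mk s)) f pY
  have sqA := IsPullback.of_hasPullback f pY
  have hfst : LocP @Smooth (pullback.fst f pY) :=
    H12AlgSp.locP_of_isPullback etLocal_smooth sqA.flip (hY _) (hY _) hX (locP_smooth_affProj s n)
  have hW : IsOpen (Set.range (Points.map (j ≫ pullback.fst f pY))) :=
    covClass_smooth.open_range hO hX _ (covClass_smooth.comp hO hAX hX j _ (covClass_smooth.openImm hO hAX j hj) hfst)
  obtain ⟨X₀, e, hX₀, he, her⟩ := exists_open_subspace hX hW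
  have hee := TopInv.isEtaleMor_of_openImmersion he
  refine ⟨X₀, e, hX₀, hee, her, ?_⟩
  have sq₀ := IsPullback.of_hasPullback (e ≫ f) pY
  have hQ := isAlgSpace_pb hX₀ (hY (affSpace s n)) (hY (Over.mk s)) (e ≫ f) pY
  refine hP.of_base_single hX₀ (hY _) hQ (hY _) sq₀ (locP_smooth_affProj s n) (surjective_affProj s n) ?_
  let k := sqA.lift (pullback.fst (e ≫ f) pY ≫ e) (pullback.snd (e ≫ f) pY)
    (by rw [Category.assoc]; exact sq₀.w)
  have hk : IsEtaleMor k :=
    isEtaleMor_of_isPullback hAX hX₀ hX hQ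
      (IsPullback.of_bot (h₁₁ := pullback.fst (e ≫ f) pY) (v₁₁ := k) (v₁₂ := e) (h₂₁ := pullback.fst f pY)
        (by rw [sqA.lift_snd]; exact sq₀) (sqA.lift_fst _ _ _).symm sqA).flip hee
  refine hP.of_points hQ (hY _) _ fun z => ?_
  obtain ⟨o, ho⟩ := her.le ⟨Points.map (pullback.fst (e ≫ f) pY) z, rfl⟩
  obtain ⟨L, _, _, str, zL, oL, w, hzL⟩ := exists_common_field (k ≫ pullback.fst f pY) (j ≫ pullback.fst f pY) z o
    (by rw [ho, sqA.lift_fst, Points.map_comp])
  let Lo : Over S := Over.mk str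
  let xL := oL ≫ j ≫ pullback.fst f pY
  obtain ⟨ζ, hζ⟩ := (yon S).map_surjective (zL ≫ k ≫ pullback.snd f pY)
  obtain ⟨η, hη⟩ := (yon S).map_surjective (oL ≫ j ≫ pullback.snd f pY)
  have hwη : η ≫ affProj s n = ζ ≫ affProj s n := (yon S).map_injective (by
    rw [Functor.map_comp, Functor.map_comp, hζ, hη]
    simp only [Category.assoc]
    rw [← sqA.w, ← reassoc_of% w])
  obtain ⟨ζr, hζr⟩ : ∃ ζr : MvPolynomial (Fin n) R →+* L, ζ.left = Spec.map (CommRingCat.ofHom ζr) :=
    ⟨(Spec.preimage ζ.left).hom, (Spec.map_preimage _).symm⟩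
  obtain ⟨ηr, hηr⟩ : ∃ ηr : MvPolynomial (Fin n) R →+* L, η.left = Spec.map (CommRingCat.ofHom ηr) :=
    ⟨(Spec.preimage η.left).hom, (Spec.map_preimage _).symm⟩
  let ξ : R →+* L := ζr.comp MvPolynomial.C
  have hηξ : ηr.comp MvPolynomial.C = ξ := by
    have h := congrArg (fun t => t.left) hwη
    simp only [Over.comp_left, hζr, hηr, Over.homMk_left, ← Spec.map_comp, ← CommRingCat.ofHom_comp] at h
    exact congrArg CommRingCat.Hom.hom (Spec.map_injective h)
  let t₀ : Fin n → L := fun i => ζr (MvPolynomial.X i)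
  let t₁ : Fin n → L := fun i => ηr (MvPolynomial.X i)
  -- the fibre
  let AL : Over S := affSpace str n
  have hLs : str = Spec.map (CommRingCat.ofHom ξ) ≫ s := by
    have h := Over.w (ζ ≫ affProj s n)
    simp only [Over.comp_left, hζr, Over.homMk_left, ← Spec.map_comp, ← CommRingCat.ofHom_comp, Over.mk_hom] at h
    exact h.symm
  let θ : AL ⟶ affSpace s n := Over.homMk (Spec.map (CommRingCat.ofHom (MvPolynomial.map ξ))) (by
    simp only [AL, Over.mk_hom]
    rw [hLs, ← Category.assoc, ← Category.assoc, ← Spec.map_comp, ← Spec.map_comp,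
      ← CommRingCat.ofHom_comp, ← CommRingCat.ofHom_comp]
    congr 3
    exact RingHom.ext fun r => MvPolynomial.map_C ξ r)
  let pt : (Fin n → L) → (Lo ⟶ AL) := fun t => Over.homMk (Spec.map (CommRingCat.ofHom (MvPolynomial.eval t))) (by
    simp only [AL, Lo, Over.mk_hom, ← Category.assoc, ← Spec.map_comp, ← CommRingCat.ofHom_comp]
    rw [show (MvPolynomial.eval t).comp MvPolynomial.C = RingHom.id L from
      RingHom.ext fun r => MvPolynomial.eval_C r, CommRingCat.ofHom_id, Spec.map_id]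
    exact Category.id_comp _)
  have hptp : ∀ t, pt t ≫ affProj str n = 𝟙 Lo := fun t => Over.OverMorphism.ext (by
    simp only [Over.comp_left, pt, Over.homMk_left, Over.id_left, ← Spec.map_comp, ← CommRingCat.ofHom_comp]
    rw [show (MvPolynomial.eval t).comp MvPolynomial.C = RingHom.id L from
      RingHom.ext fun r => MvPolynomial.eval_C r, CommRingCat.ofHom_id, Spec.map_id]
    rfl)
  have hptη : pt t₁ ≫ θ = η := Over.OverMorphism.ext (by
    simp only [Over.comp_left, pt, θ, Over.homMk_left, hηr, ← Spec.map_comp, ← CommRingCat.ofHom_comp]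
    congr 2
    exact MvPolynomial.ringHom_ext (fun r => by simp [← hηξ]) (fun i => by simp [t₁]))
  have hθw : θ ≫ affProj s n = affProj str n ≫ η ≫ affProj s n := Over.OverMorphism.ext (by
    simp only [Over.comp_left, θ, Over.homMk_left, hηr, ← Spec.map_comp, ← CommRingCat.ofHom_comp]
    congr 2
    rw [hηξ]
    exact RingHom.ext fun r => MvPolynomial.map_C ξ r)
  let μ : (yon S).obj AL ⟶ pullback f pY := sqA.lift ((yon S).map (affProj str n) ≫ xL) ((yon S).map θ) (by
    rw [← Functor.map_comp, hθw, Functor.map_comp, Functor.map_comp, hη]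
    simp only [xL, Category.assoc, sqA.w]
    rfl)
  have hμ₁ : oL ≫ j = (yon S).map (pt t₁) ≫ μ := sqA.hom_ext
    (by rw [Category.assoc, Category.assoc, sqA.lift_fst, ← Category.assoc ((yon S).map _), ← Functor.map_comp,
      hptp, CategoryTheory.Functor.map_id, Category.id_comp])
    (by rw [Category.assoc, Category.assoc, sqA.lift_snd, ← Functor.map_comp, hptη, hη])
  let Ω : AL.left.Opens := ⟨Points.ofPt μ ⁻¹' Set.range (Points.map j),
    (covClass_smooth.open_range hO hAX j (covClass_smooth.openImm hO hAX j hj)).preimage (Points.continuous_ofPt μ)⟩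
  have ht₁ : (pt t₁).left (IsLocalRing.closedPoint L) ∈ Ω := by
    show Points.ofPt μ _ ∈ Set.range (Points.map j)
    rw [← ofPt_map, ← hμ₁]
    exact ⟨_, Points.map_ofPt oL j _⟩
  obtain ⟨_, ⟨g, rfl⟩, hg, hgΩ⟩ :=
    (PrimeSpectrum.isTopologicalBasis_basic_opens (R := MvPolynomial (Fin n) L)).exists_subset_of_mem_open ht₁ Ω.2
  have hg0 : g ≠ 0 := fun h => hg (h ▸ Submodule.zero_mem _)
  obtain ⟨R', _, φ, ξ', a, hφ, hξ', hne⟩ := exists_shift ξ t₀ hg0
  let t₂ : Fin n → L := fun i => t₀ i + ξ' (a i)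
  obtain ⟨o₂, ho₂⟩ := exists_factor_open hj ((yon S).map (pt t₂) ≫ μ) (by
    rw [range_map_yon]
    rintro _ ⟨t, rfl⟩
    rw [ofPt_map]
    refine hgΩ ?_
    rw [@Subsingleton.elim (Spec (CommRingCat.of L)) inferInstance t (IsLocalRing.closedPoint L)]
    show ¬ g ∈ Ideal.comap (MvPolynomial.eval t₂) (IsLocalRing.closedPoint L).asIdeal
    rw [Ideal.mem_comap]
    exact fun h => (IsLocalRing.mem_maximalIdeal _).1 h (isUnit_iff_ne_zero.2 hne))
  -- the translated copy
  have hCC : (shiftMap φ a).comp MvPolynomial.C = (MvPolynomial.map φ).comp MvPolynomial.C :=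
    RingHom.ext fun r => (shiftMap_C φ a r).trans (MvPolynomial.map_C φ r).symm
  let G : Over S := Over.mk (Spec.map (CommRingCat.ofHom (MvPolynomial.map (σ := Fin n) φ)) ≫ (affSpace s n).hom)
  let g₁ : G ⟶ affSpace s n := Over.homMk (Spec.map (CommRingCat.ofHom (MvPolynomial.map (σ := Fin n) φ))) rfl
  let g₂ : G ⟶ affSpace s n := Over.homMk (Spec.map (CommRingCat.ofHom (shiftMap φ a))) (by
    simp only [G, Over.mk_hom, ← Category.assoc, ← Spec.map_comp, ← CommRingCat.ofHom_comp, hCC])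
  have hg₁₂ : g₂ ≫ affProj s n = g₁ ≫ affProj s n := Over.OverMorphism.ext (by
    simp only [Over.comp_left, g₁, g₂, Over.homMk_left, ← Spec.map_comp, ← CommRingCat.ofHom_comp, hCC])
  have : Etale g₁.left := (HasRingHomProperty.Spec_iff (P := @Etale)).2 (etale_map hφ)
  have : Etale g₂.left := etale_shiftMap hφ a
  have sqC := IsPullback.of_hasPullback (j ≫ pullback.snd f pY) ((yon S).map g₂)
  have hC := isAlgSpace_pb hO (hY G) (hY (affSpace s n)) (j ≫ pullback.snd f pY) ((yon S).map g₂)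
  have hPC := hP.baseChange hO (hY _) hC (hY G) _ _ _ _ sqC
    (LocalST.locP_smooth_of_isEtaleMor (isEtaleMor_yon g₂)) hPj
  have : IsAffine G.left := inferInstanceAs (IsAffine (Spec _))
  have : IsAffine (affSpace s n).left := inferInstanceAs (IsAffine (Spec _))
  obtain ⟨m, hm⟩ := exists_geomLE g₁.left
  have hPC₁ := hP.postcomp_affine m g₁ (inferInstanceAs (IsAffine (Spec _))) (inferInstanceAs (IsAffine (Spec _)))
    ‹_› hm hC _ hPC
  obtain ⟨gX₁, h1f, h1s, h1e⟩ := exists_etale_pullbackMap hX (hY _) (hY G) (hY (affSpace s n)) f pY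
    ((yon S).map g₁) (isEtaleMor_yon g₁)
  obtain ⟨gX₂, h2f, h2s, h2e⟩ := exists_etale_pullbackMap hX (hY _) (hY G) (hY (affSpace s n)) f pY
    ((yon S).map g₂) (isEtaleMor_yon g₂)
  have sqG := IsPullback.of_hasPullback f ((yon S).map g₁ ≫ pY)
  have sqG₂ := IsPullback.of_hasPullback f ((yon S).map g₂ ≫ pY)
  have hg₁₂' : (yon S).map g₂ ≫ pY = (yon S).map g₁ ≫ pY := by
    rw [← Functor.map_comp, ← Functor.map_comp, hg₁₂]
  let κ₂ := sqG₂.lift (pullback.fst (j ≫ pullback.snd f pY) ((yon S).map g₂) ≫ j ≫ pullback.fst f pY)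
    (pullback.snd (j ≫ pullback.snd f pY) ((yon S).map g₂))
    (by simp only [Category.assoc, sqA.w]
        simpa only [Category.assoc] using congrArg (· ≫ pY) sqC.w)
  have hκ₂ : IsEtaleMor κ₂ := by
    refine isEtaleMor_cancel hC (isAlgSpace_pb hX (hY G) (hY _) f _) hAX h2e ?_
    rw [show κ₂ ≫ gX₂ = pullback.fst (j ≫ pullback.snd f pY) ((yon S).map g₂) ≫ j from sqA.hom_ext
      (by rw [Category.assoc, h2f, sqG₂.lift_fst, Category.assoc])
      (by rw [Category.assoc, h2s, sqG₂.lift_snd_assoc, Category.assoc]; exact sqC.w.symm)]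
    exact LocalST.isEtaleMor_comp (isEtaleMor_of_isPullback hO (hY G) (hY _) hC sqC (isEtaleMor_yon g₂))
      (TopInv.isEtaleMor_of_openImmersion hj)
  let κ := sqG.lift (κ₂ ≫ pullback.fst f ((yon S).map g₂ ≫ pY)) (κ₂ ≫ pullback.snd f ((yon S).map g₂ ≫ pY))
    ((Category.assoc _ _ _).trans ((congrArg (κ₂ ≫ ·) (sqG₂.w.trans
      (congrArg (pullback.snd f ((yon S).map g₂ ≫ pY) ≫ ·) hg₁₂'))).trans (Category.assoc _ _ _).symm))
  have hκ : IsEtaleMor κ := by
    have sqG' : IsPullback (pullback.fst f ((yon S).map g₂ ≫ pY)) (pullback.snd f ((yon S).map g₂ ≫ pY)) f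
        ((yon S).map g₁ ≫ pY) := hg₁₂' ▸ sqG₂
    have hi : κ = κ₂ ≫ (sqG'.isoIsPullback _ _ sqG).hom := sqG.hom_ext
      (by rw [sqG.lift_fst, Category.assoc, IsPullback.isoIsPullback_hom_fst])
      (by rw [sqG.lift_snd, Category.assoc, IsPullback.isoIsPullback_hom_snd])
    rw [hi]
    exact LocalST.isEtaleMor_comp hκ₂ (TopInv.isEtaleMor_of_openImmersion (repWith_of_isIso _))
  let ρ := κ ≫ gX₁
  have hρ : IsEtaleMor ρ := LocalST.isEtaleMor_comp hκ h1e
  have hρf : ρ ≫ pullback.fst f pY =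
      pullback.fst (j ≫ pullback.snd f pY) ((yon S).map g₂) ≫ j ≫ pullback.fst f pY := by
    rw [Category.assoc, h1f, sqG.lift_fst, sqG₂.lift_fst]
  have hρs : ρ ≫ pullback.snd f pY = pullback.snd (j ≫ pullback.snd f pY) ((yon S).map g₂) ≫ (yon S).map g₁ := by
    rw [Category.assoc, h1s, sqG.lift_snd_assoc, Category.assoc]
    exact sqG₂.lift_snd_assoc _ _ _ _
  have sqk := IsPullback.of_hasPullback ρ k
  have hCk := isAlgSpace_pb hC hQ hAX ρ k
  refine ⟨pullback ρ k, pullback.snd ρ k, hCk, TopInv.isEtaleMor_snd hC hAX hQ hCk sqk hρ, ?_, ?_⟩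
  · -- the point
    let γ : Lo ⟶ G := Over.homMk (Spec.map (CommRingCat.ofHom (MvPolynomial.eval₂Hom ξ' t₀))) (by
      simp only [G, Lo, Over.mk_hom]
      rw [hLs, ← Category.assoc, ← Category.assoc, ← Spec.map_comp, ← Spec.map_comp,
        ← CommRingCat.ofHom_comp, ← CommRingCat.ofHom_comp]
      congr 3
      exact RingHom.ext fun r => by simp [← hξ'])
    have hγ₁ : γ ≫ g₁ = ζ := Over.OverMorphism.ext (by
      simp only [Over.comp_left, γ, g₁, Over.homMk_left, hζr, ← Spec.map_comp, ← CommRingCat.ofHom_comp]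
      congr 2
      exact MvPolynomial.ringHom_ext (fun r => by simp [← RingHom.comp_apply ξ', hξ', ξ]) (fun i => by simp [t₀]))
    have hγ₂ : γ ≫ g₂ = pt t₂ ≫ θ := Over.OverMorphism.ext (by
      simp only [Over.comp_left, γ, g₂, pt, θ, Over.homMk_left, ← Spec.map_comp, ← CommRingCat.ofHom_comp]
      congr 2
      exact MvPolynomial.ringHom_ext (fun r => by simp [shiftMap_C, ← RingHom.comp_apply ξ', hξ'])
        (fun i => by simp [shiftMap_X, t₂]))
    let c₂ := sqC.lift o₂ ((yon S).map γ) (by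
      rw [reassoc_of% ho₂, sqA.lift_snd, ← Functor.map_comp, ← Functor.map_comp, hγ₂])
    let c := sqk.lift c₂ zL (sqA.hom_ext
      (by rw [Category.assoc, hρf, sqC.lift_fst_assoc, reassoc_of% ho₂, sqA.lift_fst, ← Category.assoc,
        ← Functor.map_comp, hptp, CategoryTheory.Functor.map_id, Category.id_comp, Category.assoc]
          exact w.symm)
      (by rw [Category.assoc, hρs, sqC.lift_snd_assoc, ← Functor.map_comp, hγ₁, hζ, Category.assoc]))
    exact ⟨Points.ofPt c (IsLocalRing.closedPoint L), by rw [Points.map_ofPt, sqk.lift_snd]; exact hzL⟩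
  · have h : pullback.snd ρ k ≫ pullback.snd (e ≫ f) pY =
        pullback.fst ρ k ≫ pullback.snd (j ≫ pullback.snd f pY) ((yon S).map g₂) ≫ (yon S).map g₁ := by
      rw [← hρs, pullback.condition_assoc, sqA.lift_snd]
    rw [h]
    exact hP.precomp hCk hC (hY _) _ _ (isEtaleMor_of_isPullback hC hQ hAX hCk sqk hk) hPC₁

end Groth.Agent.H13AlgSp.EtaleSmooth
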