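import Groth.Agent.H12AlgSp.CoprodSpace
import Groth.Agent.H13Inf.Basic

/-!
Finite coproducts of representables and their base changes.
-/

universe u

open CategoryTheory CategoryTheory.Limits AlgebraicGeometry Opposite
open AlgSp Groth.Agent.H12AlgSp

namespace Groth.Agent.H13AlgSp

variable {S : Scheme.{u}} {ι : Type u} (W : ι → Over S)

/-- The disjoint union over the base. -/
noncomputable def sigmaOver : Over S := Over.mk (Sigma.desc fun i => (W i).hom)

/-- The inclusions in the disjoint union. -/
noncomputable def sigmaInj (i : ι) : W i ⟶ sigmaOver W :=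
  Over.homMk (Sigma.ι (fun i => (W i).left) i) (Sigma.ι_desc _ i)

theorem isOpenImmersion_sigmaInj (i : ι) : IsOpenImmersion (sigmaInj W i).left :=
  inferInstanceAs (IsOpenImmersion (Sigma.ι (fun i => (W i).left) i))

theorem sigmaInj_cover : Sieve.ofArrows W (sigmaInj W) ∈ J S (sigmaOver W) := by
  have := isOpenImmersion_sigmaInj W
  refine ofArrows_mem_J _ (fun i => inferInstance) (fun i => inferInstance) fun x => ?_
  obtain ⟨⟨i, y⟩, hy⟩ := (sigmaMk (fun i => (W i).left)).surjective x
  rw [sigmaMk_mk] at hy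
  exact ⟨i, y, hy⟩

theorem hom_ext_empty {T : Over S} (hT : IsEmpty T.left) {G : Sp S} (a b : (yon S).obj T ⟶ G) : a = b :=
  hom_ext_of_cover (fun e : PEmpty.{u+1} => (e.elim : (e.elim : Over S) ⟶ T))
    (ofArrows_mem_J _ (fun e => e.elim) (fun e => e.elim) (fun t => (hT.false t).elim)) (fun e => e.elim)

theorem eq_or_empty {T : Over S} {i j : ι} (gi : T ⟶ W i) (gj : T ⟶ W j)
    (e : gi ≫ sigmaInj W i = gj ≫ sigmaInj W j) : i = j ∨ IsEmpty T.left := by
  by_cases h : i = j
  · exact Or.inl h
  exact Or.inr (isEmpty_of_commSq_sigmaι_of_ne (g := fun i => (W i).left)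
    ⟨congrArg (fun k => k.left) e⟩ h)

/-- The cofan of a disjoint union is a coproduct of sheaves. -/
theorem nonempty_isColimit_sigma :
    Nonempty (IsColimit (Cofan.mk ((yon S).obj (sigmaOver W)) fun i => (yon S).map (sigmaInj W i))) := by
  have := isOpenImmersion_sigmaInj W
  have hd : ∀ s : Cofan (fun i => (yon S).obj (W i)), ∃ m : (yon S).obj (sigmaOver W) ⟶ s.pt,
      ∀ i, (yon S).map (sigmaInj W i) ≫ m = s.inj i := fun s =>
    H13Inf.exists_glue _ (sigmaInj_cover W) s.inj fun i j Z gi gj e => by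
      rcases eq_or_empty W gi gj e with h | h
      · subst h
        have : Mono (sigmaInj W i) :=
          (Over.forget S).mono_of_mono_map (inferInstanceAs (Mono (sigmaInj W i).left))
        rw [(cancel_mono (sigmaInj W i)).1 e]
      · exact hom_ext_empty h _ _
  choose m hm using hd
  exact ⟨Cofan.IsColimit.mk _ m hm fun s m' hm' =>
    hom_ext_of_cover _ (sigmaInj_cover W) fun i => (hm' i).trans (hm s i).symm⟩

/-- The base changes along the inclusions form a coproduct of the base change to the disjoint union. -/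
theorem nonempty_isColimit_bc {X' : Sp S} (f : X' ⟶ (yon S).obj (sigmaOver W)) {Xi : ι → Sp S}
    (q : ∀ i, Xi i ⟶ X') (p : ∀ i, Xi i ⟶ (yon S).obj (W i))
    (sq : ∀ i, IsPullback (q i) (p i) f ((yon S).map (sigmaInj W i))) :
    Nonempty (IsColimit (Cofan.mk X' q)) := by
  have := isOpenImmersion_sigmaInj W
  let c : Cofan Xi := Cofan.mk (∐ Xi) (Sigma.ι Xi)
  have hc : IsColimit c := coproductIsCoproduct Xi
  let θ : c.pt ⟶ X' := Cofan.IsColimit.desc hc q
  have hθ : ∀ i, c.inj i ≫ θ = q i := Cofan.IsColimit.fac hc q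
  have : Mono θ := mono_of_yon fun T a b e => by
    obtain ⟨κ, C, g, ia, h1, h2, h3, ha⟩ := Coprod.exists_local_lift hc a
    refine hom_ext_of_cover g (ofArrows_mem_J _ h1 h2 h3) fun k => ?_
    obtain ⟨la, hla⟩ := ha k
    obtain ⟨κ', C', g', ib, h1', h2', h3', hb⟩ := Coprod.exists_local_lift hc ((yon S).map (g k) ≫ b)
    refine hom_ext_of_cover g' (ofArrows_mem_J _ h1' h2' h3') fun l => ?_
    obtain ⟨lb, hlb⟩ := hb l
    rw [← hla, ← hlb]
    have e' : ((yon S).map (g' l) ≫ la) ≫ q (ia k) = lb ≫ q (ib l) := by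
      rw [← hθ, ← hθ, Category.assoc, reassoc_of% hla, reassoc_of% hlb, e]
    obtain ⟨xa, hxa⟩ := (yon S).map_surjective (((yon S).map (g' l) ≫ la) ≫ p (ia k))
    obtain ⟨xb, hxb⟩ := (yon S).map_surjective (lb ≫ p (ib l))
    have e'' : xa ≫ sigmaInj W (ia k) = xb ≫ sigmaInj W (ib l) := (yon S).map_injective (by
      rw [Functor.map_comp, Functor.map_comp, hxa, hxb, Category.assoc _ (p _), Category.assoc _ (p _),
        ← (sq _).w, ← (sq _).w, ← Category.assoc, e', Category.assoc])
    rcases eq_or_empty W xa xb e'' with h | h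
    · generalize ib l = j at h lb hlb e' xb hxb e''
      subst h
      have : Mono ((yon S).map (sigmaInj W (ia k))) := by
        have : Mono (sigmaInj W (ia k)) :=
          (Over.forget S).mono_of_mono_map (inferInstanceAs (Mono (sigmaInj W (ia k)).left))
        exact (yon S).map_mono _
      have : Mono (q (ia k)) := MorphismProperty.of_isPullback
        (P := MorphismProperty.monomorphisms (Sp S)) (sq (ia k)).flip
        (inferInstanceAs (Mono ((yon S).map (sigmaInj W (ia k)))))
      rw [← (cancel_mono (q (ia k))).1 e', Category.assoc]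
    · exact hom_ext_empty h _ _
  have : IsIso θ := isIso_of_mono_of_local_lifts θ fun T y => by
    obtain ⟨x, hx⟩ := (yon S).map_surjective (y ≫ f)
    refine ⟨ι, fun i => pullback x (sigmaInj W i), fun i => pullback.fst x (sigmaInj W i), ?_, fun i => ?_⟩
    · have hoi : ∀ i, IsOpenImmersion (pullback.fst x (sigmaInj W i)).left := fun i =>
        MorphismProperty.of_isPullback ((IsPullback.of_hasPullback x (sigmaInj W i)).map (Over.forget S)).flip
          (isOpenImmersion_sigmaInj W i)
      refine ofArrows_mem_J _ (fun i => inferInstance) (fun i => inferInstance) fun t => ?_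
      obtain ⟨⟨i, w⟩, hw⟩ := (sigmaMk (fun i => (W i).left)).surjective (x.left t)
      rw [sigmaMk_mk] at hw
      obtain ⟨z, hz, -⟩ := Scheme.exists_preimage_of_isPullback
        ((IsPullback.of_hasPullback x (sigmaInj W i)).map (Over.forget S)) t w hw.symm
      exact ⟨i, z, hz⟩
    · obtain ⟨l, hl, -⟩ := (sq i).exists_lift ((yon S).map (pullback.fst x (sigmaInj W i)) ≫ y)
        ((yon S).map (pullback.snd x (sigmaInj W i))) (by
          rw [Category.assoc, ← hx, ← Functor.map_comp, ← Functor.map_comp, pullback.condition])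
      exact ⟨l ≫ c.inj i, by rw [Category.assoc, hθ, hl]⟩
  exact ⟨hc.ofIsoColimit (Cofan.ext (asIso θ) fun i => hθ i)⟩

end Groth.Agent.H13AlgSp
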