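import Groth.Agent.H13AlgSp.FppfSource
import Groth.Agent.H13Flat.SmoothDescent

/-!
Smooth and etale descend along smooth, resp. fppf, coverings of the source for algebraic spaces.
-/

universe u

open CategoryTheory CategoryTheory.Limits AlgebraicGeometry Opposite
open AlgSp Groth.Agent.H12AlgSp

namespace Groth.Agent.H13AlgSp

variable {S : Scheme.{u}} {F G H : Sp S}

theorem smooth_of_jointly_surjective {A B : Scheme.{u}} (k : A ⟶ B) {κ : Type u}
    (C : κ → Scheme.{u}) (c : ∀ i, C i ⟶ A) (hs : ∀ a, ∃ i, a ∈ Set.range (c i))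
    (hc : ∀ i, (@Flat ⊓ @LocallyOfFinitePresentation : MorphismProperty Scheme.{u}) (c i))
    (hck : ∀ i, Smooth (c i ≫ k)) : Smooth k :=
  Groth.Agent.H13Flat.smooth_of_fppf_covering k fun a => by
    obtain ⟨i, hi⟩ := hs a
    exact ⟨C i, c i, (hc i).1, (hc i).2, hi, hck i⟩

theorem etale_of_jointly_surjective {A B : Scheme.{u}} (k : A ⟶ B) {κ : Type u}
    (C : κ → Scheme.{u}) (c : ∀ i, C i ⟶ A) (hs : ∀ a, ∃ i, a ∈ Set.range (c i))
    (hc : ∀ i, (@Flat ⊓ @LocallyOfFinitePresentation : MorphismProperty Scheme.{u}) (c i))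
    (hck : ∀ i, Etale (c i ≫ k)) : Etale k :=
  Groth.Agent.H13Flat.etale_of_fppf_covering k fun a => by
    obtain ⟨i, hi⟩ := hs a
    exact ⟨C i, c i, (hc i).1, (hc i).2, hi, hck i⟩

theorem smooth_le_flat_lfp :
    (@Smooth : MorphismProperty Scheme.{u}) ≤
      (@Flat ⊓ @LocallyOfFinitePresentation : MorphismProperty Scheme.{u}) :=
  fun _ _ f (_ : Smooth f) => ⟨inferInstanceAs (Flat f), inferInstanceAs (LocallyOfFinitePresentation f)⟩

theorem etale_le_flat_lfp :
    (@Etale : MorphismProperty Scheme.{u}) ≤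
      (@Flat ⊓ @LocallyOfFinitePresentation : MorphismProperty Scheme.{u}) :=
  fun _ _ f (_ : Etale f) => ⟨inferInstanceAs (Flat f), inferInstanceAs (LocallyOfFinitePresentation f)⟩

theorem isLocalOnSource_smooth :
    IsLocalOnSource (IsSmCover (S := S)) (LocP @Smooth) :=
  isLocalOnSource_of_descent (P' := @Smooth) le_rfl (fun _ _ _ _ hg => ⟨hg.1, hg.2⟩)
    fun k _ C c hs hc h => smooth_of_jointly_surjective k C c hs (fun i => smooth_le_flat_lfp _ _ _ (hc i)) h

theorem locP_smooth_of_surjective (hF : IsAlgSpace F) (hG : IsAlgSpace G) (hH : IsAlgSpace H)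
    {f : F ⟶ G} {q : G ⟶ H} (hs : IsSurjectiveMor f) (hfl : LocP @Flat f)
    (hfp : LocP @LocallyOfFinitePresentation f) (hfq : LocP @Smooth (f ≫ q)) : LocP @Smooth q :=
  locP_of_surjective (P' := @Flat ⊓ @LocallyOfFinitePresentation) smooth_of_jointly_surjective hF hG hH
    hs (fun _ _ a b h ha hb e => ⟨hfl a b h ha hb e, hfp a b h ha hb e⟩) hfq

theorem isEtaleMor_of_surjective (hF : IsAlgSpace F) (hG : IsAlgSpace G) (hH : IsAlgSpace H)
    {f : F ⟶ G} {q : G ⟶ H} (hs : IsSurjectiveMor f) (hfl : LocP @Flat f)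
    (hfp : LocP @LocallyOfFinitePresentation f) (hfq : IsEtaleMor (f ≫ q)) : IsEtaleMor q :=
  (isEtaleMor_iff_locP hG hH).2 (locP_of_surjective (P' := @Flat ⊓ @LocallyOfFinitePresentation)
    etale_of_jointly_surjective hF hG hH hs
    (fun _ _ a b h ha hb e => ⟨hfl a b h ha hb e, hfp a b h ha hb e⟩)
    ((isEtaleMor_iff_locP hF hH).1 hfq))

end Groth.Agent.H13AlgSp
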