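import Groth.Agent.H14AlgSt.PointLift
import Groth.Agent.H14AlgSt.PointFamily
import Groth.Agent.S5038
import Groth.Agent.H13AlgSp.CoprodBC
import Groth.Agent.H13AlgSp.SmoothSource
import Groth.Agent.H12AlgSp.LocP
import Groth.Agent.H9Hens.BranchNormal
import Groth.Agent.H9Hens.PairOps
import Groth.Agent.H9Hens.SchemeSections
import Groth.Agent.S0536

/-!
Lifting of points with values in a henselian local ring.
-/

set_option autoImplicit false
set_option linter.style.haveILetI false
set_option linter.unusedVariables false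
set_option backward.isDefEq.respectTransparency false
set_option backward.isDefEq.respectTransparency.types false

universe u

open CategoryTheory CategoryTheory.Limits AlgebraicGeometry
open AlgSp Groth.Agent.H12AlgSp

namespace Groth.Agent.H13AlgSp

variable {S : Scheme.{u}}

/-- A point of the residue field of a henselian local ring on a space smooth over another one lifts to any given
point of the ring. -/
theorem exists_lift_smooth {Z X : Sp S} (hZ : IsAlgSpace Z) (hX : IsAlgSpace X) (f : Z ⟶ X)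
    (hf : LocP @Smooth f) (R : Type u) [CommRing R] [HenselianLocalRing R]
    (str : Spec (CommRingCat.of R) ⟶ S) (i : Over.mk (Spec.map (CommRingCat.ofHom (IsLocalRing.residue R)) ≫ str) ⟶
      Over.mk str) (hi : i.left = Spec.map (CommRingCat.ofHom (IsLocalRing.residue R)))
    (z : (yon S).obj (Over.mk str) ⟶ X)
    (z₀ : (yon S).obj (Over.mk (Spec.map (CommRingCat.ofHom (IsLocalRing.residue R)) ≫ str)) ⟶ Z)
    (w : z₀ ≫ f = (yon S).map i ≫ z) :
    ∃ z' : (yon S).obj (Over.mk str) ⟶ Z, z' ≫ f = z ∧ (yon S).map i ≫ z' = z₀ := by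
  have hF : IsAlgSpace (pullback f z) := isAlgSpace_pullback hX.diag hZ (IsAlgSpace.yon_obj _) f z
  let ξ := pullback.lift z₀ ((yon S).map i) w
  obtain ⟨A, m, a, hm, ha⟩ := H14AlgSt.exists_etale_lift_of_fieldPoint hF
    (Spec.map (CommRingCat.ofHom (IsLocalRing.residue R)) ≫ str) ξ
  obtain ⟨c, hc⟩ := (yon S).map_surjective (m ≫ pullback.snd f z)
  have : Smooth c.left := H12AlgSp.locP_of_isPullback etLocal_smooth (IsPullback.of_hasPullback f z) hZ hX
    (IsAlgSpace.yon_obj _) hf m (𝟙 _) c hm (repWith_id _ _) (by rw [Category.comp_id, hc])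
  have hac : a ≫ c = i := (yon S).map_injective (by
    rw [Functor.map_comp, hc, ← Category.assoc, ha, pullback.lift_snd])
  obtain ⟨u, hu, hu₀⟩ := S5038.result R (c.left : A.left ⟶ Spec (CommRingCat.of R)) a.left
    ((congrArg (fun g => g.left) hac).trans hi)
  let s : Over.mk str ⟶ A := Over.homMk u (by
    rw [← Over.w c]
    exact (Category.assoc _ _ _).symm.trans ((congrArg (· ≫ str) hu).trans (Category.id_comp _)))
  have hs : i ≫ s = a := Over.OverMorphism.ext (by
    change i.left ≫ u = a.left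
    rw [hi, hu₀])
  have hsc : s ≫ c = 𝟙 _ := Over.OverMorphism.ext hu
  refine ⟨(yon S).map s ≫ m ≫ pullback.fst f z, ?_, ?_⟩
  · rw [Category.assoc, Category.assoc, pullback.condition, ← reassoc_of% hc, ← Functor.map_comp_assoc,
      hsc, CategoryTheory.Functor.map_id, Category.id_comp]
  · rw [← Functor.map_comp_assoc, hs, reassoc_of% ha, pullback.lift_fst]

/-- Etale maps from schemes give an etale map from their disjoint union. -/
theorem repWith_etale_sigma {X : Sp S} (hX : IsAlgSpace X) {ι : Type u} (W : ι → Over S)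
    {m : ∀ i, (yon S).obj (W i) ⟶ X} (hm : ∀ i, RepWith @Etale (m i)) (p : (yon S).obj (sigmaOver W) ⟶ X)
    (hp : ∀ i, (yon S).map (sigmaInj W i) ≫ p = m i) : RepWith @Etale p := by
  refine ⟨hX.representable_from_yon p, fun T V g fst snd sq => ?_⟩
  obtain ⟨b, rfl⟩ := (yon S).map_surjective fst
  have hoi : ∀ i, IsOpenImmersion (pullback.fst b (sigmaInj W i)).left := fun i =>
    MorphismProperty.of_isPullback ((IsPullback.of_hasPullback b (sigmaInj W i)).map (Over.forget S)).flip
      (isOpenImmersion_sigmaInj W i)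
  change Etale snd.left
  refine etale_of_jointly_surjective snd.left (fun i => (pullback b (sigmaInj W i)).left)
    (fun i => (pullback.fst b (sigmaInj W i)).left) (fun t => ?_)
    (fun i => have := hoi i; ⟨inferInstance, inferInstance⟩) fun i => ?_
  · obtain ⟨⟨i, w⟩, hw⟩ := (sigmaMk (fun i => (W i).left)).surjective (b.left t)
    rw [sigmaMk_mk] at hw
    obtain ⟨z, hz, -⟩ := Scheme.exists_preimage_of_isPullback
      ((IsPullback.of_hasPullback b (sigmaInj W i)).map (Over.forget S)) t w hw.symm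
    exact ⟨i, z, hz⟩
  · have sq' := ((IsPullback.of_hasPullback b (sigmaInj W i)).map (yon S)).flip.paste_vert sq
    rw [hp, ← Functor.map_comp] at sq'
    exact (hm i).property _ _ _ sq'

/-- An affine etale chart through a given point of a henselian local ring, among a fixed family of them. -/
theorem exists_family_lift {X : Sp S} (hX : IsAlgSpace X) {ι : Type u} {A : ι → Over S}
    {m : ∀ i, (yon S).obj (A i) ⟶ X} (hm : ∀ i, RepWith @Etale (m i))
    (R : Type u) [CommRing R] [HenselianLocalRing R] (str : Spec (CommRingCat.of R) ⟶ S)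
    (z : (yon S).obj (Over.mk str) ⟶ X) (i : ι)
    (a : Over.mk (Spec.map (CommRingCat.ofHom (IsLocalRing.residue R)) ≫ str) ⟶ A i)
    (ha : (yon S).map a ≫ m i = (yon S).map (Over.homMk (Spec.map (CommRingCat.ofHom (IsLocalRing.residue R))) rfl :
      Over.mk (Spec.map (CommRingCat.ofHom (IsLocalRing.residue R)) ≫ str) ⟶ Over.mk str) ≫ z) :
    ∃ g : Over.mk str ⟶ A i, (yon S).map g ≫ m i = z := by
  obtain ⟨z', hz', -⟩ := exists_lift_smooth (IsAlgSpace.yon_obj _) hX (m i)
    (locP_of_repWith etLocal_smooth (repWith_le (fun _ _ f (_ : Etale f) => (inferInstance : Smooth f)) (hm i)))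
    R str _ rfl z ((yon S).map a) ha
  obtain ⟨g, rfl⟩ := (yon S).map_surjective z'
  exact ⟨g, hz'⟩

/-- A family of affine etale charts lifts every point with values in a henselian local ring. -/
theorem exists_family_henselian {X : Sp S} (hX : IsAlgSpace X) :
    ∃ (ι : Type u) (A : ι → Over S) (m : ∀ i, (yon S).obj (A i) ⟶ X),
      (∀ i, IsAffine (A i).left) ∧ (∀ i, RepWith @Etale (m i)) ∧
        ∀ (R : Type u) [CommRing R] [HenselianLocalRing R] (str : Spec (CommRingCat.of R) ⟶ S)
          (z : (yon S).obj (Over.mk str) ⟶ X), ∃ (i : ι) (g : Over.mk str ⟶ A i), (yon S).map g ≫ m i = z := by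
  obtain ⟨ι, A, m, hA, hm, h⟩ := H14AlgSt.exists_etale_family_fieldPoints hX
  refine ⟨ι, A, m, hA, hm, fun R _ _ str z => ?_⟩
  obtain ⟨i, a, ha⟩ := h (k := IsLocalRing.ResidueField R)
    (Spec.map (CommRingCat.ofHom (IsLocalRing.residue R)) ≫ str)
    ((yon S).map (Over.homMk (Spec.map (CommRingCat.ofHom (IsLocalRing.residue R))) rfl :
      Over.mk (Spec.map (CommRingCat.ofHom (IsLocalRing.residue R)) ≫ str) ⟶ Over.mk str) ≫ z)
  exact ⟨i, exists_family_lift hX hm R str z i a ha⟩

/-- Points of quotient rings of a henselian local ring lift to a family of charts lifting all henselian points. -/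
theorem exists_sigma_lift {X : Sp S} {ι : Type u} {A : ι → Over S} {m : ∀ i, (yon S).obj (A i) ⟶ X}
    (p : (yon S).obj (sigmaOver A) ⟶ X) (hp : ∀ i, (yon S).map (sigmaInj A i) ≫ p = m i)
    (R : Type u) [CommRing R] [HenselianLocalRing R] (str : Spec (CommRingCat.of R) ⟶ S) (a : Ideal R)
    (x : (yon S).obj (Over.mk (Spec.map (CommRingCat.ofHom (Ideal.Quotient.mk a)) ≫ str)) ⟶ X)
    (h : ∀ [HenselianLocalRing (R ⧸ a)], a ≠ ⊤ →
      ∃ (i : ι) (g : Over.mk (Spec.map (CommRingCat.ofHom (Ideal.Quotient.mk a)) ≫ str) ⟶ A i),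
        (yon S).map g ≫ m i = x) :
    ∃ g : Over.mk (Spec.map (CommRingCat.ofHom (Ideal.Quotient.mk a)) ≫ str) ⟶ sigmaOver A,
      (yon S).map g ≫ p = x := by
  by_cases ha : a = ⊤
  · have : Subsingleton (R ⧸ a) := Ideal.Quotient.subsingleton_iff.2 ha
    have he : IsEmpty (Spec (CommRingCat.of (R ⧸ a))) := inferInstanceAs (IsEmpty (PrimeSpectrum (R ⧸ a)))
    have hi : IsInitial (Spec (CommRingCat.of (R ⧸ a))) := isInitialOfIsEmpty
    exact ⟨Over.homMk (hi.to _) (hi.hom_ext _ _), hom_ext_empty he _ _⟩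
  · have : Nontrivial (R ⧸ a) := Ideal.Quotient.nontrivial_iff.2 ha
    have : IsLocalRing (R ⧸ a) :=
      IsLocalRing.of_surjective' (Ideal.Quotient.mk a) Ideal.Quotient.mk_surjective
    have : HenselianLocalRing (R ⧸ a) := H9Hens.henselianLocalRing_quotient a
    obtain ⟨i, g, hg⟩ := h ha
    exact ⟨g ≫ sigmaInj A i, by rw [Functor.map_comp_assoc, hp, hg]⟩

/-- The desc map from a disjoint union of charts. -/
theorem exists_sigma_map {X : Sp S} {ι : Type u} (A : ι → Over S) (m : ∀ i, (yon S).obj (A i) ⟶ X) :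
    ∃ p : (yon S).obj (sigmaOver A) ⟶ X, ∀ i, (yon S).map (sigmaInj A i) ≫ p = m i := by
  obtain ⟨h⟩ := nonempty_isColimit_sigma A
  exact ⟨Cofan.IsColimit.desc h m, Cofan.IsColimit.fac h m⟩

/-- With finitely many points in the residue field, one affine chart lifts the points of all quotient rings. -/
theorem exists_affine_lift_of_finite {X : Sp S} (hX : IsAlgSpace X) (R : Type u) [CommRing R]
    [HenselianLocalRing R] (str : Spec (CommRingCat.of R) ⟶ S)
    (hfin : Finite ((yon S).obj (Over.mk (Spec.map (CommRingCat.ofHom (IsLocalRing.residue R)) ≫ str)) ⟶ X)) :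
    ∃ (Z : Over S) (p : (yon S).obj Z ⟶ X), IsAffine Z.left ∧ RepWith @Etale p ∧
      ∀ (a : Ideal R) (x : (yon S).obj (Over.mk (Spec.map (CommRingCat.ofHom (Ideal.Quotient.mk a)) ≫ str)) ⟶ X),
        ∃ g : Over.mk (Spec.map (CommRingCat.ofHom (Ideal.Quotient.mk a)) ≫ str) ⟶ Z, (yon S).map g ≫ p = x := by
  obtain ⟨ι, A, m, hA, hm, h⟩ := H14AlgSt.exists_etale_family_fieldPoints hX
  obtain ⟨n, ⟨e⟩⟩ := Finite.exists_equiv_fin
    ((yon S).obj (Over.mk (Spec.map (CommRingCat.ofHom (IsLocalRing.residue R)) ≫ str)) ⟶ X)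
  choose c b hb using fun j : ULift.{u} (Fin n) => h (k := IsLocalRing.ResidueField R) _ (e.symm j.down)
  let A' : ULift.{u} (Fin n) → Over S := fun j => A (c j)
  obtain ⟨p, hp⟩ := exists_sigma_map A' fun j => m (c j)
  have : ∀ j, IsAffine (A' j).left := fun j => hA _
  refine ⟨sigmaOver A', p, inferInstanceAs (IsAffine (∐ fun j => (A' j).left)),
    repWith_etale_sigma hX A' (fun j => hm _) p hp, fun a x => exists_sigma_lift p hp R str a x ?_⟩
  intro _ ha
  let ψ : R ⧸ a →+* IsLocalRing.ResidueField R := Ideal.Quotient.lift a (IsLocalRing.residue R)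
    fun r hr => Ideal.Quotient.eq_zero_iff_mem.2 (IsLocalRing.le_maximalIdeal ha hr)
  have hψ : ψ.comp (Ideal.Quotient.mk a) = IsLocalRing.residue R := RingHom.ext fun _ => rfl
  let K : Over S := Over.mk (Spec.map (CommRingCat.ofHom (IsLocalRing.residue R)) ≫ str)
  let s : K ⟶ Over.mk (Spec.map (CommRingCat.ofHom (Ideal.Quotient.mk a)) ≫ str) :=
    Over.homMk (Spec.map (CommRingCat.ofHom ψ)) (by
      change _ ≫ Spec.map _ ≫ str = Spec.map _ ≫ str
      rw [← Spec.map_comp_assoc, ← CommRingCat.ofHom_comp, hψ])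
  let j : ULift.{u} (Fin n) := ⟨e ((yon S).map s ≫ x)⟩
  have hj : (yon S).map (b j) ≫ m (c j) = (yon S).map s ≫ x := by rw [hb]; exact e.symm_apply_apply _
  have : Nontrivial (R ⧸ a) := Ideal.Quotient.nontrivial_iff.2 ha
  have : IsLocalHom (Ideal.Quotient.mk a) :=
    IsLocalHom.of_surjective _ Ideal.Quotient.mk_surjective
  let π : IsLocalRing.ResidueField R →+* IsLocalRing.ResidueField (R ⧸ a) :=
    IsLocalRing.ResidueField.map (Ideal.Quotient.mk a)
  have hπ : π.comp ψ = IsLocalRing.residue (R ⧸ a) := Ideal.Quotient.ringHom_ext (RingHom.ext fun _ => rfl)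
  let K' : Over S := Over.mk (Spec.map (CommRingCat.ofHom (IsLocalRing.residue (R ⧸ a))) ≫
    Spec.map (CommRingCat.ofHom (Ideal.Quotient.mk a)) ≫ str)
  let t : K' ⟶ K := Over.homMk (Spec.map (CommRingCat.ofHom π)) (by
    change _ ≫ Spec.map _ ≫ str = Spec.map _ ≫ Spec.map _ ≫ str
    rw [← Spec.map_comp_assoc, ← Spec.map_comp_assoc, ← CommRingCat.ofHom_comp, ← CommRingCat.ofHom_comp,
      ← hπ, RingHom.comp_assoc, hψ])
  obtain ⟨g, hg⟩ := exists_family_lift hX (fun j => hm (c j)) (R ⧸ a) _ x j (t ≫ b j) (by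
    rw [Functor.map_comp_assoc, hj, ← Functor.map_comp_assoc]
    congr 2
    refine Over.OverMorphism.ext ?_
    change Spec.map _ ≫ Spec.map _ = Spec.map _
    rw [← Spec.map_comp, ← CommRingCat.ofHom_comp, hπ])
  exact ⟨j, g, hg⟩

/-- The points of quotient rings of the base lift on a smooth space over a henselian local ring. -/
theorem exists_lift_base_smooth (R : Type u) [CommRing R] [HenselianLocalRing R]
    {X : Sp (Spec (CommRingCat.of R))} (hX : IsAlgSpace X) {U : Over (Spec (CommRingCat.of R))}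
    (c : (yon (Spec (CommRingCat.of R))).obj U ⟶ X) (hU : Smooth U.hom) (hce : RepWith @Etale c)
    (hcs : RepWith @Surjective c) (a : Ideal R) (ha : a ≠ ⊤)
    (x₀ : (yon (Spec (CommRingCat.of R))).obj (Over.mk (Spec.map (CommRingCat.ofHom (Ideal.Quotient.mk a)))) ⟶ X) :
    ∃ x : (yon (Spec (CommRingCat.of R))).obj (Over.mk (𝟙 (Spec (CommRingCat.of R)))) ⟶ X,
      (yon (Spec (CommRingCat.of R))).map (Over.homMk (Spec.map (CommRingCat.ofHom (Ideal.Quotient.mk a)))
        (Category.comp_id _) : Over.mk (Spec.map (CommRingCat.ofHom (Ideal.Quotient.mk a))) ⟶ Over.mk (𝟙 _)) ≫ x =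
          x₀ := by
  have : Nontrivial (R ⧸ a) := Ideal.Quotient.nontrivial_iff.2 ha
  have : IsLocalRing (R ⧸ a) :=
    IsLocalRing.of_surjective' (Ideal.Quotient.mk a) Ideal.Quotient.mk_surjective
  have : HenselianLocalRing (R ⧸ a) := H9Hens.henselianLocalRing_quotient a
  obtain ⟨ι, A', m, hA', hm, h⟩ := exists_family_henselian hX
  obtain ⟨i, g, hg⟩ := h (R ⧸ a) (Spec.map (CommRingCat.ofHom (Ideal.Quotient.mk a))) x₀
  let A := A' i
  have : IsAffine A.left := hA' i
  -- the chart is smooth over the base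
  obtain ⟨W, snd, fst, sqW⟩ := hce.1 (m i)
  obtain ⟨b, rfl⟩ := (yon _).map_surjective fst
  have hs : Surjective snd.left := hcs.property _ _ _ sqW
  have hse : Etale snd.left := hce.property _ _ _ sqW
  have hb : Etale b.left := (hm i).property _ _ _ sqW.flip
  have hsU : Smooth A.hom := smooth_of_jointly_surjective A.hom (fun _ : PUnit.{u+1} => W.left)
    (fun _ => snd.left) (fun t => ⟨⟨⟩, hs.surj t⟩) (fun _ => ⟨inferInstance, inferInstance⟩) fun _ => by
      rw [Over.w snd, ← Over.w b]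
      infer_instance
  obtain ⟨φ, hφ'⟩ := Spec.map_surjective (A.left.isoSpec.inv ≫ A.hom : Spec Γ(A.left, ⊤) ⟶ Spec (CommRingCat.of R))
  have hfac : A.hom = A.left.isoSpec.hom ≫ Spec.map φ := by
    rw [hφ', Iso.hom_inv_id_assoc]
  have hφ : φ.hom.Smooth := by
    rw [← HasRingHomProperty.Spec_iff (P := @Smooth),
      ← MorphismProperty.cancel_left_of_respectsIso @Smooth A.left.isoSpec.hom, ← hfac]
    exact hsU
  algebraize [φ.hom]
  obtain ⟨σ₀, hσ₀⟩ := Spec.map_surjective ((g.left : Spec (CommRingCat.of (R ⧸ a)) ⟶ A.left) ≫ A.left.isoSpec.hom)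
  have hσR : φ ≫ σ₀ = CommRingCat.ofHom (Ideal.Quotient.mk a) := Spec.map_injective (by
    rw [Spec.map_comp, hσ₀, Category.assoc, ← hfac]
    exact Over.w g)
  let σ : Γ(A.left, ⊤) →ₐ[R] R ⧸ a :=
    { σ₀.hom with commutes' := fun r => congrArg (fun m : CommRingCat.of R ⟶ _ => m.hom r) hσR }
  have : HenselianRing R (IsLocalRing.maximalIdeal R) := H9Hens.henselianRing_maximalIdeal R
  have : HenselianRing R a :=
    H9Hens.henselianRing_of_le (J := IsLocalRing.maximalIdeal R) (IsLocalRing.le_maximalIdeal ha)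
  obtain ⟨τ, hτ⟩ := S0536.result R Γ(A.left, ⊤) R a σ
  have hτφ : φ ≫ CommRingCat.ofHom τ.toRingHom = 𝟙 _ :=
    CommRingCat.hom_ext (RingHom.ext fun r => τ.commutes r)
  let s : Over.mk (𝟙 (Spec (CommRingCat.of R))) ⟶ A :=
    Over.homMk (Spec.map (CommRingCat.ofHom τ.toRingHom) ≫ A.left.isoSpec.inv) (by
      have h1 : Spec.map (CommRingCat.ofHom τ.toRingHom) ≫ Spec.map φ = 𝟙 _ := by
        rw [← Spec.map_comp, hτφ, Spec.map_id]
      change (Spec.map (CommRingCat.ofHom τ.toRingHom) ≫ A.left.isoSpec.inv) ≫ A.hom = 𝟙 _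
      rw [hfac]
      simpa using h1)
  refine ⟨(yon _).map s ≫ m i, ?_⟩
  rw [← Functor.map_comp_assoc, ← hg]
  congr 2
  refine Over.OverMorphism.ext ?_
  change Spec.map (CommRingCat.ofHom (Ideal.Quotient.mk a)) ≫
    Spec.map (CommRingCat.ofHom τ.toRingHom) ≫ A.left.isoSpec.inv = g.left
  rw [← Category.assoc, ← Spec.map_comp, show CommRingCat.ofHom τ.toRingHom ≫
    CommRingCat.ofHom (Ideal.Quotient.mk a) = σ₀ from
    CommRingCat.hom_ext (congrArg AlgHom.toRingHom hτ :), hσ₀]
  simp

end Groth.Agent.H13AlgSp
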