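import Groth.Agent.H13AlgSp.LocPDescent
import Groth.Agent.H13AlgSp.Cover

/-!
Monomorphisms and isomorphisms of algebraic spaces are fpqc local on the base.
-/

universe u

open CategoryTheory CategoryTheory.Limits AlgebraicGeometry Opposite MorphismProperty
open AlgSp Groth.Agent.H12AlgSp

namespace Groth.Agent.H13AlgSp

variable {S : Scheme.{u}} {F G : Sp S}

/-- Maps into a sheaf with representable diagonal can be compared fpqc locally. -/
theorem hom_ext_of_fpqc (hF : Representable (Limits.diag F)) {T : Over S} (a b : (yon S).obj T ⟶ F)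
    (h : ∀ (Z : Over S) (j : Z ⟶ T), IsAffine Z.left → ∃ (m : ℕ) (W : Fin m → Over S) (c : ∀ i, W i ⟶ Z),
      (∀ i, IsAffine (W i).left) ∧ (∀ i, Flat (c i).left) ∧
      (∀ z : ↥Z.left, ∃ i, z ∈ Set.range (c i).left) ∧
      ∀ i, (yon S).map (c i ≫ j) ≫ a = (yon S).map (c i ≫ j) ≫ b) : a = b := by
  obtain ⟨E, e, x, sq⟩ := hF (prod.lift a b)
  have hea : (yon S).map e ≫ a = (yon S).map e ≫ b := by
    have h1 := sq.w =≫ prod.fst
    have h2 := sq.w =≫ prod.snd
    simp only [Category.assoc, Limits.prod.lift_fst, Limits.prod.lift_snd, Category.comp_id] at h1 h2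
    rw [← h1, h2]
  have hm : Mono e.left :=
    (repWith_mono_of_mono hF : RepWith (monomorphisms Scheme.{u}) (Limits.diag F)).2 _ x e sq
  have hiso : IsIso e.left := by
    change isomorphisms Scheme.{u} e.left
    refine IsZariskiLocalAtTarget.of_iSup_eq_top (fun U : T.left.affineOpens => U.1)
      (iSup_affineOpens_eq_top _) fun U => ?_
    let j : Over.mk (U.1.ι ≫ T.hom) ⟶ T := Over.homMk U.1.ι rfl
    have hU : IsAffine (Over.mk (U.1.ι ≫ T.hom)).left := U.2
    obtain ⟨m, W, c, haff, hflat, hsurj, heq⟩ := h _ j hU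
    have : IsAffine U.1.toScheme := U.2
    have : ∀ i, IsAffine (W i).left := haff
    have : ∀ i, Flat (c i).left := hflat
    refine of_finite_affine_fpqc (P := isomorphisms Scheme.{u}) (e.left ∣_ U.1)
      (fun i => (c i).left) hsurj fun i => ?_
    have hw : ((yon S).map (c i ≫ j) ≫ a) ≫ Limits.diag F = (yon S).map (c i ≫ j) ≫ prod.lift a b := by
      apply Limits.prod.hom_ext
      · rw [Category.assoc, Category.assoc, Limits.diag, Limits.prod.lift_fst, Category.comp_id,
          Category.assoc, Limits.prod.lift_fst]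
      · rw [Category.assoc, Category.assoc, Limits.diag, Limits.prod.lift_snd, Category.comp_id,
          Category.assoc, Limits.prod.lift_snd]
        exact heq i
    obtain ⟨u, hu⟩ := (yon S).map_surjective (sq.lift _ _ hw)
    have hue : u ≫ e = c i ≫ j := (yon S).map_injective (by
      rw [Functor.map_comp (f := u), hu, sq.lift_snd])
    have hue' : u.left ≫ e.left = (c i).left ≫ U.1.ι := congrArg (fun t => Over.Hom.left t) hue
    have sqU := (isPullback_morphismRestrict e.left U.1).flip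
    have : Mono (e.left ∣_ U.1) := MorphismProperty.of_isPullback
      (P := monomorphisms Scheme.{u}) (isPullback_morphismRestrict e.left U.1).flip hm
    have : IsSplitEpi (pullback.snd (e.left ∣_ U.1) (c i).left) :=
      ⟨⟨⟨pullback.lift (sqU.lift u.left (c i).left hue') (𝟙 _) (by rw [sqU.lift_snd, Category.id_comp]),
        pullback.lift_snd _ _ _⟩⟩⟩
    exact isIso_of_mono_of_isSplitEpi _
  have : IsIso ((Over.forget S).map e) := hiso
  have : IsIso e := isIso_of_reflects_iso e (Over.forget S)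
  rwa [cancel_epi] at hea

theorem mono_of_fpqc {f : F ⟶ G} (hF : Representable (Limits.diag F)) {ι : Type u} {Gi : ι → Sp S}
    {g : ∀ i, Gi i ⟶ G} (hg : IsFpqcCover Gi g) {Fi : ι → Sp S} {p : ∀ i, Fi i ⟶ Gi i}
    {q : ∀ i, Fi i ⟶ F} (sq : ∀ i, IsPullback (q i) (p i) f (g i)) (hp : ∀ i, Mono (p i)) :
    Mono f := by
  refine mono_of_yon fun T a b e => hom_ext_of_fpqc hF a b fun Z j hZ => ?_
  obtain ⟨m, W, c, haff, hflat, hsurj, hlift⟩ := hg.2 Z hZ ((yon S).map j ≫ a ≫ f)
  refine ⟨m, W, c, haff, hflat, hsurj, fun k => ?_⟩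
  obtain ⟨i, l, hl⟩ := hlift k
  have ha : ((yon S).map (c k ≫ j) ≫ a) ≫ f = l ≫ g i := by
    rw [hl, Category.assoc, Functor.map_comp, Category.assoc]
  have hb : ((yon S).map (c k ≫ j) ≫ b) ≫ f = l ≫ g i := by
    rw [hl, Category.assoc, ← e, Functor.map_comp, Category.assoc]
  have := hp i
  have h1 : (sq i).lift _ l ha = (sq i).lift _ l hb := by
    rw [← cancel_mono (p i), (sq i).lift_snd, (sq i).lift_snd]
  have h2 := h1 =≫ q i
  rwa [(sq i).lift_fst, (sq i).lift_fst] at h2

theorem isIso_of_fpqc {f : F ⟶ G} (hF : IsAlgSpace F) (hG : IsAlgSpace G) {ι : Type u} {Gi : ι → Sp S}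
    {g : ∀ i, Gi i ⟶ G} (hg : IsFpqcCover Gi g) {Fi : ι → Sp S} {p : ∀ i, Fi i ⟶ Gi i}
    {q : ∀ i, Fi i ⟶ F} (sq : ∀ i, IsPullback (q i) (p i) f (g i)) (hp : ∀ i, IsIso (p i)) :
    IsIso f := by
  have : Mono f := mono_of_fpqc hF.diag hg sq (fun i => have := hp i; inferInstance)
  refine isIso_of_mono_of_local_lifts f fun T y => ?_
  have sqT := IsPullback.of_hasPullback f y
  obtain ⟨U, d, hde, hds⟩ :=
    (isAlgSpace_of_isPullback hG.diag hF (IsAlgSpace.yon_obj T) sqT).atlas
  obtain ⟨t, ht⟩ := (yon S).map_surjective (d ≫ pullback.snd f y)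
  have hfib : EtaleFibre @Etale f :=
    etaleFibre_of_fpqc hg sq fun i => by
      have := hp i
      exact etaleFibre_of_repWith (repWith_of_isIso (p i))
  have he : Etale t.left := hfib y _ _ sqT d t hde ht.symm
  have hs : ∀ z : T.left, ∃ w, t.left w = z := by
    intro z
    obtain ⟨m, W, c, -, -, hsurj, hlift⟩ := hg.2
      (Over.mk (T.left.fromSpecResidueField z ≫ T.hom)) (by dsimp; infer_instance)
      ((yon S).map (Over.homMk (T.left.fromSpecResidueField z) rfl) ≫ y)
    obtain ⟨j, w, hw⟩ := hsurj (IsLocalRing.closedPoint (T.left.residueField z))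
    obtain ⟨i, l, hl⟩ := hlift j
    have := hp i
    obtain ⟨r, -, hr⟩ := exists_point_of_isPullback sqT
      (Points.map (inv (p i) ≫ q i) (Points.ofPt l w)) (Points.ofScheme T z) (by
        have hw' : inv (p i) ≫ q i ≫ f = g i := by rw [(sq i).w, IsIso.inv_hom_id_assoc]
        rw [← Points.map_comp, Category.assoc, hw', Points.map_ofPt, hl, ← Points.ofPt_eq_map_ofScheme,
          ofPt_map, hw, ofPt_map]
        exact congrArg (Points.ofPt y) (Scheme.fromSpecResidueField_apply _ _))
    obtain ⟨u, rfl⟩ := surjective_ofPt_of_repWith le_rfl hds r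
    refine ⟨u, (Points.schemeEquiv T).injective (Eq.trans ?_ hr)⟩
    rw [Points.map_ofPt, ← ht, ← Category.comp_id ((yon S).map t), ofPt_map]
    rfl
  refine ⟨PUnit, fun _ => U, fun _ => t, ofArrows_mem_J _ (fun _ => inferInstance)
    (fun _ => inferInstance) (fun z => ⟨⟨⟩, (hs z)⟩), fun _ => ⟨d ≫ pullback.fst f y, ?_⟩⟩
  rw [ht, Category.assoc, Category.assoc, sqT.w]

theorem isLocalOnBase_fpqc_isomorphisms :
    IsLocalOnBase (IsFpqcCover (S := S)) (isomorphisms (Sp S)) := by
  intro ι Y Yi g hY hYi hg X f hX Xi p q hXi sq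
  exact ⟨fun hf i => MorphismProperty.of_isPullback (sq i) hf, fun hp => isIso_of_fpqc hX hY hg sq hp⟩

theorem isLocalOnBase_fpqc_monomorphisms :
    IsLocalOnBase (IsFpqcCover (S := S)) (monomorphisms (Sp S)) := by
  intro ι Y Yi g hY hYi hg X f hX Xi p q hXi sq
  exact ⟨fun hf i => MorphismProperty.of_isPullback (sq i) hf, fun hp => mono_of_fpqc hX.diag hg sq hp⟩

end Groth.Agent.H13AlgSp
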