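import Groth.Agent.H12AlgSp.Points
import Mathlib.AlgebraicGeometry.Morphisms.QuasiCompact

/-!
Decent spaces: monomorphisms from schemes, composition of decent morphisms.
-/

universe u

open CategoryTheory CategoryTheory.Limits AlgebraicGeometry Opposite Topology
open AlgSp Groth.Agent.H12AlgSp

namespace Groth.Agent.H13AlgSp

variable {S : Scheme.{u}}

theorem quasiCompact_of_finite_source {X Y : Scheme.{u}} (f : X ⟶ Y) [Finite X] : QuasiCompact f :=
  ⟨fun _ _ _ => (Set.toFinite _).isCompact⟩

theorem repWith_quasiCompact_residueField {T : Over S} (t : T.left) :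
    RepWith @QuasiCompact ((yon S).map (Over.homMk (T.left.fromSpecResidueField t) rfl :
      Over.mk (T.left.fromSpecResidueField t ≫ T.hom) ⟶ T)) := by
  rw [repWith_yon_map_iff]
  exact quasiCompact_of_finite_source (T.left.fromSpecResidueField t)

theorem mono_residueField {T : Over S} (t : T.left) :
    Mono ((yon S).map (Over.homMk (T.left.fromSpecResidueField t) rfl :
      Over.mk (T.left.fromSpecResidueField t ≫ T.hom) ⟶ T)) := by
  have : Mono (Over.homMk (T.left.fromSpecResidueField t) rfl :
      Over.mk (T.left.fromSpecResidueField t ≫ T.hom) ⟶ T) :=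
    (Over.forget S).mono_of_mono_map (by dsimp; infer_instance)
  exact (yon S).map_mono _

/-- A point in the image of a quasi-compact monomorphism from a scheme is a decent point. -/
theorem exists_fieldPt_of_mono_qc {F : Sp S} {W : Over S} (g : (yon S).obj W ⟶ F) [Mono g]
    (hg : RepWith @QuasiCompact g) (w : W.left) :
    ∃ p : FieldPt F, Points.mk p = Points.ofPt g w ∧ Mono p.toHom ∧ RepWith @QuasiCompact p.toHom := by
  refine ⟨FieldPt.ofPt g w, rfl, ?_, ?_⟩
  · rw [FieldPt.toHom_ofPt]
    exact @mono_comp _ _ _ _ _ _ (mono_residueField w) _ ‹Mono g›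
  · rw [FieldPt.toHom_ofPt]
    exact repWith_comp (repWith_quasiCompact_residueField w) hg

/-- A point of `P` lying in the image of a decent sheaf under a quasi-compact monomorphism is decent. -/
theorem exists_fieldPt_of_decent {F P : Sp S} (i : P ⟶ F) [Mono i]
    (hi : RepWith @QuasiCompact i) (hP : IsDecent P) (y : Points P) :
    ∃ p : FieldPt F, Points.mk p = Points.map i y ∧ Mono p.toHom ∧ RepWith @QuasiCompact p.toHom := by
  obtain ⟨p, hp, hm, hq⟩ := hP y
  refine ⟨p.map i, by rw [← Points.map_mk, hp], ?_, ?_⟩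
  · rw [FieldPt.toHom_map]; exact @mono_comp _ _ _ _ _ _ hm _ ‹Mono i›
  · rw [FieldPt.toHom_map]; exact repWith_comp hq hi

theorem mono_of_sq {X Y P Z : Sp S} {fst : P ⟶ X} {snd : P ⟶ Y} {f : X ⟶ Z} {g : Y ⟶ Z}
    (sq : IsPullback fst snd f g) [Mono g] : Mono fst :=
  MorphismProperty.of_isPullback (P := MorphismProperty.monomorphisms (Sp S)) sq.flip
    ‹Mono g›

/-- Composition of decent morphisms: the fibre of the composite. -/
theorem isDecent_of_isDecentMor {X Y : Sp S} (f : X ⟶ Y) (hf : IsDecentMor f) (hY : IsDecent Y) :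
    IsDecent X := by
  intro x
  obtain ⟨q, hq, hm, hqc⟩ := hY (Points.map f x)
  have sq := IsPullback.of_hasPullback f q.toHom
  have hdec := hf q.toHom _ _ sq
  obtain ⟨y, hy, -⟩ := exists_point_of_isPullback sq x (Points.ofScheme q.pt (IsLocalRing.closedPoint q.K))
    (by rw [← hq, ← Points.ofPt_toHom q (IsLocalRing.closedPoint q.K), Points.ofPt_eq_map_ofScheme])
  have := mono_of_sq sq
  exact hy ▸ exists_fieldPt_of_decent (pullback.fst f q.toHom)
    (repWith_of_isPullback sq.flip hqc) hdec y

end Groth.Agent.H13AlgSp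

namespace Groth.Agent.H13AlgSp

variable {S : Scheme.{u}}

theorem isDecentMor_of_isDecent {X Y : Sp S} (f : X ⟶ Y) (hY : Representable (Limits.diag Y))
    (hX : IsDecent X) : IsDecentMor f := by
  intro T F' g fst snd sq x'
  obtain ⟨p, hp, hm, hqc⟩ := hX (Points.map fst x')
  obtain ⟨W, b, a, hW⟩ := (Functor.relativelyRepresentable.of_diag hY g : Representable g) (p.toHom ≫ f)
  -- `hW : IsPullback a (yon b) g (p.toHom ≫ f)`
  have e : ((yon S).map b ≫ p.toHom) ≫ f = a ≫ g := by rw [Category.assoc]; exact hW.w.symm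
  let i := sq.lift ((yon S).map b ≫ p.toHom) a e
  have hi : IsPullback i ((yon S).map b) fst p.toHom :=
    IsPullback.of_right (by rw [sq.lift_snd]; exact hW) (sq.lift_fst _ _ e) sq.flip
  obtain ⟨w, hw, -⟩ := exists_point_of_isPullback hi x'
    (Points.ofScheme p.pt (IsLocalRing.closedPoint p.K))
    (by rw [← hp, ← Points.ofPt_toHom p (IsLocalRing.closedPoint p.K), Points.ofPt_eq_map_ofScheme])
  obtain ⟨w, rfl⟩ := (Points.schemeEquiv W).surjective w
  have := mono_of_sq hi
  rw [← hw]
  obtain ⟨q, hq, h1, h2⟩ := exists_fieldPt_of_mono_qc i (repWith_of_isPullback hi.flip hqc) w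
  exact ⟨q, hq.trans (Points.ofPt_eq_map_ofScheme i w), h1, h2⟩

theorem isDecent_of_isPullback {X Y Z P : Sp S} {f : X ⟶ Y} {g : Z ⟶ Y} {fst : P ⟶ X}
    {snd : P ⟶ Z} (sq : IsPullback fst snd f g) (hf : IsDecentMor f) (hZ : IsDecent Z) :
    IsDecent P := by
  refine isDecent_of_isDecentMor snd ?_ hZ
  intro T F' t fst' snd' sq'
  exact hf (t ≫ g) _ _ (sq'.paste_horiz sq)

theorem isDecentMor_comp {X Y Z : Sp S} (f : X ⟶ Y) (g : Y ⟶ Z) (hf : IsDecentMor f)
    (hg : IsDecentMor g) : IsDecentMor (f ≫ g) := by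
  intro T F' t fst snd sq
  have sq₂ := IsPullback.of_hasPullback g t
  have hY' := hg t _ _ sq₂
  let f' := sq₂.lift (fst ≫ f) snd (by rw [Category.assoc]; exact sq.w)
  have h1 : IsPullback fst f' f (pullback.fst g t) :=
    IsPullback.of_bot (by rw [sq₂.lift_snd]; exact sq) (sq₂.lift_fst _ _ _).symm sq₂
  exact isDecent_of_isPullback h1 hf hY'

/-- A morphism is decent as soon as its fibres over spectra of fields are decent. -/
theorem isDecentMor_of_fields {X Y : Sp S} (f : X ⟶ Y)
    (h : ∀ (Z : Over S) (g : (yon S).obj Z ⟶ Y) (P : Sp S) (fst : P ⟶ X)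
      (snd : P ⟶ (yon S).obj Z), IsAffine Z.left → IsPullback fst snd f g → IsDecent P) :
    IsDecentMor f := by
  intro T F' g fst snd sq x'
  obtain ⟨t, ht⟩ := (Points.schemeEquiv T).surjective (Points.map snd x')
  let Z : Over S := Over.mk (T.left.fromSpecResidueField t ≫ T.hom)
  let j : Z ⟶ T := Over.homMk (T.left.fromSpecResidueField t) rfl
  have sq' := IsPullback.of_hasPullback snd ((yon S).map j)
  have hP := h Z ((yon S).map j ≫ g) _ _ _ (by dsimp [Z]; infer_instance) (sq'.paste_horiz sq)
  obtain ⟨y, hy, -⟩ := exists_point_of_isPullback sq' x'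
    (Points.ofScheme Z (IsLocalRing.closedPoint (T.left.residueField t)))
    (by rw [← ht, ← Points.ofPt_eq_map_ofScheme, ← Category.comp_id ((yon S).map j), ofPt_map]
        exact congrArg (Points.ofScheme T) (Scheme.fromSpecResidueField_apply _ _).symm)
  have := mono_residueField t
  have : Mono ((yon S).map j) := this
  have := mono_of_sq sq'
  exact hy ▸ exists_fieldPt_of_decent (pullback.fst snd ((yon S).map j))
    (repWith_of_isPullback sq'.flip (repWith_quasiCompact_residueField t)) hP y

end Groth.Agent.H13AlgSp
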