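import Groth.Agent.H13AlgSp.RelRep
import Groth.Agent.H12AlgSp.Presentation
import Groth.Agent.H12AlgSp.PointsTop
import Groth.Agent.H12AlgSp.LQFScheme2
import Groth.Agent.H13AlgSp.Cover
import Groth.Agent.H13AlgSp.LocP
import Mathlib.RingTheory.Unramified.Finite
import Mathlib.RingTheory.LocalRing.Module
import Mathlib.RingTheory.RingHom.Etale
import Mathlib.AlgebraicGeometry.Morphisms.Etale
import Mathlib.AlgebraicGeometry.Morphisms.QuasiFinite

/-!
Algebraic spaces with a monomorphism to a discrete scheme are schemes.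
-/

universe u

open CategoryTheory CategoryTheory.Limits AlgebraicGeometry Opposite TensorProduct

namespace Groth.Agent.H13AlgSp

section Algebra

variable {A B C : Type u} [CommRing A] [CommRing B] [CommRing C] [Algebra A B] [Algebra B C]

/-- Etale algebras over a zero dimensional local ring are finite. -/
theorem finite_of_etale_of_subsingleton [IsLocalRing B] [Subsingleton (PrimeSpectrum B)]
    [Algebra.Etale B C] : Module.Finite B C := by
  let k := IsLocalRing.ResidueField B
  have hfin : Module.Finite k (k ⊗[B] C) := Algebra.FormallyUnramified.finite_of_free k (k ⊗[B] C)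
  have hk : Module.Finite B k := Module.Finite.of_surjective (Algebra.linearMap B k) Ideal.Quotient.mk_surjective
  have hB : Module.Finite B (k ⊗[B] C) := Module.Finite.trans k _
  have : Algebra.IsIntegral B C := ⟨fun x => by
    obtain ⟨P, hP, hx⟩ := Algebra.IsIntegral.isIntegral (R := B) ((1 : k) ⊗ₜ[B] x)
    rw [← Polynomial.aeval_def] at hx
    have hx' : (Algebra.TensorProduct.includeRight (R := B) (A := k)) (Polynomial.aeval x P) = 0 := by
      rw [← Polynomial.aeval_algHom_apply]
      exact hx
    have hn : IsNilpotent (Polynomial.aeval x P) := by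
      rw [← mem_nilradical, nilradical_eq_sInf, Submodule.mem_sInf]
      intro (q : Ideal C) hq
      have : q.IsPrime := hq
      have hm : IsLocalRing.maximalIdeal B ≤ q.comap (algebraMap B C) :=
        le_of_eq (congrArg PrimeSpectrum.asIdeal (Subsingleton.elim (IsLocalRing.closedPoint B)
          ⟨q.comap (algebraMap B C), inferInstance⟩))
      let f : k →ₐ[B] C ⧸ q :=
        { Ideal.Quotient.lift (IsLocalRing.maximalIdeal B) (algebraMap B (C ⧸ q)) (fun b hb =>
            Ideal.Quotient.eq_zero_iff_mem.mpr (hm hb)) with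
          commutes' := fun b => rfl }
      have := congrArg (Algebra.TensorProduct.lift f (Ideal.Quotient.mkₐ B q) fun _ _ => .all _ _) hx'
      rw [map_zero, Algebra.TensorProduct.includeRight_apply, Algebra.TensorProduct.lift_tmul, map_one,
        one_mul] at this
      exact Ideal.Quotient.eq_zero_iff_mem.mp this
    obtain ⟨n, hn⟩ := hn
    exact ⟨P ^ n, hP.pow n, by rw [← Polynomial.aeval_def, map_pow, hn]⟩⟩
  exact Algebra.IsIntegral.finite

/-- A local algebra whose tensor square is finite flat over it is finite free over a subalgebra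
equalizing the two maps to the tensor square. -/
theorem exists_equalizer_free [IsLocalRing B] [Module.FinitePresentation B (B ⊗[A] B)] [Module.Flat B (B ⊗[A] B)] :
    ∃ A' : Subalgebra A B, Module.Free A' B ∧ Module.Finite A' B ∧
      ∀ x ∈ A', x ⊗ₜ[A] (1 : B) = (1 : B) ⊗ₜ[A] x := by
  classical
  let v : B → B ⊗[A] B := fun y => (1 : B) ⊗ₜ[A] y
  have hv : Submodule.span B (Set.range v) = ⊤ := by
    refine eq_top_iff.mpr fun z _ => ?_
    induction z using TensorProduct.induction_on with
    | zero => exact Submodule.zero_mem _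
    | add a b ha hb => exact Submodule.add_mem _ (ha trivial) (hb trivial)
    | tmul x y =>
      rw [show x ⊗ₜ[A] y = x • v y by simp [v, TensorProduct.smul_tmul']]
      exact Submodule.smul_mem _ _ (Submodule.subset_span ⟨y, rfl⟩)
  obtain ⟨κ, e, b, hb⟩ := Module.exists_basis_of_span_of_flat v hv
  have hκ : Finite κ := Module.Finite.finite_basis b
  have := Fintype.ofFinite κ
  let A' : Subalgebra A B :=
    AlgHom.equalizer (Algebra.TensorProduct.includeLeft : B →ₐ[A] B ⊗[A] B) Algebra.TensorProduct.includeRight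
  have hA' : ∀ x, x ∈ A' ↔ x ⊗ₜ[A] (1 : B) = (1 : B) ⊗ₜ[A] x := fun x => Iff.rfl
  have hsum : ∀ y : B, (1 : B) ⊗ₜ[A] y = ∑ i, b.repr (v y) i ⊗ₜ[A] e i := fun y => by
    conv_lhs => rw [← show v y = (1 : B) ⊗ₜ[A] y from rfl, ← b.sum_repr (v y)]
    exact Finset.sum_congr rfl fun i _ => by rw [hb]; simp [v, TensorProduct.smul_tmul']
  have hcoe : ∀ y i, b.repr (v y) i ∈ A' := fun y i => by
    rw [hA']
    have h1 := congrArg (LinearMap.lTensor B (TensorProduct.mk A B B 1)) (hsum y)
    rw [map_sum] at h1
    simp only [LinearMap.lTensor_tmul, TensorProduct.mk_apply] at h1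
    have h2 := congrArg (LinearMap.lTensor B ((b.coord i).restrictScalars A)) h1
    rw [map_sum] at h2
    simp only [LinearMap.lTensor_tmul, LinearMap.coe_restrictScalars, Module.Basis.coord_apply] at h2
    rw [show (1 : B) ⊗ₜ[A] y = v y from rfl] at h2
    rw [h2, Finset.sum_eq_single i]
    · rw [show (1 : B) ⊗ₜ[A] e i = b i from (hb i).symm, b.repr_self, Finsupp.single_eq_same]
    · intro j _ hj
      rw [show (1 : B) ⊗ₜ[A] e j = b j from (hb j).symm, b.repr_self, Finsupp.single_eq_of_ne (Ne.symm hj)]
      exact TensorProduct.tmul_zero _ _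
    · intro h; exact absurd (Finset.mem_univ i) h
  have hspan : ⊤ ≤ Submodule.span A' (Set.range e) := fun y _ => by
    have h := congrArg (Algebra.TensorProduct.lmul' A (S := B)) (hsum y)
    rw [map_sum] at h
    simp only [Algebra.TensorProduct.lmul'_apply_tmul, one_mul] at h
    rw [h]
    refine Submodule.sum_mem _ fun i _ => ?_
    exact Submodule.smul_mem _ (⟨_, hcoe y i⟩ : A') (Submodule.subset_span ⟨i, rfl⟩)
  have hli : LinearIndependent A' e := by
    rw [Fintype.linearIndependent_iff]
    intro g hg i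
    have h0 : ∑ j, (g j : B) • b j = 0 := by
      rw [← show (1 : B) ⊗ₜ[A] (∑ j, g j • e j) = 0 by rw [hg, TensorProduct.tmul_zero],
        TensorProduct.tmul_sum]
      refine Finset.sum_congr rfl fun j _ => ?_
      rw [hb, Algebra.smul_def (g j) (e j)]
      calc (g j : B) • v (e j) = ((g j : B) ⊗ₜ[A] (1 : B)) * ((1 : B) ⊗ₜ[A] e j) := by
            simp [v, TensorProduct.smul_tmul']
        _ = ((1 : B) ⊗ₜ[A] (g j : B)) * ((1 : B) ⊗ₜ[A] e j) := by rw [(hA' _).mp (g j).2]
        _ = _ := by rw [Algebra.TensorProduct.tmul_mul_tmul, one_mul]; rfl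
    exact Subtype.ext (Fintype.linearIndependent_iff.mp b.linearIndependent _ h0 i)
  exact ⟨A', Module.Free.of_basis (Module.Basis.mk hli hspan),
    Module.Finite.of_basis (Module.Basis.mk hli hspan), fun x hx => (hA' x).mp hx⟩

end Algebra

open AlgSp Groth.Agent.H12AlgSp

variable {S : Scheme.{u}}

/-- A sheaf with a monomorphism to a scheme is that scheme quotient through which an atlas factors. -/
theorem nonempty_iso_of_factor {Q : Sp S} {T U Z : Over S} {q : Q ⟶ (yon S).obj T} [Mono q]
    {p : (yon S).obj U ⟶ Q} (hp : RepWith @Etale p) (hps : RepWith @Surjective p)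
    (f : U ⟶ T) (hf : (yon S).map f = p ≫ q) (π : U ⟶ Z) [Flat π.left] [LocallyOfFinitePresentation π.left]
    [Surjective π.left] (r : Z ⟶ T) (hr : π ≫ r = f)
    (h : pullback.fst f f ≫ π = pullback.snd f f ≫ π) : Nonempty ((yon S).obj Z ≅ Q) := by
  have sqf := (IsPullback.of_hasPullback f f).map (yon S)
  have sqp : IsPullback ((yon S).map (pullback.fst f f)) ((yon S).map (pullback.snd f f)) p p :=
    isPullback_of_comp_mono' q (by rw [← hf]; exact sqf)
  have sqπ : IsPullback (pullback.fst f f) (pullback.snd f f) π π :=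
    ⟨⟨h⟩, ⟨PullbackCone.IsLimit.mk _
      (fun s => pullback.lift s.fst s.snd (by rw [← hr, reassoc_of% s.condition]))
      (fun s => pullback.lift_fst _ _ _) (fun s => pullback.lift_snd _ _ _)
      fun s m h1 h2 => pullback.hom_ext (by rw [h1, pullback.lift_fst]) (by rw [h2, pullback.lift_snd])⟩⟩
  have := epi_of_etale_surjective hp hps
  have : Epi ((yon S).map π) := epi_of_local_lifts _ fun W y => by
    obtain ⟨g, rfl⟩ := (yon S).map_surjective y
    have sq := (IsPullback.of_hasPullback g π).map (Over.forget S)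
    have : Flat (pullback.fst g π).left := MorphismProperty.of_isPullback sq.flip (inferInstanceAs (Flat π.left))
    have : LocallyOfFinitePresentation (pullback.fst g π).left := MorphismProperty.of_isPullback sq.flip (inferInstanceAs (LocallyOfFinitePresentation π.left))
    have : Surjective (pullback.fst g π).left := MorphismProperty.of_isPullback sq.flip (inferInstanceAs (Surjective π.left))
    exact ⟨PUnit, fun _ => pullback g π, fun _ => pullback.fst g π,
      ofArrows_mem_J _ (fun _ => inferInstance) (fun _ => inferInstance)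
        (fun t => ⟨⟨⟩, (pullback.fst g π).left.surjective t⟩),
      fun _ => ⟨(yon S).map (pullback.snd g π), by
        rw [← Functor.map_comp, ← Functor.map_comp, pullback.condition]⟩⟩
  have : IsRegularEpi p := IsRegularEpiCategory.regularEpiOfEpi p
  have : IsRegularEpi ((yon S).map π) := IsRegularEpiCategory.regularEpiOfEpi _
  have c₁ := IsKernelPair.toCoequalizer' sqp
  have c₂ := IsKernelPair.toCoequalizer' (sqπ.map (yon S))
  exact ⟨c₂.coconePointUniqueUpToIso c₁⟩
where
  isPullback_of_comp_mono' {P X Y Z W : Sp S} {fst : P ⟶ X} {snd : P ⟶ Y} {f : X ⟶ Z} {g : Y ⟶ Z} (j : Z ⟶ W)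
      [Mono j] (sq : IsPullback fst snd (f ≫ j) (g ≫ j)) : IsPullback fst snd f g :=
    ⟨⟨(cancel_mono j).mp (by simpa using sq.w)⟩,
      ⟨PullbackCone.IsLimit.mk _ (fun s => sq.lift s.fst s.snd (by rw [reassoc_of% s.condition]))
        (fun s => sq.lift_fst _ _ _) (fun s => sq.lift_snd _ _ _)
        fun s m h1 h2 => sq.hom_ext (by simp [h1]) (by simp [h2])⟩⟩

/-- A one-point affine scheme with etale tensor square over an affine scheme has a finite locally free
quotient. -/
theorem exists_factor_of_etale_square {U T : Scheme.{u}} [IsAffine U] [IsAffine T] [Subsingleton U] [Nonempty U]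
    (f : U ⟶ T) (he : Etale (pullback.fst f f)) :
    ∃ (Z : Scheme.{u}) (π : U ⟶ Z) (r : Z ⟶ T), Flat π ∧ LocallyOfFinitePresentation π ∧ Surjective π ∧
      π ≫ r = f ∧ pullback.fst f f ≫ π = pullback.snd f f ≫ π := by
  let A := Γ(T, ⊤)
  let B := Γ(U, ⊤)
  algebraize [f.appTop.hom]
  have : Subsingleton (PrimeSpectrum B) :=
    (Scheme.homeoOfIso U.isoSpec).symm.injective.subsingleton
  have : Nontrivial B := PrimeSpectrum.nonempty_iff_nontrivial.mp
    (Nonempty.map (Scheme.homeoOfIso U.isoSpec) ‹_›)
  have : IsLocalRing B := by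
    obtain ⟨m, hm⟩ := Ideal.exists_maximal B
    exact IsLocalRing.of_unique_max_ideal ⟨m, hm, fun n hn =>
      congrArg PrimeSpectrum.asIdeal (Subsingleton.elim (⟨n, hn.isPrime⟩ : PrimeSpectrum B) ⟨m, hm.isPrime⟩)⟩
  let iL := CommRingCat.ofHom (Algebra.TensorProduct.includeLeftRingHom : B →+* B ⊗[A] B)
  let iR := CommRingCat.ofHom (Algebra.TensorProduct.includeRight.toRingHom : B →+* B ⊗[A] B)
  have hp := isPullback_SpecMap_of_isPushout _ _ _ _ (CommRingCat.isPushout_tensorProduct A B B)
  have hT : IsPullback (Spec.map iL ≫ U.isoSpec.inv) (Spec.map iR ≫ U.isoSpec.inv) f f :=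
    hp.of_iso (Iso.refl _) U.isoSpec.symm U.isoSpec.symm T.isoSpec.symm (by simp [iL]) (by simp [iR])
      (Scheme.isoSpec_inv_naturality f) (Scheme.isoSpec_inv_naturality f)
  let e := hT.isoPullback
  have he1 : e.hom ≫ pullback.fst f f = Spec.map iL ≫ U.isoSpec.inv := hT.isoPullback_hom_fst
  have he2 : e.hom ≫ pullback.snd f f = Spec.map iR ≫ U.isoSpec.inv := hT.isoPullback_hom_snd
  have heq : Spec.map iL = e.hom ≫ pullback.fst f f ≫ U.isoSpec.hom := by
    rw [reassoc_of% he1, Iso.inv_hom_id, Category.comp_id]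
  have : Etale (Spec.map iL) := heq ▸ inferInstance
  have : Algebra.Etale B (B ⊗[A] B) :=
    RingHom.etale_algebraMap.mp ((HasRingHomProperty.Spec_iff (P := @Etale)).mp this)
  have := finite_of_etale_of_subsingleton (B := B) (C := B ⊗[A] B)
  have : Module.FinitePresentation B (B ⊗[A] B) :=
    Module.FinitePresentation.of_finite_of_finitePresentation _ _
  obtain ⟨A', hfree, hfin, hA'⟩ := exists_equalizer_free (A := A) (B := B)
  let g := CommRingCat.ofHom (algebraMap A' B)
  let h := CommRingCat.ofHom (algebraMap A A')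
  have : Module.FinitePresentation A' B := Module.finitePresentation_of_projective _ _
  have : Algebra.FinitePresentation A' B := Algebra.FinitePresentation.of_finitePresentation _ _
  have hfl : Flat (Spec.map g) := Flat.SpecMap_iff.mpr (RingHom.flat_algebraMap_iff.2 inferInstance)
  have hlfp : LocallyOfFinitePresentation (Spec.map g) :=
    (HasRingHomProperty.Spec_iff (P := @LocallyOfFinitePresentation)).mpr (RingHom.finitePresentation_algebraMap.mpr ‹_›)
  have hsurj : Surjective (Spec.map g) := ⟨PrimeSpectrum.comap_surjective_of_faithfullyFlat (A := A') (B := B)⟩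
  refine ⟨Spec (CommRingCat.of A'), U.isoSpec.hom ≫ Spec.map g, Spec.map h ≫ T.isoSpec.inv, inferInstance,
    inferInstance, inferInstance, ?_, ?_⟩
  · rw [Category.assoc, ← Spec.map_comp_assoc, show h ≫ g = f.appTop from rfl,
      Scheme.isoSpec_inv_naturality, Iso.hom_inv_id_assoc]
  · rw [← cancel_epi e.hom, reassoc_of% he1, reassoc_of% he2]
    simp only [Iso.inv_hom_id_assoc]
    rw [← Spec.map_comp, ← Spec.map_comp]
    congr 1
    ext x
    exact hA' x.1 x.2

/-- An affine chart of a space mapping monomorphically to a scheme with one point is finite. -/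
theorem finite_of_etale_square {U T : Scheme.{u}} [IsAffine U] [IsAffine T] [Subsingleton T]
    (f : U ⟶ T) (he : Etale (pullback.fst f f)) : Finite U := by
  by_cases hU : IsEmpty U
  · exact inferInstance
  obtain ⟨a⟩ := not_isEmpty_iff.mp hU
  have := locallyQuasiFinite_of_etale' (pullback.fst f f)
  have hfin : (pullback.fst f f ⁻¹' {a}).Finite := Scheme.Hom.finite_preimage_singleton _ a
  refine Finite.of_finite_univ ((hfin.image (pullback.snd f f)).subset fun b _ => ?_)
  obtain ⟨z, hz1, hz2⟩ := Scheme.Pullback.exists_preimage_pullback (f := f) (g := f) a b (Subsingleton.elim _ _)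
  exact ⟨z, hz1, hz2⟩
where
  locallyQuasiFinite_of_etale' {A B : Scheme.{u}} (g : A ⟶ B) [Etale g] : LocallyQuasiFinite g :=
    Groth.Agent.H13AlgSp.locallyQuasiFinite_of_etale g

theorem isAffine_of_subsingleton (X : Scheme.{u}) [Subsingleton X] [Nonempty X] : IsAffine X := by
  obtain ⟨x⟩ := ‹Nonempty X›
  obtain ⟨A, hA, hxA, -⟩ := exists_isAffineOpen_mem_and_subset (U := (⊤ : X.Opens)) (x := x) trivial
  have : A = ⊤ := TopologicalSpace.Opens.ext (Set.eq_univ_of_forall fun y => Subsingleton.elim x y ▸ hxA)
  subst this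
  have : IsAffine (⊤ : X.Opens).toScheme := hA
  exact IsAffine.of_isIso X.topIso.inv

theorem etale_pullback_fst {Q : Sp S} {T U : Over S} {q : Q ⟶ (yon S).obj T} [Mono q]
    {p : (yon S).obj U ⟶ Q} (hp : RepWith @Etale p) (f : U ⟶ T) (hf : (yon S).map f = p ≫ q) :
    Etale (pullback.fst f.left f.left) := by
  have sqp : IsPullback ((yon S).map (pullback.fst f f)) ((yon S).map (pullback.snd f f)) p p :=
    nonempty_iso_of_factor.isPullback_of_comp_mono' q
      (by rw [← hf]; exact (IsPullback.of_hasPullback f f).map (yon S))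
  have : Etale (pullback.fst f f).left := hp.property p _ _ sqp.flip
  have sq : IsPullback (pullback.fst f f).left (pullback.snd f f).left f.left f.left :=
    (IsPullback.of_hasPullback f f).map (Over.forget S)
  rw [← sq.isoPullback_inv_fst]
  infer_instance

/-- An algebraic space with a monomorphism to an affine scheme with at most one point is a scheme. -/
theorem exists_iso_of_mono_point {Q : Sp S} (hQ : IsAlgSpace Q) {T : Over S} [IsAffine T.left]
    [Subsingleton T.left] (q : Q ⟶ (yon S).obj T) [Mono q] : ∃ Z : Over S, Nonempty ((yon S).obj Z ≅ Q) := by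
  obtain ⟨U, p, hp, hps⟩ := hQ.atlas
  obtain ⟨f, hf⟩ := (yon S).map_surjective (p ≫ q)
  by_cases hU : IsEmpty U.left
  · have : IsEmpty ↥(pullback f f).left := ⟨fun z => hU.false ((pullback.fst f f).left z)⟩
    have : Flat (𝟙 U : U ⟶ U).left := inferInstanceAs (Flat (𝟙 U.left))
    have : LocallyOfFinitePresentation (𝟙 U : U ⟶ U).left := inferInstanceAs (LocallyOfFinitePresentation (𝟙 U.left))
    have : Surjective (𝟙 U : U ⟶ U).left := inferInstanceAs (Surjective (𝟙 U.left))
    exact ⟨U, nonempty_iso_of_factor hp hps f hf (𝟙 U) f (Category.id_comp _)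
      (Over.OverMorphism.ext (isInitialOfIsEmpty.hom_ext _ _))⟩
  obtain ⟨u⟩ := not_isEmpty_iff.mp hU
  obtain ⟨A, hA, huA, -⟩ := exists_isAffineOpen_mem_and_subset (U := (⊤ : U.left.Opens)) (x := u) trivial
  have : IsAffine (openOver U A).left := hA
  have hpA : RepWith @Etale ((yon S).map (openIncl U A) ≫ p) :=
    MorphismProperty.comp_mem _ _ _ ((repWith_yon_map_iff _ _).2 (inferInstanceAs (Etale A.ι))) hp
  have hfA : (yon S).map (openIncl U A ≫ f) = ((yon S).map (openIncl U A) ≫ p) ≫ q := by
    rw [Functor.map_comp, hf, Category.assoc]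
  have : Finite (openOver U A).left := finite_of_etale_square _ (etale_pullback_fst hpA _ hfA)
  have : Nonempty (openOver U A).left := ⟨⟨u, huA⟩⟩
  obtain ⟨a, ha⟩ := exists_open_singleton_of_finite (X := (openOver U A).left)
  let O : (openOver U A).left.Opens := ⟨{a}, ha⟩
  let V := openOver (openOver U A) O
  have hVs : Subsingleton V.left := ⟨fun x y => Subtype.ext (x.2.trans y.2.symm)⟩
  have hVn : Nonempty V.left := ⟨⟨a, rfl⟩⟩
  have : IsAffine V.left := isAffine_of_subsingleton _
  let pV : (yon S).obj V ⟶ Q := (yon S).map (openIncl (openOver U A) O) ≫ (yon S).map (openIncl U A) ≫ p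
  have hpV : RepWith @Etale pV :=
    MorphismProperty.comp_mem _ _ _ ((repWith_yon_map_iff _ _).2 (inferInstanceAs (Etale O.ι))) hpA
  have : Subsingleton (Points ((yon S).obj T)) := (Points.schemeEquiv T).symm.subsingleton
  have : Subsingleton (Points Q) := (injective_map_of_mono q).subsingleton
  have hpVs : RepWith @Surjective pV := repWith_surjective_of_map (hQ.representable_from_yon pV)
    fun y => ⟨Points.ofScheme V ⟨a, rfl⟩, Subsingleton.elim _ _⟩
  let fV : V ⟶ T := openIncl (openOver U A) O ≫ openIncl U A ≫ f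
  have hfV : (yon S).map fV = pV ≫ q := by simp [fV, pV, hf]
  obtain ⟨Z, π, r, h₁, h₂, h₃, hr, h⟩ := exists_factor_of_etale_square fV.left (etale_pullback_fst hpV fV hfV)
  let ZO : Over S := Over.mk (r ≫ T.hom)
  let πO : V ⟶ ZO := Over.homMk π (by
    change π ≫ r ≫ T.hom = V.hom
    rw [← Category.assoc, hr, Over.w])
  have : Flat πO.left := h₁
  have : LocallyOfFinitePresentation πO.left := h₂
  have : Surjective πO.left := h₃
  refine ⟨ZO, nonempty_iso_of_factor hpV hpVs fV hfV πO (Over.homMk r rfl) (Over.OverMorphism.ext hr)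
    (Over.OverMorphism.ext ?_)⟩
  have sq : IsPullback (pullback.fst fV fV).left (pullback.snd fV fV).left fV.left fV.left :=
    (IsPullback.of_hasPullback fV fV).map (Over.forget S)
  change (pullback.fst fV fV).left ≫ π = (pullback.snd fV fV).left ≫ π
  have h1 := sq.isoPullback_hom_fst
  have h2 := sq.isoPullback_hom_snd
  refine (congrArg (· ≫ π) h1).symm.trans (Eq.trans ?_ (congrArg (· ≫ π) h2))
  simp only [Category.assoc, h]

/-- An algebraic space with a monomorphism to a discrete scheme is a scheme. -/
theorem isRepresentable_of_mono_discrete {Q : Sp S} (hQ : IsAlgSpace Q) {T : Over S} [DiscreteTopology T.left]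
    (q : Q ⟶ (yon S).obj T) [Mono q] : Q.obj.IsRepresentable := by
  have hB : TopologicalSpace.Opens.IsBasis {V : T.left.Opens | (V : Set T.left).Subsingleton} := by
    rw [TopologicalSpace.Opens.isBasis_iff_nbhd]
    exact fun {U x} hx => ⟨⟨{x}, isOpen_discrete _⟩, Set.subsingleton_singleton, rfl, fun y hy => hy ▸ hx⟩
  obtain ⟨W, γ, μ, hμ, -⟩ := exists_iso_of_local_rep' q hB fun ⟨V, hV⟩ => by
    let g := (yon S).map (openIncl T V)
    have hP : IsAlgSpace (pullback q g) :=
      isAlgSpace_pullback (IsAlgSpace.yon_obj T).diag hQ (IsAlgSpace.yon_obj _) q g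
    have : Subsingleton (openOver T V).left := ⟨fun x y => Subtype.ext (hV x.2 y.2)⟩
    have : IsAffine (openOver T V).left := by
      cases isEmpty_or_nonempty (openOver T V).left
      · exact inferInstance
      · exact isAffine_of_subsingleton _
    obtain ⟨W, ⟨μ⟩⟩ := exists_iso_of_mono_point hP (pullback.snd q g)
    obtain ⟨i, hi⟩ := (yon S).map_surjective (μ.hom ≫ pullback.snd q g)
    exact ⟨W, i, μ.hom ≫ pullback.fst q g, (IsPullback.of_hasPullback q g).of_iso μ.symm (Iso.refl _) (Iso.refl _)
      (Iso.refl _) (by simp) (by simp [hi]) (by simp) (by simp [g])⟩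
  exact (representableByOfIso (asIso μ)).isRepresentable

end Groth.Agent.H13AlgSp
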