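import Groth.Agent.H13AlgSp.DecentPoint
import Groth.Agent.H13AlgSp.Decent
import Groth.Agent.H12AlgSp.QC
import Groth.Agent.H12AlgSp.LocP
import Groth.Agent.H13AlgSp.LocPDescent
import Groth.Agent.H13AlgSp.MonoDiscrete
import Groth.Agent.H13AlgSp.EtaleLocally
import Mathlib.AlgebraicGeometry.AlgClosed.Basic

/-!
Criteria for decency: finiteness of geometric fibres of affine etale charts.
-/

universe u

open CategoryTheory CategoryTheory.Limits AlgebraicGeometry Opposite MorphismProperty
open AlgSp Groth.Agent.H12AlgSp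

namespace Groth.Agent.H13AlgSp

noncomputable section

variable {S : Scheme.{u}}

/-- A monomorphism from a nonempty scheme to the spectrum of a field is an isomorphism. -/
theorem isIso_of_mono_nonempty {W : Scheme.{u}} {K : Type u} [Field K]
    (w : W ⟶ Spec (CommRingCat.of K)) [Mono w] [Nonempty W] : IsIso w := by
  let z : W := Classical.arbitrary W
  let m : Spec (W.residueField z) ⟶ Spec (CommRingCat.of K) := W.fromSpecResidueField z ≫ w
  have : Mono m := mono_comp _ _
  have : IsIso m := by
    have := flat_to_field m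
    change isomorphisms Scheme.{u} m
    refine of_finite_affine_fpqc (P := isomorphisms Scheme.{u}) m (m := 1) (fun _ => m)
      (fun b => ?_) fun _ => ?_
    · exact ⟨0, IsLocalRing.closedPoint (W.residueField z),
        @Subsingleton.elim (Spec (CommRingCat.of K)) inferInstance _ _⟩
    · exact inferInstanceAs (IsIso (pullback.snd m m))
  have : IsSplitEpi w := ⟨⟨⟨inv m ≫ W.fromSpecResidueField z, by
    rw [Category.assoc]; exact IsIso.inv_hom_id m⟩⟩⟩
  exact isIso_of_mono_of_isSplitEpi w

theorem discreteTopology_of_lqf_to_field {κ : Type u} [Field κ] {W : Scheme.{u}}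
    (w : W ⟶ Spec (CommRingCat.of κ)) [LocallyQuasiFinite w] : DiscreteTopology W := by
  have : Subsingleton (Spec (CommRingCat.of κ)) := inferInstance
  have h := w.isDiscrete_preimage_singleton (IsLocalRing.closedPoint κ)
  have he : (fun x => w x) ⁻¹' {IsLocalRing.closedPoint κ} = Set.univ :=
    Set.eq_univ_of_forall fun x => @Subsingleton.elim (Spec (CommRingCat.of κ)) inferInstance _ _
  exact isDiscrete_univ_iff.mp (he ▸ h)

/-- A monomorphism into a scheme etale over a field is an open immersion. -/
theorem isOpenImmersion_of_mono_etale_field {κ : Type u} [Field κ] {P W : Scheme.{u}} (j : P ⟶ W) [Mono j]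
    (w : W ⟶ Spec (CommRingCat.of κ)) [Etale w] : IsOpenImmersion j := by
  have : LocallyQuasiFinite w := lqf_of_etale w
  have : DiscreteTopology W := discreteTopology_of_lqf_to_field w
  have : IsReduced W := isReduced_of_smooth_mor w
  let Z : W → W.Opens := fun z => ⟨{z}, isOpen_discrete _⟩
  refine IsZariskiLocalAtTarget.of_iSup_eq_top (P := @IsOpenImmersion) Z
    (eq_top_iff.2 fun z _ => TopologicalSpace.Opens.mem_iSup.2 ⟨z, rfl⟩) fun z => ?_
  have : Mono (j ∣_ Z z) := MorphismProperty.of_isPullback
    (P := monomorphisms Scheme.{u}) (isPullback_morphismRestrict j (Z z)).flip ‹Mono j›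
  rcases isEmpty_or_nonempty (j ⁻¹ᵁ Z z).toScheme with he | hne
  · infer_instance
  have : Subsingleton (Z z).toScheme := ⟨fun a b => Subtype.ext (a.2.trans b.2.symm)⟩
  have : Nonempty (Z z).toScheme := ⟨⟨z, rfl⟩⟩
  have : IsAffine (Z z).toScheme := isAffine_of_subsingleton _
  have hf : IsField Γ((Z z).toScheme, ⊤) := by
    have : Nonempty (⊤ : (Z z).toScheme.Opens) := ⟨⟨⟨z, rfl⟩, trivial⟩⟩
    have : Nontrivial Γ((Z z).toScheme, ⊤) := Scheme.component_nontrivial _ _
    have : Subsingleton (PrimeSpectrum Γ((Z z).toScheme, ⊤)) :=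
      (Z z).toScheme.isoSpec.hom.homeomorph.symm.injective.subsingleton
    exact PrimeSpectrum.subsingleton_iff_isField_of_isReduced.1 this
  let _ := hf.toField
  let m : (j ⁻¹ᵁ Z z).toScheme ⟶ Spec (CommRingCat.of Γ((Z z).toScheme, ⊤)) :=
    (j ∣_ Z z) ≫ (Z z).toScheme.isoSpec.hom
  have : Mono m := mono_comp _ _
  have : IsIso m := isIso_of_mono_nonempty m
  have : IsIso (j ∣_ Z z) := IsIso.of_isIso_comp_right _ (Z z).toScheme.isoSpec.hom
  infer_instance

/-- A monomorphism into a scheme finite etale over a field is an open and closed immersion. -/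
theorem isClosedImmersion_of_mono_finite_etale {κ : Type u} [Field κ] {P W : Scheme.{u}} (j : P ⟶ W) [Mono j]
    (w : W ⟶ Spec (CommRingCat.of κ)) [IsFinite w] [Etale w] : IsClosedImmersion j ∧ IsOpenImmersion j := by
  have : LocallyQuasiFinite w := lqf_of_etale w
  have : DiscreteTopology W := discreteTopology_of_lqf_to_field w
  have : IsOpenImmersion j := isOpenImmersion_of_mono_etale_field j w
  exact ⟨IsClosedImmersion.of_isPreimmersion j (isClosed_discrete _), this⟩

/-- A base change along a monomorphism of a finite etale scheme over a field is finite etale. -/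
theorem finite_etale_of_mono {κ : Type u} [Field κ] {P W : Scheme.{u}} (j : P ⟶ W) [Mono j]
    (w : W ⟶ Spec (CommRingCat.of κ)) [IsFinite w] [Etale w] : IsFinite (j ≫ w) ∧ Etale (j ≫ w) := by
  obtain ⟨hc, ho⟩ := isClosedImmersion_of_mono_finite_etale j w
  exact ⟨inferInstance, inferInstance⟩

/-- An etale scheme over a field with finitely many points is finite over it. -/
theorem isFinite_of_finite_etale {κ : Type u} [Field κ] {W : Scheme.{u}} (w : W ⟶ Spec (CommRingCat.of κ))
    [Etale w] [Finite W] : IsFinite w := by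
  have : LocallyQuasiFinite w := lqf_of_etale w
  have : DiscreteTopology W := discreteTopology_of_lqf_to_field w
  have : IsAffine W := inferInstance
  obtain ⟨β, hβ⟩ := Spec.map_surjective (W.isoSpec.inv ≫ w)
  have e : w = W.isoSpec.hom ≫ Spec.map β := by rw [hβ, Iso.hom_inv_id_assoc]
  let _ : Algebra κ Γ(W, ⊤) := β.hom.toAlgebra
  have : Etale (Spec.map β) := hβ ▸ inferInstance
  have : Algebra.Etale κ Γ(W, ⊤) := RingHom.etale_algebraMap.1 ((HasRingHomProperty.Spec_iff (P := @Etale)).1 this)
  have hfin : Module.Finite κ Γ(W, ⊤) := Algebra.FormallyUnramified.finite_of_free κ _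
  have : IsFinite (Spec.map β) := (IsFinite.SpecMap_iff β).2 (RingHom.finite_algebraMap.2 hfin)
  rw [e]
  infer_instance

/-- Geometric fibres of an etale chart: finitely many points iff finitely many geometric points. -/
theorem finite_geometric_iff {X : Sp S} {V W : Over S} {b : (yon S).obj V ⟶ X} {K : Type u} [Field K]
    [IsAlgClosed K] {str : Spec (CommRingCat.of K) ⟶ S} {p : (yon S).obj (Over.mk str) ⟶ X}
    {f : W ⟶ V} {w : W ⟶ Over.mk str} (sq : IsPullback ((yon S).map f) ((yon S).map w) b p)
    [Etale w.left] :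
    {e : Over.mk str ⟶ V | (yon S).map e ≫ b = p}.Finite ↔ Finite W.left := by
  let wK : W.left ⟶ Spec (CommRingCat.of K) := w.left
  have : Etale wK := ‹_›
  have : LocallyQuasiFinite wK := lqf_of_etale wK
  have : DiscreteTopology W.left := discreteTopology_of_lqf_to_field wK
  have hcl : closedPoints W.left = Set.univ := Set.eq_univ_of_forall fun x => isClosed_discrete _
  let toE : {l : Spec (CommRingCat.of K) ⟶ W.left // l ≫ wK = 𝟙 _} →
      {e : Over.mk str ⟶ V // (yon S).map e ≫ b = p} := fun l =>
    let lo : Over.mk str ⟶ W := Over.homMk l.1 (by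
      change l.1 ≫ W.hom = str
      rw [← Over.w w]; change l.1 ≫ wK ≫ str = str
      rw [reassoc_of% l.2])
    ⟨lo ≫ f, by
      have hlo : lo ≫ w = 𝟙 _ := Over.OverMorphism.ext l.2
      rw [Functor.map_comp, Category.assoc, sq.w, ← Functor.map_comp_assoc, hlo,
        CategoryTheory.Functor.map_id, Category.id_comp]⟩
  have hbij : Function.Bijective toE := by
    refine ⟨fun l l' h => ?_, fun e => ?_⟩
    · have h1 := congrArg (fun t => (yon S).map t) (congrArg Subtype.val h)
      simp only [toE, Functor.map_comp] at h1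
      have h2 := sq.hom_ext h1 (by
        rw [← Functor.map_comp, ← Functor.map_comp]
        exact congrArg _ (Over.OverMorphism.ext (l.2.trans l'.2.symm)))
      exact Subtype.ext (congrArg (fun t => Over.Hom.left t) ((yon S).map_injective h2))
    · obtain ⟨lo, hlo⟩ := (yon S).map_surjective (sq.lift ((yon S).map e.1) (𝟙 _)
        (e.2.trans (Category.id_comp p).symm))
      have h1 : lo ≫ f = e.1 := (yon S).map_injective (by rw [Functor.map_comp, hlo, sq.lift_fst])
      have h2 : lo ≫ w = 𝟙 _ := (yon S).map_injective (by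
        rw [Functor.map_comp, hlo, sq.lift_snd, CategoryTheory.Functor.map_id])
      exact ⟨⟨lo.left, congrArg (fun t => Over.Hom.left t) h2⟩, Subtype.ext h1⟩
  rw [← Set.finite_coe_iff]
  change Finite {e : Over.mk str ⟶ V // (yon S).map e ≫ b = p} ↔ _
  rw [← (Equiv.ofBijective toE hbij).finite_iff, (pointEquivClosedPoint wK).finite_iff]
  change Finite ↥(closedPoints W.left) ↔ _
  rw [hcl]
  exact (Equiv.Set.univ _).finite_iff

/-- A field-valued point whose base changes to affine etale charts are finite is quasi-compact. -/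
theorem repWith_qc_of_finite_charts {X : Sp S} (hX : IsAlgSpace X) {κ : Type u} [Field κ]
    {str : Spec (CommRingCat.of κ) ⟶ S} (q : (yon S).obj (Over.mk str) ⟶ X)
    (h : ∀ (V : Over S) (b : (yon S).obj V ⟶ X), IsAffine V.left → RepWith @Etale b →
      ∀ (W : Over S) (fst : (yon S).obj W ⟶ (yon S).obj V) (w : W ⟶ Over.mk str),
        IsPullback fst ((yon S).map w) b q → Finite W.left) :
    RepWith @QuasiCompact q := by
  have hq : Representable q := hX.representable_from_yon q
  obtain ⟨U, a, ha, has⟩ := hX.atlas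
  obtain ⟨Z, v, k, sq⟩ := hq a
  have hv : QuasiCompact v.left := by
    rw [quasiCompact_iff_forall_isAffineOpen]
    intro O hO
    let V : Over S := Over.mk (O.ι ≫ U.hom)
    let j : V ⟶ U := Over.homMk O.ι
    have : Etale j.left := inferInstanceAs (Etale O.ι)
    have sqO := IsPullback.of_hasPullback v j
    have := h V ((yon S).map j ≫ a) hO (MorphismProperty.comp_mem _ _ _ ((repWith_yon_map_iff _ _).2 ‹_›) ha)
      _ ((yon S).map (pullback.snd v j)) (pullback.fst v j ≫ (Classical.choose ((yon S).map_surjective k)))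
      (by
        rw [Functor.map_comp, Classical.choose_spec ((yon S).map_surjective k)]
        exact ((sqO.map (yon S)).paste_horiz sq).flip)
    have hr : Set.range (pullback.fst v j).left = v.left ⁻¹ᵁ O := by
      have sq' := sqO.map (Over.forget S)
      change Set.range ((Over.forget S).map (pullback.fst v j)) = v.left ⁻¹' (O : Set _)
      rw [← sq'.isoPullback_hom_fst, Scheme.Hom.comp_base, TopCat.coe_comp,
        sq'.isoPullback.hom.surjective.range_comp, Scheme.Pullback.range_fst]
      change _ ⁻¹' Set.range O.ι = _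
      rw [O.range_ι]
      rfl
    rw [← hr]
    exact (Set.finite_range _).isCompact
  exact repWith_quasiCompact_of_mor hq (isQuasiCompactMor_of_etale_cover (IsAlgSpace.yon_obj _) hX
    (IsAlgSpace.yon_obj U) sq (isEtaleMor_of_locP_etale hX (locP_of_repWith etLocal_etale ha))
    (surjective_map_of_repWith le_rfl has)
    (isQuasiCompactMor_of_repWith (IsAlgSpace.yon_obj _) (IsAlgSpace.yon_obj _)
      ((repWith_yon_map_iff _ _).2 hv)))

/-- Quasi-compactness of a field-valued point descends along field extensions. -/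
theorem repWith_qc_of_precomp {X : Sp S} (hX : IsAlgSpace X) {κ : Type u} [Field κ]
    {str : Spec (CommRingCat.of κ) ⟶ S} (q : (yon S).obj (Over.mk str) ⟶ X) {T : Over S} [Nonempty T.left]
    (c : T ⟶ Over.mk str) (h : RepWith @QuasiCompact ((yon S).map c ≫ q)) : RepWith @QuasiCompact q := by
  have : Subsingleton (Over.mk str).left := inferInstanceAs (Subsingleton (Spec (CommRingCat.of κ)))
  have : Subsingleton (Points ((yon S).obj (Over.mk str))) := (Points.schemeEquiv _).symm.subsingleton
  exact repWith_quasiCompact_of_mor (hX.representable_from_yon q)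
    (isQuasiCompactMor_of_surjective_triangle (IsAlgSpace.yon_obj _) (IsAlgSpace.yon_obj _) hX
      (fun y => ⟨Points.ofScheme T (Classical.arbitrary _), Subsingleton.elim _ _⟩)
      (isQuasiCompactMor_of_repWith (IsAlgSpace.yon_obj _) hX h))

/-- The residue point of a point of a chart. -/
def chartPt {F : Sp S} {U : Over S} (a : (yon S).obj U ⟶ F) (u : U.left) :
    (yon S).obj (Over.mk (U.left.fromSpecResidueField u ≫ U.hom)) ⟶ F :=
  (yon S).map (Over.homMk (U.left.fromSpecResidueField u) rfl) ≫ a

theorem toHom_ofPt_chartPt {F : Sp S} {U : Over S} (a : (yon S).obj U ⟶ F) (u : U.left) :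
    (FieldPt.ofPt a u).toHom = chartPt a u := FieldPt.toHom_ofPt a u

/-- A point with a quasi-compact representative is decent. -/
theorem exists_mono_qc_of_qc {X : Sp S} (hX : IsAlgSpace X) (p : FieldPt X)
    (hp : RepWith @QuasiCompact p.toHom) :
    ∃ q : FieldPt X, Points.mk q = Points.mk p ∧ Mono q.toHom ∧ RepWith @QuasiCompact q.toHom := by
  obtain ⟨U₀, a₀, ha₀, has₀⟩ := hX.atlas
  obtain ⟨u₀, hu₀⟩ := surjective_ofPt_of_repWith le_rfl has₀ (Points.mk p)
  obtain ⟨O, hO, hu, -⟩ := exists_isAffineOpen_mem_and_subset (U := (⊤ : U₀.left.Opens)) (x := u₀) trivial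
  let U : Over S := Over.mk (O.ι ≫ U₀.hom)
  have : IsAffine U.left := hO
  let jO : U ⟶ U₀ := Over.homMk O.ι
  have : Etale jO.left := inferInstanceAs (Etale O.ι)
  let a : (yon S).obj U ⟶ X := (yon S).map jO ≫ a₀
  have ha : RepWith @Etale a := MorphismProperty.comp_mem _ _ _ ((repWith_yon_map_iff _ _).2 ‹_›) ha₀
  let u : U.left := ⟨u₀, hu⟩
  have hux : Points.ofPt a u = Points.mk p := (ofPt_map jO a₀ u).trans hu₀
  let κ := U.left.residueField u
  let str : Spec (CommRingCat.of κ) ⟶ S := U.left.fromSpecResidueField u ≫ U.hom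
  let jm : Over.mk str ⟶ U := Over.homMk (U.left.fromSpecResidueField u) rfl
  let q : (yon S).obj (Over.mk str) ⟶ X := (yon S).map jm ≫ a
  have hq : RepWith @QuasiCompact q := by
    have hrel : FieldPt.Rel (FieldPt.ofPt a u) p := Points.mk_eq_mk_iff.1 hux
    obtain ⟨L, _, wL, c₁, c₂, hc⟩ := rel_iff_toHom.1 hrel
    rw [toHom_ofPt_chartPt] at hc
    have : Nonempty (Over.mk wL).left := inferInstanceAs (Nonempty (Spec (CommRingCat.of L)))
    refine repWith_qc_of_precomp hX q (T := Over.mk wL) c₁ ?_
    change RepWith _ ((yon S).map c₁ ≫ chartPt a u)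
    rw [hc]
    refine repWith_comp ((repWith_yon_map_iff _ _).2 ?_) hp
    exact @quasiCompact_of_finite_source _ _ c₂.left (inferInstanceAs (Finite (Spec (CommRingCat.of L))))
  obtain ⟨W, w, fW, sqW⟩ := ha.1 q
  obtain ⟨f, rfl⟩ := (yon S).map_surjective fW
  have hwe : Etale w.left := ha.2 _ _ _ sqW
  have : CompactSpace W.left := by
    have : QuasiCompact f.left := hq.2 _ _ _ sqW.flip
    exact QuasiCompact.compactSpace_of_compactSpace f.left
  have : LocallyQuasiFinite w.left := lqf_of_etale w.left
  have : DiscreteTopology W.left :=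
    discreteTopology_of_lqf_to_field (w.left : W.left ⟶ Spec (CommRingCat.of κ))
  have : Finite W.left := finite_of_compact_of_discrete
  have hwf : IsFinite w.left := @isFinite_of_finite_etale _ _ _ (w.left : W.left ⟶ Spec (CommRingCat.of κ)) hwe this
  have sqPo := IsPullback.of_hasPullback f jm
  have : Mono (pullback.fst f jm).left := MorphismProperty.of_isPullback
    (P := monomorphisms Scheme.{u}) (sqPo.map (Over.forget S)).flip
    (inferInstanceAs (Mono (U.left.fromSpecResidueField u)))
  obtain ⟨h1, h2⟩ := @finite_etale_of_mono κ _ _ _ (pullback.fst f jm).left this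
    (w.left : W.left ⟶ Spec (CommRingCat.of κ)) hwf hwe
  have big := (((sqPo.map (yon S)).paste_horiz sqW.flip)).flip
  rw [← Functor.map_comp] at big
  have : IsFinite (pullback.fst f jm ≫ w).left := h1
  have : Etale (pullback.fst f jm ≫ w).left := h2
  obtain ⟨k, _, str', c, g, hcs, hg, hgm⟩ := exists_mono_of_finite_etale_self hX q big
  have : Nonempty (Over.mk str).left := inferInstanceAs (Nonempty (Spec (CommRingCat.of κ)))
  refine ⟨fieldPtOfHom g, ?_, by rw [toHom_fieldPtOfHom]; exact hgm,
    by rw [toHom_fieldPtOfHom]; exact repWith_qc_of_precomp hX g c (hg ▸ hq)⟩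
  rw [← hux]
  have h3 : Points.ofPt q (IsLocalRing.closedPoint κ) = Points.ofPt a u := by
    rw [ofPt_map]; exact congrArg (Points.ofPt a) (Scheme.fromSpecResidueField_apply _ _)
  rw [← h3, ← hg, ofPt_map, ← Points.ofPt_toHom (fieldPtOfHom g) (c.left (IsLocalRing.closedPoint κ)),
    toHom_fieldPtOfHom]
  rfl

/-- An algebraic space all of whose affine etale charts have finite geometric fibres is decent. -/
theorem isDecent_of_finite_geometric {X : Sp S} (hX : IsAlgSpace X)
    (h : ∀ (V : Over S) (b : (yon S).obj V ⟶ X), IsAffine V.left → RepWith @Etale b →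
      ∀ (K : Type u) (_ : Field K) (_ : IsAlgClosed K) (str : Spec (CommRingCat.of K) ⟶ S)
        (p : (yon S).obj (Over.mk str) ⟶ X), {e : Over.mk str ⟶ V | (yon S).map e ≫ b = p}.Finite) :
    IsDecent X := by
  intro x
  obtain ⟨U, a, ha, has⟩ := hX.atlas
  obtain ⟨u, rfl⟩ := surjective_ofPt_of_repWith le_rfl has x
  suffices hq : RepWith @QuasiCompact (FieldPt.ofPt a u).toHom by
    exact exists_mono_qc_of_qc hX (FieldPt.ofPt a u) hq
  rw [toHom_ofPt_chartPt]
  refine repWith_qc_of_finite_charts hX _ fun V b hV hb W fst w sq => ?_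
  obtain ⟨f, rfl⟩ := (yon S).map_surjective fst
  let Ω := AlgebraicClosure (U.left.residueField u)
  let g := geomMap (κ := ↑(U.left.residueField u)) (Ω := Ω) (U.left.fromSpecResidueField u ≫ U.hom)
  have sq' := IsPullback.of_hasPullback w g
  have big := (sq'.map (yon S)).paste_horiz sq
  rw [← Functor.map_comp] at big
  have : Etale (pullback.snd w g).left :=
    MorphismProperty.of_isPullback (P := @Etale) (sq'.map (Over.forget S)) (hb.2 _ _ _ sq)
  have hfin := (finite_geometric_iff big).1 (h V b hV hb Ω inferInstance inferInstance _ _)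
  have : Surjective g.left := ⟨fun y => ⟨IsLocalRing.closedPoint Ω,
    @Subsingleton.elim (Spec (CommRingCat.of (U.left.residueField u))) inferInstance _ y⟩⟩
  have : Surjective (pullback.fst w g).left :=
    MorphismProperty.of_isPullback (P := @Surjective) (sq'.map (Over.forget S)).flip ‹_›
  exact Finite.of_surjective _ (pullback.fst w g).left.surjective

end

end Groth.Agent.H13AlgSp
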