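import Groth.Agent.H13AlgSp.Sober
import Groth.Agent.H12AlgSp.DecentTop
import Groth.Agent.H12AlgSp.Codim

/-!
Generic points and codimension on decent spaces.
-/

universe u

open CategoryTheory CategoryTheory.Limits AlgebraicGeometry Opposite Topology
open AlgSp Groth.Agent.H12AlgSp

namespace Groth.Agent.H13AlgSp

theorem isGenericPoint_component_iff {α : Type*} [TopologicalSpace α] [QuasiSober α] (x : α) :
    (∃ T ∈ irreducibleComponents α, IsGenericPoint x T) ↔ ∀ y, y ⤳ x → x ⤳ y := by
  constructor
  · rintro ⟨T, hT, hx⟩ y hy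
    refine specializes_iff_mem_closure.2 (hx.def.symm ▸ ?_)
    refine hT.2 isIrreducible_singleton.closure (fun z hz => ?_) (subset_closure rfl)
    exact (hy.trans (hx.specializes hz)).mem_closure
  · intro h
    refine ⟨closure {x}, ⟨isIrreducible_singleton.closure, fun Z hZ hle z hz => ?_⟩, rfl⟩
    obtain ⟨y, hy⟩ := QuasiSober.sober hZ.closure isClosed_closure
    have hxy : y ⤳ x := hy.specializes (subset_closure (hle (subset_closure rfl)))
    exact ((h y hxy).trans (hy.specializes (subset_closure hz))).mem_closure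

/-- Coheight of irreducible closed subsets along a map lifting generizations with discrete fibres. -/
theorem coheight_irreducibleCloseds_eq {U P : Type*} [TopologicalSpace U] [TopologicalSpace P] [Preorder U]
    [QuasiSober P] [T0Space P] (hle : ∀ a b : U, a ≤ b ↔ b ⤳ a) {f : U → P} (hf : Continuous f)
    (hgen : GeneralizingMap f) (hinj : ∀ a b : U, b ⤳ a → f a = f b → a = b) {u : U}
    (T : TopologicalSpace.IrreducibleCloseds P) (hT : IsGenericPoint (f u) (T : Set P)) :
    Order.coheight T = Order.coheight u := by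
  let g : U → TopologicalSpace.IrreducibleCloseds P := fun a =>
    ⟨closure {f a}, isIrreducible_singleton.closure, isClosed_closure⟩
  have hTu : T = g u := TopologicalSpace.IrreducibleCloseds.ext hT.def.symm
  have hmono : StrictMono g := fun a b hab => by
    have hba : b ⤳ a := (hle a b).1 hab.le
    refine lt_of_le_of_ne (fun z hz => ((hba.map hf).trans (specializes_iff_mem_closure.2 hz)).mem_closure) fun e => ?_
    refine hab.ne (hinj a b hba ?_)
    have e' : closure {f a} = closure {f b} := congrArg (fun Z : TopologicalSpace.IrreducibleCloseds P => (Z : Set P)) e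
    exact (inseparable_iff_closure_eq.2 e').eq
  subst hTu
  refine le_antisymm ?_ (Order.coheight_le_coheight_apply_of_strictMono g hmono u)
  rw [Order.coheight_eq_iSup_head_eq (g u)]
  refine iSup₂_le fun p hp => ?_
  suffices ∃ q : LTSeries U, q.length = p.length ∧ q.head = u ∧ g q.last = p.last by
    obtain ⟨q, hq, hh, -⟩ := this
    rw [← hq]
    exact Order.length_le_coheight hh.ge
  clear hT
  induction p using RelSeries.inductionOn' with
  | singleton y => exact ⟨RelSeries.singleton _ u, rfl, rfl, by simpa using hp.symm⟩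
  | snoc p Z hZ ih =>
    rw [RelSeries.head_snoc] at hp
    obtain ⟨q, hq, hh, hlast⟩ := ih hp
    have hlt : p.last < Z := hZ
    obtain ⟨z, hz⟩ := QuasiSober.sober Z.isIrreducible Z.isClosed
    obtain ⟨b, hb, hbz⟩ := hgen (a := q.last) (b := z)
      (hz.specializes (hlt.le (hlast ▸ subset_closure rfl : f q.last ∈ (p.last : Set P))))
    have hgb : g b = Z := TopologicalSpace.IrreducibleCloseds.ext (by rw [← hz.def, ← hbz]; rfl)
    have hqb : q.last < b := lt_of_le_not_ge ((hle _ _).2 hb) fun e => hlt.not_ge (by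
      rw [← hlast, ← hgb]
      exact fun w hw => (Specializes.trans (((hle _ _).1 e).map hf) (specializes_iff_mem_closure.2 hw)).mem_closure)
    refine ⟨q.snoc b hqb, by simp [hq], by rw [RelSeries.head_snoc, hh], ?_⟩
    rw [RelSeries.last_snoc, RelSeries.last_snoc, hgb]

variable {S : Scheme.{u}}

/-- On a decent space all points have finite fibres on affine etale charts. -/
theorem finite_fibre_of_isDecent {X : Sp S} (hd : IsDecent X) (z : Points X) (V : Over S)
    (b : (yon S).obj V ⟶ X) (hV : IsAffine V.left) (hb : RepWith @Etale b) :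
    (Points.ofPt b ⁻¹' {z}).Finite := by
  obtain ⟨p, rfl, -, hqc⟩ := hd z
  exact @finite_fibre_affine _ _ p hqc _ hV _ hb

theorem generalizingMap_chart {X : Sp S} (hd : IsDecent X) {U : Over S} {a : (yon S).obj U ⟶ X}
    (ha : RepWith @Etale a) : GeneralizingMap (Points.ofPt a) := fun {u x'} h =>
  exists_lift_generization (finite_fibre_of_isDecent hd x') ha u h

theorem eq_of_specializes_chart {X : Sp S} (hd : IsDecent X) {U : Over S} {a : (yon S).obj U ⟶ X}
    (ha : RepWith @Etale a) {u u' : U.left} (hs : u' ⤳ u) (he : Points.ofPt a u = Points.ofPt a u') :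
    u = u' :=
  eq_of_specializes_of_finite (finite_fibre_of_isDecent hd _) ha rfl he.symm hs

theorem coheight_chart {X : Sp S} (hX : IsAlgSpace X) (hd : IsDecent X) {U : Over S} {a : (yon S).obj U ⟶ X}
    (ha : RepWith @Etale a) {u : U.left} (T : TopologicalSpace.IrreducibleCloseds (Points X))
    (hT : IsGenericPoint (Points.ofPt a u) (T : Set (Points X))) :
    (Order.coheight T : WithBot ℕ∞) = ringKrullDim (U.left.presheaf.stalk u) := by
  have := quasiSober_of_isDecent hX hd
  have := t0Space_points hX hd
  rw [ringKrullDim_stalk_eq_coheight,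
    coheight_irreducibleCloseds_eq (fun _ _ => Iff.rfl) (Points.continuous_ofPt a) (generalizingMap_chart hd ha)
      (fun _ _ => eq_of_specializes_chart hd ha) T hT]

/-- Generic points of components of a decent space are the images of generic points of charts. -/
theorem component_iff_mem_genericPoints {X : Sp S} (hX : IsAlgSpace X) (hd : IsDecent X) {U : Over S}
    {a : (yon S).obj U ⟶ X} (ha : RepWith @Etale a) (u : U.left) :
    (∃ T ∈ irreducibleComponents (Points X), IsGenericPoint (Points.ofPt a u) T) ↔ u ∈ genericPoints U.left := by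
  have := quasiSober_of_isDecent hX hd
  have := t0Space_points hX hd
  rw [isGenericPoint_component_iff, Groth.Agent.H8Props.mem_genericPoints_iff]
  constructor
  · intro h v hv
    have e : Points.ofPt a u = Points.ofPt a v :=
      ((h _ (hv.map (Points.continuous_ofPt a))).antisymm (hv.map (Points.continuous_ofPt a))).eq
    exact (eq_of_specializes_chart hd ha hv e).symm
  · intro h y hy
    obtain ⟨v, hv, rfl⟩ := generalizingMap_chart hd ha hy
    rw [h v hv]

theorem component_iff_hasAt {X : Sp S} (hX : IsAlgSpace X) (hd : IsDecent X) (x : Points X) :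
    (∃ T ∈ irreducibleComponents (Points X), IsGenericPoint x T) ↔
      HasAt (fun U u => ringKrullDim ↥(U.presheaf.stalk u) = 0) X x := by
  constructor
  · intro h
    obtain ⟨U, a, ha, has⟩ := hX.atlas
    obtain ⟨u, rfl⟩ := surjective_ofPt_of_repWith le_rfl has x
    exact ⟨U, a, u, ha, rfl, (ringKrullDim_stalk_eq_zero_iff u).2 ((component_iff_mem_genericPoints hX hd ha u).1 h)⟩
  · rintro ⟨U, a, u, ha, rfl, h⟩
    exact (component_iff_mem_genericPoints hX hd ha u).2 ((ringKrullDim_stalk_eq_zero_iff u).1 h)

theorem component_iff_of_isEtaleMor {X Y : Sp S} (hX : IsAlgSpace X) (hY : IsAlgSpace Y) (hd : IsDecent X)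
    {f : Y ⟶ X} (hf : IsEtaleMor f) (y : Points Y) :
    (∃ T ∈ irreducibleComponents (Points Y), IsGenericPoint y T) ↔
      (∃ T ∈ irreducibleComponents (Points X), IsGenericPoint (Points.map f y) T) := by
  have := quasiSober_of_isDecent hX hd
  have := t0Space_points hX hd
  obtain ⟨V, b, hb, hbs⟩ := hY.atlas
  obtain ⟨v, rfl⟩ := surjective_ofPt_of_repWith le_rfl hbs y
  have hbf : RepWith @Etale (b ≫ f) := hf b hb
  rw [Points.map_ofPt, component_iff_mem_genericPoints hX hd hbf v, Groth.Agent.H8Props.mem_genericPoints_iff]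
  constructor
  · rintro ⟨T, hT, hy⟩ w hw
    have h1 : Points.ofPt b v ⤳ Points.ofPt b w := by
      refine specializes_iff_mem_closure.2 (hy.def.symm ▸ ?_)
      refine hT.2 isIrreducible_singleton.closure (fun z hz => ?_) (subset_closure rfl)
      exact ((hw.map (Points.continuous_ofPt b)).trans (hy.specializes hz)).mem_closure
    have e : Points.ofPt (b ≫ f) v = Points.ofPt (b ≫ f) w := by
      rw [← Points.map_ofPt, ← Points.map_ofPt]
      exact ((h1.map (Points.continuous_map f)).antisymm
        ((hw.map (Points.continuous_ofPt b)).map (Points.continuous_map f))).eq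
    exact (eq_of_specializes_chart hd hbf hw e).symm
  · intro hv
    have hmax : ∀ x' : Points X, x' ⤳ Points.ofPt (b ≫ f) v → x' = Points.ofPt (b ≫ f) v := fun x' hx' => by
      obtain ⟨w, hw, rfl⟩ := generalizingMap_chart hd hbf hx'
      rw [hv w hw]
    refine ⟨closure {Points.ofPt b v}, ⟨isIrreducible_singleton.closure, fun Z hZ hle z hz => ?_⟩, rfl⟩
    refine mem_closure_iff.2 fun O hO hzO => ⟨Points.ofPt b v, ?_, rfl⟩
    obtain ⟨A, hA, hvA, -⟩ := exists_isAffineOpen_mem_and_subset (U := (⊤ : V.left.Opens)) (x := v) trivial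
    let F : Set V.left := ((A : Set V.left) ∩ Points.ofPt (b ≫ f) ⁻¹' {Points.ofPt (b ≫ f) v}) \ {v}
    have hF : F.Finite := by
      refine Set.Finite.subset ?_ Set.sdiff_subset
      refine ((finite_fibre_of_isDecent hd (Points.ofPt (b ≫ f) v) (openOver V A) _ hA
        (repWith_etale_openIncl hbf A)).image fun z => (openIncl V A).left z).subset ?_
      rintro w ⟨hwA, hw⟩
      exact ⟨⟨w, hwA⟩, (ofPt_map (openIncl V A) _ _).trans hw, rfl⟩
    let N : Set V.left := (A : Set V.left) \ ⋃ w ∈ F, closure {w}
    have hN : IsOpen N := A.isOpen.sdiff (hF.isClosed_biUnion fun _ _ => isClosed_closure)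
    have hvN : v ∈ N := ⟨hvA, fun h => by
      obtain ⟨w, hw, hwv⟩ := Set.mem_iUnion₂.1 h
      exact hw.2 (hv w (specializes_iff_mem_closure.2 hwv))⟩
    obtain ⟨z', hz'Z, hz'O, n, hn, rfl⟩ := hZ.2 O _ hO (isOpenMap_ofPt_of_repWith etale_le_universallyOpen hb N hN)
      ⟨z, hz, hzO⟩ ⟨Points.ofPt b v, hle (subset_closure rfl), v, hvN, rfl⟩
    obtain ⟨ξ, hξ⟩ := QuasiSober.sober (hZ.image (Points.map f) (Points.continuous_map f).continuousOn).closure
      isClosed_closure
    have hξy : ξ ⤳ Points.ofPt (b ≫ f) v :=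
      hξ.specializes (subset_closure ⟨_, hle (subset_closure rfl), Points.map_ofPt b f v⟩)
    have hs : Points.ofPt (b ≫ f) v ⤳ Points.ofPt (b ≫ f) n :=
      (hmax ξ hξy) ▸ hξ.specializes (subset_closure ⟨_, hz'Z, Points.map_ofPt b f n⟩)
    obtain ⟨n', hn', hn'v⟩ := generalizingMap_chart hd hbf hs
    have hn'N : n' ∈ N := hn'.mem_open hN hn
    have : n' = v := by
      by_contra hne
      exact hn'N.2 (Set.mem_iUnion₂.2 ⟨n', ⟨⟨hn'N.1, hn'v⟩, hne⟩, subset_closure rfl⟩)
    exact (this ▸ hn'.map (Points.continuous_ofPt b)).mem_open hO hz'O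

end Groth.Agent.H13AlgSp
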