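import Groth.Agent.H13AlgSp.EtVanish
import Groth.Agent.H18Ext.AdaptedClass
import Groth.Prelude.Def_AlgSpOX2
import Groth.Prelude.Def_AlgSp3

/-!
Higher direct images of quasi-coherent modules along affine morphisms vanish.
-/

set_option autoImplicit false
set_option backward.isDefEq.respectTransparency false
set_option linter.style.haveILetI false

universe v u v' u'

open CategoryTheory CategoryTheory.Limits AlgebraicGeometry Opposite
open Groth.Agent.H18Ext

namespace Groth.Agent.H13AlgSp.AffVanish

section Derived

variable {A : Type u} [Category.{v} A] [Abelian A] [EnoughInjectives A]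

/-- The cycles of the injective resolution. -/
noncomputable def cyc (X : A) : ℕ → A
  | 0 => X
  | n + 1 => cokernel (Injective.ι (cyc X n))

/-- The spliced injective resolution. -/
noncomputable abbrev injSeqOf (X : A) : AdaptedClass.Seq A where
  Z := cyc X
  M n := Injective.under (cyc X n)
  ι n := Injective.ι (cyc X n)
  π n := cokernel.π (Injective.ι (cyc X n))
  w n := cokernel.condition (Injective.ι (cyc X n))
  shortExact n := ShortComplex.ShortExact.mk'
    (ShortComplex.exact_of_g_is_cokernel _ (cokernelIsCokernel _))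
    (inferInstanceAs (Mono (Injective.ι (cyc X n)))) (inferInstanceAs (Epi (cokernel.π (Injective.ι (cyc X n)))))

variable {B : Type u'} [Category.{v'} B] [Abelian B]

/-- Objects with surjective images of their injective embeddings are acyclic. -/
theorem isZero_rightDerived_of_epi (F : A ⥤ B) [F.Additive] [PreservesFiniteLimits F] (P : A → Prop)
    (hq : ∀ T : ShortComplex A, T.ShortExact → Injective T.X₂ → P T.X₁ → P T.X₃)
    (he : ∀ T : ShortComplex A, T.ShortExact → P T.X₁ → Epi (F.map T.g)) {X : A} (hX : P X) (n : ℕ) :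
    IsZero ((F.rightDerived (n + 1)).obj X) := by
  let S := injSeqOf X
  have hI : ∀ n, Injective (S.M n) := fun n => inferInstanceAs (Injective (Injective.under _))
  have hP : ∀ n, P (S.Z n) := fun n => by
    induction n with
    | zero => exact hX
    | succ n ih => exact hq _ (S.shortExact n) (hI n) ih
  let S' : AdaptedClass.Seq B :=
    { Z := fun n => F.obj (S.Z n)
      M := fun n => F.obj (S.M n)
      ι := fun n => F.map (S.ι n)
      π := fun n => F.map (S.π n)
      w := fun n => by rw [← F.map_comp, S.w, F.map_zero]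
      shortExact := fun n => by
        haveI := (S.shortExact n).mono_f
        haveI := he _ (S.shortExact n) (hP n)
        exact ShortComplex.ShortExact.mk'
          ((S.shortExact n).exact.map_of_mono_of_preservesKernel F inferInstance inferInstance)
          (inferInstanceAs (Mono (F.map (S.ι n)))) (inferInstanceAs (Epi (F.map (S.π n)))) }
  have hex := S'.exactAt_succ n
  refine IsZero.of_iso ?_ ((S.toResolution hI).isoRightDerivedObj F (n + 1))
  refine (HomologicalComplex.exactAt_iff_isZero_homology _ _).1 ?_
  rw [HomologicalComplex.exactAt_iff' _ n (n + 1) (n + 1 + 1) (by simp) (by simp)] at hex ⊢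
  refine ShortComplex.exact_of_iso ?_ hex
  exact ShortComplex.isoMk (Iso.refl _) (Iso.refl _) (Iso.refl _)
    ((Category.id_comp _).trans (((congrArg F.map (S.cx_d n)).trans (F.map_comp _ _)).trans
      ((S'.cx_d n).symm.trans (Category.comp_id _).symm)))
    ((Category.id_comp _).trans (((congrArg F.map (S.cx_d (n + 1))).trans (F.map_comp _ _)).trans
      ((S'.cx_d (n + 1)).symm.trans (Category.comp_id _).symm)))

end Derived

open AlgSp Groth.Agent.H12AlgSp.BCMod

universe w

variable {S : Scheme.{w}} {X Y : Sp S} {f : X ⟶ Y} (hf : Representable f)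

theorem aff_bc (haff : IsAffineMor f) {E : EtOver Y} (hE : IsAffine E.obj.left.left) :
    IsAffine ((EtOver.bc hf).obj E).obj.left.left := by
  obtain ⟨W, i, fst, sq, hW⟩ := haff hE E.obj.hom
  let e : (yon S).obj W ≅ (yon S).obj ((EtOver.bc hf).obj E).obj.left :=
    sq.isoIsPullback _ _ (hf.isPullback E.obj.hom)
  haveI : IsIso ((Over.forget S).map ((yon S).preimageIso e).inv) := inferInstance
  haveI : IsAffine ((Over.forget S).obj W) := hW
  exact IsAffine.of_isIso ((Over.forget S).map ((yon S).preimageIso e).inv)

theorem epi_push (haff : IsAffineMor f) {T : ShortComplex (AbEt X)} (hT : T.ShortExact)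
    (h₁ : IsAffAcyclic (etAff X) T.X₁.obj) : Epi ((pushEt hf AddCommGrpCat.{w + 1}).map T.g) := by
  haveI : Sheaf.IsLocallySurjective ((pushEt hf AddCommGrpCat.{w + 1}).map T.g) := by
    refine ⟨fun {E} s => ?_⟩
    obtain ⟨R, hR, hfac⟩ := (etAff Y).exists_affine_cover E
    refine (etTop Y).superset_covering (fun V g hg => ?_) hR
    obtain ⟨A, a, b, hA, rfl⟩ := hfac g hg
    obtain ⟨t, ht⟩ := surjective_sections (A := etAff X) hT h₁ (aff_bc hf haff hA)
      ((((pushEt hf AddCommGrpCat.{w + 1}).obj T.X₃).obj.map b.op) s)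
    refine ⟨((pushEt hf AddCommGrpCat.{w + 1}).obj T.X₂).obj.map a.op t, ?_⟩
    refine (NatTrans.naturality_apply T.g.hom ((EtOver.bc hf).map a).op t).trans ?_
    refine (congrArg (T.X₃.obj.map ((EtOver.bc hf).map a).op) ht).trans ?_
    exact (ConcreteCategory.congr_hom (((pushEt hf AddCommGrpCat.{w + 1}).obj T.X₃).obj.map_comp b.op a.op) s).symm
  exact Sheaf.epi_of_isLocallySurjective _

theorem isZero_RpushEt (haff : IsAffineMor f) (G : AbEt X) (hG : IsAffAcyclic (etAff X) G.obj) (n : ℕ) :
    IsZero ((RpushEt hf (n + 1)).obj G) := by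
  haveI : PreservesLimitsOfSize.{0, 0} (pushEt hf AddCommGrpCat.{w + 1}) :=
    (pullPushAdjEt hf AddCommGrpCat.{w + 1}).rightAdjoint_preservesLimits
  exact isZero_rightDerived_of_epi (pushEt hf AddCommGrpCat.{w + 1})
    (fun G : AbEt X => IsAffAcyclic (etAff X) G.obj)
    (fun T hT hI h1 => @isAffAcyclic_X₃ _ _ _ _ (etAff X) _ _ _ _ aff_iso T hT h1
      (@isAffAcyclic_of_injective _ _ _ _ (etAff X) _ _ T.X₂ hI))
    (fun T hT h1 => epi_push hf haff hT h1) hG n

end Groth.Agent.H13AlgSp.AffVanish
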