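import Groth.Agent.H13AlgSp.CohSub
import Groth.Agent.H13AlgSp.AffineLocal
import Groth.Agent.H13AlgSp.AffPush
import Groth.Agent.H12AlgSp.BCMod.PullQCoh
import Mathlib.CategoryTheory.Abelian.GrothendieckCategory.Coseparator
import Mathlib.CategoryTheory.Adjunction.AdjointFunctorTheorems

/-!
Modules of finite presentation on a space affine over a Noetherian algebraic space.
-/

set_option autoImplicit false
set_option backward.isDefEq.respectTransparency false
set_option linter.style.haveILetI false
set_option linter.unusedVariables false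
set_option linter.unusedSectionVars false

universe u v₁ v₂ u₁ u₂

open CategoryTheory CategoryTheory.Limits AlgebraicGeometry Opposite

namespace Groth.Agent.H13AlgSp.PullFP

section Site

open Groth.Agent.H12AlgSp.BCMod

variable {C : Type u₁} [Category.{v₁} C] {D : Type u₁} [Category.{v₂} D]
  [HasBinaryProducts C] [HasBinaryProducts D]
  {J : GrothendieckTopology C} {K : GrothendieckTopology D} {F : C ⥤ D}
  {S : Sheaf J RingCat.{u}} {R : Sheaf K RingCat.{u}}
  [Functor.IsContinuous F J K]
  [∀ E : C, (Over.post (X := E) F).IsContinuous (J.over E) (K.over (F.obj E))]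
  [PreservesLimitsOfShape (Discrete WalkingPair) F]
  [∀ X, HasSheafify (J.over X) AddCommGrpCat.{u}]
  [∀ X, (J.over X).WEqualsLocallyBijective AddCommGrpCat.{u}]
  [∀ X, HasSheafify (K.over X) AddCommGrpCat.{u}]
  [∀ X, (K.over X).WEqualsLocallyBijective AddCommGrpCat.{u}]
  (φ : S ⟶ (F.sheafPushforwardContinuous RingCat.{u} J K).obj R)

theorem exists_finite_presentation {M : SheafOfModules.{u} S} {L : SheafOfModules.{u} R}
    {η : M ⟶ (SheafOfModules.pushforward.{u} φ).obj L} (hL : IsUnivPush φ η) (E : C)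
    (P : (M.over E).Presentation) [P.IsFinite] :
    ∃ Q : (L.over (F.obj E)).Presentation, Q.IsFinite := by
  obtain ⟨r', η', hη'⟩ := exists_univ_cokernel (pushPost φ E)
    (isUniv_freeUniv (postHom φ E) P.relations.I) (isUniv_freeUniv (postHom φ E) P.generators.I)
    _ _ _ P.isColimit
  let η₀ := overEquiv' φ E hL _ (𝟙 _)
  have h₀ : IsUniv (pushPost φ E) η₀ := fun N => by
    have h : (fun k : L.over (F.obj E) ⟶ N => η₀ ≫ (pushPost φ E).map k) = overEquiv' φ E hL N := by
      funext k
      rw [← overEquiv'_comp, Category.id_comp]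
    rw [h]
    exact Equiv.bijective _
  obtain ⟨e⟩ := hη'.nonempty_iso _ h₀
  let Q₀ := SheafOfModules.presentationOfIsCokernelFree r' (cokernel.π r') (cokernel.condition r')
    (cokernelIsCokernel r')
  haveI : Q₀.IsFinite :=
    { isFiniteType_generators := ⟨inferInstanceAs (Finite P.generators.I)⟩
      isFiniteType_relations := ⟨inferInstanceAs (Finite P.relations.I)⟩ }
  exact ⟨Q₀.ofIsIso e.hom, inferInstance⟩

theorem isFinitePresentation_of_isUniv
    (hcov : ∀ {ι : Type u₁} (X : ι → C), J.CoversTop X → K.CoversTop fun i => F.obj (X i))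
    {M : SheafOfModules.{u} S} {L : SheafOfModules.{u} R}
    {η : M ⟶ (SheafOfModules.pushforward.{u} φ).obj L} (hL : IsUnivPush φ η) [M.IsFinitePresentation] :
    L.IsFinitePresentation := by
  obtain ⟨q, hq⟩ := SheafOfModules.IsFinitePresentation.exists_quasicoherentData M
  choose Q hQ using fun i => exists_finite_presentation φ hL (q.X i) (q.presentation i)
  exact ⟨{ I := q.I, X := fun i => F.obj (q.X i), coversTop := hcov q.X q.coversTop, presentation := Q },
    ⟨hQ⟩⟩

end Site

open AlgSp Groth.Agent.H12AlgSp Groth.Agent.H12AlgSp.BCMod Groth.Agent.H13EtMod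

variable {S : Scheme.{u}}

section Pull

variable {X Y : Sp S} {f : X ⟶ Y} (hr : Representable f)

theorem isRightAdjoint_pushModEt : (pushModEt hr).IsRightAdjoint := by
  haveI := isGrothendieckAbelian_modEt X
  haveI : PreservesLimitsOfSize.{u + 1, u + 1} (pushModEt hr) := ⟨fun {K} _ => by
    let G := SheafOfModules.forget.{u + 1} (OEtRing Y) ⋙ PresheafOfModules.toPresheaf _
    haveI : ReflectsLimitsOfShape K G := reflectsLimitsOfShape_of_reflectsIsomorphisms
    haveI : PreservesLimitsOfShape K (pushModEt hr ⋙ G) :=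
      inferInstanceAs (PreservesLimitsOfShape K (SheafOfModules.forget.{u + 1} (OEtRing X) ⋙
        PresheafOfModules.toPresheaf _ ⋙ (Functor.whiskeringLeft _ _ _).obj (EtOver.bc hr).op))
    exact preservesLimitsOfShape_of_reflects_of_preserves _ G⟩
  exact isRightAdjoint_of_preservesLimits_of_isCoseparating (isCoseparator_coseparator (ModEt X)) _

theorem isFinitePresentation_pullModEt (hY : IsAlgSpace Y)
    [(SheafOfModules.pushforward.{u + 1} (bcRingHom hr)).IsRightAdjoint]
    (G : ModEt Y) [G.IsFinitePresentation] : ((pullModEt hr).obj G).IsFinitePresentation := by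
  haveI := preservesBinaryProducts_bc hr
  haveI : ∀ E : EtOver Y, (Over.post (X := E) (EtOver.bc hr)).IsContinuous ((etTop Y).over E)
      ((etTop X).over ((EtOver.bc hr).obj E)) := isContinuous_post_bc hr
  exact isFinitePresentation_of_isUniv (M := G) (bcRingHom hr) (fun _ h => coversTop_bc hr hY h)
    (isUnivPush_unit (bcRingHom hr) G)

theorem isQuasicoherent_push_affine (haff : IsAffineMor f) (F : ModEt X) [F.IsQuasicoherent] :
    ((pushModEt hr).obj F).IsQuasicoherent := by
  rw [isQuasicoherent_iff_isBCEt]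
  intro E' E g hE' hE
  haveI : IsAffine E'.obj.left.left := hE'
  haveI : IsAffine E.obj.left.left := hE
  haveI := AffVanish.aff_bc hr haff hE
  exact isBC_push hr F g inferInstance inferInstance

end Pull

section Chart

variable {X : Sp S}

/-- Affine objects mapping to the chart cover every object. -/
theorem exists_affine_to {B : EtOver X} (hB : (etTop X).CoversTop fun _ : Unit => B) (E : EtOver X)
    (x : E.obj.left.left) :
    ∃ (W : EtOver X) (g : W ⟶ E) (_ : W ⟶ B) (w : W.obj.left.left),
      IsAffine W.obj.left.left ∧ g.hom.left.left w = x := by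
  obtain ⟨V, g, hg, v, hv⟩ := jointly_surjective_of_mem_etTop (hB E) x
  obtain ⟨_, ⟨b⟩⟩ := hg
  obtain ⟨_, ⟨U, hU, rfl⟩, hvU, -⟩ :=
    V.obj.left.left.isBasis_affineOpens.exists_subset_of_mem_open (Set.mem_univ v) isOpen_univ
  exact ⟨etOpen V U, etOpenι V U ≫ g, etOpenι V U ≫ b, (⟨v, hvU⟩ : U), hU, hv⟩

theorem coversTop_of_range (E₀ : EtOver X) (hs : Set.range (Points.ofPt E₀.obj.hom) = Set.univ) :
    (etTop X).CoversTop fun _ : Unit => E₀ := fun E => mem_etTop_of_forall_point _ fun x => by
  obtain ⟨V, g, g₀, v, -, hv⟩ := exists_affine_over (E₀ := E₀) x (by rw [hs]; trivial)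
  exact ⟨V, g, v, ⟨(), ⟨g₀⟩⟩, hv⟩

variable {B : EtOver X} [IsAffine B.obj.left.left] (hB : (etTop X).CoversTop fun _ : Unit => B)

set_option maxHeartbeats 800000 in
include hB in
/-- A map out of a quasi-coherent module vanishing on the chart vanishes. -/
theorem zero_of_chart {N P : ModEt X} [N.IsQuasicoherent] (ψ : N ⟶ P)
    (h : ∀ z : (pm N).obj (op B), appE ψ B z = 0) : ψ = 0 := by
  have hN : IsBCEt N := (isQuasicoherent_iff_isBCEt _).1 ‹_›
  refine hom_ext_affine fun E hE x => ?_
  let R : Sieve E :=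
    { arrows := fun V g => appE ψ V (((pm N).map g.op).hom x) = 0
      downward_closed := fun {V W g} hg k => by
        rw [← map_comp_sec g k x]
        exact (PresheafOfModules.naturality_apply ψ.val k.op _).trans
          ((congrArg ((pm P).map k.op).hom hg).trans (map_zero _)) }
  have hR : R ∈ etTop X E := mem_etTop_of_forall_point _ fun p => by
    obtain ⟨W, g, b, w, hW, hw⟩ := exists_affine_to hB E p
    refine ⟨W, g, w, ?_, hw⟩
    obtain ⟨t, ht⟩ := (hN b hW ‹_›).2 (toSec (pm N) b (((pm N).map g.op).hom x))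
    have key : ∀ t, appE ψ W (ofSec (pm N) (ext (pm N) b t)) = 0 := by
      intro t
      induction t with
      | zero => rw [map_zero]; exact map_zero (appE ψ W)
      | add p q hp hq =>
        rw [map_add]
        exact (map_add (appE ψ W) _ _).trans ((congrArg₂ (· + ·) hp hq).trans (add_zero _))
      | tmul c z =>
        rw [ext_tmul]
        refine (map_smul (appE ψ W) (show (OEt X).obj.obj (op W) from c) _).trans ?_
        have hn : appE ψ W (((pm N).map b.op).hom (ofSec (pm N) z)) = 0 :=
          (PresheafOfModules.naturality_apply ψ.val b.op (ofSec (pm N) z)).trans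
            ((congrArg ((pm P).map b.op).hom (h (ofSec (pm N) z))).trans (map_zero _))
        exact (congrArg ((show (OEt X).obj.obj (op W) from c) • ·) hn).trans (smul_zero _)
    have := key t
    rw [ht] at this
    exact this
  refine sheaf_ext (Rc := (OEt X).obj) (P := pm P) P.isSheaf hR (appE ψ E x) 0 fun V g hg => ?_
  exact ((PresheafOfModules.naturality_apply ψ.val g.op x).symm.trans hg).trans (map_zero _).symm

end Chart

section Main

variable {X Y : Space S} (f : X ⟶ Y) (hr : Representable f.hom) (haff : IsAffineMor f.hom)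
  (E₀ : EtOver Y.obj) [hE : IsAffine E₀.obj.left.left]

variable [QuasiSeparatedSpace S] (hqc : IsQuasiCompactSp Y.obj) (hqs : IsQuasiSeparatedSp Y.obj)
  (hN : IsLocNoethSp Y.obj)
  [(SheafOfModules.pushforward.{u + 1} (bcRingHom hr)).IsRightAdjoint]

include haff hqc hqs hN hE in
theorem exists_fp_hom (K : ModEt X.obj) [K.IsQuasicoherent]
    (H : Finset ((pm K).obj (op ((EtOver.bc hr).obj E₀)))) :
    ∃ (Q : ModEt X.obj) (q : Q ⟶ K), Q.IsFinitePresentation ∧
      ∀ y ∈ H, y ∈ LinearMap.range (appE q ((EtOver.bc hr).obj E₀)) := by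
  classical
  haveI := isQuasicoherent_push_affine hr haff K
  obtain ⟨ι, _, _, F, -, hsurj⟩ := CohSub.exists_cofinal Y hqc hqs hN ((pushModEt hr).obj K)
  choose i hi using fun y : ((pm ((pushModEt hr).obj K)).obj (op E₀)) => hsurj E₀ hE y
  obtain ⟨k, hk⟩ := Finset.exists_le (H.image i)
  haveI : (F.obj k).obj.obj.left.IsFinitePresentation := (F.obj k).property
  let φ := ((pullPushAdjModEt hr).homEquiv _ _).symm (F.obj k).obj.obj.hom
  refine ⟨(pullModEt hr).obj (F.obj k).obj.obj.left, φ,
    isFinitePresentation_pullModEt hr Y.property _, fun y hy => ?_⟩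
  obtain ⟨z, hz⟩ := hi y
  let a := (F.map (homOfLE (hk _ (Finset.mem_image_of_mem i hy)))).hom.hom
  refine ⟨appE ((pullPushAdjModEt hr).unit.app _) E₀ (appE a.left E₀ z), ?_⟩
  have e : (pullPushAdjModEt hr).unit.app _ ≫ (pushModEt hr).map φ = (F.obj k).obj.obj.hom :=
    ((pullPushAdjModEt hr).homEquiv_unit _ _ φ).symm.trans (Equiv.apply_symm_apply _ _)
  refine Eq.trans (congrArg (fun m => appE m E₀ (appE a.left E₀ z)) e) ?_
  exact (congrArg (fun m => appE m E₀ z) (Over.w a)).trans hz

end Main

section Colim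

variable {X : Sp S} (B : EtOver X) (M : ModEt X)

theorem isQuasicoherent_ker {P P' : ModEt X} (φ : P ⟶ P') (h : P.IsQuasicoherent) (h' : P'.IsQuasicoherent) :
    (kernel φ).IsQuasicoherent :=
  ((qcoh_closure X).2.1 P P' φ h h').1

set_option maxHeartbeats 1600000 in
theorem isFinitePresentation_coker {P P' : ModEt X} (φ : P ⟶ P') [P.IsFinitePresentation]
    [P'.IsFinitePresentation] : (cokernel φ).IsFinitePresentation := by
  have hq := (qcoh_closure X).2.1 P P' φ inferInstance inferInstance
  have hB : IsBCEt (cokernel φ) := (isQuasicoherent_iff_isBCEt _).1 hq.2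
  have hBi : IsBCEt (Abelian.image φ) :=
    (isQuasicoherent_iff_isBCEt _).1 ((qcoh_closure X).2.1 P' _ (cokernel.π φ) inferInstance hq.2).1
  refine (isFinitePresentation_iff hq.2).2 fun E hE => ?_
  haveI := (isFinitePresentation_iff (M := P') inferInstance).1 ‹_› E hE
  haveI := finite_sec P E
  refine Module.finitePresentation_of_surjective (appE (cokernel.π φ) E)
    (surjective_of_epi (Rsh := OEt X) (A := etAff X) (cokernel.π φ) (isBCEt_of_fp P') hB hE) ?_
  have hk : LinearMap.ker (appE (cokernel.π φ) E) = LinearMap.range (appE φ E) := by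
    ext y
    constructor
    · intro hy
      obtain ⟨z, rfl⟩ := (exact_kernel_app (Rsh := OEt X) (cokernel.π φ) E y).1 hy
      obtain ⟨w, hw⟩ := surjective_of_epi (Rsh := OEt X) (A := etAff X) (Abelian.factorThruImage φ)
        (isBCEt_of_fp P) hBi hE z
      subst hw
      exact ⟨w, (congrArg (fun m => appE m E w) (Abelian.image.fac φ)).symm⟩
    · rintro ⟨w, rfl⟩
      exact congrArg (fun m => appE m E w) (cokernel.condition φ)
  rw [hk]
  exact Module.Finite.iff_fg.1 (Module.Finite.range (appE φ E))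

/-- A directed system with chosen relations over a fixed module. -/
structure Sys where
  ι : Type (u + 1)
  [lat : SemilatticeSup ι]
  [ne : Nonempty ι]
  N : ι ⥤ ModEt X
  fpN : ∀ i, (N.obj i).IsFinitePresentation
  g : N ⟶ (Functor.const ι).obj M
  hsurj : ∀ x : (pm M).obj (op B), ∃ i, x ∈ LinearMap.range (appE (g.app i) B)
  Q : ∀ i, Finset ((pm (kernel (g.app i))).obj (op B)) → ModEt X
  q : ∀ i H, Q i H ⟶ kernel (g.app i)
  fpQ : ∀ i H, (Q i H).IsFinitePresentation
  hq : ∀ i H, ∀ y ∈ H, y ∈ LinearMap.range (appE (q i H) B)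

attribute [instance] Sys.lat Sys.ne Sys.fpN Sys.fpQ

variable {B M} (d : Sys B M)

/-- The index set. -/
def Idx : Type (u + 1) := Σ i, Finset ((pm (kernel (d.g.app i))).obj (op B))

variable {d}

/-- The relations. -/
noncomputable def rel (p : Idx d) : d.Q p.1 p.2 ⟶ d.N.obj p.1 := d.q p.1 p.2 ≫ kernel.ι (d.g.app p.1)

theorem g_map {i j : d.ι} (h : i ≤ j) : d.N.map (homOfLE h) ≫ d.g.app j = d.g.app i :=
  (d.g.naturality (homOfLE h)).trans (Category.comp_id _)

theorem rel_g (p : Idx d) : rel p ≫ d.g.app p.1 = 0 :=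
  (Category.assoc _ _ _).trans ((congrArg (d.q p.1 p.2 ≫ ·) (kernel.condition _)).trans comp_zero)

/-- The transition maps, before passing to quotients. -/
noncomputable def step {p p' : Idx d} (h : p.1 ≤ p'.1) : d.N.obj p.1 ⟶ cokernel (rel p') :=
  d.N.map (homOfLE h) ≫ cokernel.π (rel p')

theorem step_refl (p : Idx d) (h : p.1 ≤ p.1) : step (p' := p) h = cokernel.π (rel p) :=
  (congrArg (· ≫ cokernel.π (rel p)) (d.N.map_id _)).trans (Category.id_comp _)

theorem step_trans {p p' p'' : Idx d} (h : p.1 ≤ p'.1) (h' : p'.1 ≤ p''.1)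
    (e : rel p' ≫ step (p' := p'') h' = 0) :
    step (p' := p'') (h.trans h') = step (p' := p') h ≫ cokernel.desc (rel p') (step h') e := by
  have : d.N.map (homOfLE (h.trans h')) = d.N.map (homOfLE h) ≫ d.N.map (homOfLE h') :=
    (congrArg d.N.map (homOfLE_comp h h').symm).trans (d.N.map_comp _ _)
  simp only [step, this, Category.assoc, cokernel.π_desc]

noncomputable instance : Preorder (Idx d) where
  le p p' := ∃ h : p.1 ≤ p'.1, rel p ≫ step (p' := p') h = 0
  le_refl p := ⟨le_rfl, by rw [step_refl, cokernel.condition]⟩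
  le_trans p p' p'' := fun ⟨h, e⟩ ⟨h', e'⟩ => ⟨h.trans h', by
    rw [step_trans h h' e', ← Category.assoc, e, zero_comp]⟩

variable [hBa : IsAffine B.obj.left.left] (hB : (etTop X).CoversTop fun _ : Unit => B)

include hB in
theorem rel_zero {k : d.ι} (H : Finset ((pm (kernel (d.g.app k))).obj (op B))) {Q' : ModEt X}
    [Q'.IsQuasicoherent] (c : Q' ⟶ kernel (d.g.app k)) (t : Set ((pm Q').obj (op B)))
    (ht : Submodule.span (OSec B) t = ⊤) (h : ∀ z ∈ t, appE c B z ∈ H) :
    c ≫ kernel.ι (d.g.app k) ≫ cokernel.π (rel (⟨k, H⟩ : Idx d)) = 0 := by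
  refine zero_of_chart hB _ fun z => ?_
  have : z ∈ Submodule.span (OSec B) t := ht.ge trivial
  refine (Submodule.span_le (p := LinearMap.ker
    (appE (c ≫ kernel.ι (d.g.app k) ≫ cokernel.π (rel (⟨k, H⟩ : Idx d))) B))).2 (fun w hw => ?_) this
  obtain ⟨v, hv⟩ := d.hq k H _ (h w hw)
  change appE (cokernel.π (rel (⟨k, H⟩ : Idx d))) B (appE (kernel.ι (d.g.app k)) B (appE c B w)) = 0
  rw [← hv]
  exact congrArg (fun m => appE m B v) (cokernel.condition (rel (⟨k, H⟩ : Idx d)))

include hB in
theorem upper (p p' : Idx d) : ∃ p'', p ≤ p'' ∧ p' ≤ p'' := by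
  classical
  let k := p.1 ⊔ p'.1
  have hc : ∀ {i : d.ι} (h : i ≤ k), (kernel.ι (d.g.app i) ≫ d.N.map (homOfLE h)) ≫ d.g.app k = 0 := fun h =>
    (Category.assoc _ _ _).trans ((congrArg (_ ≫ ·) (g_map h)).trans (kernel.condition _))
  obtain ⟨s, hs⟩ := Module.finite_def.1 (finite_sec (d.Q p.1 p.2) B)
  obtain ⟨s', hs'⟩ := Module.finite_def.1 (finite_sec (d.Q p'.1 p'.2) B)
  let c := d.q p.1 p.2 ≫ kernel.lift (d.g.app k) _ (hc le_sup_left)
  let c' := d.q p'.1 p'.2 ≫ kernel.lift (d.g.app k) _ (hc le_sup_right)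
  let H := s.image (fun z => appE c B z) ∪ s'.image (fun z => appE c' B z)
  refine ⟨⟨k, H⟩, ⟨le_sup_left, ?_⟩, ⟨le_sup_right, ?_⟩⟩
  · have := rel_zero hB H c _ hs fun z hz => Finset.mem_union_left _ (Finset.mem_image_of_mem _ hz)
    simp only [c, Category.assoc, kernel.lift_ι_assoc] at this
    simp only [rel, step, Category.assoc]
    exact this
  · have := rel_zero hB H c' _ hs' fun z hz => Finset.mem_union_right _ (Finset.mem_image_of_mem _ hz)
    simp only [c', Category.assoc, kernel.lift_ι_assoc] at this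
    simp only [rel, step, Category.assoc]
    exact this

variable (d)

/-- The diagram of quotients. -/
noncomputable def quotD : Idx d ⥤ ModEt X where
  obj p := cokernel (rel p)
  map {p p'} h := cokernel.desc (rel p) (step (leOfHom h).1) (leOfHom h).2
  map_id p := coequalizer.hom_ext ((cokernel.π_desc _ _ _).trans
    ((step_refl p _).trans (Category.comp_id _).symm))
  map_comp {p p' p''} h h' := coequalizer.hom_ext ((cokernel.π_desc _ _ _).trans
    ((step_trans (leOfHom h).1 (leOfHom h').1 (leOfHom h').2).trans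
      (cokernel.π_desc_assoc _ _ _ _).symm))

/-- The augmentation. -/
noncomputable def quotτ : quotD d ⟶ (Functor.const (Idx d)).obj M where
  app p := cokernel.desc (rel p) (d.g.app p.1) (rel_g p)
  naturality p p' h := coequalizer.hom_ext (by
    refine (cokernel.π_desc_assoc _ _ _ _).trans ?_
    refine Eq.trans ?_ ((congrArg (cokernel.π (rel p) ≫ ·) (Category.comp_id _)).trans
      (cokernel.π_desc _ _ _)).symm
    refine (Category.assoc _ _ _).trans ?_
    exact (congrArg (_ ≫ ·) (cokernel.π_desc _ _ _)).trans (g_map _))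

theorem isFiltered_idx (hB : (etTop X).CoversTop fun _ : Unit => B) : IsFiltered (Idx d) :=
  haveI : IsDirectedOrder (Idx d) := ⟨upper hB⟩
  haveI : Nonempty (Idx d) := ⟨⟨Classical.arbitrary d.ι, ∅⟩⟩
  inferInstance

theorem isQuasicoherent_quotD (p : Idx d) : ((quotD d).obj p).IsQuasicoherent :=
  ((qcoh_closure X).2.1 _ _ (rel p) inferInstance inferInstance).2

variable [M.IsQuasicoherent] [HasColimitsOfShape (Idx d) (ModEt X)]

set_option maxHeartbeats 800000 in
include hB in
theorem kernel_ι_colimit (p : Idx d) : kernel.ι ((quotτ d).app p) ≫ colimit.ι (quotD d) p = 0 := by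
  haveI : (kernel ((quotτ d).app p)).IsQuasicoherent :=
    isQuasicoherent_ker _ (isQuasicoherent_quotD d p) ‹M.IsQuasicoherent›
  refine zero_of_chart hB _ fun z => ?_
  obtain ⟨y, hy⟩ := surjective_of_epi (Rsh := OEt X) (A := etAff X) (cokernel.π (rel p))
    (isBCEt_of_fp (d.N.obj p.1)) ((isQuasicoherent_iff_isBCEt _).1 (isQuasicoherent_quotD d p)) hBa
    (appE (kernel.ι ((quotτ d).app p)) B z)
  have hy0 : appE (d.g.app p.1) B y = 0 := by
    refine (congrArg (fun m => appE m B y) (cokernel.π_desc (rel p) (d.g.app p.1) (rel_g p))).symm.trans ?_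
    refine (congrArg (appE ((quotτ d).app p) B) hy).trans ?_
    exact congrArg (fun m => appE m B z) (kernel.condition ((quotτ d).app p))
  obtain ⟨w, hw⟩ := (exact_kernel_app (Rsh := OEt X) (d.g.app p.1) B y).1 hy0
  obtain ⟨p', hpp', hwp'⟩ := upper hB p ⟨p.1, {w}⟩
  obtain ⟨v, hv⟩ := d.hq p.1 {w} w (Finset.mem_singleton_self w)
  refine (congrArg (fun m => appE (kernel.ι ((quotτ d).app p) ≫ m) B z)
    (colimit.w (quotD d) (homOfLE hpp')).symm).trans ?_
  change appE (colimit.ι (quotD d) p') B
    (appE ((quotD d).map (homOfLE hpp')) B (appE (kernel.ι ((quotτ d).app p)) B z)) = 0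
  refine (congrArg (appE (colimit.ι (quotD d) p') B) ?_).trans (map_zero _)
  refine (congrArg (appE ((quotD d).map (homOfLE hpp')) B) hy.symm).trans ?_
  refine (congrArg (fun m => appE m B y) (cokernel.π_desc (rel p) _ hpp'.2)).trans ?_
  refine (congrArg (appE (step hpp'.1) B) hw.symm).trans ?_
  refine (congrArg (fun t => appE (step (p := p) (p' := p') hpp'.1) B
    (appE (kernel.ι (d.g.app p.1)) B t)) hv.symm).trans ?_
  exact congrArg (fun m => appE m B v) hwp'.2

include hB in
theorem mono_desc [IsFiltered (Idx d)] : Mono (colimit.desc (quotD d) (Cocone.mk M (quotτ d))) := by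
  haveI := H13EtMod.isGrothendieckAbelian_modEt X
  haveI : PreservesFiniteLimits (colim (J := Idx d) (C := ModEt X)) := inferInstance
  haveI : IsConnected (Idx d) := IsFiltered.isConnected _
  let e : colimit ((Functor.const (Idx d)).obj M) ≅ M :=
    (colimit.isColimit _).coconePointUniqueUpToIso (isColimitConstCocone (Idx d) M)
  have hd : colimit.desc (quotD d) (Cocone.mk M (quotτ d)) = colimMap (quotτ d) ≫ e.hom :=
    colimit.hom_ext fun i => by
      refine (colimit.ι_desc _ i).trans ?_
      rw [ι_colimMap_assoc]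
      exact ((congrArg ((quotτ d).app i ≫ ·) ((colimit.isColimit _).comp_coconePointUniqueUpToIso_hom
        (isColimitConstCocone (Idx d) M) i)).trans (Category.comp_id _)).symm
  have h0 : (colim (J := Idx d)).map (kernel.ι (quotτ d)) = 0 := colimit.hom_ext fun p => by
    rw [comp_zero]
    refine (ι_colimMap _ p).trans ?_
    have hz : (kernel.ι (quotτ d)).app p ≫ (quotτ d).app p = 0 :=
      congrArg (fun m : kernel (quotτ d) ⟶ _ => m.app p) (kernel.condition (quotτ d))
    refine (congrArg (· ≫ colimit.ι (quotD d) p) (kernel.lift_ι _ _ hz).symm).trans ?_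
    exact (Category.assoc _ _ _).trans ((congrArg (_ ≫ ·) (kernel_ι_colimit d hB p)).trans comp_zero)
  haveI : Mono ((colim (J := Idx d)).map (quotτ d)) :=
    Preadditive.mono_of_cancel_zero _ fun {P} a ha => by
      obtain ⟨l, hl⟩ := KernelFork.IsLimit.lift' (KernelFork.mapIsLimit _ (kernelIsKernel (quotτ d))
        (colim (J := Idx d))) a ha
      exact hl.symm.trans ((congrArg (l ≫ ·) h0).trans comp_zero)
  haveI : Mono (colimMap (quotτ d)) := ‹Mono ((colim (J := Idx d)).map (quotτ d))›
  rw [hd]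
  infer_instance

include hB in
theorem epi_desc : Epi (colimit.desc (quotD d) (Cocone.mk M (quotτ d))) :=
  Preadditive.epi_of_cancel_zero _ fun {P} ψ hψ => by
    refine zero_of_chart hB ψ fun x => ?_
    obtain ⟨i, z, hz⟩ := d.hsurj x
    let p : Idx d := ⟨i, ∅⟩
    have hi : d.g.app i ≫ ψ = 0 := by
      refine (congrArg (· ≫ ψ) (cokernel.π_desc (rel p) (d.g.app i) (rel_g p))).symm.trans ?_
      refine (Category.assoc _ _ _).trans (Eq.trans ?_ (comp_zero (f := cokernel.π (rel p))))
      refine congrArg (cokernel.π (rel p) ≫ ·) ?_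
      exact ((colimit.ι_desc_assoc (Cocone.mk M (quotτ d)) p ψ).symm.trans
        ((congrArg (colimit.ι (quotD d) p ≫ ·) hψ).trans comp_zero))
    rw [← hz]
    exact congrArg (fun m => appE m B z) hi

end Colim

section Colim'

variable {X : Sp S} {B : EtOver X} [IsAffine B.obj.left.left] {M : ModEt X} [M.IsQuasicoherent]

theorem exists_colimit (hB : (etTop X).CoversTop fun _ : Unit => B) (d : Sys B M) : ∃ (J : Type (u + 1)) (_ : SmallCategory J) (_ : IsFiltered J) (D : J ⥤ ModEt X)
    (ι : D ⟶ (Functor.const J).obj M),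
    (∀ j, (D.obj j).IsFinitePresentation) ∧ Nonempty (IsColimit (Cocone.mk M ι)) := by
  haveI := isFiltered_idx d hB
  haveI := H13EtMod.isGrothendieckAbelian_modEt X
  haveI : HasColimitsOfShape (Idx d) (ModEt X) := inferInstance
  haveI := mono_desc d hB
  haveI := epi_desc d hB
  haveI : IsIso (colimit.desc (quotD d) (Cocone.mk M (quotτ d))) := isIso_of_mono_of_epi _
  refine ⟨Idx d, inferInstance, inferInstance, quotD d, quotτ d, fun p => ?_, ?_⟩
  · exact isFinitePresentation_coker (rel p)
  exact ⟨@IsColimit.ofPointIso _ _ _ _ _ _ (Cocone.mk M (quotτ d)) (colimit.isColimit (quotD d))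
    ‹IsIso (colimit.desc (quotD d) (Cocone.mk M (quotτ d)))›⟩

end Colim'

section Final

variable [QuasiSeparatedSpace S] {X Y : Space S} (f : X ⟶ Y)

theorem exists_fp_colimit (haff : IsAffineMor f.hom) (hqc : IsQuasiCompactSp Y.obj)
    (hqs : IsQuasiSeparatedSp Y.obj) (hN : IsLocNoethSp Y.obj) (M : ModEt X.obj) [M.IsQuasicoherent] :
    ∃ (J : Type (u + 1)) (_ : SmallCategory J) (_ : IsFiltered J) (D : J ⥤ ModEt X.obj)
      (ι : D ⟶ (Functor.const J).obj M),
      (∀ j, (D.obj j).IsFinitePresentation) ∧ Nonempty (IsColimit (Cocone.mk M ι)) := by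
  have hr : Representable f.hom := (isAffineMor_iff.1 haff).1
  haveI := isRightAdjoint_pushModEt hr
  haveI : (SheafOfModules.pushforward.{u + 1} (bcRingHom hr)).IsRightAdjoint := isRightAdjoint_pushModEt hr
  obtain ⟨T, a, hT, ha, hs⟩ := exists_affine_chart Y.property isOpen_univ
    (isCompact_univ_iff.2 ((isQuasiCompactSp_iff Y.property).1 hqc))
  let E₀ : EtOver Y.obj := EtOver.mk a ha
  haveI : IsAffine E₀.obj.left.left := hT
  haveI := AffVanish.aff_bc hr haff (E := E₀) hT
  have hB : (etTop X.obj).CoversTop fun _ : Unit => (EtOver.bc hr).obj E₀ :=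
    coversTop_bc hr Y.property (coversTop_of_range E₀ hs)
  haveI := isQuasicoherent_push_affine hr haff M
  obtain ⟨ι, _, _, F, -, hsurj⟩ := CohSub.exists_cofinal Y hqc hqs hN ((pushModEt hr).obj M)
  let adj := pullPushAdjModEt hr
  let G : ι ⥤ ModEt X.obj := F ⋙ ObjectProperty.ι _ ⋙ MonoOver.forget _ ⋙ Over.forget _ ⋙ pullModEt hr
  let g : G ⟶ (Functor.const ι).obj M :=
    { app := fun i => (adj.homEquiv _ _).symm (F.obj i).obj.obj.hom
      naturality := fun i j h => by
        refine Eq.trans ?_ (Category.comp_id _).symm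
        refine (adj.homEquiv_naturality_left_symm _ _).symm.trans ?_
        exact congrArg (adj.homEquiv _ _).symm (Over.w (F.map h).hom.hom) }
  have hG : ∀ i, (G.obj i).IsFinitePresentation := fun i =>
    @isFinitePresentation_pullModEt _ _ _ _ hr Y.property _ (F.obj i).obj.obj.left (F.obj i).property
  haveI : ∀ i, (kernel (g.app i)).IsQuasicoherent := fun i =>
    isQuasicoherent_ker _ (haveI := hG i; inferInstance) ‹M.IsQuasicoherent›
  choose Q q hQ hq using fun i => exists_fp_hom f hr haff E₀ hqc hqs hN (kernel (g.app i))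
  refine exists_colimit hB ⟨ι, G, hG, g, fun x => ?_, Q, q, hQ, hq⟩
  · obtain ⟨i, z, hz⟩ := hsurj E₀ hT x
    refine ⟨i, appE (adj.unit.app _) E₀ z, ?_⟩
    have e : adj.unit.app _ ≫ (pushModEt hr).map (g.app i) = (F.obj i).obj.obj.hom :=
      (adj.homEquiv_unit _ _ _).symm.trans (Equiv.apply_symm_apply _ _)
    exact (congrArg (fun m => appE m E₀ z) e).trans hz

end Final

end Groth.Agent.H13AlgSp.PullFP
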