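import Groth.Agent.H13AlgSp.FibreCond
import Groth.Agent.H12AlgSp.Codim

/-!
Codimension zero points and quasi-finiteness.
-/

universe u

open CategoryTheory CategoryTheory.Limits AlgebraicGeometry Opposite Topology
open AlgSp Groth.Agent.H12AlgSp

namespace Groth.Agent.H13AlgSp

variable {S : Scheme.{u}}

/-- The condition of being a point of codimension zero. -/
abbrev CodimZero (F : Sp S) (x : Points F) : Prop :=
  HasAt (fun U u => ringKrullDim ↥(U.presheaf.stalk u) = 0) F x

theorem mem_genericPoints_of_codimZero {F : Sp S} (hF : IsAlgSpace F) {x : Points F} (hx : CodimZero F x)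
    {U : Over S} {a : (yon S).obj U ⟶ F} (ha : RepWith @Etale a) {u : U.left} (hu : Points.ofPt a u = x) :
    u ∈ genericPoints U.left := by
  obtain ⟨U', a', u', ha', rfl, h'⟩ := hx
  obtain ⟨W, g, h, w, hg, hh, hgw, hhw⟩ := exists_common_chart hF ha ha' hu
  rw [← hgw]
  have := lqf_of_etale h.left
  refine Groth.Agent.H8Props.flat_map_genericPoints g.left (mem_genericPoints_of_lqf h.left ?_)
  rw [hhw]
  exact (ringKrullDim_stalk_eq_zero_iff _).1 h'

theorem codimZero_iff_mem_genericPoints {F : Sp S} (hF : IsAlgSpace F) {U : Over S}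
    {a : (yon S).obj U ⟶ F} (ha : RepWith @Etale a) (u : U.left) :
    CodimZero F (Points.ofPt a u) ↔ u ∈ genericPoints U.left :=
  ⟨fun h => mem_genericPoints_of_codimZero hF h ha rfl,
    fun h => ⟨U, a, u, ha, rfl, (ringKrullDim_stalk_eq_zero_iff _).2 h⟩⟩

theorem codimZero_of_qfAt {X Y : Sp S} (hX : IsAlgSpace X) (hY : IsAlgSpace Y) {f : X ⟶ Y} {x : Points X}
    (hq : QfAt f x) (hy : CodimZero Y (Points.map f x)) : CodimZero X x := by
  obtain ⟨U, V, a, b, h, u, ha, hb, w, rfl, O, huO, hlqf, -⟩ := hq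
  have hv : h.left u ∈ genericPoints V.left := mem_genericPoints_of_codimZero hY hy hb (by
    rw [← ofPt_map, ← w, Points.map_ofPt])
  have : LocallyQuasiFinite (O.ι ≫ h.left) := hlqf
  have hu' := mem_genericPoints_of_lqf (O.ι ≫ h.left) (x := ⟨u, huO⟩) (by
    rw [Scheme.Hom.comp_apply]; exact hv)
  exact (codimZero_iff_mem_genericPoints hX ha u).2 (Groth.Agent.H8Props.flat_map_genericPoints O.ι hu')

theorem qfAt_of_chart {X Y : Sp S} {f : X ⟶ Y} {U V : Over S} {a : (yon S).obj U ⟶ X}
    {b : (yon S).obj V ⟶ Y} {h : U ⟶ V} [LocallyOfFiniteType h.left] (ha : RepWith @Etale a)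
    (hb : RepWith @Etale b) (w : a ≫ f = (yon S).map h ≫ b) {u : U.left} (hu : h.left.QuasiFiniteAt u) :
    QfAt f (Points.ofPt a u) := by
  refine ⟨U, V, a, b, h, u, ha, hb, w, rfl, h.left.quasiFiniteLocus, hu, ?_, inferInstance⟩
  rw [← Scheme.Hom.quasiFiniteLocus_eq_top_iff]
  exact top_le_iff.1 fun z _ => Scheme.Hom.quasiFiniteAt_comp_iff_of_isOpenImmersion.2 z.2

theorem qfAt_of_codimZero_fibre {X Y : Sp S} (hX : IsAlgSpace X) (hY : IsAlgSpace Y) {f : X ⟶ Y}
    (hf : LocP @LocallyOfFiniteType f) {y : Points Y} (h1 : ∀ x, Points.map f x = y → CodimZero X x)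
    {x : Points X} (hx : Points.map f x = y) : QfAt f x := by
  obtain ⟨U, V, a, b, h, ha, has, hb, -, w⟩ := exists_chart hX hY f
  have : LocallyOfFiniteType h.left := hf a b h ha hb w
  obtain ⟨u, rfl⟩ := surjective_ofPt_of_repWith le_rfl has x
  refine qfAt_of_chart ha hb w ?_
  rw [Scheme.Hom.quasiFiniteAt_iff_isOpen_singleton_asFiber]
  have : IsLocallyNoetherian (h.left.fiber (h.left u)) := Groth.Agent.H17.isLocallyNoetherian_fiber _ _
  have hgen : ∀ z : h.left.fiber (h.left u), h.left.fiberι _ z ∈ genericPoints U.left := fun z => by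
    refine mem_genericPoints_of_codimZero hX (h1 _ ?_) ha rfl
    have e : h.left (h.left.fiberι _ z) = h.left u := h.left.range_fiberι (h.left u) |>.le ⟨z, rfl⟩
    rw [Points.map_ofPt, w, ofPt_map, e, ← ofPt_map, ← w, ← Points.map_ofPt, hx]
  have hdim : topologicalKrullDim (h.left.fiber (h.left u)) ≤ 0 :=
    topologicalKrullDim_le_zero_of_no_spec fun z₁ z₂ hs => by
      apply (h.left.fiberι (h.left u)).isEmbedding.injective
      exact (Groth.Agent.H8Props.mem_genericPoints_iff.1 (hgen z₂) _
        (hs.map (h.left.fiberι (h.left u)).continuous))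
  have : IsLocallyArtinian (h.left.fiber (h.left u)) := .of_topologicalKrullDim_le_zero hdim
  exact isOpen_discrete _

theorem codimZero_of_qfAt_generic {X Y : Sp S} (hX : IsAlgSpace X) (hY : IsAlgSpace Y) {f : X ⟶ Y}
    (hf : LocP @LocallyOfFiniteType f) {y : Points Y} (hy : CodimZero Y y)
    (h3 : ∀ x, Points.map f x = y → CodimZero X x → QfAt f x)
    {x : Points X} (hx : Points.map f x = y) : CodimZero X x := by
  obtain ⟨U, V, a, b, h, ha, has, hb, -, w⟩ := exists_chart hX hY f
  obtain ⟨u, rfl⟩ := surjective_ofPt_of_repWith le_rfl has x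
  obtain ⟨η, hη, hηu⟩ := Groth.Agent.H8Props.exists_genericPoints_specializes u
  have hv : h.left u ∈ genericPoints V.left := mem_genericPoints_of_codimZero hY hy hb (by
    rw [← ofPt_map, ← w, ← Points.map_ofPt, hx])
  have hhη : h.left η = h.left u := Groth.Agent.H8Props.mem_genericPoints_iff.1 hv _ (hηu.map h.left.continuous)
  have hyη : Points.map f (Points.ofPt a η) = y := by
    rw [Points.map_ofPt, w, ofPt_map, hhη, ← ofPt_map, ← w, ← Points.map_ofPt, hx]
  have hcη : CodimZero X (Points.ofPt a η) := (codimZero_iff_mem_genericPoints hX ha η).2 hη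
  let r := FieldPt.ofPt b (h.left u)
  have hr : r.toHom = (yon S).map (resMap (h.left u)) ≫ b := FieldPt.toHom_ofPt _ _
  have sqk := IsPullback.of_hasPullback f r.toHom
  have hXk := isAlgSpace_pullback hY.diag hX (IsAlgSpace.yon_obj r.pt) f r.toHom
  have e : ((yon S).map (pullback.fst h (resMap (h.left u))) ≫ a) ≫ f =
      (yon S).map (pullback.snd h (resMap (h.left u))) ≫ r.toHom := by
    rw [hr, Category.assoc, w, ← Functor.map_comp_assoc, ← Functor.map_comp_assoc, pullback.condition]
  let m := sqk.lift _ _ e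
  have sqF : IsPullback (pullback.fst h (resMap (h.left u))).left
      (pullback.snd h (resMap (h.left u))).left h.left (V.left.fromSpecResidueField (h.left u)) :=
    (IsPullback.of_hasPullback h (resMap (h.left u))).map (Over.forget S)
  have : IsPreimmersion (pullback.fst h (resMap (h.left u))).left :=
    MorphismProperty.of_isPullback (P := @IsPreimmersion) sqF.flip inferInstance
  have hlift : ∀ z : U.left, h.left z = h.left u → ∃ q, (pullback.fst h (resMap (h.left u))).left q = z :=
    fun z hz => by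
      obtain ⟨q, hq, -⟩ := Scheme.exists_preimage_of_isPullback sqF z (IsLocalRing.closedPoint _)
        (by rw [hz, Scheme.fromSpecResidueField_apply])
      exact ⟨q, hq⟩
  obtain ⟨qu, hqu⟩ := hlift u rfl
  obtain ⟨qη, hqη⟩ := hlift η hhη
  have hsp : qη ⤳ qu := by
    rw [← (pullback.fst h (resMap (h.left u))).left.isEmbedding.isInducing.specializes_iff, hqu, hqη]
    exact hηu
  have hmap : ∀ q, Points.map (pullback.fst f r.toHom) (Points.ofPt m q) =
      Points.ofPt a ((pullback.fst h (resMap (h.left u))).left q) := fun q => by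
    rw [Points.map_ofPt, sqk.lift_fst, ofPt_map]
  have ho := isOpen_singleton_fibre_of_qfAt r sqk (Points.ofPt m qη) (by
    rw [hmap, hqη]; exact h3 _ hyη hcη)
  have hl := Groth.Agent.H12AlgSp.locP_of_isPullback etLocal_lft sqk hX hY (IsAlgSpace.yon_obj r.pt) hf
  have hc := ((isOpen_singleton_iff_closed_maximal hXk hl _).1 ho).1
  have heq : Points.ofPt m qu = Points.ofPt m qη := (hsp.map (Points.continuous_ofPt m)).mem_closed hc rfl
  have := hmap qu
  rw [hqu, heq, hmap, hqη] at this
  rw [← this]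
  exact hcη

end Groth.Agent.H13AlgSp
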