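import Groth.Agent.H13AlgSp.DecentDense
import Groth.Agent.H13AlgSp.CodimZeroQf
import Groth.Agent.H12AlgSp.Charts
import Groth.Agent.H12AlgSp.QSPullback
import Groth.Agent.H12AlgSp.Codim
import Groth.Agent.S2080

/-!
Codimension zero points of quasi-separated spaces lie in open subschemes.
-/

universe u

open CategoryTheory CategoryTheory.Limits AlgebraicGeometry Opposite Topology TopologicalSpace
open AlgSp Groth.Agent.H12AlgSp

namespace Groth.Agent.H13AlgSp

variable {S : Scheme.{u}}

/-- Where the source map is finite, the image is an open subscheme. -/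
theorem exists_open_scheme_of_finite {X : Sp S} (hX : IsAlgSpace X) {U R : Over S} [IsAffine U.left]
    {a : (yon S).obj U ⟶ X} (ha : RepWith @Etale a) {s t : R ⟶ U}
    (sq : IsPullback ((yon S).map t) ((yon S).map s) a a) {V : U.left.Opens} (hV : IsFinite (s.left ∣_ V)) :
    IsOpen (Points.ofPt a '' (V : Set U.left)) ∧
      ∃ (Y : Over S) (μ : (yon S).obj Y ⟶ openSub (Points.ofPt a '' (V : Set U.left))), IsIso μ := by
  let W' : Set (Points X) := Points.ofPt a '' (V : Set U.left)
  have hW' : IsOpen W' := isOpenMap_ofPt_of_repWith etale_le_universallyOpen ha _ V.2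
  refine ⟨hW', ?_⟩
  have hse : Etale s.left := ha.2 a _ s sq
  have hte : Etale t.left := ha.2 a _ t sq.flip
  let Vs : U.left.Opens := ⟨Points.ofPt a ⁻¹' W', hW'.preimage (Points.continuous_ofPt a)⟩
  have hinv : s.left ⁻¹ᵁ Vs = t.left ⁻¹ᵁ Vs := by
    ext r
    show Points.ofPt a (s.left r) ∈ W' ↔ Points.ofPt a (t.left r) ∈ W'
    rw [ofPt_target_eq_source sq r]
  have hVs : (Vs : Set U.left) = s.left '' (t.left ⁻¹' (V : Set U.left)) := by
    ext v
    constructor
    · rintro ⟨u, hu, e⟩
      obtain ⟨r, rfl, rfl⟩ := exists_arrow_of_ofPt_eq sq e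
      exact ⟨r, hu, rfl⟩
    · rintro ⟨r, hr, rfl⟩
      exact ⟨t.left r, hr, ofPt_target_eq_source sq r⟩
  have hVsW : Points.ofPt a '' (Vs : Set U.left) = W' := by
    refine Set.Subset.antisymm (Set.image_preimage_subset (Points.ofPt a) W') ?_
    rintro _ ⟨u, hu, rfl⟩
    exact ⟨u, ⟨u, hu, rfl⟩, rfl⟩
  have h := exists_iso_openSub_of_finite hX ha sq hinv (isFinite_morphismRestrict_saturation sq hV hVs)
  rw [hVsW] at h
  exact h

/-- A generic point of an affine chart with quasi-compact relation lies in an open subscheme. -/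
theorem exists_open_scheme_at_generic {X : Sp S} (hX : IsAlgSpace X) {U R : Over S} [IsAffine U.left]
    {a : (yon S).obj U ⟶ X} (ha : RepWith @Etale a) {s t : R ⟶ U}
    (sq : IsPullback ((yon S).map t) ((yon S).map s) a a) (hc : QuasiCompact s.left) {u : U.left}
    (hu : u ∈ genericPoints U.left) :
    ∃ (W : Set (Points X)) (Y : Over S) (μ : (yon S).obj Y ⟶ openSub W),
      IsIso μ ∧ IsOpen W ∧ Points.ofPt a u ∈ W := by
  have hse : Etale s.left := ha.2 a _ s sq
  have : IsSeparated s.left := isSeparated_of_selfProduct sq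
  have : LocallyQuasiFinite s.left := lqf_of_etale s.left
  obtain ⟨V, -, huV, hV⟩ :=
    (Groth.Agent.S2080.result s.left u hu).1 (s.left.finite_preimage_singleton u)
  obtain ⟨hW, Y, μ, hμ⟩ := exists_open_scheme_of_finite hX ha sq hV
  exact ⟨_, Y, μ, hμ, hW, u, huV, rfl⟩

/-- An open of a space which is a scheme gives an open subspace which is a scheme. -/
theorem exists_subspace_of_open_scheme (X : Space S) {W : Set (Points X.obj)} (hW : IsOpen W) {Y : Over S}
    (μ : (yon S).obj Y ⟶ openSub W) [IsIso μ] :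
    ∃ (X' : Space S) (j : X' ⟶ X), RepWith @IsOpenImmersion j.hom ∧ X'.obj.obj.IsRepresentable ∧
      Set.range (Points.map j.hom) = W :=
  ⟨⟨openSub W, isAlgSpace_of_representable _ (repWith_openSubι hW).1 X.property⟩,
    ObjectProperty.homMk (openSubι W), repWith_openSubι hW, (representableByOfIso (asIso μ)).isRepresentable,
    range_openSubι X.property W⟩

/-- Codimension zero points of quasi-separated spaces lie in open subschemes. -/
theorem exists_open_scheme_of_codimZero [QuasiSeparatedSpace S] {X : Sp S} (hX : IsAlgSpace X)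
    (hqs : IsQuasiSeparatedSp X) {x : Points X}
    (hx : HasAt (fun U u => ringKrullDim ↥(U.presheaf.stalk u) = 0) X x) :
    ∃ (W : Set (Points X)) (Y : Over S) (μ : (yon S).obj Y ⟶ openSub W), IsIso μ ∧ IsOpen W ∧ x ∈ W := by
  obtain ⟨ι, T, a, hT, ha, hS, hcov⟩ := exists_affine_family_over hX
  obtain ⟨i, u, rfl⟩ := hcov x
  obtain ⟨W, hW, hTW⟩ := hS i
  have := hT i
  obtain ⟨R, s, t', sq⟩ := (ha i).1 (a i)
  obtain ⟨t, rfl⟩ := (yon S).map_surjective t'
  have : CompactSpace ↥(pullback (T i).hom (T i).hom) :=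
    compactSpace_pullback_of_small W hW (by rintro _ ⟨v, rfl⟩; exact hTW v) (by rintro _ ⟨v, rfl⟩; exact hTW v)
  have : CompactSpace R.left := compactSpace_of_isPullback hqs sq
  exact exists_open_scheme_at_generic hX (ha i) sq ((quasiCompact_iff_compactSpace _).2 inferInstance)
    ((codimZero_iff_mem_genericPoints hX (ha i) u).1 hx)

end Groth.Agent.H13AlgSp
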