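import Groth.Agent.H13AlgSp.LocPDescent
import Groth.Agent.H13Flat.Scheme
import Groth.Prelude.Def_AlgSpCov

/-!
Locally of finite type / finite presentation are fppf local on the source for algebraic spaces.
-/

universe u

open CategoryTheory CategoryTheory.Limits AlgebraicGeometry Opposite
open AlgSp Groth.Agent.H12AlgSp

namespace Groth.Agent.H13AlgSp

variable {S : Scheme.{u}} {F G H : Sp S}

theorem lfp_of_jointly_surjective {A B : Scheme.{u}} (k : A ⟶ B) {κ : Type u} (C : κ → Scheme.{u})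
    (c : ∀ i, C i ⟶ A) (hs : ∀ a, ∃ i, a ∈ Set.range (c i))
    (hc : ∀ i, (@Flat ⊓ @LocallyOfFinitePresentation : MorphismProperty Scheme.{u}) (c i))
    (hck : ∀ i, LocallyOfFinitePresentation (c i ≫ k)) : LocallyOfFinitePresentation k :=
  Groth.Agent.H13Flat.locallyOfFinitePresentation_of_fppf_covering k fun a => by
    obtain ⟨i, hi⟩ := hs a
    exact ⟨C i, c i, (hc i).1, (hc i).2, hi, hck i⟩

theorem lft_of_jointly_surjective {A B : Scheme.{u}} (k : A ⟶ B) {κ : Type u} (C : κ → Scheme.{u})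
    (c : ∀ i, C i ⟶ A) (hs : ∀ a, ∃ i, a ∈ Set.range (c i))
    (hc : ∀ i, (@Flat ⊓ @LocallyOfFinitePresentation : MorphismProperty Scheme.{u}) (c i))
    (hck : ∀ i, LocallyOfFiniteType (c i ≫ k)) : LocallyOfFiniteType k :=
  Groth.Agent.H13Flat.locallyOfFiniteType_of_fppf_covering k fun a => by
    obtain ⟨i, hi⟩ := hs a
    exact ⟨C i, c i, (hc i).1, (hc i).2, hi, hck i⟩

theorem isLocalOnSource_fppf_lfp :
    IsLocalOnSource (IsFppfCover (S := S)) (LocP @LocallyOfFinitePresentation) :=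
  isLocalOnSource_of_descent (P' := @Flat ⊓ @LocallyOfFinitePresentation) inf_le_right
    (fun _ g _ _ hg => ⟨fun i => fun _ _ a b h ha hb e =>
      ⟨(hg.1 i).1 a b h ha hb e, (hg.1 i).2 a b h ha hb e⟩, hg.2⟩)
    lfp_of_jointly_surjective

theorem isLocalOnSource_fppf_lft :
    IsLocalOnSource (IsFppfCover (S := S)) (LocP @LocallyOfFiniteType) :=
  isLocalOnSource_of_descent (P' := @Flat ⊓ @LocallyOfFinitePresentation)
    (fun _ _ f h => have : LocallyOfFinitePresentation f := h.2; (inferInstance : LocallyOfFiniteType f))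
    (fun _ g _ _ hg => ⟨fun i => fun _ _ a b h ha hb e =>
      ⟨(hg.1 i).1 a b h ha hb e, (hg.1 i).2 a b h ha hb e⟩, hg.2⟩)
    lft_of_jointly_surjective

/-- The one-morphism form: a property descends along a surjective morphism having `P'`. -/
theorem etaleFibre_of_surjective {P P' : MorphismProperty Scheme.{u}}
    (hsrc : ∀ {A B : Scheme.{u}} (k : A ⟶ B) {κ : Type u} (C : κ → Scheme.{u}) (c : ∀ i, C i ⟶ A),
      (∀ a, ∃ i, a ∈ Set.range (c i)) → (∀ i, P' (c i)) → (∀ i, P (c i ≫ k)) → P k)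
    (hF : IsAlgSpace F) (hG : IsAlgSpace G) (hH : IsAlgSpace H) {f : F ⟶ G} {q : G ⟶ H}
    (hs : IsSurjectiveMor f) (hf : EtaleFibre P' f) (hfq : EtaleFibre P (f ≫ q)) :
    EtaleFibre P q :=
  etaleFibre_of_source (ι := PUnit.{u + 1}) (Fi := fun _ => F) (g := fun _ => f) hsrc hH hG
    (fun _ => hF) (fun x => by
      obtain ⟨y, hy⟩ := hs x
      exact ⟨PUnit.unit, y, hy⟩) (fun _ => hf) fun _ => hfq

theorem locP_of_surjective {P P' : MorphismProperty Scheme.{u}} [EtaleLocalST P] [EtaleLocalST P']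
    (hsrc : ∀ {A B : Scheme.{u}} (k : A ⟶ B) {κ : Type u} (C : κ → Scheme.{u}) (c : ∀ i, C i ⟶ A),
      (∀ a, ∃ i, a ∈ Set.range (c i)) → (∀ i, P' (c i)) → (∀ i, P (c i ≫ k)) → P k)
    (hF : IsAlgSpace F) (hG : IsAlgSpace G) (hH : IsAlgSpace H) {f : F ⟶ G} {q : G ⟶ H}
    (hs : IsSurjectiveMor f) (hf : LocP P' f) (hfq : LocP P (f ≫ q)) : LocP P q :=
  (etaleFibre_of_surjective hsrc hF hG hH hs (etaleFibre_of_locP hF hG hf)
    (etaleFibre_of_locP hF hH hfq)).locP

theorem locP_lfp_of_surjective (hF : IsAlgSpace F) (hG : IsAlgSpace G) (hH : IsAlgSpace H)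
    {f : F ⟶ G} {q : G ⟶ H} (hs : IsSurjectiveMor f) (hfl : LocP @Flat f)
    (hfp : LocP @LocallyOfFinitePresentation f) (hfq : LocP @LocallyOfFinitePresentation (f ≫ q)) :
    LocP @LocallyOfFinitePresentation q :=
  locP_of_surjective (P' := @Flat ⊓ @LocallyOfFinitePresentation) lfp_of_jointly_surjective hF hG hH
    hs (fun _ _ a b h ha hb e => ⟨hfl a b h ha hb e, hfp a b h ha hb e⟩) hfq

theorem locP_lft_of_surjective (hF : IsAlgSpace F) (hG : IsAlgSpace G) (hH : IsAlgSpace H)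
    {f : F ⟶ G} {q : G ⟶ H} (hs : IsSurjectiveMor f) (hfl : LocP @Flat f)
    (hfp : LocP @LocallyOfFinitePresentation f) (hfq : LocP @LocallyOfFiniteType (f ≫ q)) :
    LocP @LocallyOfFiniteType q :=
  locP_of_surjective (P' := @Flat ⊓ @LocallyOfFinitePresentation) lft_of_jointly_surjective hF hG hH
    hs (fun _ _ a b h ha hb e => ⟨hfl a b h ha hb e, hfp a b h ha hb e⟩) hfq

end Groth.Agent.H13AlgSp
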