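import Groth.Agent.H13AlgSp.PurelyInsepRep
import Groth.Agent.H7Lim.FinitelyPresentable
import Groth.Agent.H17.ConsPairExists
import Mathlib.RingTheory.Jacobson.Ring
import Mathlib.FieldTheory.SeparableClosure

/-!
A space over a field which becomes a scheme over some extension does so over a finite separable one.
-/

set_option backward.isDefEq.respectTransparency false

universe u

open CategoryTheory CategoryTheory.Limits AlgebraicGeometry Opposite Topology
open AlgSp Groth.Agent.H12AlgSp

namespace Groth.Agent.H13AlgSp

variable (k : Type u) [Field k]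

/-- The spectrum of an algebra over a field as an object over it. -/
noncomputable abbrev algObj (A : Type u) [CommRing A] [Algebra k A] : Over (Spec (CommRingCat.of k)) :=
  Over.mk (Spec.map (CommRingCat.ofHom (algebraMap k A)))

variable {k}

/-- The map of spectra of algebras. -/
noncomputable def algHomOver {A B : Type u} [CommRing A] [CommRing B] [Algebra k A] [Algebra k B] (a : A →ₐ[k] B) :
    algObj k B ⟶ algObj k A :=
  Over.homMk (Spec.map (CommRingCat.ofHom a.toRingHom)) (by
    change Spec.map _ ≫ Spec.map _ = Spec.map _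
    rw [← Spec.map_comp, ← CommRingCat.ofHom_comp, show a.toRingHom.comp (algebraMap k A) = algebraMap k B from
      RingHom.ext a.commutes])

variable (k) (K : Type u) [Field K] [Algebra k K]

/-- The spectra of the finitely generated subalgebras. -/
noncomputable def subalgSystem : (Finset K)ᵒᵖ ⥤ Over (Spec (CommRingCat.of k)) where
  obj s := algObj k (Algebra.adjoin k ((unop s : Finset K) : Set K))
  map {_ _} h := algHomOver (Subalgebra.inclusion (Algebra.adjoin_mono (by exact_mod_cast leOfHom h.unop)))
  map_id _ := Over.OverMorphism.ext (Scheme.Spec.map_id _)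
  map_comp f g := Over.OverMorphism.ext ((H17.ConsPair.specSystem k K).map_comp f g)

/-- The spectrum of the field as a cone. -/
noncomputable def subalgCone : Cone (subalgSystem k K) where
  pt := extObj k K
  π :=
  { app := fun s => algHomOver (Algebra.adjoin k ((unop s : Finset K) : Set K)).val
    naturality := fun _ _ f => Over.OverMorphism.ext ((H17.ConsPair.specCone k K).π.naturality f) }

/-- The spectrum of the field is the limit. -/
noncomputable def isLimitSubalgCone : IsLimit (subalgCone k K) :=
  haveI : Nonempty (Finset K) := ⟨∅⟩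
  haveI : IsConnected (Finset K)ᵒᵖ := IsCofiltered.isConnected _
  isLimitOfReflects (Over.forget _) (H17.ConsPair.isLimitSpecCone k K)

variable {k}

/-- Representability of the base change passes along maps of bases. -/
theorem representable_prod_of_hom {X : Sp (Spec (CommRingCat.of k))} {T' T : Over (Spec (CommRingCat.of k))}
    (g : T' ⟶ T) (h : (X ⨯ (yon _).obj T).obj.IsRepresentable) : (X ⨯ (yon _).obj T').obj.IsRepresentable := by
  obtain ⟨W, ⟨μ⟩⟩ := isRepresentable_iff_exists_iso.1 h
  have hr : Representable (prod.map (𝟙 X) ((yon (Spec (CommRingCat.of k))).map g)) :=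
    representable_of_isPullback (isPullback_prod_map_snd' (X := X) ((yon _).map g)).flip
      (Functor.relativelyRepresentable.map (yon (Spec (CommRingCat.of k))) g)
  obtain ⟨W', w, f, sq⟩ := hr μ.hom
  have := sq.isIso_fst_of_isIso
  exact isRepresentable_iff_exists_iso.2 ⟨W', ⟨asIso f⟩⟩

/-- A qc qs space which is a scheme over some extension is so over a finite separable one. -/
theorem exists_separable_representable {X : Sp (Spec (CommRingCat.of k))} (hX : IsAlgSpace X)
    (hqc : IsQuasiCompactSp X) (hqs : IsQuasiSeparatedSp X) (h : (bcSp X K).obj.IsRepresentable) :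
    ∃ (L : Type u) (_ : Field L) (_ : Algebra k L), Module.Finite k L ∧ Algebra.IsSeparable k L ∧
      (bcSp X L).obj.IsRepresentable := by
  classical
  have : Nonempty (Finset K) := ⟨∅⟩
  have hqm : IsQuasiCompactMor (toBaseSp X) :=
    isQuasiCompactMor_of_qc_qs hX (IsAlgSpace.yon_obj _) _ hqc
      (isQuasiSeparatedSp_yon (U := Over.mk (𝟙 (Spec (CommRingCat.of k))))
        (inferInstanceAs (QuasiSeparatedSpace (Spec (CommRingCat.of k)))))
  have : ∀ j, IsAffine ((subalgSystem k K).obj j).left := fun j => inferInstanceAs (IsAffine (Spec _))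
  obtain ⟨j, hj⟩ := exists_schemeOver_stage (subalgSystem k K) (isLimitSubalgCone k K) hX (toBaseSp X) hqm hqs
    ((schemeOver_iff_bc X _).2 h)
  let A := Algebra.adjoin k ((j.unop : Finset K) : Set K)
  have hA : Algebra.FiniteType k A := ⟨(Subalgebra.fg_top A).2 ⟨j.unop, rfl⟩⟩
  obtain ⟨m, hm⟩ := Ideal.exists_maximal A
  let _ := Ideal.Quotient.field m
  have : Module.Finite k (A ⧸ m) := finite_of_finite_type_of_isJacobsonRing k (A ⧸ m)
  have hrep : (bcSp X (A ⧸ m)).obj.IsRepresentable :=
    representable_prod_of_hom (algHomOver (Ideal.Quotient.mkₐ k m)) ((schemeOver_iff_bc X _).1 hj)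
  let L := separableClosure k (A ⧸ m)
  have : IsPurelyInseparable L (A ⧸ m) := separableClosure.isPurelyInseparable k (A ⧸ m)
  refine ⟨L, inferInstance, inferInstance, inferInstance, inferInstance, ?_⟩
  obtain ⟨W, ⟨μ⟩⟩ := isRepresentable_iff_exists_iso.1 hrep
  let a : L →ₐ[k] A ⧸ m := L.val
  have key : ∀ (P : MorphismProperty Scheme.{u}) [P.IsStableUnderBaseChange],
      P (Spec.map (CommRingCat.ofHom (algebraMap L (A ⧸ m)))) → RepWith P (μ.hom ≫ bcSpMap X a) := fun P _ hP =>
    have : P.RespectsIso := MorphismProperty.IsStableUnderBaseChange.respectsIso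
    MorphismProperty.RespectsIso.precomp _ _ _ (repWith_bcSpMap P a hP)
  have : Module.Finite L (A ⧸ m) := Module.Finite.of_restrictScalars_finite k L (A ⧸ m)
  have h1 : IsFinite (Spec.map (CommRingCat.ofHom (algebraMap L (A ⧸ m)))) :=
    (IsFinite.SpecMap_iff _).2 (RingHom.finite_algebraMap.2 inferInstance)
  have hf : (CommRingCat.ofHom (algebraMap L (A ⧸ m))).hom.Flat :=
    RingHom.flat_algebraMap_iff.2 inferInstance
  have hp : (CommRingCat.ofHom (algebraMap L (A ⧸ m))).hom.FinitePresentation :=
    RingHom.finitePresentation_algebraMap.2 (Algebra.FinitePresentation.of_finiteType.1 inferInstance)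
  obtain ⟨M, ⟨e⟩⟩ := exists_iso_of_finLocFree_radicial_cover (key @IsFinite h1)
    (key @Flat (Flat.SpecMap_iff.2 hf))
    (key @LocallyOfFinitePresentation ((HasRingHomProperty.Spec_iff (P := @LocallyOfFinitePresentation)).2 hp))
    (key @Surjective ⟨fun x => ⟨IsLocalRing.closedPoint (A ⧸ m), Subsingleton.elim (α := PrimeSpectrum L) _ _⟩⟩)
    (injective_ofPt_of_univInj (key @UniversallyInjective
      (H7Lim.GeomConnFinite.universallyInjective_SpecMap L (A ⧸ m))))
  exact isRepresentable_iff_exists_iso.2 ⟨M, ⟨e⟩⟩

end Groth.Agent.H13AlgSp
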