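import Groth.Agent.H13AlgSp.FieldExtConn
import Groth.Agent.H22Alg.GaloisFibres

/-!
Galois extensions act transitively on the fibres of base changes of spaces.
-/

universe u

open CategoryTheory CategoryTheory.Limits AlgebraicGeometry Opposite Topology
open AlgSp Groth.Agent.H12AlgSp Groth.Agent.H22Alg.GaloisFibres

namespace Groth.Agent.H13AlgSp

variable {k : Type u} [Field k] {X : Sp (Spec (CommRingCat.of k))} {K : Type u} [Field K] [Algebra k K]

/-- The automorphism of the base change induced by an automorphism of the extension. -/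
noncomputable abbrev galMap (X : Sp (Spec (CommRingCat.of k))) (σ : K ≃ₐ[k] K) : bcSp X K ⟶ bcSp X K :=
  bcSpMap X σ.toAlgHom

theorem galMap_fst (σ : K ≃ₐ[k] K) : galMap X σ ≫ prod.fst = prod.fst := by simp [galMap]

variable {U : Over (Spec (CommRingCat.of k))} {a : (yon _).obj U ⟶ X} {W : Over (Spec (CommRingCat.of k))}
  {r : W ⟶ U} {w : W ⟶ extObj k K} {b : (yon _).obj W ⟶ bcSp X K}

theorem galMap_chart (hb : IsPullback ((yon _).map r) b a prod.fst) (hw : b ≫ prod.snd = (yon _).map w)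
    (sqW : IsPullback r.left w.left U.hom (Spec.map (CommRingCat.ofHom (algebraMap k K)))) (σ : K ≃ₐ[k] K)
    (z : W.left) :
    Points.map (galMap X σ) (Points.ofPt b z) =
      Points.ofPt b (sqW.isoPullback.inv (act U.hom K σ (sqW.isoPullback.hom z))) := by
  have hrleft : (sqW.isoPullback.hom ≫ act U.hom K σ ≫ sqW.isoPullback.inv) ≫ r.left = r.left := by
    simp [sqW.isoPullback_inv_fst, sqW.isoPullback_hom_fst]
  let t : W ⟶ W := Over.homMk (sqW.isoPullback.hom ≫ act U.hom K σ ≫ sqW.isoPullback.inv) (by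
    rw [← Over.w r, ← Category.assoc, hrleft])
  have htr : t ≫ r = r := Over.OverMorphism.ext hrleft
  have htw : t ≫ w = w ≫ extHom σ.toAlgHom := Over.OverMorphism.ext (by
    change (sqW.isoPullback.hom ≫ act U.hom K σ ≫ sqW.isoPullback.inv) ≫ w.left =
      w.left ≫ Spec.map (CommRingCat.ofHom (σ : K →ₐ[k] K).toRingHom)
    simp only [Category.assoc, sqW.isoPullback_inv_snd, act_snd]
    rw [← Category.assoc, sqW.isoPullback_hom_snd])
  have e : b ≫ galMap X σ = (yon _).map t ≫ b := by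
    apply Limits.prod.hom_ext
    · rw [Category.assoc, galMap_fst, ← hb.w, Category.assoc, ← hb.w, ← Functor.map_comp_assoc, htr]
    · rw [Category.assoc, Category.assoc, hw, ← Functor.map_comp, htw, Functor.map_comp]
      simp [galMap, reassoc_of% hw]
  rw [Points.map_ofPt, e, ofPt_map]
  rfl

theorem exists_galMap_eq [Normal k K] (hX : IsAlgSpace X) {p q : Points (bcSp X K)}
    (h : Points.map prod.fst p = Points.map prod.fst q) :
    ∃ σ : K ≃ₐ[k] K, Points.map (galMap X σ) q = p := by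
  obtain ⟨U, a, ha, has⟩ := hX.atlas
  obtain ⟨W, r, w, b, hb, hw, sqW⟩ := exists_bc_chart X K a
  obtain ⟨u, hu⟩ := surjective_ofPt_of_repWith le_rfl has (Points.map prod.fst p)
  have hlift : ∀ v : Points (bcSp X K), Points.map prod.fst v = Points.map prod.fst p →
      ∃ z : W.left, Points.ofPt b z = v ∧ r.left z = u := fun v hv => by
    obtain ⟨y, hy1, hy2⟩ := exists_point_of_isPullback hb (Points.ofScheme U u) v
      (by rw [← Points.ofPt_eq_map_ofScheme, hu, hv])
    obtain ⟨z, rfl⟩ := (Points.schemeEquiv W).surjective y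
    refine ⟨z, (Points.ofPt_eq_map_ofScheme b z).trans hy2, (Points.schemeEquiv U).injective (Eq.trans ?_ hy1)⟩
    change Points.ofScheme _ _ = Points.map _ (Points.ofScheme _ _)
    rw [← Points.ofPt_eq_map_ofScheme, ← Category.comp_id ((yon _).map r), ofPt_map]
  obtain ⟨zp, hzp, hup⟩ := hlift p rfl
  obtain ⟨zq, hzq, huq⟩ := hlift q h.symm
  obtain ⟨σ, hσ⟩ := exists_smul_eq U.hom K (z := sqW.isoPullback.hom zp) (z' := sqW.isoPullback.hom zq) (by
    rw [← Scheme.Hom.comp_apply, ← Scheme.Hom.comp_apply, sqW.isoPullback_hom_fst, hup, huq])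
  refine ⟨σ⁻¹, ?_⟩
  rw [← hzq, galMap_chart hb hw sqW, ← hzp]
  congr 1
  rw [smul_eq] at hσ
  rw [hσ, ← Scheme.Hom.comp_apply, Iso.hom_inv_id]
  rfl

/-- A quasi-compact open of the base change is fixed by the automorphisms over a finite level. -/
theorem exists_level_galMap [Normal k K] (hX : IsAlgSpace X) {V : Set (Points (bcSp X K))} (hV : IsOpen V)
    (hVc : IsCompact V) : ∃ L : IntermediateField k K, FiniteDimensional k L ∧
      ∀ σ ∈ L.fixingSubgroup, Points.map (galMap X σ) '' V = V := by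
  obtain ⟨U, a, ha, has⟩ := hX.atlas
  obtain ⟨W, r, w, b, hb, hw, sqW⟩ := exists_bc_chart X K a
  have hbe : RepWith @Etale b := repWith_of_isPullback hb ha
  have hbs : RepWith @Surjective b := repWith_of_isPullback hb has
  let c : ↥(pullback U.hom (Spec.map (CommRingCat.ofHom (algebraMap k K)))) → Points (bcSp X K) :=
    fun z => Points.ofPt b (sqW.isoPullback.inv z)
  have hc : Continuous c := (Points.continuous_ofPt b).comp sqW.isoPullback.inv.continuous
  have hco : IsOpenMap c := (isOpenMap_ofPt_of_repWith etale_le_universallyOpen hbe).comp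
    sqW.isoPullback.inv.isOpenEmbedding.isOpenMap
  have key : ∀ v : V, ∃ (O : Set (Points (bcSp X K))) (L : IntermediateField k K), IsOpen O ∧ v.1 ∈ O ∧ O ⊆ V ∧
      FiniteDimensional k L ∧ ∀ σ ∈ L.fixingSubgroup, ∀ o ∈ O, Points.map (galMap X σ) o ∈ O := fun v => by
    obtain ⟨z, hz⟩ := surjective_ofPt_of_repWith le_rfl hbs v.1
    obtain ⟨W', L, hW', hzW', hsub, hfd, hinv⟩ := exists_invariant_nhd U.hom K (c ⁻¹' V) (hV.preimage hc)
      (z := sqW.isoPullback.hom z) (by
        show Points.ofPt b (sqW.isoPullback.inv (sqW.isoPullback.hom z)) ∈ V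
        rw [← Scheme.Hom.comp_apply, Iso.hom_inv_id]
        exact hz ▸ v.2)
    refine ⟨c '' W', L, hco _ hW', ⟨_, hzW', ?_⟩, Set.image_subset_iff.2 hsub, hfd, fun σ hσ o ⟨y, hy, hyo⟩ => ?_⟩
    · show Points.ofPt b (sqW.isoPullback.inv (sqW.isoPullback.hom z)) = v.1
      rw [← Scheme.Hom.comp_apply, Iso.hom_inv_id]
      exact hz
    · refine ⟨_, hinv σ⁻¹ (inv_mem hσ) y hy, ?_⟩
      rw [← hyo, galMap_chart hb hw sqW, smul_eq, inv_inv]
      show Points.ofPt b _ = _
      congr 1
      rw [← Scheme.Hom.comp_apply sqW.isoPullback.inv sqW.isoPullback.hom, Iso.inv_hom_id]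
      rfl
  choose O L hO hvO hOV hfd hinv using key
  obtain ⟨s, hs⟩ := hVc.elim_finite_subcover O hO fun v hv => Set.mem_iUnion.2 ⟨⟨v, hv⟩, hvO _⟩
  refine ⟨s.sup L, ?_, fun σ hσ => ?_⟩
  · have : ∀ v, FiniteDimensional k (L v) := hfd
    rw [Finset.sup_eq_iSup]
    exact IntermediateField.finiteDimensional_iSup_of_finset
  · have hmem : ∀ τ ∈ (s.sup L).fixingSubgroup, ∀ v ∈ V, Points.map (galMap X τ) v ∈ V := fun τ hτ v hv => by
      obtain ⟨i, hi, hvi⟩ := Set.mem_iUnion₂.1 (hs hv)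
      exact hOV i (hinv i τ (IntermediateField.fixingSubgroup_antitone (Finset.le_sup (f := L) hi) hτ) v hvi)
    refine Set.Subset.antisymm (Set.image_subset_iff.2 fun v hv => hmem σ hσ v hv) fun v hv => ?_
    refine ⟨_, hmem σ⁻¹ (inv_mem hσ) v hv, ?_⟩
    rw [← Points.map_comp]
    have : galMap X σ⁻¹ ≫ galMap X σ = 𝟙 (bcSp X K) := by
      simp only [galMap, bcSpMap, Limits.prod.map_map, ← Functor.map_comp, Category.comp_id]
      rw [show extHom (σ⁻¹ : K ≃ₐ[k] K).toAlgHom ≫ extHom σ.toAlgHom = 𝟙 (extObj k K) from ?_]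
      · simp
      · refine Over.OverMorphism.ext ?_
        change Spec.map _ ≫ Spec.map _ = 𝟙 _
        rw [← Spec.map_comp, ← CommRingCat.ofHom_comp,
          show ((σ⁻¹ : K ≃ₐ[k] K).toAlgHom.toRingHom).comp σ.toAlgHom.toRingHom = RingHom.id K from
            RingHom.ext fun y => σ.symm_apply_apply y, CommRingCat.ofHom_id, Spec.map_id]
    rw [this, Points.map_id]

theorem preimage_image_bcSpMap [Normal k K] (hX : IsAlgSpace X) (L : IntermediateField k K)
    {V : Set (Points (bcSp X K))} (hV : ∀ σ ∈ L.fixingSubgroup, Points.map (galMap X σ) '' V = V) :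
    Points.map (bcSpMap X L.val) ⁻¹' (Points.map (bcSpMap X L.val) '' V) = V := by
  refine Set.Subset.antisymm (fun p hp => ?_) (Set.subset_preimage_image _ _)
  obtain ⟨q, hq, hqp⟩ := hp
  obtain ⟨U, a, ha, has⟩ := hX.atlas
  obtain ⟨W, r, w, b, hb, hw, sqW⟩ := exists_bc_chart X K a
  obtain ⟨W₁, r₁, w₁, b₁, hb₁, hw₁, sqW₁⟩ := exists_bc_chart X L a
  let m : W ⟶ W₁ := Over.homMk (sqW₁.lift r.left (w.left ≫ (extHom L.val).left) (by
    rw [Category.assoc, sqW.w]
    exact congrArg (fun t => w.left ≫ t) (Over.w (extHom L.val)).symm)) (by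
      rw [← Over.w r₁, sqW₁.lift_fst_assoc, Over.w r])
  have hm₁ : m ≫ r₁ = r := Over.OverMorphism.ext (sqW₁.lift_fst _ _ _)
  have hm₂ : m ≫ w₁ = w ≫ extHom L.val := Over.OverMorphism.ext (sqW₁.lift_snd _ _ _)
  have hcomm : b ≫ bcSpMap X L.val = (yon _).map m ≫ b₁ := by
    apply Limits.prod.hom_ext
    · rw [Category.assoc, Category.assoc, ← hb₁.w, ← Functor.map_comp_assoc, hm₁, hb.w]
      simp
    · rw [Category.assoc, Category.assoc, hw₁, ← Functor.map_comp, hm₂, Functor.map_comp]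
      simp [reassoc_of% hw]
  have sq : IsPullback ((yon _).map m) b b₁ (bcSpMap X L.val) :=
    IsPullback.of_right (by
      rw [← Functor.map_comp, hm₁, show bcSpMap X L.val ≫ prod.fst = (prod.fst : bcSp X K ⟶ X) by simp]
      exact hb) hcomm.symm hb₁
  obtain ⟨zq, hzq⟩ := surjective_ofPt_of_repWith le_rfl (repWith_of_isPullback hb has) q
  obtain ⟨y, hy1, hy2⟩ := exists_point_of_isPullback sq (Points.ofScheme W₁ (m.left zq)) p (by
    rw [← Points.ofPt_eq_map_ofScheme, ← ofPt_map, ← hcomm, ← Points.map_ofPt, hzq, hqp])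
  obtain ⟨zp, rfl⟩ := (Points.schemeEquiv W).surjective y
  have hmz : m.left zp = m.left zq := (Points.schemeEquiv W₁).injective (Eq.trans (by
    change Points.ofScheme _ _ = Points.map _ (Points.ofScheme _ _)
    rw [← Points.ofPt_eq_map_ofScheme, ← Category.comp_id ((yon _).map m), ofPt_map]) hy1)
  have hbc : sqW.isoPullback.hom ≫ Groth.Agent.H06Geom.bcMap U.hom L.val = m.left ≫ sqW₁.isoPullback.hom := by
    refine pullback.hom_ext ?_ ?_
    · refine (Category.assoc _ _ _).trans ((congrArg (sqW.isoPullback.hom ≫ ·) (pullback.lift_fst _ _ _)).trans ?_)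
      rw [sqW.isoPullback_hom_fst]
      refine Eq.trans ?_ (Category.assoc _ _ _).symm
      rw [sqW₁.isoPullback_hom_fst]
      exact (sqW₁.lift_fst _ _ _).symm
    · refine (Category.assoc _ _ _).trans ((congrArg (sqW.isoPullback.hom ≫ ·) (pullback.lift_snd _ _ _)).trans ?_)
      refine ((Category.assoc _ _ _).symm.trans (congrArg (· ≫ _) sqW.isoPullback_hom_snd)).trans ?_
      refine Eq.trans ?_ (Category.assoc _ _ _).symm
      rw [sqW₁.isoPullback_hom_snd]
      exact (sqW₁.lift_snd _ _ _).symm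
  obtain ⟨σ, hσ, hσz⟩ := exists_smul_eq_of_bcMap U.hom K L (z := sqW.isoPullback.hom zp)
    (z' := sqW.isoPullback.hom zq) (by
      have e := fun x => congrArg (fun f => f x) (congrArg (fun f : W.left ⟶ _ => (f : _ → _)) hbc)
      exact (e zp).trans ((congrArg sqW₁.isoPullback.hom hmz).trans (e zq).symm))
  rw [← hV _ (inv_mem hσ)]
  refine ⟨q, hq, ?_⟩
  rw [← hzq, galMap_chart hb hw sqW, ← hy2]
  refine Eq.trans ?_ (Points.ofPt_eq_map_ofScheme b zp)
  congr 1
  rw [smul_eq] at hσz
  rw [hσz, ← Scheme.Hom.comp_apply, Iso.hom_inv_id]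
  rfl

end Groth.Agent.H13AlgSp
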