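import Groth.Agent.H13AlgSp.PurelyInsepRep
import Groth.Agent.H13AlgSp.ExtRep
import Groth.Agent.H13AlgSp.GaloisOrbit
import Groth.Agent.H13AlgSp.EtaleLocally
import Groth.Agent.H13Grpd.InvariantAffine
import Groth.Agent.H18Descent.Basic
import Mathlib.AlgebraicGeometry.AlgClosed.Basic

/-!
A space over a field whose base change to a normal algebraic extension is a scheme is a scheme near the points whose
fibre lies in an affine open.
-/

set_option backward.isDefEq.respectTransparency false
set_option linter.style.haveILetI false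

universe u

open CategoryTheory CategoryTheory.Limits AlgebraicGeometry Opposite Topology
open AlgSp Groth.Agent.H12AlgSp

namespace Groth.Agent.H13AlgSp

variable {k : Type u} [Field k]

theorem isQuasiSeparatedSp_of_bc_qs {X : Sp (Spec (CommRingCat.of k))} (hX : IsAlgSpace X)
    {K : Type u} [Field K] [Algebra k K] {W : Over (Spec (CommRingCat.of k))} [QuasiSeparatedSpace W.left]
    (μ : (yon _).obj W ≅ bcSp X K) : IsQuasiSeparatedSp X := by
  refine isQuasiSeparatedSp_of_compact hX fun U V P a b fst snd hU hV sq => ?_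
  let π := μ.hom ≫ (prod.fst : bcSp X K ⟶ X)
  have haff : RepWith @IsAffineHom π :=
    MorphismProperty.RespectsIso.precomp _ _ _ (repWith_bcFst @IsAffineHom X K inferInstance)
  have hsur : RepWith @Surjective π :=
    MorphismProperty.RespectsIso.precomp _ _ _ (repWith_bcFst @Surjective X K ⟨fun x =>
      ⟨IsLocalRing.closedPoint K, Subsingleton.elim (α := PrimeSpectrum k) _ _⟩⟩)
  obtain ⟨UL, uU, w', sqU⟩ := haff.rep a
  obtain ⟨wU, rfl⟩ := (yon _).map_surjective w'
  obtain ⟨VL, vV, w', sqV⟩ := haff.rep b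
  obtain ⟨wV, rfl⟩ := (yon _).map_surjective w'
  have : IsAffineHom uU.left := haff.property _ _ uU sqU
  have : IsAffineHom vV.left := haff.property _ _ vV sqV
  have : IsAffine UL.left := isAffine_of_isAffineHom uU.left
  have : IsAffine VL.left := isAffine_of_isAffineHom vV.left
  have sqQ := IsPullback.of_hasPullback wU wV
  have sqQl : IsPullback (pullback.fst wU wV).left (pullback.snd wU wV).left wU.left wV.left :=
    sqQ.map (Over.forget _)
  have : CompactSpace (pullback wU wV).left := sqQl.isoPullback.inv.homeomorph.compactSpace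
  obtain ⟨m', hm1, hm2⟩ := sq.exists_lift ((yon _).map (pullback.fst wU wV ≫ uU))
    ((yon _).map (pullback.snd wU wV ≫ vV)) (by
      rw [Functor.map_comp, Functor.map_comp, Category.assoc, Category.assoc, ← sqU.w, ← sqV.w,
        ← Functor.map_comp_assoc, pullback.condition, Functor.map_comp_assoc])
  obtain ⟨m, rfl⟩ := (yon _).map_surjective m'
  obtain ⟨P', c, d', sqP⟩ := haff.rep ((yon _).map fst ≫ a)
  obtain ⟨d, rfl⟩ := (yon _).map_surjective d'
  have : Surjective c.left := hsur.property _ _ c sqP
  obtain ⟨x', hx1, hx2⟩ := sqU.exists_lift ((yon _).map d) ((yon _).map (c ≫ fst)) (by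
    rw [sqP.w, Functor.map_comp, Category.assoc])
  obtain ⟨x, rfl⟩ := (yon _).map_surjective x'
  obtain ⟨y', hy1, hy2⟩ := sqV.exists_lift ((yon _).map d) ((yon _).map (c ≫ snd)) (by
    rw [sqP.w, Functor.map_comp, Category.assoc, sq.w])
  obtain ⟨y, rfl⟩ := (yon _).map_surjective y'
  simp only [← Functor.map_comp] at hx1 hx2 hy1 hy2 hm1 hm2
  let l := pullback.lift x y (show x ≫ wU = y ≫ wV from
    ((yon _).map_injective hx1).trans ((yon _).map_injective hy1).symm)
  have hl : l ≫ m = c := by
    refine (yon _).map_injective (sq.hom_ext ?_ ?_)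
    · rw [← Functor.map_comp, ← Functor.map_comp, Category.assoc, (yon _).map_injective hm1,
        pullback.lift_fst_assoc, (yon _).map_injective hx2]
    · rw [← Functor.map_comp, ← Functor.map_comp, Category.assoc, (yon _).map_injective hm2,
        pullback.lift_snd_assoc, (yon _).map_injective hy2]
  have : Function.Surjective m.left := fun p => by
    obtain ⟨q, hq⟩ := c.left.surjective p
    exact ⟨l.left q, by rw [← Scheme.Hom.comp_apply, ← Over.comp_left, hl, hq]⟩
  exact this.compactSpace m.left.continuous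

variable {K : Type u} [Field K] [Algebra k K]

/-- The descended open of an affine open at a finite level is affine. -/
theorem isAffineOpen_image_of_isPullback {A B : Scheme.{u}} {ρ : A ⟶ B} {L : Type u} [Field L] [Algebra L K]
    {a : A ⟶ Spec (CommRingCat.of K)} {b : B ⟶ Spec (CommRingCat.of L)}
    (sq : IsPullback ρ a b (Spec.map (CommRingCat.ofHom (algebraMap L K))))
    {V : B.Opens} (hV : IsAffineOpen (ρ ⁻¹ᵁ V)) : IsAffineOpen V := by
  have sq' : IsPullback (ρ ∣_ V) ((ρ ⁻¹ᵁ V).ι ≫ a) (V.ι ≫ b) (Spec.map (CommRingCat.ofHom (algebraMap L K))) :=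
    (isPullback_morphismRestrict ρ V).paste_vert sq
  have hq : H18Descent.fpqc.{u} (Spec.map (CommRingCat.ofHom (algebraMap L K))) := by
    refine ⟨⟨⟨fun x => ⟨IsLocalRing.closedPoint K, Subsingleton.elim (α := PrimeSpectrum L) _ _⟩⟩, ?_⟩,
      inferInstance⟩
    exact Flat.SpecMap_iff.2 (show (CommRingCat.ofHom (algebraMap L K)).hom.Flat from
      RingHom.flat_algebraMap_iff.2 inferInstance)
  have : IsAffine (ρ ⁻¹ᵁ V).toScheme := hV
  have : IsAffineHom (V.ι ≫ b) := MorphismProperty.of_isPullback_of_descendsAlong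
    (P := @IsAffineHom) sq'.flip hq inferInstance
  exact isAffine_of_isAffineHom (V.ι ≫ b)

/-- A space is a scheme near a point whose fibre in the base change lies in an affine open. -/
theorem exists_openImmersion_nhd [Normal k K] {X : Sp (Spec (CommRingCat.of k))} (hX : IsAlgSpace X)
    (hqc : IsQuasiCompactSp X) (hqs : IsQuasiSeparatedSp X) {W : Over (Spec (CommRingCat.of k))}
    (μ : (yon _).obj W ≅ bcSp X K) (x : Points X) (V : W.left.Opens) (hV : IsAffineOpen V)
    (hx : ∀ w, Points.ofPt (μ.hom ≫ prod.fst) w = x → w ∈ V) :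
    ∃ (M : Over (Spec (CommRingCat.of k))) (j : (yon _).obj M ⟶ X),
      RepWith @IsOpenImmersion j ∧ x ∈ Set.range (Points.map j) := by
  classical
  have hμb : Function.Bijective (Points.ofPt μ.hom) := by
    rw [show Points.ofPt μ.hom = Points.map μ.hom ∘ Points.schemeHomeo W from
      funext fun t => Points.ofPt_eq_map_ofScheme _ t]
    exact Function.Bijective.comp (Function.bijective_iff_has_inverse.2 ⟨Points.map μ.inv,
      fun z => by rw [← Points.map_comp, Iso.hom_inv_id, Points.map_id],
      fun z => by rw [← Points.map_comp, Iso.inv_hom_id, Points.map_id]⟩) (Points.schemeHomeo W).bijective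
  have hμo : RepWith @IsOpenImmersion μ.hom := by
    simpa using MorphismProperty.RespectsIso.postcomp (RepWith (S := Spec (CommRingCat.of k)) @IsOpenImmersion)
      μ.hom _ (repWith_id @IsOpenImmersion W)
  have hV'o : IsOpen (Points.ofPt μ.hom '' (V : Set W.left)) :=
    isOpenMap_ofPt_of_repWith (fun _ _ k (_ : IsOpenImmersion k) => inferInstance) hμo _ V.2
  have hV'c : IsCompact (Points.ofPt μ.hom '' (V : Set W.left)) :=
    hV.isCompact.image (Points.continuous_ofPt _)
  obtain ⟨L₀, hL₀, hinv⟩ := exists_level_galMap hX hV'o hV'c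
  obtain ⟨s, hs⟩ := exists_subfield_representable K hX hqc hqs (isRepresentable_iff_exists_iso.2 ⟨W, ⟨μ⟩⟩)
  let L : IntermediateField k K := L₀ ⊔ IntermediateField.adjoin k (s : Set K)
  have : FiniteDimensional k (IntermediateField.adjoin k (s : Set K)) :=
    IntermediateField.finiteDimensional_adjoin fun y _ => Algebra.IsIntegral.isIntegral y
  have : FiniteDimensional k L := IntermediateField.finiteDimensional_sup L₀ _
  have hinv' : ∀ σ ∈ L.fixingSubgroup, Points.map (galMap X σ) '' (Points.ofPt μ.hom '' (V : Set W.left)) =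
      Points.ofPt μ.hom '' (V : Set W.left) := fun σ hσ =>
    hinv σ (IntermediateField.fixingSubgroup_antitone le_sup_left hσ)
  have hsat := preimage_image_bcSpMap hX L hinv'
  obtain ⟨WL, ⟨ν⟩⟩ := isRepresentable_iff_exists_iso.1 (representable_prod_of_hom
    (extHom (IntermediateField.inclusion (le_sup_right : IntermediateField.adjoin k (s : Set K) ≤ L))) hs)
  obtain ⟨ρ, hρ⟩ := (yon _).map_surjective (μ.hom ≫ bcSpMap X L.val ≫ ν.inv)
  obtain ⟨wK, hwK⟩ := (yon _).map_surjective (μ.hom ≫ prod.snd)
  obtain ⟨wL, hwL⟩ := (yon _).map_surjective (ν.hom ≫ prod.snd)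
  have sqρ : IsPullback ρ.left wK.left wL.left (extHom L.val).left := by
    refine (IsPullback.of_map_of_faithful (yon _) (f := ρ) (g := wK) (h := wL) (i := extHom L.val) ?_).map (Over.forget _)
    exact IsPullback.of_iso (isPullback_prod_map_snd' (X := X) ((yon _).map (extHom L.val))) μ.symm ν.symm
      (Iso.refl _) (Iso.refl _) (by simp [hρ, bcSpMap, bcSp]) (by simp [hwK, bcSp]) (by simp [hwL]; rfl)
      (by simp)
  have sqρ' : IsPullback ρ.left wK.left wL.left (Spec.map (CommRingCat.ofHom (algebraMap L K))) := sqρ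
  have : Surjective ρ.left := MorphismProperty.of_isPullback sqρ'.flip
    ⟨fun y => ⟨IsLocalRing.closedPoint K, Subsingleton.elim (α := PrimeSpectrum L) _ _⟩⟩
  have : UniversallyOpen ρ.left := by
    have : DiscreteTopology ↥(extObj k L).left := inferInstanceAs (DiscreteTopology (PrimeSpectrum L))
    exact MorphismProperty.of_isPullback sqρ'.flip (H06Desc.universallyOpen_of_discreteTopology _)
  let VL : WL.left.Opens := ⟨ρ.left '' (V : Set W.left), ρ.left.isOpenMap _ V.2⟩
  have hpre : ρ.left ⁻¹ᵁ VL = V := by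
    refine TopologicalSpace.Opens.ext (Set.Subset.antisymm (fun w hw => ?_) (Set.subset_preimage_image _ _))
    obtain ⟨v, hv, hvw⟩ := hw
    have e : Points.map (bcSpMap X L.val) (Points.ofPt μ.hom v) = Points.map (bcSpMap X L.val) (Points.ofPt μ.hom w) := by
      have h1 : ∀ z, Points.map (bcSpMap X L.val) (Points.ofPt μ.hom z) = Points.ofPt ν.hom (ρ.left z) := fun z => by
        rw [← ofPt_map, hρ, Category.assoc, Category.assoc, Iso.inv_hom_id, Category.comp_id,
          Points.ofPt_eq_map_ofScheme, Points.ofPt_eq_map_ofScheme, ← Points.map_comp]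
      rw [h1, h1, hvw]
    obtain ⟨w', hw', e'⟩ := hsat.le (show Points.ofPt μ.hom w ∈ _ from ⟨_, ⟨v, hv, rfl⟩, e⟩)
    exact hμb.1 e' ▸ hw'
  have hVL : IsAffineOpen VL := isAffineOpen_image_of_isPullback sqρ' (hpre ▸ hV)
  let e := ν.hom ≫ (prod.fst : bcSp X L ⟶ X)
  have key : ∀ (P : MorphismProperty Scheme.{u}) [P.IsStableUnderBaseChange],
      P (Spec.map (CommRingCat.ofHom (algebraMap k L))) → RepWith P e := fun P _ hP =>
    have : P.RespectsIso := MorphismProperty.IsStableUnderBaseChange.respectsIso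
    MorphismProperty.RespectsIso.precomp _ _ _ (repWith_bcFst P X L hP)
  have hfin : RepWith @IsFinite e :=
    key @IsFinite ((IsFinite.SpecMap_iff _).2 (RingHom.finite_algebraMap.2 inferInstance))
  have hfl : RepWith @Flat e := key @Flat (Flat.SpecMap_iff.2
    (show (CommRingCat.ofHom (algebraMap k L)).hom.Flat from RingHom.flat_algebraMap_iff.2 inferInstance))
  have hfp : RepWith @LocallyOfFinitePresentation e := by
    refine key @LocallyOfFinitePresentation ((HasRingHomProperty.Spec_iff (P := @LocallyOfFinitePresentation)).2 ?_)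
    exact RingHom.finitePresentation_algebraMap.2 (Algebra.FinitePresentation.of_finiteType.1 inferInstance)
  have hsur : RepWith @Surjective e :=
    key @Surjective ⟨fun y => ⟨IsLocalRing.closedPoint L, Subsingleton.elim (α := PrimeSpectrum k) _ _⟩⟩
  have hO : IsOpen (Points.ofPt e '' ((VL : Set WL.left)ᶜ))ᶜ := by
    refine IsClosed.isOpen_compl (self := ?_)
    have : IsClosedMap (Points.ofPt e) := by
      rw [show Points.ofPt e = Points.map e ∘ Points.schemeHomeo WL from
        funext fun t => Points.ofPt_eq_map_ofScheme _ t]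
      exact (isClosedMap_map_of_repWith le_rfl (repWith_le (fun _ _ f (_ : IsFinite f) => (inferInstance : UniversallyClosed f)) hfin)).comp
        (Points.schemeHomeo WL).isClosedMap
    exact this _ VL.2.isClosed_compl
  set O : Set (Points X) := (Points.ofPt e '' ((VL : Set WL.left)ᶜ))ᶜ
  have hxO : x ∈ O := by
    rintro ⟨z, hz, hze⟩
    obtain ⟨w, rfl⟩ := ρ.left.surjective z
    refine hz ⟨w, hx w ?_, rfl⟩
    rw [← hze, ← ofPt_map, hρ]
    simp [e, bcSpMap, bcSp]
  obtain ⟨U', u, g, sq⟩ := (repWith_openSubι hO).rep e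
  have hu : IsOpenImmersion u.left := (repWith_openSubι hO).property _ _ u sq
  have hmem : ∀ z, u.left z ∈ VL := fun z => by
    by_contra h
    have h1 : Points.ofPt e (u.left z) ∈ O := by
      rw [← ofPt_map, ← sq.w]
      exact ofPt_openSubι_mem g z
    exact h1 ⟨_, h, rfl⟩
  have hfin' := repWith_of_isPullback sq.flip hfin
  obtain ⟨R, s', t', sqR⟩ := hfin'.rep g
  obtain ⟨t, rfl⟩ := (yon _).map_surjective t'
  have : IsFinite s'.left := hfin'.property _ _ s' sqR
  obtain ⟨M, ⟨ε⟩⟩ := exists_iso_of_finLocFree_cover hfin' (repWith_of_isPullback sq.flip hfl)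
    (repWith_of_isPullback sq.flip hfp) (repWith_of_isPullback sq.flip hsur) fun z => by
    have hE : ({y | Points.ofPt g y = Points.ofPt g z} : Set U'.left).Finite := by
      refine ((s'.left.finite_preimage_singleton z).image t.left).subset fun y hy => ?_
      obtain ⟨r, hr1, hr2⟩ := exists_arrow_of_ofPt_eq sqR hy
      exact ⟨r, by simp [hr2], hr1⟩
    obtain ⟨f, hf, hfle⟩ := H13Grpd.exists_basicOpen_finite hVL (hE.image u.left)
      (O := u.left.opensRange) (by rintro _ ⟨y, -, rfl⟩; exact ⟨y, rfl⟩) (by rintro _ ⟨y, rfl⟩; exact hmem y)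
    exact ⟨u.left ⁻¹ᵁ WL.left.basicOpen f,
      (hVL.basicOpen f).preimage_of_isOpenImmersion u.left hfle, fun y hy => hf ⟨y, hy, rfl⟩⟩
  refine ⟨M, ε.hom ≫ openSubι O, MorphismProperty.RespectsIso.precomp _ _ _ (repWith_openSubι hO), ?_⟩
  obtain ⟨z, hz⟩ := (range_openSubι hX O).ge hxO
  exact ⟨Points.map ε.inv z, by rw [← Points.map_comp, Iso.inv_hom_id_assoc, hz]⟩

end Groth.Agent.H13AlgSp
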