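import Groth.Agent.H13AlgSp.DecentJacobson
import Groth.Agent.H13AlgSp.AffineLocal

/-!
Closed points over finite type points; dimension functions along finite surjective morphisms.
-/

universe u

open CategoryTheory CategoryTheory.Limits AlgebraicGeometry Opposite Topology
open AlgSp Groth.Agent.H12AlgSp

namespace Groth.Agent.H13AlgSp

/-- The Jacobson property passes down along surjections lifting generizations with discrete fibres. -/
theorem jacobsonSpace_of_surjective {U W : Scheme.{u}} (g : U ⟶ W) [Etale g] [Surjective g]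
    [JacobsonSpace U] : JacobsonSpace W := by
  refine jacobsonSpace_iff_locallyClosed.2 fun Z hne ⟨O, C, hO, hC, e⟩ => ?_
  subst e
  obtain ⟨w, hw, hlc⟩ := Groth.Agent.H05EGA4.exists_singleton_locallyClosed_of_inter W hO hC hne
  refine ⟨w, hw, ?_⟩
  change IsClosed ({w} : Set W)
  rw [← closure_subset_iff_isClosed]
  intro z hz
  obtain ⟨v, rfl⟩ := g.surjective z
  obtain ⟨v', hv', hv'w⟩ := Flat.generalizingMap g (specializes_iff_mem_closure.2 hz)
  have := lqf_of_etale g
  have hd : _root_.IsDiscrete (g ⁻¹' {w}) := g.isDiscrete_preimage_singleton w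
  obtain ⟨N, hN, hNv⟩ : ∃ N : Set U, IsOpen N ∧ N ∩ g ⁻¹' {w} = {v'} :=
    isDiscrete_iff_forall_mem_exists_isOpen.1 hd v' hv'w
  have hlc' : IsLocallyClosed ({v'} : Set U) := by
    rw [← hNv]
    exact hN.isLocallyClosed.inter (hlc.preimage g.continuous)
  have hc := isClosed_singleton_of_isLocallyClosed_singleton hlc'
  rw [← hv'w, show v = v' from hv'.mem_closed hc rfl]
  rfl

variable {S : Scheme.{u}}

theorem exists_closedPoint_over_ftPt {X : Sp S} (hX : IsAlgSpace X)
    (hJ : EtaleLocally (fun U => JacobsonSpace ↥U) X) (x : Points X)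
    (hx : HasAt (fun U u => IsClosed ({u} : Set ↥U)) X x) {W : Over S} {g : (yon S).obj W ⟶ X}
    (hg : LocP @LocallyOfFiniteType g) (hxW : x ∈ Set.range (Points.ofPt g)) :
    ∃ w : W.left, IsClosed ({w} : Set W.left) ∧ Points.ofPt g w = x := by
  obtain ⟨U₀, a₀, ha₀, has₀, hJ₀⟩ := hJ
  obtain ⟨U, a, u, ha, rfl, hu⟩ := hx
  obtain ⟨w₀, hw₀⟩ := hxW
  obtain ⟨V, c, h', sq⟩ := ha₀.1 g
  obtain ⟨h, rfl⟩ := (yon S).map_surjective h'
  have hce : Etale c.left := ha₀.2 g _ c sq
  have hcs : Surjective c.left := has₀.2 g _ c sq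
  have hh : LocallyOfFiniteType h.left := hg ((yon S).map c) a₀ h ((repWith_yon_map_iff _ _).2 hce) ha₀ sq.w.symm
  obtain ⟨v, hv⟩ := c.left.surjective w₀
  have he : Points.ofPt a₀ (h.left v) = Points.ofPt a u := by
    rw [← ofPt_map, sq.w, ofPt_map, hv, hw₀]
  have hc : IsClosed ({h.left v} : Set U₀.left) := isClosed_transfer hX ha ha₀ hu he.symm
  have : JacobsonSpace V.left := LocallyOfFiniteType.jacobsonSpace h.left
  obtain ⟨v', hv', hv'c⟩ := nonempty_inter_closedPoints (Z := h.left ⁻¹' {h.left v}) ⟨v, rfl⟩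
    (hc.preimage h.left.continuous).isLocallyClosed
  have : JacobsonSpace W.left := jacobsonSpace_of_surjective c.left
  refine ⟨c.left v', c.left.closePoints_subset_preimage_closedPoints hv'c, ?_⟩
  rw [← ofPt_map, ← sq.w, ofPt_map, show h.left v' = h.left v from hv', he]

theorem isClosedMap_map_of_isFiniteMor {X Y : Sp S} {f : Y ⟶ X} (hf : IsFiniteMor f) :
    IsClosedMap (Points.map f) :=
  isClosedMap_map_of_repWith (P := @IsFinite) (fun _ _ g (_ : IsFinite g) => inferInstance) (isFiniteMor_iff.1 hf)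

theorem eq_of_specializes_of_isFiniteMor {X Y : Sp S} (hX : IsAlgSpace X) (hdX : IsDecent X) (hdY : IsDecent Y)
    {f : Y ⟶ X} (hf : IsFiniteMor f) {y₁ y₂ : Points Y} (h : y₁ ⤳ y₂) (he : Points.map f y₁ = Points.map f y₂) :
    y₁ = y₂ := by
  obtain ⟨U, a, ha, has⟩ := hX.atlas
  have hf' := isFiniteMor_iff.1 hf
  obtain ⟨V, c, b, sq⟩ := hf'.1 a
  have hc : IsFinite c.left := hf'.2 a _ c sq
  have hb : RepWith @Etale b := repWith_of_isPullback sq.flip ha
  obtain ⟨u₂, hu₂⟩ := surjective_ofPt_of_repWith le_rfl has (Points.map f y₂)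
  obtain ⟨v₂, hv₂, -⟩ := exists_point_of_isPullback sq y₂ (Points.ofScheme U u₂)
    (by rw [← Points.ofPt_eq_map_ofScheme, hu₂])
  obtain ⟨v₂, rfl⟩ := (Points.schemeEquiv V).surjective v₂
  have hb₂ : Points.ofPt b v₂ = y₂ := by rw [Points.ofPt_eq_map_ofScheme]; exact hv₂
  obtain ⟨v₁, hv, hb₁⟩ := generalizingMap_chart hdY hb (show y₁ ⤳ Points.ofPt b v₂ from hb₂.symm ▸ h)
  have key : ∀ v, Points.ofPt a (c.left v) = Points.map f (Points.ofPt b v) := fun v => by
    rw [Points.map_ofPt, sq.w, ofPt_map]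
  have e : c.left v₂ = c.left v₁ := eq_of_specializes_chart hdX ha (hv.map c.left.continuous)
    (by rw [key, key, hb₁, hb₂, he])
  rw [← hb₁, ← hb₂, Groth.Agent.H05EGA4.eq_of_specializes_of_fibre c.left hv e.symm]

theorem dimensionFunction_descends {X Y : Sp S} (hX : IsAlgSpace X) (hdX : IsDecent X) (hdY : IsDecent Y)
    {f : Y ⟶ X} (hf : IsFiniteMor f) (hs : Function.Surjective (Points.map f)) (δ : Points X → ℤ)
    (hδ : ∀ a b : Points Y, a ⤳ b → a ≠ b → δ (Points.map f b) < δ (Points.map f a) ∧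
      ((∀ c : Points Y, a ⤳ c → c ⤳ b → c = a ∨ c = b) → δ (Points.map f a) = δ (Points.map f b) + 1)) :
    ∀ a b : Points X, a ⤳ b → a ≠ b → δ b < δ a ∧
      ((∀ c : Points X, a ⤳ c → c ⤳ b → c = a ∨ c = b) → δ a = δ b + 1) := by
  intro a b hab hne
  obtain ⟨a', rfl⟩ := hs a
  obtain ⟨b', hab', rfl⟩ := (isClosedMap_map_of_isFiniteMor hf).specializingMap hab
  obtain ⟨h1, h2⟩ := hδ a' b' hab' (fun e => hne (congrArg _ e))
  refine ⟨h1, fun hc => h2 fun c hac hcb => ?_⟩
  rcases hc _ (hac.map (Points.continuous_map f)) (hcb.map (Points.continuous_map f)) with e | e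
  · exact Or.inl (eq_of_specializes_of_isFiniteMor hX hdX hdY hf hac e.symm).symm
  · exact Or.inr (eq_of_specializes_of_isFiniteMor hX hdX hdY hf hcb e)

end Groth.Agent.H13AlgSp
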