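import Groth.Agent.H13AlgSp.DenseFiniteScheme
import Groth.Agent.H13AlgSp.DecentDense
import Groth.Agent.H13AlgSp.DecentGeneric
import Groth.Agent.H13AlgSp.DecentFinite

/-!
A morphism which matches the finitely many points of codimension zero is finite over a dense open.
-/

universe u

open CategoryTheory CategoryTheory.Limits AlgebraicGeometry Opposite Topology
open AlgSp Groth.Agent.H12AlgSp

set_option linter.style.haveILetI false

namespace Groth.Agent.H13AlgSp.DenseFinite

open Groth.Agent.H13AlgSp.QfFinite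

variable {S : Scheme.{u}}

theorem codimZero_map {X' X : Sp S} {θ : X' ⟶ X} (hθ : RepWith @Etale θ) {z : Points X'}
    (hz : CodimZero X' z) : CodimZero X (Points.map θ z) := by
  obtain ⟨U, a, u, ha, rfl, h⟩ := hz
  exact ⟨U, a ≫ θ, u, repWith_comp ha hθ, (Points.map_ofPt _ _ _).symm, h⟩

theorem repWith_etale_of_openImmersion {X' X : Sp S} {θ : X' ⟶ X} (hθ : RepWith @IsOpenImmersion θ) :
    RepWith @Etale θ :=
  repWith_le (fun _ _ k (_ : IsOpenImmersion k) => inferInstanceAs (Etale k)) hθ

theorem exists_finite_over_chart {P : Sp S} (hP : IsAlgSpace P) {V : Over S} [IsAffine V.left]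
    (p : P ⟶ (yon S).obj V) (hp : LocP @LocallyOfFiniteType p)
    (hqs : IsQuasiCompactMor p ∨ IsSeparatedMor p) (hfin : {x : Points P | CodimZero P x}.Finite)
    {v : V.left} (hv : v ∈ genericPoints V.left)
    (hgen : ∀ x, CodimZero P x → Points.map p x = Points.ofScheme V v)
    (hfib : ∀ x, Points.map p x = Points.ofScheme V v → CodimZero P x) :
    ∃ (V' : Over S) (ι : V' ⟶ V), IsAffine V'.left ∧ IsOpenImmersion ι.left ∧ v ∈ Set.range ι.left ∧
      IsFiniteMor (pullback.snd p ((yon S).map ι)) := by
  classical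
  obtain ⟨U, u, hU, hu, hcov, hor⟩ : ∃ (U : Over S) (u : (yon S).obj U ⟶ P), IsAffine U.left ∧
      RepWith @Etale u ∧ (∀ x, CodimZero P x → x ∈ Set.range (Points.ofPt u)) ∧
      (RepWith @Surjective u ∨ IsSeparatedMor p) := by
    rcases hqs with hqc | hsep
    · haveI : CompactSpace V.left := inferInstance
      haveI := compactSpace_points_of_isQuasiCompactSp
        ((isQuasiCompactSp_yon_iff (T := V)).2 inferInstance)
      haveI : CompactSpace (Points P) := isCompact_univ_iff.1 (by
        simpa using isCompact_preimage (IsAlgSpace.yon_obj V) hqc isOpen_univ isCompact_univ)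
      obtain ⟨U, u, hU, hu, hus⟩ := Groth.Agent.H12AlgSp.exists_affine_atlas hP
      exact ⟨U, u, hU, hu, fun x _ => surjective_ofPt_of_repWith le_rfl hus x, Or.inl hus⟩
    · choose A hA hAc hAx hA' using fun x : Points P =>
        exists_compact_open_nhd hP x isOpen_univ (Set.mem_univ x)
      obtain ⟨U, u, hU, hu, hr⟩ := exists_affine_chart hP
        (isOpen_biUnion (s := (hfin.toFinset : Set (Points P))) fun x _ => hA x)
        (hfin.toFinset.isCompact_biUnion fun x _ => hAc x)
      refine ⟨U, u, hU, hu, fun x hx => ?_, Or.inr hsep⟩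
      rw [hr]
      exact Set.mem_biUnion (x := x) (by simpa using hx) (hAx x)
  haveI := hU
  obtain ⟨g, hg⟩ := (yon S).map_surjective (u ≫ p)
  haveI : LocallyOfFiniteType g.left :=
    hp u (𝟙 _) g hu (repWith_of_isIso _) (by rw [hg, Category.comp_id])
  have hmap : ∀ a, Points.map p (Points.ofPt u a) = Points.ofScheme V (g.left a) := fun a => by
    rw [Points.map_ofPt, ← hg, ← Category.comp_id ((yon S).map g), ofPt_map]
  have hgen' : ∀ a ∈ genericPoints U.left, g.left a = v := fun a ha => by
    have := hgen _ ((codimZero_iff_mem_genericPoints hP hu a).2 ha)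
    rw [hmap] at this
    simpa using congrArg (Points.toScheme V) this
  have hfib' : ∀ a, g.left a = v → a ∈ genericPoints U.left := fun a ha =>
    (codimZero_iff_mem_genericPoints hP hu a).1 (hfib _ (by rw [hmap, ha]))
  obtain ⟨R, r₂, r₁', sqR⟩ : ∃ (R : Over S) (r₂ : R ⟶ U) (r₁ : (yon S).obj R ⟶ (yon S).obj U),
      IsPullback r₁ ((yon S).map r₂) u u := ⟨_, _, _, hu.rep.isPullback u⟩
  obtain ⟨r₁, rfl⟩ := (yon S).map_surjective r₁'
  haveI : Etale r₂.left := hu.property _ _ r₂ sqR
  have w : r₁ ≫ g = r₂ ≫ g := (yon S).map_injective (by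
    rw [Functor.map_comp, Functor.map_comp, hg, reassoc_of% sqR.w])
  have w' : r₁.left ≫ g.left = r₂.left ≫ g.left := congrArg (·.left) w
  haveI : Mono (pullback.lift r₁.left r₂.left w') := by
    constructor
    intro T a a' e
    have e₁ : a ≫ r₁.left = a' ≫ r₁.left := ((congrArg (a ≫ ·) (pullback.lift_fst _ _ _).symm).trans ((Category.assoc _ _ _).symm.trans ((congrArg (· ≫ pullback.fst _ _) e).trans (Category.assoc _ _ _)))).trans (congrArg (a' ≫ ·) (pullback.lift_fst _ _ _))
    have e₂ : a ≫ r₂.left = a' ≫ r₂.left := ((congrArg (a ≫ ·) (pullback.lift_snd _ _ _).symm).trans ((Category.assoc _ _ _).symm.trans ((congrArg (· ≫ pullback.snd _ _) e).trans (Category.assoc _ _ _)))).trans (congrArg (a' ≫ ·) (pullback.lift_snd _ _ _))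
    let T' : Over S := Over.mk (a ≫ R.hom)
    let α : T' ⟶ R := Over.homMk a
    let α' : T' ⟶ R := Over.homMk a' (by
      show a' ≫ R.hom = a ≫ R.hom
      rw [← Over.w r₁, ← Category.assoc, ← Category.assoc, e₁])
    have : α = α' := (yon S).map_injective (sqR.hom_ext
      (by rw [← Functor.map_comp, ← Functor.map_comp]; exact congrArg _ (Over.OverMorphism.ext e₁))
      (by rw [← Functor.map_comp, ← Functor.map_comp]; exact congrArg _ (Over.OverMorphism.ext e₂)))
    exact congrArg (·.left) this
  obtain ⟨O, hO, hvO, hfU, hfR⟩ := exists_finite_over g.left r₁.left r₂.left w' hv hgen' hfib'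
  let V' : Over S := Over.mk (O.ι ≫ V.hom)
  let ι : V' ⟶ V := Over.homMk O.ι
  haveI : IsAffine V'.left := hO
  haveI hιo : IsOpenImmersion ι.left := inferInstanceAs (IsOpenImmersion O.ι)
  refine ⟨V', ι, inferInstance, hιo, ⟨⟨v, hvO⟩, rfl⟩, ?_⟩
  have hgU : IsFinite (pullback.snd g ι).left := by
    have := ((IsPullback.of_hasPullback g ι).map (Over.forget S))
    exact (MorphismProperty.cancel_left_of_respectsIso @IsFinite this.isoPullback.inv _).1
      (by erw [this.isoPullback_inv_snd]; exact hfU)
  have sqθ : IsPullback (pullback.fst p ((yon S).map ι)) (pullback.snd p ((yon S).map ι)) p ((yon S).map ι) :=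
    IsPullback.of_hasPullback _ _
  generalize pullback.fst p ((yon S).map ι) = θ at sqθ
  generalize hqV : pullback.snd p ((yon S).map ι) = qV at sqθ ⊢
  have hQ : IsAlgSpace (pullback p ((yon S).map ι)) :=
    isAlgSpace_pullback (IsAlgSpace.yon_obj V).diag hP (IsAlgSpace.yon_obj V') _ _
  have hθ : RepWith @IsOpenImmersion θ :=
    repWith_of_isPullback sqθ.flip ((repWith_yon_map_iff _ ι).2 hιo)
  haveI : Mono θ := mono_of_openImmersion hθ
  let U' : Over S := pullback g ι
  obtain ⟨u', hu'₁, hu'₂⟩ := sqθ.exists_lift ((yon S).map (pullback.fst g ι) ≫ u)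
    ((yon S).map (pullback.snd g ι)) (by
      rw [Category.assoc, ← hg, ← Functor.map_comp, pullback.condition, Functor.map_comp])
  have squ : IsPullback ((yon S).map (pullback.fst g ι)) u' u θ :=
    IsPullback.of_bot (by rw [hu'₂, ← hg]; exact (IsPullback.of_hasPullback g ι).map (yon S)) hu'₁.symm sqθ
  have hu'e : RepWith @Etale u' := repWith_of_isPullback squ hu
  have hfq : IsFiniteMor (u' ≫ qV) := by
    rw [hu'₂]
    exact isFiniteMor_iff.2 ((repWith_yon_map_iff _ _).2 hgU)
  have hu's : RepWith @Surjective u' := by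
    rcases hor with hus | hsep
    · exact repWith_of_isPullback squ hus
    have hsepQ : IsSeparatedMor qV := isSeparatedMor_of_isPullback sqθ hsep
    have hu'f : RepWith @IsFinite u' := repWith_of_comp_separated
      (fun _ _ k (_ : IsClosedImmersion k) => inferInstanceAs (IsFinite k)) hsepQ (isFiniteMor_iff.1 hfq)
    refine repWith_surjective_of_map hu'e.1 fun z => ?_
    have hcl := (isClosedMap_map_of_isFiniteMor (isFiniteMor_iff.2 hu'f)).isClosed_range
    have hsub : {z | CodimZero _ z} ⊆ Set.range (Points.map u') := by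
      intro z hz
      have hx := codimZero_map (repWith_etale_of_openImmersion hθ) hz
      obtain ⟨a, ha⟩ := hcov _ hx
      have hga : g.left a = v := hgen' a ((codimZero_iff_mem_genericPoints hP hu a).1 (ha.symm ▸ hx))
      obtain ⟨a', ha', -⟩ := Scheme.exists_preimage_of_isPullback
        ((IsPullback.of_hasPullback g ι).map (Over.forget S)) a (⟨v, hvO⟩ : O) hga
      refine ⟨Points.ofScheme U' a', injective_map_of_mono θ ?_⟩
      rw [← Points.map_comp, hu'₁, ← Points.ofPt_eq_map_ofScheme, ofPt_map]
      exact (congrArg (Points.ofPt u) ha').trans ha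
    exact hcl.closure_subset_iff.2 hsub (dense_codimZero hQ z)
  obtain ⟨R', t₂, t₁', sqR'⟩ : ∃ (R' : Over S) (t₂ : R' ⟶ U') (t₁ : (yon S).obj R' ⟶ (yon S).obj U'),
      IsPullback t₁ ((yon S).map t₂) u' u' := ⟨_, _, _, hu'e.rep.isPullback u'⟩
  obtain ⟨t₁, rfl⟩ := (yon S).map_surjective t₁'
  obtain ⟨ρ', hρ₁, hρ₂⟩ := sqR.exists_lift ((yon S).map (t₁ ≫ pullback.fst g ι))
    ((yon S).map (t₂ ≫ pullback.fst g ι)) (by
      rw [Functor.map_comp, Functor.map_comp, Category.assoc, Category.assoc, squ.w,
        reassoc_of% sqR'.w])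
  obtain ⟨ρ, rfl⟩ := (yon S).map_surjective ρ'
  rw [← Functor.map_comp] at hρ₁ hρ₂
  have sqρ : IsPullback ((yon S).map ρ) ((yon S).map t₂) ((yon S).map r₂) ((yon S).map (pullback.fst g ι)) := by
    refine IsPullback.of_right (h₁₂ := (yon S).map r₁) (h₂₂ := u) (v₁₃ := u) ?_
      (by rw [← Functor.map_comp, ← Functor.map_comp, (yon S).map_injective hρ₂]) sqR
    rw [← Functor.map_comp, hρ₁, Functor.map_comp, squ.w]
    exact sqR'.paste_horiz squ
  have hR' : IsFinite (t₂ ≫ pullback.snd g ι).left := by
    have s1 : IsPullback ρ.left t₂.left r₂.left (pullback.fst g ι).left :=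
      (IsPullback.of_map (yon S) ((yon S).map_injective (by
        rw [Functor.map_comp, Functor.map_comp]; exact sqρ.w)) sqρ).map (Over.forget S)
    have s2 := s1.paste_vert ((IsPullback.of_hasPullback g ι).map (Over.forget S))
    rw [Over.comp_left]
    exact (MorphismProperty.cancel_left_of_respectsIso @IsFinite s2.isoPullback.inv _).1
      (by erw [s2.isoPullback_inv_snd]; exact hfR)
  -- separatedness of the base change, then descent of finiteness
  have hsep : IsSeparatedMor qV := by
    let m := pullback.map (u' ≫ qV) (u' ≫ qV) qV qV u' u' (𝟙 _) (by simp) (by simp)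
    have sqd := isPullback_diag_cover u' qV
    have hm : RepWith fppfMor.{u} m := repWith_fppf_of_etale (repWith_pullbackMap hu'e hu'e rfl rfl)
      (repWith_pullbackMap hu's hu's rfl rfl)
    refine repWith_of_fppf_base (representable_diagonal qV hQ.diag) hm sqd ?_
    let γ : R' ⟶ pullback (pullback.snd g ι) (pullback.snd g ι) :=
      pullback.lift t₁ t₂ ((yon S).map_injective (by
        rw [Functor.map_comp, Functor.map_comp, ← hu'₂, reassoc_of% sqR'.w]))
    have hγ : IsClosedImmersion γ.left := by
      have sqP := (IsPullback.of_hasPullback (pullback.snd g ι) (pullback.snd g ι)).map (Over.forget S)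
      haveI : IsFinite (pullback.snd (pullback.snd g ι) (pullback.snd g ι)).left :=
        MorphismProperty.of_isPullback sqP hgU
      haveI : IsFinite (γ.left ≫ (pullback.snd (pullback.snd g ι) (pullback.snd g ι)).left ≫ (pullback.snd g ι).left) := by
        rw [← Over.comp_left, ← Over.comp_left, pullback.lift_snd_assoc]
        exact hR'
      haveI : IsFinite γ.left := IsFinite.of_comp γ.left
        ((pullback.snd (pullback.snd g ι) (pullback.snd g ι)).left ≫ (pullback.snd g ι).left)
      haveI : Mono γ := ⟨fun a a' e => (yon S).map_injective (sqR'.hom_ext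
        (by simp only [← Functor.map_comp]; exact congrArg _ (((congrArg (a ≫ ·) (pullback.lift_fst _ _ _).symm).trans ((Category.assoc _ _ _).symm.trans ((congrArg (· ≫ pullback.fst _ _) e).trans (Category.assoc _ _ _)))).trans (congrArg (a' ≫ ·) (pullback.lift_fst _ _ _))))
        (by simp only [← Functor.map_comp]; exact congrArg _ (((congrArg (a ≫ ·) (pullback.lift_snd _ _ _).symm).trans ((Category.assoc _ _ _).symm.trans ((congrArg (· ≫ pullback.snd _ _) e).trans (Category.assoc _ _ _)))).trans (congrArg (a' ≫ ·) (pullback.lift_snd _ _ _)))))⟩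
      haveI : Mono γ.left := inferInstanceAs (Mono ((Over.forget S).map γ))
      exact (IsClosedImmersion.iff_isFinite_and_mono _).2 ⟨inferInstance, inferInstance⟩
    have sqg := (IsPullback.of_hasPullback (pullback.snd g ι) (pullback.snd g ι)).map (yon S)
    rw [← hu'₂] at sqg
    have : pullback.lift (f := u' ≫ qV) (g := u' ≫ qV) (pullback.fst u' u') (pullback.snd u' u')
        (by rw [reassoc_of% pullback.condition]) =
        sqR'.isoPullback.inv ≫ (yon S).map γ ≫ sqg.isoPullback.hom := by
      apply pullback.hom_ext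
      · simp [γ, ← Functor.map_comp, pullback.lift_fst]
      · simp [γ, ← Functor.map_comp, pullback.lift_snd]
    rw [this]
    exact repWith_comp (repWith_of_isIso _) (repWith_comp ((repWith_yon_map_iff _ γ).2 hγ) (repWith_of_isIso _))
  exact isFiniteMor_of_etale_precomp (IsAlgSpace.yon_obj U') hQ (IsAlgSpace.yon_obj V')
    (locP_of_repWith etLocal_etale hu'e) (surjective_map_of_repWith le_rfl hu's) hsep hfq

theorem eq_of_specializes_codimZero {Y : Sp S} (hd : IsDecent Y) {y y' : Points Y}
    (h : y' ⤳ y) (hy : CodimZero Y y) : y' = y := by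
  obtain ⟨V, b, v, hb, rfl, hv⟩ := hy
  obtain ⟨v', hs, rfl⟩ := generalizingMap_chart hd hb h
  rw [(Groth.Agent.H8Props.mem_genericPoints_iff.1 ((ringKrullDim_stalk_eq_zero_iff _).1 hv)) v' hs]

/-- An affine open neighbourhood of a point of codimension zero, without other such points. -/
theorem exists_affine_open_nhd {Y : Sp S} (hY : IsAlgSpace Y) (hd : IsDecent Y)
    (hfin : {y : Points Y | CodimZero Y y}.Finite) {y : Points Y} (hy : CodimZero Y y) :
    ∃ (V : Over S) (j : (yon S).obj V ⟶ Y) (v : V.left), IsAffine V.left ∧ RepWith @IsOpenImmersion j ∧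
      Points.ofPt j v = y ∧ ∀ w, CodimZero Y (Points.ofPt j w) → w = v := by
  classical
  let C : Set (Points Y) := ⋃ y' ∈ hfin.toFinset.erase y, closure {y'}
  have hC : IsClosed C := isClosed_biUnion_finset fun _ _ => isClosed_closure
  have hyC : y ∉ C := by
    simp only [C, Set.mem_iUnion, not_exists]
    intro y' hy' h
    exact (Finset.mem_erase.1 hy').1 (eq_of_specializes_codimZero hd (specializes_iff_mem_closure.2 h) hy)
  have honly : ∀ x ∈ Cᶜ, CodimZero Y x → x = y := by
    intro x hx hc
    by_contra hne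
    exact hx (Set.mem_biUnion (x := x) (Finset.mem_erase.2 ⟨hne, hfin.mem_toFinset.2 hc⟩) (subset_closure rfl))
  obtain ⟨W', Y', μ, hμ, hW', hne⟩ := exists_open_scheme_meeting hY hd hC.isOpen_compl ⟨y, hyC⟩
  obtain ⟨x, hxW, hx⟩ := (dense_codimZero hY).inter_open_nonempty _ (hW'.inter hC.isOpen_compl) hne
  have hxy : x = y := honly x hxW.2 hx
  subst hxy
  let j₀ : (yon S).obj Y' ⟶ Y := μ ≫ openSubι W'
  have hj₀ : RepWith @IsOpenImmersion j₀ := repWith_comp (repWith_of_isIso _) (repWith_openSubι hW')
  obtain ⟨y₀, hy₀⟩ : x ∈ Set.range (Points.ofPt j₀) := by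
    rw [← range_map_yon]
    obtain ⟨z, hz⟩ := (range_openSubι hY W').ge hxW.1
    exact ⟨Points.map (inv μ) z, by rw [← Points.map_comp, IsIso.inv_hom_id_assoc]; exact hz⟩
  obtain ⟨O, hO, hy₀O, hOC⟩ := exists_isAffineOpen_mem_and_subset
    (U := (⟨_, hC.isOpen_compl.preimage (Points.continuous_ofPt j₀)⟩ : Y'.left.Opens)) (x := y₀)
    (show Points.ofPt j₀ y₀ ∈ Cᶜ by rw [hy₀]; exact hxW.2)
  let V : Over S := Over.mk (O.ι ≫ Y'.hom)
  let κ : V ⟶ Y' := Over.homMk O.ι
  have hj : RepWith @IsOpenImmersion ((yon S).map κ ≫ j₀) :=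
    repWith_comp ((repWith_yon_map_iff _ κ).2 (inferInstanceAs (IsOpenImmersion O.ι))) hj₀
  haveI := mono_of_openImmersion hj
  have hjinj : Function.Injective (Points.ofPt ((yon S).map κ ≫ j₀)) := fun a a' e => by
    rw [Points.ofPt_eq_map_ofScheme, Points.ofPt_eq_map_ofScheme] at e
    simpa using congrArg (Points.toScheme V) (injective_map_of_mono _ e)
  have hv : Points.ofPt ((yon S).map κ ≫ j₀) ⟨y₀, hy₀O⟩ = x := by rw [ofPt_map]; exact hy₀
  exact ⟨V, _, ⟨y₀, hy₀O⟩, hO, hj, hv, fun w hw => hjinj ((honly _ (by rw [ofPt_map]; exact hOC w.2) hw).trans hv.symm)⟩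

theorem exists_dense_open_finite {X Y : Sp S} (hX : IsAlgSpace X) (hY : IsAlgSpace Y) {f : X ⟶ Y}
    (hf : LocP @LocallyOfFiniteType f) (hd : IsDecent Y) (hX0 : {x : Points X | CodimZero X x}.Finite)
    (hY0 : {y : Points Y | CodimZero Y y}.Finite)
    (hpre : ∀ x, CodimZero X x ↔ CodimZero Y (Points.map f x))
    (hqs : IsQuasiCompactMor f ∨ IsSeparatedMor f) :
    ∃ W : Set (Points Y), IsOpen W ∧ Dense W ∧ IsFiniteMor (pullback.fst (openSubι W) f) := by
  have key : ∀ y : {y : Points Y | CodimZero Y y}, ∃ (V : Over S) (j : (yon S).obj V ⟶ Y),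
      RepWith @IsOpenImmersion j ∧ y.1 ∈ Set.range (Points.ofPt j) ∧ IsFiniteMor (pullback.snd f j) := by
    rintro ⟨y, hy⟩
    obtain ⟨V, j, v, hV, hj, hjv, honly⟩ := exists_affine_open_nhd hY hd hY0 hy
    haveI := hV
    have hje := repWith_etale_of_openImmersion hj
    have hv : v ∈ genericPoints V.left := mem_genericPoints_of_codimZero hY hy hje hjv
    have sq := IsPullback.of_hasPullback f j
    have hP : IsAlgSpace (pullback f j) := isAlgSpace_pullback hY.diag hX (IsAlgSpace.yon_obj V) f j
    have hα : RepWith @IsOpenImmersion (pullback.fst f j) := repWith_of_isPullback sq.flip hj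
    haveI := mono_of_openImmersion hj
    haveI := mono_of_openImmersion hα
    have hαe := repWith_etale_of_openImmersion hα
    have hcomm : ∀ z, Points.map f (Points.map (pullback.fst f j) z) = Points.map j (Points.map (pullback.snd f j) z) :=
      fun z => by rw [← Points.map_comp, ← Points.map_comp, sq.w]
    obtain ⟨V', ι, hV', hι, hvι, hfin⟩ := exists_finite_over_chart hP (pullback.snd f j)
      (Groth.Agent.H12AlgSp.locP_of_isPullback etLocal_lft sq hX hY (IsAlgSpace.yon_obj V) hf)
      (hqs.imp (fun h => by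
        refine isQuasiCompactMor_of_affine hP (IsAlgSpace.yon_obj V) fun T hT g => ?_
        exact h (IsAlgSpace.yon_obj T) (isQuasiCompactSp_yon_iff.2 inferInstance) (g ≫ j) _ _
          ((IsPullback.of_hasPullback (pullback.snd f j) g).paste_horiz sq))
        fun h => isSeparatedMor_of_isPullback sq h)
      (by
        refine Set.Finite.subset (hX0.preimage (injective_map_of_mono (pullback.fst f j)).injOn) fun z hz => ?_
        exact codimZero_map hαe hz)
      hv
      (fun z hz => by
        have h := (hpre _).1 (codimZero_map hαe hz)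
        rw [hcomm] at h
        obtain ⟨w, hw⟩ : ∃ w, Points.ofScheme V w = Points.map (pullback.snd f j) z :=
          ⟨_, Points.ofScheme_toScheme V _⟩
        rw [← hw, ← Points.ofPt_eq_map_ofScheme] at h
        rw [← hw, honly w h])
      (fun z hz => by
        have h : CodimZero X (Points.map (pullback.fst f j) z) := (hpre _).2 (by
          rw [hcomm, hz, ← Points.ofPt_eq_map_ofScheme, hjv]; exact hy)
        obtain ⟨U, a, has⟩ : ∃ (U : Over S) (a : (yon S).obj U ⟶ pullback f j),
            RepWith @Etale a ∧ Function.Surjective (Points.ofPt a) := by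
          obtain ⟨U, a, ha, has⟩ := hP.atlas
          exact ⟨U, a, ha, surjective_ofPt_of_repWith le_rfl has⟩
        obtain ⟨w, rfl⟩ := has.2 z
        exact (codimZero_iff_mem_genericPoints hP has.1 w).2 (mem_genericPoints_of_codimZero hX h
          (repWith_comp has.1 hαe) (Points.map_ofPt _ _ _).symm))
    haveI := hι
    refine ⟨V', (yon S).map ι ≫ j, repWith_comp ((repWith_yon_map_iff _ ι).2 hι) hj, ?_, ?_⟩
    · obtain ⟨v', hv'⟩ := hvι
      exact ⟨v', by rw [ofPt_map, hv']; exact hjv⟩
    · let e := ((IsPullback.of_hasPullback (pullback.snd f j) ((yon S).map ι)).paste_horiz sq).isoPullback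
      have he : e.inv ≫ pullback.snd (pullback.snd f j) ((yon S).map ι) = pullback.snd f ((yon S).map ι ≫ j) :=
        IsPullback.isoPullback_inv_snd _
      rw [← he]
      exact isFiniteMor_iff.2 (repWith_comp (repWith_of_isIso _) (isFiniteMor_iff.1 hfin))
  haveI := hY0.to_subtype
  obtain ⟨n, ⟨e⟩⟩ := Finite.exists_equiv_fin {y : Points Y | CodimZero Y y}
  choose V j hj hyj hfin using fun i : ULift.{u} (Fin n) => key (e.symm i.down)
  let W : Set (Points Y) := ⋃ y, Set.range (Points.ofPt (j y))
  have hW : IsOpen W := isOpen_iUnion fun y =>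
    (isOpenMap_ofPt_of_repWith etale_le_universallyOpen (repWith_etale_of_openImmersion (hj y))).isOpen_range
  have hYW : IsAlgSpace (openSub W) := isAlgSpace_of_representable _ (repWith_openSubι hW).1 hY
  have hXW : IsAlgSpace (pullback (openSubι W) f) := isAlgSpace_pullback hY.diag hYW hX _ _
  choose l hl using fun y => exists_factor_open (repWith_openSubι hW) (j y) (by
    rw [range_openSubι hY W, range_map_yon]; exact Set.subset_iUnion (fun y => Set.range (Points.ofPt (j y))) y)
  refine ⟨W, hW, (dense_codimZero hY).mono fun y hy => Set.mem_iUnion.2 ⟨⟨e ⟨y, hy⟩⟩, by simpa using hyj ⟨e ⟨y, hy⟩⟩⟩, ?_⟩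
  haveI : Mono (openSubι W) := mono_of_openImmersion (repWith_openSubι hW)
  have hle : ∀ y, RepWith @Etale (l y) := fun y => repWith_etale_of_comp
    (repWith_etale_of_openImmersion (repWith_openSubι hW)) ((hl y).symm ▸ repWith_etale_of_openImmersion (hj y))
  have hls : ∀ x : Points (openSub W), ∃ y, x ∈ Set.range (Points.map (l y)) := fun x => by
    obtain ⟨y, a, ha⟩ := Set.mem_iUnion.1 ((range_openSubι hY W).le ⟨x, rfl⟩)
    exact ⟨y, Points.ofScheme _ a, injective_map_of_mono (openSubι W) (by
      rw [← Points.map_comp, hl, ← Points.ofPt_eq_map_ofScheme, ha])⟩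
  have hcov := isFpqcCover_of_etale_family hle hls
  refine isFiniteMor_iff.2 (repWith_of_fpqc (P := @IsFinite)
    (fun _ _ k (_ : IsFinite k) => inferInstanceAs (IsAffineHom k)) hXW hYW hcov
    (Fi := fun y => pullback (pullback.fst (openSubι W) f) (l y))
    (q := fun y => pullback.fst (pullback.fst (openSubι W) f) (l y))
    (p := fun y => pullback.snd (pullback.fst (openSubι W) f) (l y))
    (fun y => IsPullback.of_hasPullback (pullback.fst (openSubι W) f) (l y)) fun y => ?_)
  have big : IsPullback (pullback.fst (pullback.fst (openSubι W) f) (l y) ≫ pullback.snd _ _)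
      (pullback.snd (pullback.fst (openSubι W) f) (l y)) f (j y) := by
    rw [← hl y]
    exact (IsPullback.of_hasPullback (pullback.fst (openSubι W) f) (l y)).paste_horiz (IsPullback.of_hasPullback (openSubι W) f).flip
  rw [← big.isoPullback_hom_snd]
  exact repWith_comp (repWith_of_isIso _) (isFiniteMor_iff.1 (hfin y))

end Groth.Agent.H13AlgSp.DenseFinite
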