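import Groth.Agent.H13AlgSp.ProdConn

/-!
Connectedness and field extensions of spaces over a field.
-/

universe u

open CategoryTheory CategoryTheory.Limits AlgebraicGeometry Opposite Topology
open AlgSp Groth.Agent.H12AlgSp

namespace Groth.Agent.H13AlgSp

variable {k : Type u} [Field k]

/-- The map of spectra of extension fields. -/
noncomputable def extHom {K E : Type u} [Field K] [Field E] [Algebra k K] [Algebra k E] (a : K →ₐ[k] E) :
    extObj k E ⟶ extObj k K :=
  Over.homMk (Spec.map (CommRingCat.ofHom a.toRingHom)) (by
    change Spec.map _ ≫ Spec.map _ = Spec.map _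
    rw [← Spec.map_comp, ← CommRingCat.ofHom_comp, show a.toRingHom.comp (algebraMap k K) = algebraMap k E from
      RingHom.ext a.commutes])

/-- The induced map of extended spaces. -/
noncomputable abbrev bcSpMap (X : Sp (Spec (CommRingCat.of k))) {K E : Type u} [Field K] [Field E]
    [Algebra k K] [Algebra k E] (a : K →ₐ[k] E) : bcSp X E ⟶ bcSp X K :=
  prod.map (𝟙 X) ((yon (Spec (CommRingCat.of k))).map (extHom a))

variable {X : Sp (Spec (CommRingCat.of k))} {K E : Type u} [Field K] [Field E] [Algebra k K] [Algebra k E]

theorem repWith_bcSpMap (P : MorphismProperty Scheme.{u}) [P.IsStableUnderBaseChange] (a : K →ₐ[k] E)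
    (h : P (Spec.map (CommRingCat.ofHom a.toRingHom))) : RepWith P (bcSpMap X a) :=
  repWith_of_isPullback (isPullback_prod_map_snd' (X := X) ((yon _).map (extHom a))).flip
    ((repWith_yon_map_iff P (extHom a)).2 h)

theorem subsingleton_points_extObj (K : Type u) [Field K] [Algebra k K] :
    Subsingleton (Points ((yon (Spec (CommRingCat.of k))).obj (extObj k K))) := by
  have : Subsingleton (extObj k K).left := inferInstanceAs (Subsingleton (PrimeSpectrum K))
  exact (Points.schemeEquiv _).symm.subsingleton

theorem surjective_bcSpMap (a : K →ₐ[k] E) : Function.Surjective (Points.map (bcSpMap X a)) := by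
  intro y
  have := subsingleton_points_extObj (k := k) K
  obtain ⟨z, hz, -⟩ := exists_point_of_isPullback (isPullback_prod_map_snd' (X := X) ((yon _).map (extHom a))) y
    (Points.ofScheme (extObj k E) (IsLocalRing.closedPoint E)) (Subsingleton.elim _ _)
  exact ⟨z, hz⟩

theorem connectedSpace_of_bcSpMap (a : K →ₐ[k] E) [ConnectedSpace (Points (bcSp X E))] :
    ConnectedSpace (Points (bcSp X K)) := by
  rw [connectedSpace_iff_univ, ← (surjective_bcSpMap (X := X) a).range_eq]
  exact isConnected_range (Points.continuous_map _)

theorem exists_common_ext (K L : Type u) [Field K] [Algebra k K] [Field L] [Algebra k L] :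
    ∃ (E : Type u) (_ : Field E) (_ : Algebra k E) (_ : K →ₐ[k] E) (_ : L →ₐ[k] E), True := by
  obtain ⟨m, hm⟩ := Ideal.exists_maximal (TensorProduct k K L)
  let _ := Ideal.Quotient.field m
  exact ⟨TensorProduct k K L ⧸ m, inferInstance, inferInstance,
    (Ideal.Quotient.mkₐ k m).comp Algebra.TensorProduct.includeLeft,
    (Ideal.Quotient.mkₐ k m).comp Algebra.TensorProduct.includeRight, trivial⟩

theorem isOpenMap_bcSpMap (a : K →ₐ[k] E) : IsOpenMap (Points.map (bcSpMap X a)) := by
  have : DiscreteTopology (Spec (CommRingCat.of K)) := inferInstanceAs (DiscreteTopology (PrimeSpectrum K))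
  exact isOpenMap_map_of_repWith le_rfl (repWith_bcSpMap @UniversallyOpen a
    (Groth.Agent.H06Desc.universallyOpen_of_discreteTopology _))

/-- Over a separably closed intermediate field the fibres of the base change are connected. -/
theorem isConnected_preimage_bcSpMap [IsSepClosed K] (a : K →ₐ[k] E) (y : Points (bcSp X K)) :
    IsConnected (Points.map (bcSpMap X a) ⁻¹' {y}) := by
  obtain ⟨r, rfl⟩ := Quotient.exists_rep y
  obtain ⟨c, hc⟩ := (yon (Spec (CommRingCat.of k))).map_surjective (r.toHom ≫ prod.snd)
  let cL : Spec (CommRingCat.of r.K) ⟶ Spec (CommRingCat.of K) := c.left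
  obtain ⟨φ, hφ⟩ := Spec.map_surjective cL
  letI : Algebra K r.K := φ.hom.toAlgebra
  letI : Algebra K E := a.toRingHom.toAlgebra
  have sq := (IsPullback.of_hasPullback (extHom a) c).map (yon (Spec (CommRingCat.of k)))
  have sqm := isPullback_prod_map_snd' (X := X) ((yon _).map (extHom a))
  have e : ((yon _).map (pullback.snd (extHom a) c) ≫ r.toHom) ≫ prod.snd =
      (yon _).map (pullback.fst (extHom a) c) ≫ (yon _).map (extHom a) := by
    rw [Category.assoc, ← hc, sq.w]
  let m := sqm.lift _ _ e
  have sqr : IsPullback ((yon _).map (pullback.snd (extHom a) c)) m r.toHom (bcSpMap X a) :=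
    IsPullback.of_bot (by rw [sqm.lift_snd, ← hc]; exact sq.flip) (sqm.lift_fst _ _ e).symm sqm
  have hW : ConnectedSpace (pullback (extHom a) c).left := by
    have := Groth.Agent.H02CA.GeomIrred.connectedSpace_of_isSepClosed (k := K) r.K E
    have sqF : IsPullback (pullback.fst (extHom a) c).left (pullback.snd (extHom a) c).left
        (Spec.map (CommRingCat.ofHom (algebraMap K E))) (Spec.map (CommRingCat.ofHom (algebraMap K r.K))) := by
      have := (IsPullback.of_hasPullback (extHom a) c).map (Over.forget _)
      rw [show (Over.forget (Spec (CommRingCat.of k))).map c = Spec.map φ from hφ.symm] at this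
      exact this
    exact (sqF.isoPullback ≪≫ pullbackSpecIso K E r.K).hom.homeomorph.connectedSpace_iff.mpr this
  have : ConnectedSpace (Points ((yon _).obj (pullback (extHom a) c))) := (Points.schemeHomeo _).connectedSpace_iff.mp hW
  convert isConnected_range (Points.continuous_map m) using 1
  ext w
  constructor
  · intro hw
    obtain ⟨z, -, hz⟩ := exists_point_of_isPullback sqr (Points.ofScheme r.pt (IsLocalRing.closedPoint r.K)) w
      (by rw [← Points.ofPt_eq_map_ofScheme, Points.ofPt_toHom]; exact (hw : _ = _).symm)
    exact ⟨z, hz⟩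
  · rintro ⟨z, rfl⟩
    rw [Set.mem_preimage, ← Points.map_comp, ← sqr.w, Points.map_comp]
    obtain ⟨t, ht⟩ := (Points.schemeEquiv r.pt).surjective (Points.map ((yon _).map (pullback.snd (extHom a) c)) z)
    rw [← ht]
    change Points.map r.toHom (Points.ofScheme r.pt t) = _
    rw [← Points.ofPt_eq_map_ofScheme, Points.ofPt_toHom]
    rfl

theorem connectedSpace_bcSp_of_isSepClosed [IsSepClosed K] (a : K →ₐ[k] E) [ConnectedSpace (Points (bcSp X K))] :
    ConnectedSpace (Points (bcSp X E)) := by
  have hq := ((isOpenMap_bcSpMap (X := X) a).isQuotientMap (Points.continuous_map _)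
    (surjective_bcSpMap a)).isCoinducing
  have := hq.isConnected_preimage_of_isClosed (fun y => isConnected_preimage_bcSpMap a y) isClosed_univ isConnected_univ
  rwa [Set.preimage_univ, ← connectedSpace_iff_univ] at this

theorem geomConn_of_sepClosed [IsSepClosed K] [ConnectedSpace (Points (bcSp X K))] : GeomConn X := by
  intro L _ _
  obtain ⟨E, _, _, b, a, -⟩ := exists_common_ext (k := k) L K
  have := connectedSpace_bcSp_of_isSepClosed (X := X) a
  exact connectedSpace_of_bcSpMap b

end Groth.Agent.H13AlgSp
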