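import Groth.Agent.H13AlgSp.DecentCriteria
import Groth.Agent.H12AlgSp.Proper
import Groth.Agent.H12AlgSp.DecentLocal
import Groth.Agent.H12AlgSp.Sep
import Groth.Agent.H12AlgSp.EtaleField
import Groth.Prelude.Def_W4decUnivBdd
import Groth.Prelude.Def_AlgSp3
import Mathlib.LinearAlgebra.Matrix.Rank
import Mathlib.LinearAlgebra.TensorProduct.Finiteness

/-!
Decency of quasi-separated, locally separated and boundedly covered spaces; descent along quasi-compact
etale surjections.
-/

universe u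

open CategoryTheory CategoryTheory.Limits AlgebraicGeometry Opposite MorphismProperty
open AlgSp Groth.Agent.H12AlgSp

namespace Groth.Agent.H13AlgSp

noncomputable section

variable {S : Scheme.{u}}

/-- The fibre product over `X` as a base change of a diagonal-like map. -/
theorem isPullback_graph {C : Type*} [Category C] {X D V T Y W : C} {δ : X ⟶ D} {π₁ π₂ : D ⟶ X}
    (hD : ∀ {Z : C} (a a' : Z ⟶ D), a ≫ π₁ = a' ≫ π₁ → a ≫ π₂ = a' ≫ π₂ → a = a')
    (h₁ : δ ≫ π₁ = 𝟙 X) (h₂ : δ ≫ π₂ = 𝟙 X) {b : V ⟶ X} {p : T ⟶ X} {y₁ : Y ⟶ V} {y₂ : Y ⟶ T}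
    (hY : ∀ {Z : C} (a a' : Z ⟶ Y), a ≫ y₁ = a' ≫ y₁ → a ≫ y₂ = a' ≫ y₂ → a = a')
    {k : Y ⟶ D} (hk₁ : k ≫ π₁ = y₁ ≫ b) (hk₂ : k ≫ π₂ = y₂ ≫ p) {fst : W ⟶ V} {snd : W ⟶ T}
    (sq : IsPullback fst snd b p) {j : W ⟶ Y} (hj₁ : j ≫ y₁ = fst) (hj₂ : j ≫ y₂ = snd) :
    IsPullback (fst ≫ b) j δ k := by
  have w : (fst ≫ b) ≫ δ = j ≫ k := hD _ _
    (by rw [Category.assoc, h₁, Category.comp_id, Category.assoc, hk₁, reassoc_of% hj₁])
    (by rw [Category.assoc, h₂, Category.comp_id, Category.assoc, hk₂, reassoc_of% hj₂, sq.w])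
  have e₁ : ∀ (s : PullbackCone δ k), s.fst = s.snd ≫ y₁ ≫ b := fun s => by
    have h := s.condition =≫ π₁
    simpa [h₁, hk₁] using h
  have e₂ : ∀ (s : PullbackCone δ k), s.fst = s.snd ≫ y₂ ≫ p := fun s => by
    have h := s.condition =≫ π₂
    simpa [h₂, hk₂] using h
  refine ⟨⟨w⟩, ⟨PullbackCone.IsLimit.mk _
    (fun s => sq.lift (s.snd ≫ y₁) (s.snd ≫ y₂) (by rw [Category.assoc, Category.assoc, ← e₁, ← e₂]))
    (fun s => by rw [sq.lift_fst_assoc, Category.assoc, ← e₁])
    (fun s => hY _ _ (by rw [Category.assoc, hj₁, sq.lift_fst]) (by rw [Category.assoc, hj₂, sq.lift_snd]))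
    (fun s m hm₁ hm₂ => sq.hom_ext
      (by rw [sq.lift_fst, ← hj₁, ← Category.assoc, hm₂])
      (by rw [sq.lift_snd, ← hj₂, ← Category.assoc, hm₂]))⟩⟩

theorem isPullback_postcomp_mono {C : Type*} [Category C] {P X Y Z W : C} {fst : P ⟶ X} {snd : P ⟶ Y}
    {f : X ⟶ Z} {g : Y ⟶ Z} (j : Z ⟶ W) [Mono j] (sq : IsPullback fst snd f g) :
    IsPullback fst snd (f ≫ j) (g ≫ j) :=
  ⟨⟨by rw [reassoc_of% sq.w]⟩,
    ⟨PullbackCone.IsLimit.mk _
      (fun s => sq.lift s.fst s.snd ((cancel_mono j).mp (by simpa using s.condition)))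
      (fun s => sq.lift_fst _ _ _) (fun s => sq.lift_snd _ _ _)
      fun s m h1 h2 => sq.hom_ext (by simp [h1]) (by simp [h2])⟩⟩

/-- A space quasi-separated over an affine scheme is decent. -/
theorem isDecent_of_qs_over_affine {P : Sp S} (hP : IsAlgSpace P) {Z : Over S} [IsAffine Z.left]
    {s : P ⟶ (yon S).obj Z} (hs : RepWith @QuasiCompact (pullback.diagonal s)) : IsDecent P := by
  refine isDecent_of_finite_geometric hP fun V b hV hb K _ _ str p => ?_
  let T : Over S := Over.mk str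
  have : IsAffine T.left := inferInstanceAs (IsAffine (Spec (CommRingCat.of K)))
  obtain ⟨W, w, fW, sq⟩ := hb.1 p
  obtain ⟨f, rfl⟩ := (yon S).map_surjective fW
  have hwe : Etale w.left := hb.2 _ _ _ sq
  refine (finite_geometric_iff sq).2 ?_
  obtain ⟨σ, hσ⟩ := (yon S).map_surjective (b ≫ s)
  obtain ⟨τ, hτ⟩ := (yon S).map_surjective (p ≫ s)
  have sqY := IsPullback.of_hasPullback σ τ
  let k : (yon S).obj (pullback σ τ) ⟶ pullback s s :=
    pullback.lift ((yon S).map (pullback.fst σ τ) ≫ b) ((yon S).map (pullback.snd σ τ) ≫ p) (by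
      rw [Category.assoc, Category.assoc, ← hσ, ← hτ, ← Functor.map_comp, ← Functor.map_comp, pullback.condition])
  let j : W ⟶ pullback σ τ := pullback.lift f w ((yon S).map_injective (by
    rw [Functor.map_comp, Functor.map_comp, hσ, hτ, reassoc_of% sq.w]))
  have sqW := isPullback_graph (δ := pullback.diagonal s) (π₁ := pullback.fst s s) (π₂ := pullback.snd s s)
    (fun a a' => pullback.hom_ext) (pullback.diagonal_fst s) (pullback.diagonal_snd s)
    (y₁ := (yon S).map (pullback.fst σ τ)) (y₂ := (yon S).map (pullback.snd σ τ))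
    (fun a a' => (sqY.map (yon S)).hom_ext)
    (k := k) (pullback.lift_fst _ _ _) (pullback.lift_snd _ _ _) sq (j := (yon S).map j)
    (by rw [← Functor.map_comp, pullback.lift_fst]) (by rw [← Functor.map_comp, pullback.lift_snd])
  have : QuasiCompact j.left := hs.2 _ _ _ sqW
  have : IsAffine (pullback σ τ).left := by
    have : IsAffine (pullback σ.left τ.left) := inferInstance
    exact @IsAffine.of_isIso _ _ (sqY.map (Over.forget S)).isoPullback.hom _ this
  have : CompactSpace W.left := QuasiCompact.compactSpace_of_compactSpace j.left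
  have : LocallyQuasiFinite w.left := lqf_of_etale w.left
  have : DiscreteTopology W.left :=
    discreteTopology_of_lqf_to_field (w.left : W.left ⟶ Spec (CommRingCat.of K))
  exact finite_of_compact_of_discrete

/-- Quasi-separated morphisms are decent. -/
theorem isDecentMor_of_isQuasiSeparatedMor {X Y : Sp S} (hX : IsAlgSpace X) (hY : IsAlgSpace Y) {f : X ⟶ Y}
    (hf : IsQuasiSeparatedMor f) : IsDecentMor f :=
  isDecentMor_of_fields f fun Z _ P _ _ hZ sq =>
    isDecent_of_qs_over_affine (isAlgSpace_of_isPullback hY.diag hX (IsAlgSpace.yon_obj Z) sq)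
      (repWith_of_isPullback (isPullback_diagonal sq) hf)

/-- Representable morphisms are decent. -/
theorem isDecentMor_of_representable {X Y : Sp S} {f : X ⟶ Y} (hf : Representable f) : IsDecentMor f := by
  intro T F' g fst snd sq
  obtain ⟨W, w, fst', sq'⟩ := hf g
  exact (isDecent_yon W).of_iso (sq'.isoIsPullback _ _ sq)

/-- A rank bound: a family with finitely supported "diagonal" pairings. -/
theorem finite_of_diagonal_pairing {R A K : Type u} [CommRing R] [CommRing A] [Algebra R A] [Field K]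
    [Algebra R K] {ι : Type*} (x : ι → (A →ₐ[R] K)) (h : TensorProduct R A A)
    (hoff : ∀ i j, i ≠ j → Algebra.TensorProduct.productMap (x i) (x j) h = 0) :
    {i | Algebra.TensorProduct.productMap (x i) (x i) h ≠ 0}.Finite := by
  classical
  obtain ⟨Sf, rfl⟩ := TensorProduct.exists_finset h
  by_contra hinf
  obtain ⟨F, hF, hFc⟩ := Set.Infinite.exists_subset_card_eq hinf (Sf.card + 1)
  let B : Matrix F Sf K := fun i m => x i.1 m.1.1
  let C : Matrix Sf F K := fun m j => x j.1 m.1.2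
  have hBC : B * C = Matrix.diagonal fun i : F =>
      Algebra.TensorProduct.productMap (x i.1) (x i.1) (∑ m ∈ Sf, m.1 ⊗ₜ m.2) := by
    ext i j
    have hval : (B * C) i j = Algebra.TensorProduct.productMap (x i.1) (x j.1) (∑ m ∈ Sf, m.1 ⊗ₜ m.2) := by
      simp only [Matrix.mul_apply, map_sum, Algebra.TensorProduct.productMap_apply_tmul, B, C]
      exact Finset.sum_coe_sort Sf (fun m => x i.1 m.1 * x j.1 m.2)
    rcases eq_or_ne i j with rfl | hij
    · rw [hval, Matrix.diagonal_apply_eq]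
    · rw [hval, Matrix.diagonal_apply_ne _ hij, hoff _ _ (fun e => hij (Subtype.ext e))]
  have h1 := Matrix.rank_mul_le_left B C
  rw [hBC, Matrix.rank_diagonal, Fintype.card_subtype] at h1
  have h2 := B.rank_le_card_width
  have hall : ∀ i : F, Algebra.TensorProduct.productMap (x i.1) (x i.1) (∑ m ∈ Sf, m.1 ⊗ₜ m.2) ≠ 0 :=
    fun i => hF i.2
  simp [hall, hFc, -map_sum] at h1
  rw [Fintype.card_coe] at h2
  omega

set_option maxHeartbeats 800000 in
/-- Locally separated spaces are decent. -/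
theorem isDecent_of_isLocallySeparatedSp {X : Sp S} (hXa : IsAlgSpace X)
    (hX : RepWith @IsImmersion (Limits.diag X)) : IsDecent X := by
  refine isDecent_of_finite_geometric hXa fun V b hV hb K _ _ str p => ?_
  by_contra hinf
  let E := {e : Over.mk str ⟶ V | (yon S).map e ≫ b = p}
  let pt : (Over.mk str ⟶ V) → V.left := fun e => e.left (IsLocalRing.closedPoint K)
  -- an accumulation point
  obtain ⟨ω, hω⟩ : ∃ ω : V.left, ∀ O : Set V.left, IsOpen O → ω ∈ O → {e ∈ E | pt e ∈ O}.Infinite := by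
    by_contra hc
    push Not at hc
    choose O hO hωO hfin using hc
    obtain ⟨t, ht⟩ := isCompact_univ.elim_finite_subcover O hO (fun z _ => Set.mem_iUnion.2 ⟨z, hωO z⟩)
    refine hinf ((Set.Finite.biUnion t.finite_toSet fun z _ => hfin z).subset fun e he => ?_)
    obtain ⟨z, hz, hze⟩ := Set.mem_iUnion₂.1 (ht (Set.mem_univ (pt e)))
    exact Set.mem_iUnion₂.2 ⟨z, hz, he, hze⟩
  -- affine over an affine open of the base
  obtain ⟨S₀, hS₀, hωS, -⟩ := exists_isAffineOpen_mem_and_subset (U := (⊤ : S.Opens)) (x := V.hom ω) trivial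
  obtain ⟨O, hO, hωO, hOS⟩ := exists_isAffineOpen_mem_and_subset (U := V.hom ⁻¹ᵁ S₀) (x := ω) hωS
  let A : CommRingCat.{u} := Γ(O.toScheme, ⊤)
  let R : CommRingCat.{u} := Γ(S₀.toScheme, ⊤)
  have : IsAffine S₀.toScheme := hS₀
  have : IsAffine O.toScheme := hO
  let g : O.toScheme ⟶ S₀.toScheme := IsOpenImmersion.lift S₀.ι (O.ι ≫ V.hom) (by
    rw [Scheme.Opens.range_ι]
    rintro _ ⟨z, rfl⟩
    exact hOS z.2)
  have hg : g ≫ S₀.ι = O.ι ≫ V.hom := IsOpenImmersion.lift_fac _ _ _
  let φ : R ⟶ A := g.appTop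
  have hφ : Spec.map φ ≫ S₀.toScheme.isoSpec.inv = O.toScheme.isoSpec.inv ≫ g :=
    Scheme.isoSpec_inv_naturality g
  let iA : Spec A ⟶ V.left := O.toScheme.isoSpec.inv ≫ O.ι
  let iR : Spec R ⟶ S := S₀.toScheme.isoSpec.inv ≫ S₀.ι
  have hsq : Spec.map φ ≫ iR = iA ≫ V.hom := by
    simp only [iA, iR, reassoc_of% hφ, Category.assoc, hg]
  have hiA : Set.range iA = (O : Set V.left) := by
    rw [Scheme.Hom.comp_base, TopCat.coe_comp, Set.range_comp,
      O.toScheme.isoSpec.inv.surjective.range_eq, Set.image_univ, O.range_ι]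
  obtain ⟨ω', hω'⟩ : ω ∈ Set.range iA := hiA ▸ hωO
  let E₀ := {e : Over.mk str ⟶ V | e ∈ E ∧ pt e ∈ O}
  have hE₀ : E₀.Infinite := hω O O.2 hωO
  have hlift : ∀ e : E₀, ∃ x : A ⟶ CommRingCat.of K, Spec.map x ≫ iA = e.1.left := fun e => by
    obtain ⟨y, hy⟩ := Spec.map_surjective (IsOpenImmersion.lift iA e.1.left (by
      rw [hiA]
      rintro _ ⟨z, rfl⟩
      rw [@Subsingleton.elim (Spec (CommRingCat.of K)) inferInstance z (IsLocalRing.closedPoint K)]
      exact e.2.2))
    exact ⟨y, by rw [hy, IsOpenImmersion.lift_fac]⟩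
  choose x hx using hlift
  have : Mono iR := inferInstance
  have hxR : ∀ e e' : E₀, φ ≫ x e = φ ≫ x e' := fun e e' => Spec.map_injective ((cancel_mono iR).1 (by
    rw [Spec.map_comp, Spec.map_comp, Category.assoc, Category.assoc, hsq, reassoc_of% hx e,
      reassoc_of% hx e', Over.w e.1, Over.w e'.1]))
  obtain ⟨⟨e₀, he₀⟩⟩ : Nonempty E₀ := hE₀.nonempty.to_subtype
  let _ : Algebra R A := φ.hom.toAlgebra
  let _ : Algebra R K := (φ ≫ x ⟨e₀, he₀⟩).hom.toAlgebra
  let xa : E₀ → (A →ₐ[R] K) := fun e =>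
    ⟨(x e).hom, fun r => congr($(hxR e ⟨e₀, he₀⟩).hom r)⟩
  -- the product over the base
  let B : CommRingCat.{u} := CommRingCat.of (TensorProduct R A A)
  let i₁ : A ⟶ B := CommRingCat.ofHom
    (Algebra.TensorProduct.includeLeftRingHom : A →+* TensorProduct R A A)
  let i₂ : A ⟶ B := CommRingCat.ofHom (Algebra.TensorProduct.includeRight (R := R) (A := A) (B := A)).toRingHom
  have hi : φ ≫ i₁ = φ ≫ i₂ := by
    ext r
    change φ.hom r ⊗ₜ[R] (1 : A) = (1 : A) ⊗ₜ[R] φ.hom r
    exact Algebra.TensorProduct.tmul_one_eq_one_tmul r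
  let P₀ : Over S := Over.mk (Spec.map i₁ ≫ iA ≫ V.hom)
  let V₀ : Over S := Over.mk (iA ≫ V.hom)
  let b₀ : (yon S).obj V₀ ⟶ X := (yon S).map (Over.homMk iA rfl : V₀ ⟶ V) ≫ b
  have hb₀ : RepWith @Etale b₀ := MorphismProperty.comp_mem _ _ _ ((repWith_yon_map_iff _ _).2
    (inferInstanceAs (Etale iA))) hb
  let q₁ : P₀ ⟶ V₀ := Over.homMk (Spec.map i₁) rfl
  let q₂ : P₀ ⟶ V₀ := Over.homMk (Spec.map i₂) (by
    change Spec.map i₂ ≫ iA ≫ V.hom = Spec.map i₁ ≫ iA ≫ V.hom
    rw [← hsq, ← Spec.map_comp_assoc, ← Spec.map_comp_assoc, hi])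
  have hP₀ : IsPullback (Spec.map i₁) (Spec.map i₂) (iA ≫ V.hom) (iA ≫ V.hom) := by
    have h0 := isPullback_SpecMap_of_isPushout φ φ i₁ i₂
      (show IsPushout φ φ i₁ i₂ from CommRingCat.isPushout_tensorProduct R A A)
    rw [← hsq]
    exact isPullback_postcomp_mono iR h0
  have hYext : ∀ {Z : Sp S} (a a' : Z ⟶ (yon S).obj P₀), a ≫ (yon S).map q₁ = a' ≫ (yon S).map q₁ →
      a ≫ (yon S).map q₂ = a' ≫ (yon S).map q₂ → a = a' := fun a a' h₁ h₂ =>
    hom_ext_yon fun T y => by
      obtain ⟨u, hu⟩ := (yon S).map_surjective (y ≫ a)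
      obtain ⟨u', hu'⟩ := (yon S).map_surjective (y ≫ a')
      have e₁ : u ≫ q₁ = u' ≫ q₁ := (yon S).map_injective (by
        rw [Functor.map_comp, Functor.map_comp, hu, hu', Category.assoc, Category.assoc, h₁])
      have e₂ : u ≫ q₂ = u' ≫ q₂ := (yon S).map_injective (by
        rw [Functor.map_comp, Functor.map_comp, hu, hu', Category.assoc, Category.assoc, h₂])
      rw [← hu, ← hu', Over.OverMorphism.ext (hP₀.hom_ext (congrArg (fun t => Over.Hom.left t) e₁)
        (congrArg (fun t => Over.Hom.left t) e₂) : u.left = u'.left)]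
  obtain ⟨W, w, fW, sqW⟩ := hb₀.1 b₀
  obtain ⟨f, rfl⟩ := (yon S).map_surjective fW
  have hwe : Etale w.left := hb₀.2 _ _ _ sqW
  let jl : W.left ⟶ Spec B := hP₀.lift f.left w.left ((Over.w f).trans (Over.w w).symm)
  let j : W ⟶ P₀ := Over.homMk jl (by
    change jl ≫ Spec.map i₁ ≫ iA ≫ V.hom = W.hom
    rw [hP₀.lift_fst_assoc]
    exact Over.w f)
  have hj₁ : j ≫ q₁ = f := Over.OverMorphism.ext (hP₀.lift_fst _ _ _)
  have hj₂ : j ≫ q₂ = w := Over.OverMorphism.ext (hP₀.lift_snd _ _ _)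
  have sqI := isPullback_graph (δ := Limits.diag X) (π₁ := Limits.prod.fst) (π₂ := Limits.prod.snd)
    (fun a a' => Limits.prod.hom_ext) (Limits.prod.lift_fst _ _) (Limits.prod.lift_snd _ _) hYext
    (k := Limits.prod.lift ((yon S).map q₁ ≫ b₀) ((yon S).map q₂ ≫ b₀))
    (Limits.prod.lift_fst _ _) (Limits.prod.lift_snd _ _) sqW (j := (yon S).map j)
    (by rw [← Functor.map_comp, hj₁]) (by rw [← Functor.map_comp, hj₂])
  have : IsImmersion j.left := hX.2 _ _ _ sqI
  -- the diagonal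
  obtain ⟨σ, hσ⟩ := (yon S).map_surjective (sqW.lift (𝟙 ((yon S).obj V₀)) (𝟙 _) rfl)
  have hσf : σ ≫ f = 𝟙 V₀ := (yon S).map_injective (by rw [Functor.map_comp, hσ, sqW.lift_fst, CategoryTheory.Functor.map_id])
  have hσw : σ ≫ w = 𝟙 V₀ := (yon S).map_injective (by rw [Functor.map_comp, hσ, sqW.lift_snd, CategoryTheory.Functor.map_id])
  have : Etale σ.left := by
    have h1 : Etale (σ.left ≫ w.left) := by
      rw [show σ.left ≫ w.left = 𝟙 _ from congrArg (fun t => Over.Hom.left t) hσw]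
      infer_instance
    exact Etale.of_comp σ.left w.left
  have : Mono σ.left := by
    have : IsSplitMono σ.left := ⟨⟨⟨w.left, congrArg (fun t => Over.Hom.left t) hσw⟩⟩⟩
    infer_instance
  have : IsOpenImmersion σ.left := IsOpenImmersion.of_flat_of_mono σ.left
  obtain ⟨G, hG, hGσ⟩ : ∃ G : Set (Spec B), IsOpen G ∧ j.left ⁻¹' G = Set.range σ.left := by
    obtain ⟨G, hG, h⟩ := j.left.isEmbedding.isInducing.isOpen_iff.1 σ.left.isOpenEmbedding.isOpen_range
    exact ⟨G, hG, h⟩
  let z : Spec B := j.left (σ.left ω')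
  have hzG : z ∈ G := (hGσ.ge ⟨ω', rfl⟩ :)
  obtain ⟨_, ⟨h, rfl⟩, hzh, hhG⟩ := PrimeSpectrum.isTopologicalBasis_basic_opens.exists_subset_of_mem_open hzG hG
  have hμ : Spec.map (CommRingCat.ofHom (Algebra.TensorProduct.lmul' R (S := A)).toRingHom) =
      σ.left ≫ j.left := by
    apply hP₀.hom_ext
    · rw [Category.assoc, ← Spec.map_comp]
      have h1 : σ.left ≫ j.left ≫ Spec.map i₁ = 𝟙 _ := by
        change σ.left ≫ jl ≫ _ = _
        rw [hP₀.lift_fst]
        exact congrArg (fun t => Over.Hom.left t) hσf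
      rw [h1]
      refine (congrArg Spec.map ?_).trans (Spec.map_id _)
      ext a
      change Algebra.TensorProduct.lmul' R (a ⊗ₜ[R] (1 : A)) = a
      simp
    · rw [Category.assoc, ← Spec.map_comp]
      have h1 : σ.left ≫ j.left ≫ Spec.map i₂ = 𝟙 _ := by
        change σ.left ≫ jl ≫ _ = _
        rw [hP₀.lift_snd]
        exact congrArg (fun t => Over.Hom.left t) hσw
      rw [h1]
      refine (congrArg Spec.map ?_).trans (Spec.map_id _)
      ext a
      change Algebra.TensorProduct.lmul' R ((1 : A) ⊗ₜ[R] a) = a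
      simp
  let a : A := Algebra.TensorProduct.lmul' R (S := A) h
  have haω : ω' ∈ PrimeSpectrum.basicOpen a := by
    intro hmem
    apply hzh
    have hzz : z = Spec.map (CommRingCat.ofHom (Algebra.TensorProduct.lmul' R (S := A)).toRingHom) ω' := by
      rw [hμ]; rfl
    rw [hzz]
    exact hmem
  have hmany : {e : E₀ | Algebra.TensorProduct.productMap (xa e) (xa e) h ≠ 0}.Infinite := by
    have h2 := hω ((fun y => iA y) '' {y : Spec A | y ∈ PrimeSpectrum.basicOpen a})
      (iA.isOpenEmbedding.isOpenMap _ (PrimeSpectrum.basicOpen a).2)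
      ⟨ω', haω, hω'⟩
    intro hfin
    refine h2 ((hfin.image Subtype.val).subset ?_)
    rintro e ⟨heE, y, hy, hye⟩
    have heO : pt e ∈ O := by
      change pt e ∈ (O : Set V.left)
      rw [← hiA]
      exact ⟨y, hye⟩
    refine ⟨⟨e, heE, heO⟩, ?_, rfl⟩
    have hye' : y = Spec.map (x ⟨e, heE, heO⟩) (IsLocalRing.closedPoint K) := by
      apply iA.isOpenEmbedding.injective
      refine hye.trans ?_
      change pt e = (Spec.map (x ⟨e, heE, heO⟩) ≫ iA) _
      rw [hx]
    rw [hye'] at hy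
    have hprod : Algebra.TensorProduct.productMap (xa ⟨e, heE, heO⟩) (xa ⟨e, heE, heO⟩) h =
        xa ⟨e, heE, heO⟩ a := by
      refine DFunLike.congr_fun (?_ : Algebra.TensorProduct.productMap (xa ⟨e, heE, heO⟩) (xa ⟨e, heE, heO⟩) =
        (xa ⟨e, heE, heO⟩).comp (Algebra.TensorProduct.lmul' R (S := A))) h
      ext <;> simp
    change _ ≠ (0 : K)
    rw [hprod]
    intro h0
    apply hy
    change (x ⟨e, heE, heO⟩).hom a ∈ IsLocalRing.maximalIdeal K
    change (x ⟨e, heE, heO⟩).hom a = 0 at h0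
    rw [h0]
    exact zero_mem _
  refine hmany (finite_of_diagonal_pairing xa h fun e e' hne => ?_)
  by_contra hne0
  apply hne
  -- the pair of points is a point of the fibre product
  let ye : E₀ → (Over.mk str ⟶ V₀) := fun e => Over.homMk (Spec.map (x e)) (by
    change Spec.map (x e) ≫ iA ≫ V.hom = str
    rw [reassoc_of% hx e]
    exact Over.w e.1)
  have hye : ∀ e : E₀, (yon S).map (ye e) ≫ b₀ = p := fun e => by
    rw [← Functor.map_comp_assoc,
      show ye e ≫ (Over.homMk iA rfl : V₀ ⟶ V) = e.1 from Over.OverMorphism.ext (hx e)]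
    exact e.2.1
  obtain ⟨r, hr⟩ := (yon S).map_surjective (sqW.lift ((yon S).map (ye e)) ((yon S).map (ye e')) (by
    rw [hye, hye]))
  have hrf : r ≫ f = ye e := (yon S).map_injective (by rw [Functor.map_comp, hr, sqW.lift_fst])
  have hrw : r ≫ w = ye e' := (yon S).map_injective (by rw [Functor.map_comp, hr, sqW.lift_snd])
  have hrj : r.left ≫ j.left =
      Spec.map (CommRingCat.ofHom (Algebra.TensorProduct.productMap (xa e) (xa e')).toRingHom) := by
    apply hP₀.hom_ext
    · rw [Category.assoc, ← Spec.map_comp]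
      change r.left ≫ jl ≫ _ = _
      rw [hP₀.lift_fst]
      refine (congrArg (fun t => Over.Hom.left t) hrf).trans (congrArg Spec.map ?_)
      ext c
      change (x e).hom c = Algebra.TensorProduct.productMap (xa e) (xa e') (c ⊗ₜ[R] (1 : A))
      simp [xa]
    · rw [Category.assoc, ← Spec.map_comp]
      change r.left ≫ jl ≫ _ = _
      rw [hP₀.lift_snd]
      refine (congrArg (fun t => Over.Hom.left t) hrw).trans (congrArg Spec.map ?_)
      ext c
      change (x e').hom c = Algebra.TensorProduct.productMap (xa e) (xa e') ((1 : A) ⊗ₜ[R] c)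
      simp [xa]
  have hmem : r.left (IsLocalRing.closedPoint K) ∈ Set.range σ.left := by
    rw [← hGσ]
    apply hhG
    change (r.left ≫ j.left) (IsLocalRing.closedPoint K) ∈ PrimeSpectrum.basicOpen h
    rw [hrj]
    intro hh
    apply hne0
    change Algebra.TensorProduct.productMap (xa e) (xa e') h ∈ IsLocalRing.maximalIdeal K at hh
    rwa [IsLocalRing.maximalIdeal_eq_bot] at hh
  let r' : Spec (CommRingCat.of K) ⟶ V₀.left := IsOpenImmersion.lift σ.left r.left (by
    rintro _ ⟨z, rfl⟩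
    rw [@Subsingleton.elim (Spec (CommRingCat.of K)) inferInstance z (IsLocalRing.closedPoint K)]
    exact hmem)
  have hr' : r' ≫ σ.left = r.left := IsOpenImmersion.lift_fac _ _ _
  have hee : ye e = ye e' := Over.OverMorphism.ext (by
    rw [← congrArg (fun t => Over.Hom.left t) hrf, ← congrArg (fun t => Over.Hom.left t) hrw]
    change r.left ≫ f.left = r.left ≫ w.left
    rw [← hr', Category.assoc, Category.assoc,
      show σ.left ≫ f.left = 𝟙 _ from congrArg (fun t => Over.Hom.left t) hσf,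
      show σ.left ≫ w.left = 𝟙 _ from congrArg (fun t => Over.Hom.left t) hσw])
  exact Subtype.ext (Over.OverMorphism.ext (by
    rw [← hx e, ← hx e']
    exact congrArg (· ≫ iA) (congrArg (fun t => Over.Hom.left t) hee)))

end

end Groth.Agent.H13AlgSp
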