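import Groth.Agent.H13AlgSp.RedInduced
import Groth.Agent.H12AlgSp.UnivClosedQC
import Groth.Agent.H12AlgSp.Proper

/-!
Proper images and finite unions of closed subspaces.
-/

universe u

open CategoryTheory CategoryTheory.Limits AlgebraicGeometry Opposite
open AlgSp Groth.Agent.H12AlgSp

namespace Groth.Agent.H13AlgSp

variable {S : Scheme.{u}}

theorem lft_of_closedImmersion {X Y B : Sp S} (hX : IsAlgSpace X) (hY : IsAlgSpace Y) (hB : IsAlgSpace B)
    {i : X ⟶ Y} (hi : RepWith @IsClosedImmersion i) {b : Y ⟶ B} (hb : LocP @LocallyOfFiniteType b) :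
    LocP @LocallyOfFiniteType (i ≫ b) :=
  Groth.Agent.H12AlgSp.locP_comp etLocal_lft hX hY hB (locP_of_repWith etLocal_lft (repWith_le (fun _ _ g (_ : IsClosedImmersion g) =>
    inferInstanceAs (LocallyOfFiniteType g)) hi)) hb

/-- Universal closedness is inherited from a finite jointly surjective family. -/
theorem isUnivClosedMor_of_family {κ : Type*} [Finite κ] {A : κ → Sp S} {W B : Sp S} (p : ∀ k, A k ⟶ W)
    (hp : ∀ w, ∃ k, w ∈ Set.range (Points.map (p k))) {q : W ⟶ B} (h : ∀ k, IsUnivClosedMor (p k ≫ q)) :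
    IsUnivClosedMor q := by
  intro T W' hT g fst snd sq
  have sq' : ∀ k, IsPullback (pullback.fst (p k) fst) (pullback.snd (p k) fst ≫ snd) (p k ≫ q) g :=
    fun k => (IsPullback.of_hasPullback (p k) fst).paste_vert sq
  intro C hC
  have e : Points.map snd '' C = ⋃ k, Points.map (pullback.snd (p k) fst ≫ snd) ''
      (Points.map (pullback.snd (p k) fst) ⁻¹' C) := by
    ext y
    constructor
    · rintro ⟨c, hc, rfl⟩
      obtain ⟨k, a, ha⟩ := hp (Points.map fst c)
      obtain ⟨w, -, hw⟩ := exists_point_of_isPullback (IsPullback.of_hasPullback (p k) fst) a c ha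
      exact Set.mem_iUnion.2 ⟨k, w, by rw [Set.mem_preimage, hw]; exact hc, by rw [Points.map_comp, hw]⟩
    · intro hy
      obtain ⟨k, w, hw, rfl⟩ := Set.mem_iUnion.1 hy
      exact ⟨_, hw, (Points.map_comp _ _ _).symm⟩
  rw [e]
  exact isClosed_iUnion_of_finite fun k => h k hT g _ _ (sq' k) _ (hC.preimage (Points.continuous_map _))

/-- A space covered by finitely many universally closed maps from spaces proper over the base is proper. -/
theorem isProperMor_of_family {κ : Type*} [Finite κ] {A : κ → Sp S} {W B : Sp S} (hA : ∀ k, IsAlgSpace (A k))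
    (hW : IsAlgSpace W) (hB : IsAlgSpace B) (p : ∀ k, A k ⟶ W)
    (hp : ∀ w, ∃ k, w ∈ Set.range (Points.map (p k))) (hc : ∀ k, IsUnivClosedMor (p k)) {q : W ⟶ B}
    (hq : LocP @LocallyOfFiniteType q) (h : ∀ k, IsProperMor (p k ≫ q)) : IsProperMor q := by
  have hu : IsUnivClosedMor q := isUnivClosedMor_of_family p hp fun k => (h k).2.2
  refine ⟨(isSeparatedMor_iff hW hB q).1.2 (isUnivClosedMor_of_family p hp fun k => ?_),
    ⟨hq, isQuasiCompactMor_of_isUnivClosedMor hW hB hu⟩, hu⟩
  let m := pullback.map (p k ≫ q) (p k ≫ q) q q (p k) (p k) (𝟙 B) (by simp) (by simp)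
  have e : p k ≫ pullback.diagonal q = pullback.diagonal (p k ≫ q) ≫ m := by
    apply pullback.hom_ext <;> simp [m, pullback.map, Limits.pullback.lift_fst, Limits.pullback.lift_snd]
  rw [e]
  exact univSp_comp_of (isAlgSpace_pullback hB.diag (hA k) (hA k) _ _) (isAlgSpace_pullback hB.diag hW hW q q)
    ((isSeparatedMor_iff (hA k) hB (p k ≫ q)).1.1 (h k).1) (isUnivClosedMor_map (hA k) hW hB (hc k))

/-- The image of a universally closed map from a space proper over the base. -/
theorem exists_image_isProperMor {Z Y B : Sp S} (hZ : IsAlgSpace Z) (hY : IsAlgSpace Y) (hB : IsAlgSpace B)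
    {h : Z ⟶ Y} (hh : IsUnivClosedMor h) {b : Y ⟶ B} (hb : LocP @LocallyOfFiniteType b)
    (hp : IsProperMor (h ≫ b)) :
    IsClosed (Set.range (Points.map h)) ∧ ∃ (Z' : Sp S) (i' : Z' ⟶ Y), IsAlgSpace Z' ∧
      RepWith @IsClosedImmersion i' ∧ Set.range (Points.map i') = Set.range (Points.map h) ∧
      IsProperMor (i' ≫ b) := by
  have hcl := isClosed_range_of_isUnivClosedMor hY hh
  obtain ⟨Z', i', hZ', hi', hr, -⟩ := exists_isRedInduced hY hcl
  refine ⟨hcl, Z', i', hZ', hi', hr, ?_⟩
  have sq := IsPullback.of_hasPullback h i'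
  refine isProperMor_of_family (κ := Unit) (A := fun _ => pullback h i')
    (fun _ => isAlgSpace_pullback hY.diag hZ hZ' h i') hZ' hB (fun _ => pullback.snd h i') (fun z => ⟨(), ?_⟩)
    (fun _ => univSp_of_isPullback sq hh) (lft_of_closedImmersion hZ' hY hB hi' hb) fun _ => ?_
  · exact (range_snd_of_isPullback sq).ge (hr.le ⟨z, rfl⟩)
  · have := isProperMor_comp (isAlgSpace_pullback hY.diag hZ hZ' h i') hZ hB
      (isProperMor_of_isPullback hZ' hY hZ sq.flip (isProperMor_of_isClosedImmersion hY hi')) hp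
    rwa [← Category.assoc, sq.w, Category.assoc] at this

end Groth.Agent.H13AlgSp
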