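import Groth.Agent.H13AlgSp.SepStrat
import Groth.Agent.H12AlgSp.QSApps
import Groth.Agent.H12AlgSp.QCPoint

/-!
The strata of the moduli of finite opens are quasi-compact when the chart is quasi-compact.
-/

universe u

open CategoryTheory CategoryTheory.Limits AlgebraicGeometry Opposite Topology TopologicalSpace
open AlgSp Groth.Agent.H7Weight Groth.Agent.H12AlgSp

set_option linter.style.haveILetI false
set_option backward.isDefEq.respectTransparency false

namespace Groth.Agent.H13AlgSp.SepStrat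

variable {S : Scheme.{u}} {X : Sp S} {U : Over S} {p : (yon S).obj U ⟶ X}

omit X U in
theorem isOpenImmersion_section {T Y : Over S} {a : Y ⟶ T} [Etale a.left] (σ : T ⟶ Y) (hσ : σ ≫ a = 𝟙 T) :
    IsOpenImmersion σ.left := by
  have h : σ.left ≫ a.left = 𝟙 _ := congrArg (fun f : T ⟶ T => f.left) hσ
  haveI : IsSplitMono σ.left := IsSplitMono.mk' ⟨a.left, h⟩
  haveI : Etale (σ.left ≫ a.left) := by rw [h]; infer_instance
  haveI : Etale σ.left := Etale.of_comp _ a.left
  exact IsOpenImmersion.of_flat_of_mono _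

theorem left_injective {T Y : Over S} {ξ : (yon S).obj T ⟶ X} {a : Y ⟶ T} {b : Y ⟶ U}
    (sq : IsPullback ((yon S).map b) ((yon S).map a) p ξ) {Ω : Type u} [Field Ω]
    (η : Spec (CommRingCat.of Ω) ⟶ T.left) : Function.Injective fun s : Pts a.left η => s.1 ≫ b.left := by
  intro s₁ s₂ e
  have ea : s₁.1 ≫ a.left = s₂.1 ≫ a.left := s₁.2.trans s₂.2.symm
  let Z : Over S := Over.mk (s₁.1 ≫ Y.hom)
  let k₁ : Z ⟶ Y := Over.homMk s₁.1
  let k₂ : Z ⟶ Y := Over.homMk s₂.1 (by
    show s₂.1 ≫ Y.hom = s₁.1 ≫ Y.hom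
    rw [← Over.w a, ← Category.assoc, ← ea, Category.assoc])
  exact Subtype.ext (congrArg (fun f : Z ⟶ Y => f.left) (Hilb.hom_ext_square sq (l := k₁) (l' := k₂)
    (Over.OverMorphism.ext ea) (Over.OverMorphism.ext e)))

namespace Moduli

variable (M : Moduli p)

/-- The chosen points of `U` in a geometric point of the moduli. -/
def Sel {Ω : Type u} [Field Ω] (x : Spec (CommRingCat.of Ω) ⟶ M.Q.left) :
    Set (Spec (CommRingCat.of Ω) ⟶ U.left) :=
  Set.range fun t : Pts (M.O.ι ≫ M.a.left) x => (t.1 ≫ M.O.ι) ≫ M.b.left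

variable {Ω : Type u} [Field Ω]

theorem injective_sel (x : Spec (CommRingCat.of Ω) ⟶ M.Q.left) :
    Function.Injective fun t : Pts (M.O.ι ≫ M.a.left) x => (t.1 ≫ M.O.ι) ≫ M.b.left := fun t t' e =>
  Subtype.ext ((cancel_mono M.O.ι).1 (congrArg Subtype.val (left_injective M.sq x
    (a₁ := ⟨t.1 ≫ M.O.ι, by rw [Category.assoc, t.2]⟩) (a₂ := ⟨t'.1 ≫ M.O.ι, by rw [Category.assoc, t'.2]⟩) e)))

theorem mem_O_iff (x : Spec (CommRingCat.of Ω) ⟶ M.Q.left) (s : Pts M.a.left x) :
    pt s.1 ∈ M.O ↔ s.1 ≫ M.b.left ∈ M.Sel x := by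
  constructor
  · intro h
    obtain ⟨t, ht⟩ := exists_lift_open' M.O.ι s.1 (by rw [Scheme.Opens.range_ι]; exact h)
    exact ⟨⟨t, by rw [← Category.assoc, ht, s.2]⟩, by dsimp only; rw [ht]⟩
  · rintro ⟨t, ht⟩
    have e := left_injective M.sq x (a₁ := ⟨t.1 ≫ M.O.ι, by rw [Category.assoc, t.2]⟩) (a₂ := s) ht
    rw [← congrArg Subtype.val e]
    exact (pt t.1).2

variable [IsAlgClosed Ω]

theorem ncard_sel (hp : RepWith @Etale p) (x : Spec (CommRingCat.of Ω) ⟶ M.Q.left) :
    M.D (pt x) = (M.Sel x).ncard := by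
  haveI := M.finOpen.1
  haveI := M.etale_a hp
  rw [Sel, Set.ncard_range_of_injective (M.injective_sel x), D, Degree.finrank_eq_natCard_pts]

omit [IsAlgClosed Ω] in
theorem sel_map {T Y' : Over S} {l : T ⟶ M.Q} {a' : Y' ⟶ T} {g : Y' ⟶ M.Y} (sqg : IsPullback g a' M.a l)
    (η : Spec (CommRingCat.of Ω) ⟶ T.left) :
    M.Sel (η ≫ l.left) =
      (fun s : Pts a'.left η => s.1 ≫ g.left ≫ M.b.left) '' {s | g.left (pt s.1) ∈ M.O} := by
  ext u
  constructor
  · rintro ⟨t, rfl⟩
    let s := (ptsBaseChange (sqg.map (Over.forget S)) η).symm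
      (⟨t.1 ≫ M.O.ι, by rw [Category.assoc]; exact t.2⟩ : Pts M.a.left (η ≫ l.left))
    have hs : s.1 ≫ g.left = t.1 ≫ M.O.ι :=
      congrArg Subtype.val ((ptsBaseChange (sqg.map (Over.forget S)) η).apply_symm_apply _)
    refine ⟨s, ?_, ?_⟩
    · show g.left (pt s.1) ∈ M.O
      rw [← pt_comp, hs]
      exact (pt t.1).2
    · show s.1 ≫ g.left ≫ M.b.left = (t.1 ≫ M.O.ι) ≫ M.b.left
      rw [← hs, Category.assoc]
  · rintro ⟨s, hs, rfl⟩
    have hw : g.left ≫ M.a.left = a'.left ≫ l.left := congrArg (fun f : Y' ⟶ M.Q => f.left) sqg.w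
    have := (M.mem_O_iff (η ≫ l.left) ⟨s.1 ≫ g.left, by rw [Category.assoc, hw, ← Category.assoc, s.2]⟩).1
      (show g.left (pt s.1) ∈ M.O from hs)
    simpa only [Category.assoc] using this

/-- Geometric points of the moduli are determined by the chosen points. -/
theorem sel_ext (hp : RepWith @Etale p) {str : Spec (CommRingCat.of Ω) ⟶ S} {l l' : Over.mk str ⟶ M.Q}
    (hll : (yon S).map l ≫ M.π = (yon S).map l' ≫ M.π) (h : M.Sel l.left = M.Sel l'.left) : l = l' := by
  obtain ⟨Y', a', b', sq'⟩ := Hilb.exists_square hp.1 ((yon S).map l ≫ M.π)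
  obtain ⟨g, sqg, hgb⟩ := exists_square_map M.sq l sq'
  obtain ⟨g', sqg', hgb'⟩ := exists_square_map M.sq l' (hll ▸ sq')
  refine M.unique hll sqg sqg' (hgb.trans hgb'.symm) ?_
  haveI : Etale a'.left := hp.property _ _ a' sq'
  haveI := lqf_of_etale a'.left
  haveI : Subsingleton (Over.mk str).left := inferInstanceAs (Subsingleton (Spec (CommRingCat.of Ω)))
  ext y
  obtain ⟨s, rfl⟩ := exists_pts a'.left (𝟙 (Spec (CommRingCat.of Ω))) y (Subsingleton.elim _ _)
  have key : ∀ (l : Over.mk str ⟶ M.Q) (g : Y' ⟶ M.Y), IsPullback g a' M.a l → g ≫ M.b = b' →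
      (pt s.1 ∈ g.left ⁻¹ᵁ M.O ↔ s.1 ≫ b'.left ∈ M.Sel l.left) := by
    intro l g sqg hgb
    have hw : g.left ≫ M.a.left = a'.left ≫ l.left := congrArg (fun f : Y' ⟶ M.Q => f.left) sqg.w
    have hb : g.left ≫ M.b.left = b'.left := congrArg (fun f : Y' ⟶ U => f.left) hgb
    rw [Scheme.Hom.mem_preimage, ← pt_comp,
      M.mem_O_iff l.left ⟨s.1 ≫ g.left, by rw [Category.assoc, hw, ← Category.assoc, s.2, Category.id_comp]⟩]
    dsimp only
    rw [Category.assoc, hb]
  change pt s.1 ∈ g.left ⁻¹ᵁ M.O ↔ pt s.1 ∈ g'.left ⁻¹ᵁ M.O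
  rw [key l g sqg hgb, key l' g' sqg' hgb', h]

/-- Adding a section to a finite open. -/
theorem exists_map_insert (hp : RepWith @Etale p) [IsAffine U.left] {T Y' : Over S} {ξ : (yon S).obj T ⟶ X}
    {a' : Y' ⟶ T} {b' : Y' ⟶ U} (sq' : IsPullback ((yon S).map b') ((yon S).map a') p ξ) (O₁ : Y'.left.Opens)
    (hO₁ : IsFinite (O₁.ι ≫ a'.left)) (σ : T ⟶ Y') (hσ : σ ≫ a' = 𝟙 T) :
    ∃ l : T ⟶ M.Q, (yon S).map l ≫ M.π = ξ ∧ ∀ (Ω : Type u) [Field Ω] [IsAlgClosed Ω]
      (η : Spec (CommRingCat.of Ω) ⟶ T.left), M.Sel (η ≫ l.left) =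
        insert (η ≫ σ.left ≫ b'.left) ((fun s : Pts a'.left η => s.1 ≫ b'.left) '' {s | pt s.1 ∈ O₁}) := by
  haveI : Etale a'.left := hp.property _ _ a' sq'
  haveI := lqf_of_etale a'.left
  haveI := (Hilb.good_of_square (goodMor_of_etale hp) sq').2.2.2
  haveI := isOpenImmersion_section σ hσ
  have hσ' : σ.left ≫ a'.left = 𝟙 _ := congrArg (fun f : T ⟶ T => f.left) hσ
  let O₂ := σ.left.opensRange
  have hO₂ : IsFinite (O₂.ι ≫ a'.left) := by
    rw [← MorphismProperty.cancel_left_of_respectsIso @IsFinite σ.left.isoOpensRange.hom,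
      Scheme.Hom.isoOpensRange_hom_ι_assoc, hσ']
    infer_instance
  have hfo : IsFinOpen a'.left (O₁ ⊔ O₂) := by
    refine ⟨isFinite_sup O₁ O₂ hO₁ hO₂, ⟨fun t => ⟨⟨σ.left t, Or.inr ⟨t, rfl⟩⟩, ?_⟩⟩⟩
    show a'.left (σ.left t) = t
    rw [← Scheme.Hom.comp_apply, hσ']; rfl
  obtain ⟨l, g, hlξ, sqg, hgb, hgO⟩ := M.exists_map sq' (O₁ ⊔ O₂) hfo
  refine ⟨l, hlξ, fun Ω _ _ η => ?_⟩
  have hb : g.left ≫ M.b.left = b'.left := congrArg (fun f : Y' ⟶ U => f.left) hgb
  rw [M.sel_map sqg η, hb]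
  have hset : ∀ s : Pts a'.left η, g.left (pt s.1) ∈ M.O ↔ pt s.1 ∈ O₁ ∨ s.1 = η ≫ σ.left := by
    intro s
    rw [← Scheme.Hom.mem_preimage, hgO]
    refine or_congr_right ⟨?_, fun e => ⟨pt η, by rw [e, pt_comp]⟩⟩
    intro hs
    obtain ⟨t, ht⟩ := exists_lift_open' σ.left s.1 hs
    have : t = η := by rw [← Category.comp_id t, ← hσ', ← Category.assoc, ht, s.2]
    rw [← ht, this]
  ext u
  constructor
  · rintro ⟨s, hs, rfl⟩
    rcases (hset s).1 hs with h | h
    · exact Or.inr ⟨s, h, rfl⟩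
    · exact Or.inl (by show s.1 ≫ b'.left = _; rw [h, Category.assoc])
  · rintro (rfl | ⟨s, hs, rfl⟩)
    · exact ⟨⟨η ≫ σ.left, by rw [Category.assoc, hσ', Category.comp_id]⟩, (hset _).2 (Or.inr rfl),
        Category.assoc _ _ _⟩
    · exact ⟨s, (hset s).2 (Or.inl hs), rfl⟩

/-- The strata are quasi-compact when the chart is. -/
theorem isCompact_stratum (hp : RepWith @Etale p) [IsAffine U.left] (hqc : RepWith @QuasiCompact p) :
    ∀ k, 1 ≤ k → IsCompact {v | M.D v = k} := by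
  intro k hk
  induction k, hk using Nat.le_induction with
  | base =>
    obtain ⟨R, a', b', sq'⟩ := Hilb.exists_square hp.1 p
    obtain ⟨σ', hσb, hσa⟩ := sq'.exists_lift (𝟙 _) (𝟙 _) rfl
    obtain ⟨σ, rfl⟩ := (yon S).map_surjective σ'
    have hσ : σ ≫ a' = 𝟙 U := (yon S).map_injective (by rw [Functor.map_comp, hσa, CategoryTheory.Functor.map_id])
    have hσb' : σ ≫ b' = 𝟙 U := (yon S).map_injective (by rw [Functor.map_comp, hσb, CategoryTheory.Functor.map_id])
    haveI : IsEmpty ((⊥ : R.left.Opens) : Scheme.{u}) := ⟨fun x => x.2⟩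
    obtain ⟨l, hl, hsel⟩ := M.exists_map_insert hp sq' ⊥ inferInstance σ hσ
    have hsel' : ∀ (Ω : Type u) [Field Ω] [IsAlgClosed Ω] (η : Spec (CommRingCat.of Ω) ⟶ U.left),
        M.Sel (η ≫ l.left) = {η} := fun Ω _ _ η => by
      rw [hsel Ω η, show σ.left ≫ b'.left = 𝟙 _ from congrArg (fun f : U ⟶ U => f.left) hσb', Category.comp_id]
      ext u
      simp
    have hr : {v | M.D v = 1} = Set.range l.left := by
      ext v
      constructor
      · intro hv
        obtain ⟨Ω, _, _, x, rfl⟩ := exists_geomPt' v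
        obtain ⟨u₀, hu₀⟩ := Set.ncard_eq_one.1 ((M.ncard_sel hp x).symm.trans hv)
        obtain ⟨t, ht⟩ : u₀ ∈ M.Sel x := hu₀ ▸ rfl
        let str := x ≫ M.Q.hom
        let xΩ : Over.mk str ⟶ M.Q := Over.homMk x
        let sΩ : Over.mk str ⟶ M.Y := Over.homMk (t.1 ≫ M.O.ι) (by
          show (t.1 ≫ M.O.ι) ≫ M.Y.hom = x ≫ M.Q.hom
          rw [← Over.w M.a, ← Category.assoc, Category.assoc t.1 M.O.ι, t.2])
        have hsa : sΩ ≫ M.a = xΩ := Over.OverMorphism.ext (by
          show (t.1 ≫ M.O.ι) ≫ M.a.left = x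
          rw [Category.assoc, t.2])
        have e : (sΩ ≫ M.b) ≫ l = xΩ := M.sel_ext hp (by
          rw [Functor.map_comp, Functor.map_comp, Category.assoc, Category.assoc, hl, M.sq.w, ← hsa,
            Functor.map_comp, Category.assoc]) (by
          show M.Sel ((sΩ ≫ M.b).left ≫ l.left) = M.Sel x
          rw [hsel' Ω, hu₀, ← ht]
          rfl)
        exact ⟨pt (sΩ ≫ M.b).left, congrArg (fun f : Over.mk str ⟶ M.Q => pt f.left) e⟩
      · rintro ⟨u, rfl⟩
        obtain ⟨Ω, _, _, η, rfl⟩ := exists_geomPt' u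
        show M.D (l.left (pt η)) = 1
        rw [← pt_comp, M.ncard_sel hp, hsel' Ω, Set.ncard_singleton]
    haveI : CompactSpace U.left := inferInstance
    rw [hr]
    exact isCompact_range l.left.continuous
  | succ k hk ih =>
    haveI := M.finOpen.1
    haveI : Etale M.a.left := M.etale_a hp
    haveI := lqf_of_etale M.a.left
    haveI := (Hilb.good_of_square (goodMor_of_etale hp) M.sq).2.2.2
    haveI : QuasiCompact M.a.left := hqc.property _ _ M.a M.sq
    let K : Set M.Q.left := {v | M.D v = k}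
    have hK : IsOpen K := (M.isLocallyConstant_D hp).isOpen_fiber k
    let W : M.Y.left.Opens := ⟨M.a.left ⁻¹' K \ M.O, (hK.preimage M.a.left.continuous).sdiff M.finOpen.isClosed⟩
    have hWc : IsCompact (W : Set M.Y.left) :=
      (QuasiCompact.isCompact_preimage (f := M.a.left) K hK ih).diff M.O.isOpen
    let T := openOver M.Y W
    let ι := openIncl M.Y W
    let a' := pullback.snd M.a (ι ≫ M.a)
    let b' := pullback.fst M.a (ι ≫ M.a) ≫ M.b
    have sq' : IsPullback ((yon S).map b') ((yon S).map a') p ((yon S).map (ι ≫ M.a) ≫ M.π) := by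
      rw [show b' = pullback.fst M.a (ι ≫ M.a) ≫ M.b from rfl, Functor.map_comp]
      exact ((IsPullback.of_hasPullback M.a (ι ≫ M.a)).map (yon S)).paste_horiz M.sq
    let σ : T ⟶ pullback M.a (ι ≫ M.a) := pullback.lift ι (𝟙 T) (by rw [Category.id_comp])
    have hσ : σ ≫ a' = 𝟙 T := pullback.lift_snd _ _ _
    let O₁ := (pullback.fst M.a (ι ≫ M.a)).left ⁻¹ᵁ M.O
    have hO₁ : IsFinOpen a'.left O₁ :=
      M.finOpen.baseChange ((IsPullback.of_hasPullback M.a (ι ≫ M.a)).map (Over.forget S))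
    obtain ⟨l, hl, hsel⟩ := M.exists_map_insert hp sq' O₁ hO₁.1 σ hσ
    have hsel' : ∀ (Ω : Type u) [Field Ω] [IsAlgClosed Ω] (η : Spec (CommRingCat.of Ω) ⟶ T.left),
        M.Sel (η ≫ l.left) = insert (η ≫ W.ι ≫ M.b.left) (M.Sel (η ≫ W.ι ≫ M.a.left)) := fun Ω _ _ η => by
      rw [hsel Ω η]
      have h1 : σ.left ≫ b'.left = W.ι ≫ M.b.left := by
        show (σ ≫ pullback.fst M.a (ι ≫ M.a) ≫ M.b).left = (ι ≫ M.b).left
        rw [pullback.lift_fst_assoc]
      rw [h1]
      congr 1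
      exact (M.sel_map (IsPullback.of_hasPullback M.a (ι ≫ M.a)) η).symm
    have hnot : ∀ (Ω : Type u) [Field Ω] [IsAlgClosed Ω] (η : Spec (CommRingCat.of Ω) ⟶ T.left),
        η ≫ W.ι ≫ M.b.left ∉ M.Sel (η ≫ W.ι ≫ M.a.left) := fun Ω _ _ η h => by
      have := (M.mem_O_iff (η ≫ W.ι ≫ M.a.left) ⟨η ≫ W.ι, Category.assoc _ _ _⟩).2
        (by dsimp only; rw [Category.assoc]; exact h)
      exact (pt η).2.2 this
    have hr : {v | M.D v = k + 1} = Set.range l.left := by
      ext v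
      constructor
      · intro hv
        classical
        obtain ⟨Ω, _, _, x, rfl⟩ := exists_geomPt' v
        have hcard : (M.Sel x).ncard = k + 1 := (M.ncard_sel hp x).symm.trans hv
        have hfin : (M.Sel x).Finite := Set.finite_of_ncard_pos (by omega)
        obtain ⟨u₀, hu₀⟩ : (M.Sel x).Nonempty := by
          rw [← Set.ncard_pos hfin]; omega
        obtain ⟨t₀, ht₀⟩ := hu₀
        haveI := Degree.finite_pts_of_isFinite (M.O.ι ≫ M.a.left) x
        haveI := Fintype.ofFinite (Pts (M.O.ι ≫ M.a.left) x)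
        let Φ : Pts (M.O.ι ≫ M.a.left) x → Pts M.a.left x := fun t => ⟨t.1 ≫ M.O.ι, by rw [Category.assoc, t.2]⟩
        let s : Finset (Pts M.a.left x) := (Finset.univ.erase t₀).image Φ
        have hcard' : Fintype.card (Pts (M.O.ι ≫ M.a.left) x) = k + 1 := by
          rw [← Nat.card_eq_fintype_card, ← Set.ncard_range_of_injective (M.injective_sel x)]
          exact hcard
        have hsne : s.Nonempty := by
          rw [Finset.image_nonempty, ← Finset.card_pos, Finset.card_erase_of_mem (Finset.mem_univ _),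
            Finset.card_univ, hcard']
          omega
        obtain ⟨q, Vo, c, l₀, η', hη', hq, hl₀, hD, -, hselq⟩ := M.exists_point hp M.sq x s hsne
        have hDk : M.D (pt q) = k := by
          rw [hD, Finset.card_image_of_injective, Finset.card_erase_of_mem (Finset.mem_univ _), Finset.card_univ,
            hcard', Nat.add_sub_cancel]
          exact fun t t' e => Subtype.ext ((cancel_mono M.O.ι).1 (congrArg Subtype.val e))
        have hselq' : M.Sel q = M.Sel x \ {u₀} := by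
          rw [Sel, hselq, ← ht₀]
          ext u
          constructor
          · rintro ⟨s₁, hs₁, rfl⟩
            obtain ⟨t, htne, rfl⟩ := Finset.mem_image.1 (Finset.mem_coe.1 hs₁)
            exact ⟨⟨t, rfl⟩, fun e => (Finset.mem_erase.1 htne).1 (M.injective_sel x e)⟩
          · rintro ⟨⟨t, rfl⟩, hne⟩
            refine ⟨Φ t, Finset.mem_coe.2 (Finset.mem_image.2 ⟨t, Finset.mem_erase.2 ⟨?_, Finset.mem_univ _⟩, rfl⟩), rfl⟩
            rintro rfl
            exact hne rfl
        let str := x ≫ M.Q.hom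
        let sΩ : Over.mk str ⟶ M.Y := Over.homMk (t₀.1 ≫ M.O.ι) (by
          show (t₀.1 ≫ M.O.ι) ≫ M.Y.hom = x ≫ M.Q.hom
          rw [← Over.w M.a, ← Category.assoc, Category.assoc t₀.1 M.O.ι, t₀.2])
        have hsb : (sΩ ≫ M.b).left = u₀ := ht₀
        let eΩ : Over.mk str ⟶ Vo := Over.homMk η' (by
          show η' ≫ Vo.hom = x ≫ M.Q.hom
          rw [← Over.w c, ← Category.assoc, hη'])
        let xΩ : Over.mk str ⟶ M.Q := Over.homMk x
        have hsa : sΩ ≫ M.a = xΩ := Over.OverMorphism.ext (by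
          show (t₀.1 ≫ M.O.ι) ≫ M.a.left = x
          rw [Category.assoc, t₀.2])
        have hec : eΩ ≫ c = xΩ := Over.OverMorphism.ext hη'
        have hqx : (yon S).map (eΩ ≫ l₀) ≫ M.π = (yon S).map xΩ ≫ M.π := by
          rw [Functor.map_comp, Category.assoc, hl₀, ← hec, Functor.map_comp, Category.assoc]
        obtain ⟨y', hy₁, hy₂⟩ := M.sq.exists_lift ((yon S).map (sΩ ≫ M.b)) ((yon S).map (eΩ ≫ l₀))
          (by rw [hqx, ← hsa, Functor.map_comp, Functor.map_comp, Category.assoc, Category.assoc, M.sq.w])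
        obtain ⟨y, rfl⟩ := (yon S).map_surjective y'
        rw [← Functor.map_comp] at hy₁ hy₂
        have hyb : y.left ≫ M.b.left = u₀ :=
          (congrArg (fun f : Over.mk str ⟶ U => f.left) ((yon S).map_injective hy₁)).trans hsb
        have hya : y.left ≫ M.a.left = q :=
          (congrArg (fun f : Over.mk str ⟶ M.Q => f.left) ((yon S).map_injective hy₂)).trans hq
        have hyW : pt y.left ∈ W := by
          refine ⟨?_, fun hO => ?_⟩
          · show M.D (M.a.left (pt y.left)) = k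
            rw [← pt_comp, hya, hDk]
          · have := (M.mem_O_iff q ⟨y.left, hya⟩).1 hO
            rw [hselq'] at this
            exact this.2 hyb
        obtain ⟨w, hw⟩ := exists_lift_open' W.ι y.left (by rw [Scheme.Opens.range_ι]; exact hyW)
        let wΩ : Over.mk str ⟶ T := Over.homMk w (by
          show w ≫ W.ι ≫ M.Y.hom = _
          rw [← Category.assoc, hw]; exact Over.w y)
        have hwy : wΩ ≫ ι = y := Over.OverMorphism.ext hw
        have e : wΩ ≫ l = xΩ := M.sel_ext hp (by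
          rw [Functor.map_comp, Category.assoc, hl, ← Category.assoc, ← Functor.map_comp, ← Category.assoc,
            hwy, hy₂, hqx]) (by
          show M.Sel (w ≫ l.left) = M.Sel x
          rw [hsel' Ω, ← Category.assoc w, ← Category.assoc w, hw, hyb, hya, hselq',
            Set.insert_sdiff_singleton, Set.insert_eq_of_mem (show u₀ ∈ M.Sel x from ⟨t₀, ht₀⟩)])
        exact ⟨pt w, congrArg (fun f : Over.mk str ⟶ M.Q => pt f.left) e⟩
      · rintro ⟨t, rfl⟩
        obtain ⟨Ω, _, _, η, rfl⟩ := exists_geomPt' t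
        show M.D (l.left (pt η)) = k + 1
        have hk' : (M.Sel (η ≫ W.ι ≫ M.a.left)).ncard = k := (M.ncard_sel hp _).symm.trans (pt η).2.1
        rw [← pt_comp, M.ncard_sel hp, hsel' Ω, Set.ncard_insert_of_notMem (hnot Ω η)
          (Set.finite_of_ncard_pos (by omega)), hk']
    haveI : CompactSpace T.left := isCompact_iff_compactSpace.1 hWc
    rw [hr]
    exact isCompact_range l.left.continuous

end Moduli

end Groth.Agent.H13AlgSp.SepStrat
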