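import Groth.Agent.H12AlgSp.AffineMor
import Groth.Agent.H12AlgSp.Bootstrap
import Groth.Agent.H12AlgSp.Immersion
import Groth.Agent.H12AlgSp.OpenSub
import Groth.Agent.H13AlgSp.LocalST
import Groth.Agent.H13AlgSp.SmoothSource
import Groth.Agent.S0075

/-!
Topological invariance of etale morphisms of algebraic spaces along integral, universally injective and
surjective morphisms.
-/

universe u

open CategoryTheory CategoryTheory.Limits AlgebraicGeometry Opposite Topology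
open AlgSp Groth.Agent.H12AlgSp

namespace Groth.Agent.H13AlgSp.TopInv

variable {S : Scheme.{u}} {X Y : Sp S}

/-- A universally closed, universally injective surjective morphism is a universal homeomorphism. -/
theorem isHomeomorph_baseChange {f : X ⟶ Y} (h1 : IsIntegralMor f) (h2 : IsUnivInjectiveMor f)
    (h3 : IsSurjectiveMor f) {Z P : Sp S} (hZ : IsAlgSpace Z) {g : Z ⟶ Y} {fst : P ⟶ X} {snd : P ⟶ Z}
    (sq : IsPullback fst snd f g) : IsHomeomorph (Points.map snd) := by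
  rw [isHomeomorph_iff_continuous_isClosedMap_bijective]
  refine ⟨Points.continuous_map snd, (isIntegralMor_iff_affine_univClosed.1 h1).2 hZ g fst snd sq,
    h2 hZ g fst snd sq, fun z => ?_⟩
  obtain ⟨x, hx⟩ := h3 (Points.map g z)
  obtain ⟨p, -, hp⟩ := exists_point_of_isPullback sq x z hx
  exact ⟨p, hp⟩

/-- An etale monomorphism is an open immersion. -/
theorem openImmersion_of_etale_mono {A B : Sp S} (hA : IsAlgSpace A) (hB : IsAlgSpace B) {s : A ⟶ B}
    [Mono s] (h : IsEtaleMor s) : RepWith @IsOpenImmersion s := by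
  refine repWith_isOpenImmersion_of_univInjective hA hB h ?_
  exact isUnivInjectiveMor_of_injective_on_fields fun K _ str a b e => (cancel_mono s).1 e

/-- A section of an etale morphism is etale. -/
theorem isEtaleMor_section {A B : Sp S} (hA : IsAlgSpace A) (hB : IsAlgSpace B) {π : B ⟶ A} {σ : A ⟶ B}
    (hπ : IsEtaleMor π) (hσ : σ ≫ π = 𝟙 A) : IsEtaleMor σ := by
  refine isEtaleMor_of_locP_etale hB ?_
  refine locP_of_postcomp (g := π) etLocal_etale
    (fun _ _ _ f g (h : Etale (f ≫ g)) (_ : Etale g) => Etale.of_comp f g) hA ?_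
    (H13AlgSp.locP_etale_of_isEtaleMor hπ)
  rw [hσ]
  exact H13AlgSp.locP_etale_of_isEtaleMor (LocalST.isEtaleMor_id A)

theorem isEtaleMor_snd {A B C P : Sp S} (hA : IsAlgSpace A) (hC : IsAlgSpace C) (hB : IsAlgSpace B)
    (hP : IsAlgSpace P) {fst : P ⟶ A} {snd : P ⟶ B} {f : A ⟶ C} {g : B ⟶ C}
    (sq : IsPullback fst snd f g) (hf : IsEtaleMor f) : IsEtaleMor snd :=
  (isEtaleMor_iff_locP hP hB).2
    (H13AlgSp.locP_of_isPullback hA hC sq (H13AlgSp.locP_etale_of_isEtaleMor hf))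

theorem isEtaleMor_of_openImmersion {A B : Sp S} {j : A ⟶ B} (hj : RepWith @IsOpenImmersion j) :
    IsEtaleMor j :=
  fun _ φ hφ => repWith_comp hφ (repWith_le (fun _ _ k (_ : IsOpenImmersion k) => inferInstanceAs (Etale k)) hj)

theorem isIso_of_openImmersion_surjective {A B : Sp S} {j : A ⟶ B} (hj : RepWith @IsOpenImmersion j)
    (hs : Function.Surjective (Points.map j)) : IsIso j := by
  have := mono_of_openImmersion hj
  obtain ⟨l, hl⟩ := exists_factor_open hj (𝟙 B) (fun y _ => hs y)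
  exact ⟨l, (cancel_mono j).1 (by rw [Category.assoc, hl, Category.comp_id, Category.id_comp]), hl⟩

section

variable {f : X ⟶ Y} (hX : IsAlgSpace X) (hY : IsAlgSpace Y) (h1 : IsIntegralMor f)
  (h2 : IsUnivInjectiveMor f) (h3 : IsSurjectiveMor f)

include hX hY h1 h2 h3

theorem fullyFaithful {V₁' V₂' V₁ V₂ : Sp S} (hV₁' : IsAlgSpace V₁') (hV₂' : IsAlgSpace V₂')
    (hV₁ : IsAlgSpace V₁) {a₁ : V₁' ⟶ Y} {a₂ : V₂' ⟶ Y} {b₁ : V₁ ⟶ X} {b₂ : V₂ ⟶ X}
    {c₁ : V₁ ⟶ V₁'} {c₂ : V₂ ⟶ V₂'} (ha₂ : IsEtaleMor a₂)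
    (sq₁ : IsPullback b₁ c₁ f a₁) (sq₂ : IsPullback b₂ c₂ f a₂) (φ : V₁ ⟶ V₂) (hφ : φ ≫ b₂ = b₁) :
    ∃! φ' : V₁' ⟶ V₂', φ' ≫ a₂ = a₁ ∧ c₁ ≫ φ' = φ ≫ c₂ := by
  obtain ⟨P', q₁, q₂, sqP'⟩ : ∃ (P' : Sp S) (q₁ : P' ⟶ V₁') (q₂ : P' ⟶ V₂'), IsPullback q₁ q₂ a₁ a₂ :=
    ⟨_, _, _, IsPullback.of_hasPullback a₁ a₂⟩
  have hP' : IsAlgSpace P' := isAlgSpace_of_isPullback hY.diag hV₁' hV₂' sqP'
  have hq₁ : IsEtaleMor q₁ := isEtaleMor_snd hV₂' hY hV₁' hP' sqP'.flip ha₂
  obtain ⟨P, πX, γ, sqP⟩ : ∃ (P : Sp S) (πX : P ⟶ X) (γ : P ⟶ P'), IsPullback πX γ f (q₁ ≫ a₁) :=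
    ⟨_, _, _, IsPullback.of_hasPullback _ _⟩
  have hP : IsAlgSpace P := isAlgSpace_of_isPullback hY.diag hX hP' sqP
  obtain ⟨π₁, hπ₁b, hπ₁c⟩ := sq₁.exists_lift πX (γ ≫ q₁) (by rw [sqP.w, Category.assoc])
  have sqπ : IsPullback π₁ γ c₁ q₁ := IsPullback.of_right (by rw [hπ₁b]; exact sqP) hπ₁c sq₁
  have hπ₁e : IsEtaleMor π₁ := isEtaleMor_snd hP' hV₁' hV₁ hP sqπ.flip hq₁
  have hw : c₁ ≫ a₁ = (φ ≫ c₂) ≫ a₂ := by rw [← sq₁.w, Category.assoc, ← sq₂.w, reassoc_of% hφ]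
  obtain ⟨σγ, hσγ₁, hσγ₂⟩ := sqP'.exists_lift c₁ (φ ≫ c₂) hw
  obtain ⟨σ, hσX, hσγ⟩ := sqP.exists_lift b₁ σγ (by rw [reassoc_of% hσγ₁, sq₁.w])
  have hσπ : σ ≫ π₁ = 𝟙 V₁ := sq₁.hom_ext (by rw [Category.assoc, hπ₁b, hσX, Category.id_comp])
    (by rw [Category.assoc, hπ₁c, ← Category.assoc, hσγ, hσγ₁, Category.id_comp])
  have : Mono σ := mono_of_mono_fac hσπ
  have hσ : RepWith @IsOpenImmersion σ :=
    openImmersion_of_etale_mono hV₁ hP (isEtaleMor_section hV₁ hP hπ₁e hσπ)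
  have hWo : IsOpen (Set.range (Points.map σ)) :=
    (isOpenMap_map_of_repWith (P := @IsOpenImmersion)
      (fun _ _ k (_ : IsOpenImmersion k) => inferInstanceAs (UniversallyOpen k)) hσ).isOpen_range
  have hγ := isHomeomorph_baseChange h1 h2 h3 hP' sqP
  obtain ⟨O', j', hO', hj', hjr⟩ := exists_open_subspace hP' (hγ.isOpenMap _ hWo)
  have := mono_of_openImmersion hj'
  obtain ⟨O, k, γO, sqO⟩ : ∃ (O : Sp S) (k : O ⟶ P) (γO : O ⟶ O'), IsPullback k γO γ j' :=
    ⟨_, _, _, IsPullback.of_hasPullback _ _⟩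
  have hk : RepWith @IsOpenImmersion k := repWith_of_isPullback sqO.flip hj'
  have hkr : Set.range (Points.map k) = Set.range (Points.map σ) := by
    rw [range_snd_of_isPullback sqO.flip, hjr, Set.preimage_image_eq _ hγ.bijective.1]
  obtain ⟨l, hl⟩ := exists_factor_open hk σ hkr.ge
  obtain ⟨l', hl'⟩ := exists_factor_open hσ k hkr.le
  have := mono_of_openImmersion hk
  have : IsIso l := ⟨l', (cancel_mono σ).1 (by rw [Category.assoc, hl', hl, Category.id_comp]),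
    (cancel_mono k).1 (by rw [Category.assoc, hl, hl', Category.id_comp])⟩
  have sqe : IsPullback (k ≫ π₁) γO c₁ (j' ≫ q₁) := sqO.paste_horiz sqπ |>.flip.flip
  have hkπ : IsIso (k ≫ π₁) := by
    have e : k ≫ π₁ = inv l := by
      rw [← cancel_epi l, IsIso.hom_inv_id, reassoc_of% hl, hσπ]
    rw [e]; infer_instance
  have hee : IsEtaleMor (j' ≫ q₁) :=
    LocalST.isEtaleMor_comp (isEtaleMor_of_openImmersion hj') hq₁
  have hO : IsAlgSpace O := isAlgSpace_of_representable k hk.1 hP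
  have hes : Function.Surjective (Points.map (j' ≫ q₁)) := by
    intro v
    obtain ⟨v₀, rfl⟩ := (isHomeomorph_baseChange h1 h2 h3 hV₁' sq₁).bijective.2 v
    refine ⟨Points.map γO (Points.map (inv (k ≫ π₁)) v₀), ?_⟩
    rw [← Points.map_comp, ← Points.map_comp, ← sqe.w, ← Category.assoc, IsIso.inv_hom_id,
      Category.id_comp]
  have hei : IsUnivInjectiveMor (j' ≫ q₁) := by
    refine isUnivInjectiveMor_of_surjective_baseChange hO'
      (isHomeomorph_baseChange h1 h2 h3 hV₁' sq₁).bijective.2 hO sqe.flip ?_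
    exact isUnivInjectiveMor_of_injective_on_fields fun K _ str a b e => (cancel_mono (k ≫ π₁)).1 e
  have : IsIso (j' ≫ q₁) :=
    isIso_of_openImmersion_surjective (repWith_isOpenImmersion_of_univInjective hO' hV₁' hee hei) hes
  have hc : c₁ ≫ inv (j' ≫ q₁) = l ≫ γO := by
    rw [← cancel_mono (j' ≫ q₁), Category.assoc, IsIso.inv_hom_id, Category.comp_id, Category.assoc,
      ← sqe.w, ← Category.assoc, ← Category.assoc, hl, hσπ, Category.id_comp]
  refine ⟨inv (j' ≫ q₁) ≫ j' ≫ q₂, ⟨?_, ?_⟩, ?_⟩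
  · rw [Category.assoc, Category.assoc, ← sqP'.w, IsIso.inv_comp_eq, Category.assoc]
  · rw [reassoc_of% hc, ← reassoc_of% sqO.w, ← Category.assoc l, hl, ← Category.assoc, hσγ, hσγ₂]
  · rintro ψ ⟨hψ, hψc⟩
    obtain ⟨s, hs₁, hs₂⟩ := sqP'.exists_lift (𝟙 V₁') ψ (by rw [Category.id_comp, hψ])
    have hcs : c₁ ≫ s = σ ≫ γ := by
      rw [hσγ]
      refine sqP'.hom_ext ?_ ?_
      · rw [Category.assoc, hs₁, Category.comp_id, hσγ₁]
      · rw [Category.assoc, hs₂, hψc, hσγ₂]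
    obtain ⟨n, hn⟩ := exists_factor_open hj' s (by
      rintro _ ⟨v, rfl⟩
      obtain ⟨v₀, rfl⟩ := (isHomeomorph_baseChange h1 h2 h3 hV₁' sq₁).bijective.2 v
      rw [hjr, ← Points.map_comp, hcs, Points.map_comp]
      exact ⟨_, ⟨v₀, rfl⟩, rfl⟩)
    have hn' : n = inv (j' ≫ q₁) := by
      apply IsIso.eq_inv_of_inv_hom_id
      rw [← Category.assoc, hn, hs₁]
    rw [← hs₂, ← hn, hn', Category.assoc]

theorem exists_scheme_baseChange {Y₀ : Over S} (p : (yon S).obj Y₀ ⟶ Y) :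
    ∃ (X₀ : Over S) (fst : (yon S).obj X₀ ⟶ X) (φ₀ : X₀ ⟶ Y₀),
      IsPullback fst ((yon S).map φ₀) f p ∧ IsIntegralHom φ₀.left ∧ UniversallyInjective φ₀.left ∧
        Surjective φ₀.left := by
  have hi : RepWith @IsIntegralHom f := isIntegralMor_iff.1 h1
  have sq := hi.rep.isPullback p
  have hu : RepWith @UniversallyInjective f := (repWith_universallyInjective_iff hX hi.1).2
    ((isUnivInjectiveMor_iff hX f).1.2 h2)
  have hs : RepWith @Surjective f := repWith_surjective_of_map hi.1 h3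
  exact ⟨_, _, _, sq, hi.property _ _ _ sq, hu.property _ _ _ sq, hs.property _ _ _ sq⟩

omit hX hY h1 h2 h3 in
theorem exists_scheme_lift {X₀ Y₀ U : Scheme.{u}} (φ₀ : X₀ ⟶ Y₀) [IsIntegralHom φ₀] [UniversallyInjective φ₀]
    [Surjective φ₀] (h : U ⟶ X₀) [Etale h] :
    ∃ (U' : Scheme.{u}) (g : U' ⟶ Y₀) (c : U ⟶ U'), Etale g ∧ IsPullback h c φ₀ g := by
  have := Groth.Agent.S0075.result φ₀
  let E : X₀.Etale := MorphismProperty.Over.mk ⊤ h ‹Etale h›
  let V := (EtCoh.bc φ₀).objPreimage E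
  let e := (EtCoh.bc φ₀).objObjPreimageIso E
  let η : U ≅ pullback V.hom φ₀ := ((MorphismProperty.Over.forget _ _ _ ⋙ Over.forget _).mapIso e).symm
  refine ⟨V.left, V.hom, η.hom ≫ pullback.fst V.hom φ₀, V.prop, ?_⟩
  have hη : η.hom ≫ pullback.snd V.hom φ₀ = h := MorphismProperty.Over.w e.inv
  refine IsPullback.of_iso (IsPullback.of_hasPullback V.hom φ₀).flip η.symm (Iso.refl _) (Iso.refl _) (Iso.refl _)
    ?_ ?_ (by simp) (by simp)
  · simp [← hη]
  · simp

/-- The base change of a space etale over `X` to a scheme: a presentation compatible with the base change. -/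
theorem exists_chart_lift {V : Sp S} (hV : IsAlgSpace V) {b : V ⟶ X} (hb : IsEtaleMor b) :
    ∃ (U U' : Over S) (q : (yon S).obj U ⟶ V) (c : U ⟶ U') (pU : (yon S).obj U' ⟶ Y),
      RepWith @Etale q ∧ RepWith @Surjective q ∧ RepWith @Etale pU ∧
        IsPullback (q ≫ b) ((yon S).map c) f pU := by
  obtain ⟨Y₀, p, hp, hps⟩ := hY.atlas
  obtain ⟨X₀, fst, φ₀, sq₀, _, _, _⟩ := exists_scheme_baseChange hX hY h1 h2 h3 p
  obtain ⟨V₀, v₁, v₂, sqV⟩ : ∃ (V₀ : Sp S) (v₁ : V₀ ⟶ V) (v₂ : V₀ ⟶ (yon S).obj X₀),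
      IsPullback v₁ v₂ b fst := ⟨_, _, _, IsPullback.of_hasPullback _ _⟩
  have hfe : RepWith @Etale fst := repWith_of_isPullback sq₀.flip hp
  have hfs : RepWith @Surjective fst := repWith_of_isPullback sq₀.flip hps
  have hv₁ : RepWith @Etale v₁ := repWith_of_isPullback sqV.flip hfe
  have hV₀ : IsAlgSpace V₀ := isAlgSpace_of_isPullback hX.diag hV (IsAlgSpace.yon_obj X₀) sqV
  have hv₂ : IsEtaleMor v₂ := isEtaleMor_snd hV hX (IsAlgSpace.yon_obj X₀) hV₀ sqV hb
  obtain ⟨U, u, hu, hus⟩ := hV₀.atlas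
  obtain ⟨h, hh⟩ := (yon S).map_surjective (u ≫ v₂)
  have : Etale h.left := (repWith_yon_map_iff _ h).1 (hh ▸ hv₂ u hu)
  obtain ⟨U'', g, c₀, hg, sqc⟩ := exists_scheme_lift φ₀.left h.left
  let U' : Over S := Over.mk (g ≫ Y₀.hom)
  let g' : U' ⟶ Y₀ := Over.homMk g
  let c : U ⟶ U' := Over.homMk c₀ (by
    change c₀ ≫ g ≫ Y₀.hom = U.hom
    rw [← Category.assoc, ← sqc.w, Category.assoc, Over.w φ₀, Over.w h])
  have sqS : IsPullback h c φ₀ g' := IsPullback.of_map (Over.forget S) (Over.OverMorphism.ext sqc.w) sqc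
  refine ⟨U, U', u ≫ v₁, c, (yon S).map g' ≫ p, repWith_comp hu hv₁,
    repWith_comp hus (repWith_of_isPullback sqV.flip hfs), repWith_comp ((repWith_yon_map_iff _ g').2 hg) hp, ?_⟩
  rw [Category.assoc, sqV.w, ← Category.assoc, ← hh]
  exact (sqS.map (yon S)).paste_horiz sq₀

/-- Etale spaces over `X` descend to `Y`. -/
theorem essSurj {V : Sp S} (hV : IsAlgSpace V) {b : V ⟶ X} (hb : IsEtaleMor b) :
    ∃ (V' : Sp S) (a : V' ⟶ Y) (c : V ⟶ V'), IsAlgSpace V' ∧ IsEtaleMor a ∧ IsPullback b c f a := by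
  obtain ⟨U, U', q, c, pU, hq, hqs, hpU, sqU⟩ := exists_chart_lift hX hY h1 h2 h3 hV hb
  obtain ⟨R₀', s₀, t₀', sqR'⟩ : ∃ (R₀' : Over S) (s₀ : R₀' ⟶ U') (t₀ : (yon S).obj R₀' ⟶ (yon S).obj U'),
      IsPullback t₀ ((yon S).map s₀) pU pU := ⟨_, _, _, hpU.rep.isPullback pU⟩
  obtain ⟨t₀, rfl⟩ := (yon S).map_surjective t₀'
  have hqb : RepWith @Etale (q ≫ b) := repWith_of_isPullback sqU.flip hpU
  obtain ⟨R₀, s₁, t₁', sqR₀⟩ : ∃ (R₀ : Over S) (s₁ : R₀ ⟶ U) (t₁ : (yon S).obj R₀ ⟶ (yon S).obj U),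
      IsPullback t₁ ((yon S).map s₁) (q ≫ b) (q ≫ b) := ⟨_, _, _, hqb.rep.isPullback (q ≫ b)⟩
  obtain ⟨t₁, rfl⟩ := (yon S).map_surjective t₁'
  have hc : ∀ {T : Over S} (x : T ⟶ U), (yon S).map x ≫ (q ≫ b) ≫ f = (yon S).map (x ≫ c) ≫ pU := by
    intro T x; rw [sqU.w, Functor.map_comp, Category.assoc]
  obtain ⟨γ', hγ₁, hγ₂⟩ := sqR'.exists_lift ((yon S).map (t₁ ≫ c)) ((yon S).map (s₁ ≫ c)) (by
    rw [← hc, ← hc, ← Category.assoc, sqR₀.w, Category.assoc])
  obtain ⟨γ, rfl⟩ := (yon S).map_surjective γ'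
  rw [← Functor.map_comp] at hγ₁ hγ₂
  have ht : γ ≫ t₀ = t₁ ≫ c := (yon S).map_injective hγ₁
  have hs : γ ≫ s₀ = s₁ ≫ c := (yon S).map_injective hγ₂
  obtain ⟨R, s₂, t₂', sqR⟩ : ∃ (R : Over S) (s₂ : R ⟶ U) (t₂ : (yon S).obj R ⟶ (yon S).obj U),
      IsPullback t₂ ((yon S).map s₂) q q := ⟨_, _, _, hq.rep.isPullback q⟩
  obtain ⟨t₂, rfl⟩ := (yon S).map_surjective t₂'
  obtain ⟨ρ', hρ₁, hρ₂⟩ := sqR₀.exists_lift ((yon S).map t₂) ((yon S).map s₂) (by rw [reassoc_of% sqR.w])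
  obtain ⟨ρ, rfl⟩ := (yon S).map_surjective ρ'
  rw [← Functor.map_comp] at hρ₁ hρ₂
  have hρo : IsOpenImmersion ρ.left := by
    have : Mono ((yon S).map ρ) := mono_of_yon fun T x y e => sqR.hom_ext
      (by rw [← hρ₁, Functor.map_comp, reassoc_of% e]) (by rw [← hρ₂, Functor.map_comp, reassoc_of% e])
    refine (repWith_yon_map_iff _ ρ).1 (openImmersion_of_etale_mono (IsAlgSpace.yon_obj R)
      (IsAlgSpace.yon_obj R₀) ((isEtaleMor_yon_map_iff ρ).2 ?_))
    have : Etale t₂.left := (repWith_yon_map_iff _ t₂).1 (repWith_of_isPullback sqR.flip hq)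
    have : Etale t₁.left := (repWith_yon_map_iff _ t₁).1 (repWith_of_isPullback sqR₀.flip hqb)
    have : Etale (ρ.left ≫ t₁.left) := by rw [← Over.comp_left, (yon S).map_injective hρ₁]; infer_instance
    exact Etale.of_comp ρ.left t₁.left
  have hγh : IsHomeomorph γ.left := by
    have e : (yon S).map s₀ ≫ pU = (yon S).map t₀ ≫ pU := sqR'.w.symm
    obtain ⟨PX, pX, pR, sqP⟩ : ∃ (PX : Sp S) (pX : PX ⟶ X) (pR : PX ⟶ (yon S).obj R₀'),
        IsPullback pX pR f ((yon S).map t₀ ≫ pU) := ⟨_, _, _, IsPullback.of_hasPullback _ _⟩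
    have w : ((yon S).map t₁ ≫ q ≫ b) ≫ f = (yon S).map γ ≫ (yon S).map t₀ ≫ pU := by
      rw [Category.assoc, hc t₁, ← Category.assoc ((yon S).map γ), ← Functor.map_comp, ht]
    obtain ⟨l, hl₁, hl₂⟩ := sqP.exists_lift _ _ w
    obtain ⟨l₁, hl₁a, hl₁b⟩ := sqU.exists_lift pX (pR ≫ (yon S).map t₀) (by rw [sqP.w, Category.assoc])
    obtain ⟨l₂, hl₂a, hl₂b⟩ := sqU.exists_lift pX (pR ≫ (yon S).map s₀) (by rw [sqP.w, Category.assoc, e])
    obtain ⟨m, hm₁, hm₂⟩ := sqR₀.exists_lift l₁ l₂ (by rw [hl₁a, hl₂a])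
    have : IsIso l := ⟨m,
      sqR₀.hom_ext
        (by rw [Category.assoc, hm₁, Category.id_comp]
            refine sqU.hom_ext ?_ ?_
            · rw [Category.assoc, hl₁a, hl₁]
            · rw [Category.assoc, hl₁b, ← Category.assoc, hl₂, ← Functor.map_comp, ← Functor.map_comp, ht])
        (by rw [Category.assoc, hm₂, Category.id_comp]
            refine sqU.hom_ext ?_ ?_
            · rw [Category.assoc, hl₂a, hl₁]; exact sqR₀.w
            · rw [Category.assoc, hl₂b, ← Category.assoc, hl₂, ← Functor.map_comp, ← Functor.map_comp, hs]),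
      sqP.hom_ext
        (by rw [Category.assoc, hl₁, reassoc_of% hm₁, hl₁a, Category.id_comp])
        (by
          rw [Category.assoc, hl₂, Category.id_comp]
          refine sqR'.hom_ext ?_ ?_
          · rw [Category.assoc, ← Functor.map_comp, ht, Functor.map_comp, reassoc_of% hm₁, hl₁b]
          · rw [Category.assoc, ← Functor.map_comp, hs, Functor.map_comp, reassoc_of% hm₂, hl₂b])⟩
    exact (isHomeomorph_yon_iff γ).1 (hl₂ ▸
      isHomeomorph_iso_comp (asIso l) pR (isHomeomorph_baseChange h1 h2 h3 (IsAlgSpace.yon_obj R₀') sqP))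
  let O : R₀'.left.Opens := ⟨γ.left '' Set.range ρ.left, hγh.isOpenMap _ ρ.left.isOpenMap.isOpen_range⟩
  let R' : Over S := Over.mk (O.ι ≫ R₀'.hom)
  let ι : R' ⟶ R₀' := Over.homMk O.ι
  let Rel : ∀ T : Over S, (T ⟶ U') → (T ⟶ U') → Prop := fun T a a' =>
    (yon S).map a ≫ pU = (yon S).map a' ≫ pU ∧
      ∀ (T' : Over S) (τ : T' ⟶ T) (x x' : T' ⟶ U), x ≫ c = τ ≫ a → x' ≫ c = τ ≫ a' →
        (yon S).map x ≫ q ≫ b = (yon S).map x' ≫ q ≫ b → (yon S).map x ≫ q = (yon S).map x' ≫ q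
  have hRel : ∀ (T : Over S) (a a' : T ⟶ U'),
      Rel T a a' ↔ ∃ r : T ⟶ R', r ≫ ι ≫ t₀ = a ∧ r ≫ ι ≫ s₀ = a' := by
    intro T a a'
    constructor
    · rintro ⟨hw, H⟩
      obtain ⟨r', hr₁, hr₂⟩ := sqR'.exists_lift ((yon S).map a) ((yon S).map a') hw
      obtain ⟨r₀, rfl⟩ := (yon S).map_surjective r'
      rw [← Functor.map_comp] at hr₁ hr₂
      have e₁ : r₀ ≫ t₀ = a := (yon S).map_injective hr₁
      have e₂ : r₀ ≫ s₀ = a' := (yon S).map_injective hr₂
      have hmem : ∀ t, r₀.left t ∈ O := by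
        intro t
        obtain ⟨z, hz⟩ := hγh.surjective (r₀.left t)
        obtain ⟨w, hw₁, hw₂⟩ := Scheme.Pullback.exists_preimage_pullback
          (f := γ.left) (g := r₀.left) z t hz
        let T' : Over S := Over.mk (pullback.snd γ.left r₀.left ≫ T.hom)
        let τ : T' ⟶ T := Over.homMk (pullback.snd γ.left r₀.left)
        let r : T' ⟶ R₀ := Over.homMk (pullback.fst γ.left r₀.left) (by
          change pullback.fst γ.left r₀.left ≫ R₀.hom = pullback.snd γ.left r₀.left ≫ T.hom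
          rw [← Over.w γ, ← Category.assoc, pullback.condition, Category.assoc, Over.w r₀])
        have hr : r ≫ γ = τ ≫ r₀ := Over.OverMorphism.ext pullback.condition
        have hq' := H T' τ (r ≫ t₁) (r ≫ s₁)
          (by rw [Category.assoc, ← ht, reassoc_of% hr, e₁])
          (by rw [Category.assoc, ← hs, reassoc_of% hr, e₂])
          (by rw [Functor.map_comp, Functor.map_comp, Category.assoc, Category.assoc]
              exact congrArg ((yon S).map r ≫ ·) sqR₀.w)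
        obtain ⟨rR', hR₁, hR₂⟩ := sqR.exists_lift _ _ hq'
        obtain ⟨rR, rfl⟩ := (yon S).map_surjective rR'
        have : rR ≫ ρ = r := (yon S).map_injective (sqR₀.hom_ext
          (by rw [← Functor.map_comp, Category.assoc, Functor.map_comp, hρ₁, hR₁, Functor.map_comp])
          (by rw [← Functor.map_comp, Category.assoc, Functor.map_comp, hρ₂, hR₂, Functor.map_comp]))
        refine ⟨z, ⟨rR.left w, ?_⟩, hz⟩
        rw [← hw₁, ← Scheme.Hom.comp_apply, ← Over.comp_left, this]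
        rfl
      let r : T ⟶ R' := Over.homMk
        (IsOpenImmersion.lift O.ι r₀.left (by rw [Scheme.Opens.range_ι]; rintro _ ⟨t, rfl⟩; exact hmem t)) (by
          change _ ≫ O.ι ≫ R₀'.hom = T.hom
          rw [IsOpenImmersion.lift_fac_assoc, Over.w r₀])
      have hr : r ≫ ι = r₀ := Over.OverMorphism.ext (IsOpenImmersion.lift_fac _ _ _)
      exact ⟨r, by rw [reassoc_of% hr, e₁], by rw [reassoc_of% hr, e₂]⟩
    · rintro ⟨r, e₁, e₂⟩
      refine ⟨by rw [← e₁, ← e₂]; simp only [Functor.map_comp, Category.assoc, sqR'.w], ?_⟩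
      intro T' τ x x' hx hx' hxx'
      obtain ⟨z', hz₁, hz₂⟩ := sqR₀.exists_lift _ _ hxx'
      obtain ⟨z, rfl⟩ := (yon S).map_surjective z'
      rw [← Functor.map_comp] at hz₁ hz₂
      have ez : z ≫ γ = τ ≫ r ≫ ι := (yon S).map_injective (sqR'.hom_ext
        (by rw [← Functor.map_comp, ← Functor.map_comp, Category.assoc, ht,
              reassoc_of% ((yon S).map_injective hz₁), hx, ← e₁]; simp only [Category.assoc])
        (by rw [← Functor.map_comp, ← Functor.map_comp, Category.assoc, hs,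
              reassoc_of% ((yon S).map_injective hz₂), hx', ← e₂]; simp only [Category.assoc]))
      have hmem : ∀ t, z.left t ∈ Set.range ρ.left := by
        intro t
        obtain ⟨y, hy, e⟩ : γ.left (z.left t) ∈ O := by
          rw [← Scheme.Hom.comp_apply, ← Over.comp_left, ez]
          exact ((τ ≫ r).left t).2
        rwa [← hγh.injective e]
      let zR : T' ⟶ R := Over.homMk
        (IsOpenImmersion.lift ρ.left z.left (by rintro _ ⟨t, rfl⟩; exact hmem t)) (by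
          rw [← Over.w ρ, IsOpenImmersion.lift_fac_assoc, Over.w z])
      have hzR : zR ≫ ρ = z := Over.OverMorphism.ext (IsOpenImmersion.lift_fac _ _ _)
      rw [← (yon S).map_injective hz₁, ← (yon S).map_injective hz₂, ← hzR, Category.assoc, Category.assoc,
        (yon S).map_injective hρ₁, (yon S).map_injective hρ₂, Functor.map_comp, Functor.map_comp,
        Category.assoc, Category.assoc, sqR.w]
  have heq : IsEtaleEqvRel (ι ≫ s₀) (ι ≫ t₀) := by
    refine { injective := ?_, equivalence := ?_, etale_left := ?_, etale_right := ?_ }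
    · intro T r r' e e'
      have : r ≫ ι = r' ≫ ι := (yon S).map_injective (sqR'.hom_ext
        (by rw [← Functor.map_comp, ← Functor.map_comp, Category.assoc, Category.assoc, e])
        (by rw [← Functor.map_comp, ← Functor.map_comp, Category.assoc, Category.assoc, e']))
      exact Over.OverMorphism.ext ((cancel_mono O.ι).1 (congrArg CommaMorphism.left this))
    · intro T
      refine ⟨fun a => (hRel T a a).1 ⟨rfl, fun T' τ x x' hx hx' h => ?_⟩,
        fun {a a'} h => (hRel T a' a).1 ?_, fun {a a' a''} h h' => (hRel T a a'').1 ?_⟩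
      · refine congrArg (· ≫ q) (sqU.hom_ext ?_ ?_)
        · simpa using h
        · rw [← Functor.map_comp, ← Functor.map_comp, hx, hx']
      · obtain ⟨hw, H⟩ := (hRel T a a').2 h
        exact ⟨hw.symm, fun T' τ x x' hx hx' e => (H T' τ x' x hx' hx e.symm).symm⟩
      · obtain ⟨hw, H⟩ := (hRel T a a').2 h
        obtain ⟨hw', H'⟩ := (hRel T a' a'').2 h'
        refine ⟨hw.trans hw', fun T' τ x x'' hx hx'' e => ?_⟩
        obtain ⟨y', hy₁, hy₂⟩ := sqU.exists_lift ((yon S).map x ≫ q ≫ b) ((yon S).map (τ ≫ a')) (by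
          rw [Category.assoc, hc, hx, Functor.map_comp, Functor.map_comp, Category.assoc, Category.assoc, hw])
        obtain ⟨y, rfl⟩ := (yon S).map_surjective y'
        rw [← Functor.map_comp] at hy₂
        exact (H T' τ x y hx ((yon S).map_injective hy₂) hy₁.symm).trans
          (H' T' τ y x'' ((yon S).map_injective hy₂) hx'' (hy₁.trans e))
    · have : Etale s₀.left := (repWith_yon_map_iff _ s₀).1 (repWith_of_isPullback sqR' hpU)
      exact inferInstanceAs (Etale (O.ι ≫ s₀.left))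
    · have : Etale t₀.left := (repWith_yon_map_iff _ t₀).1 (repWith_of_isPullback sqR'.flip hpU)
      exact inferInstanceAs (Etale (O.ι ≫ t₀.left))
  obtain ⟨hV', hpres⟩ := isAlgSpace_quot _ _ heq
  have sqq := hpres.isPullback
  generalize quotMap (ι ≫ s₀) (ι ≫ t₀) = qV at hpres sqq
  generalize QuotSh.quot Scheme.fppfPrecoverage (ι ≫ s₀) (ι ≫ t₀) = V' at qV hpres sqq hV'
  have : Epi qV := epi_of_etale_surjective hpres.etale hpres.surjective
  have : IsRegularEpi qV := IsRegularEpiCategory.regularEpiOfEpi qV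
  let hcol := IsKernelPair.toCoequalizer' sqq
  let a : V' ⟶ Y := Cofork.IsColimit.desc hcol pU
    (by simp only [Functor.map_comp, Category.assoc, sqR'.w])
  have ha : qV ≫ a = pU := Cofork.IsColimit.π_desc' hcol _ _
  have hqV : IsEtaleMor qV := fun _ φ hφ => repWith_comp hφ hpres.etale
  have hae : IsEtaleMor a := by
    refine isEtaleMor_of_surjective (IsAlgSpace.yon_obj U') hV' hY
      (surjective_map_of_repWith le_rfl hpres.surjective) ?_ ?_ (ha ▸ fun _ φ hφ => repWith_comp hφ hpU)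
    · exact H12AlgSp.locP_mono (fun _ _ k (_ : Etale k) => inferInstanceAs (Flat k))
        (H13AlgSp.locP_etale_of_isEtaleMor hqV)
    · exact H12AlgSp.locP_mono (fun _ _ k (_ : Etale k) => inferInstanceAs (LocallyOfFinitePresentation k))
        (H13AlgSp.locP_etale_of_isEtaleMor hqV)
  have : Epi q := epi_of_etale_surjective hq hqs
  have : IsRegularEpi q := IsRegularEpiCategory.regularEpiOfEpi q
  let hcolq := IsKernelPair.toCoequalizer' sqR
  have hdesc : (yon S).map t₂ ≫ (yon S).map c ≫ qV = (yon S).map s₂ ≫ (yon S).map c ≫ qV := by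
    rw [← Category.assoc, ← Category.assoc, ← Functor.map_comp, ← Functor.map_comp]
    let r : R ⟶ R' := Over.homMk (IsOpenImmersion.lift O.ι (ρ.left ≫ γ.left) (by
      rw [Scheme.Opens.range_ι]; rintro _ ⟨t, rfl⟩; exact ⟨ρ.left t, ⟨t, rfl⟩, rfl⟩)) (by
        change _ ≫ O.ι ≫ R₀'.hom = R.hom
        rw [IsOpenImmersion.lift_fac_assoc, Category.assoc, Over.w γ, Over.w ρ])
    have hr : r ≫ ι = ρ ≫ γ := Over.OverMorphism.ext (IsOpenImmersion.lift_fac _ _ _)
    have e₁ : r ≫ ι ≫ t₀ = t₂ ≫ c := by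
      rw [reassoc_of% hr, ht, ← Category.assoc, (yon S).map_injective hρ₁]
    have e₂ : r ≫ ι ≫ s₀ = s₂ ≫ c := by
      rw [reassoc_of% hr, hs, ← Category.assoc, (yon S).map_injective hρ₂]
    rw [← e₁, ← e₂, (yon S).map_comp, (yon S).map_comp r, Category.assoc, Category.assoc, sqq.w]
  let c' : V ⟶ V' := Cofork.IsColimit.desc hcolq ((yon S).map c ≫ qV) hdesc
  have hc' : q ≫ c' = (yon S).map c ≫ qV := Cofork.IsColimit.π_desc' hcolq _ _
  have hw : b ≫ f = c' ≫ a := by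
    rw [← cancel_epi q, reassoc_of% hc', ha, ← sqU.w, Category.assoc]
  obtain ⟨Q, r₁, r₂, sqQ⟩ : ∃ (Q : Sp S) (r₁ : Q ⟶ X) (r₂ : Q ⟶ V'), IsPullback r₁ r₂ f a :=
    ⟨_, _, _, IsPullback.of_hasPullback _ _⟩
  obtain ⟨θ, hθ₁, hθ₂⟩ := sqQ.exists_lift b c' hw
  have sqUQ : IsPullback (q ≫ θ) ((yon S).map c) r₂ qV := by
    refine IsPullback.of_right (h₁₂ := r₁) (h₂₂ := a) (v₁₃ := f) ?_ ?_ sqQ
    · rw [Category.assoc, hθ₁, ha]; exact sqU
    · rw [Category.assoc, hθ₂, hc']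
  have : Epi (q ≫ θ) := epi_of_etale_surjective (repWith_of_isPullback sqUQ.flip hpres.etale)
    (repWith_of_isPullback sqUQ.flip hpres.surjective)
  have : Epi θ := epi_of_epi q θ
  have : Mono θ := mono_of_yon fun T y y' e => by
    obtain ⟨T₁, τ₁, l₁', sq₁⟩ : ∃ (T₁ : Over S) (τ₁ : T₁ ⟶ T) (l₁ : (yon S).obj T₁ ⟶ (yon S).obj U),
        IsPullback l₁ ((yon S).map τ₁) q y := ⟨_, _, _, hq.rep.isPullback y⟩
    obtain ⟨l₁, rfl⟩ := (yon S).map_surjective l₁'
    obtain ⟨T₂, τ₂, l₂', sq₂⟩ : ∃ (T₂ : Over S) (τ₂ : T₂ ⟶ T₁) (l₂ : (yon S).obj T₂ ⟶ (yon S).obj U),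
        IsPullback l₂ ((yon S).map τ₂) q ((yon S).map τ₁ ≫ y') := ⟨_, _, _, hq.rep.isPullback _⟩
    obtain ⟨l₂, rfl⟩ := (yon S).map_surjective l₂'
    have : Epi ((yon S).map (τ₂ ≫ τ₁)) := by
      rw [Functor.map_comp]
      exact epi_of_etale_surjective (repWith_comp (repWith_of_isPullback sq₂ hq) (repWith_of_isPullback sq₁ hq))
        (repWith_comp (repWith_of_isPullback sq₂ hqs) (repWith_of_isPullback sq₁ hqs))
    rw [← cancel_epi ((yon S).map (τ₂ ≫ τ₁))]
    have k₁ : (yon S).map (τ₂ ≫ τ₁) ≫ y = (yon S).map (τ₂ ≫ l₁) ≫ q := by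
      simp only [Functor.map_comp, Category.assoc, sq₁.w]
    have k₂ : (yon S).map (τ₂ ≫ τ₁) ≫ y' = (yon S).map l₂ ≫ q := by
      simp only [Functor.map_comp, Category.assoc, sq₂.w]
    have e' := congrArg ((yon S).map (τ₂ ≫ τ₁) ≫ ·) e
    simp only [← Category.assoc, k₁, k₂] at e'
    have eb := e' =≫ r₁
    have ec := e' =≫ r₂
    simp only [Category.assoc, hθ₁, hθ₂, hc', ← Functor.map_comp_assoc] at eb ec
    obtain ⟨r', hr₁, hr₂⟩ := sqq.exists_lift _ _ ec
    obtain ⟨r, rfl⟩ := (yon S).map_surjective r'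
    rw [← Functor.map_comp] at hr₁ hr₂
    rw [k₁, k₂]
    exact ((hRel T₂ ((τ₂ ≫ l₁) ≫ c) (l₂ ≫ c)).2
      ⟨r, (yon S).map_injective hr₁, (yon S).map_injective hr₂⟩).2 T₂ (𝟙 _) _ _
      (Category.id_comp _).symm (Category.id_comp _).symm eb
  have : IsIso θ := isIso_of_mono_of_epi θ
  exact ⟨V', a, c', hV', hae, IsPullback.of_iso sqQ (asIso θ).symm (Iso.refl _) (Iso.refl _) (Iso.refl _)
    (by simp [← hθ₁]) (by simp [← hθ₂]) (by simp) (by simp)⟩

end

end Groth.Agent.H13AlgSp.TopInv
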