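import Groth.Agent.H13AlgSp.Thick
import Groth.Agent.H12AlgSp.RelDim

/-!
Chart diagrams of cartesian morphisms of thickenings of algebraic spaces.
-/

universe u

open CategoryTheory CategoryTheory.Limits AlgebraicGeometry Opposite
open AlgSp Groth.Agent.H12AlgSp

namespace Groth.Agent.H13AlgSp.ThickCharts

variable {S : Scheme.{u}}

/-- A chart diagram of a cartesian square over a thickening. -/
structure Charts {X X' Y Y' : Sp S} (i : X ⟶ X') (j : Y ⟶ Y') (f : X ⟶ Y) (f' : X' ⟶ Y') where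
  /-- source chart -/
  U : Over S
  /-- thick source chart -/
  U' : Over S
  /-- target chart -/
  V : Over S
  /-- thick target chart -/
  V' : Over S
  a : (yon S).obj U ⟶ X
  a' : (yon S).obj U' ⟶ X'
  b : (yon S).obj V ⟶ Y
  b' : (yon S).obj V' ⟶ Y'
  iU : U ⟶ U'
  jV : V ⟶ V'
  h : U ⟶ V
  h' : U' ⟶ V'
  ha : RepWith @Etale a
  has : RepWith @Surjective a
  ha' : RepWith @Etale a'
  has' : RepWith @Surjective a'
  hb : RepWith @Etale b
  hb' : RepWith @Etale b'
  w : a ≫ f = (yon S).map h ≫ b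
  w' : a' ≫ f' = (yon S).map h' ≫ b'
  sqi : IsPullback a ((yon S).map iU) i a'
  sqj : IsPullback b ((yon S).map jV) j b'
  sq : IsPullback iU.left h.left h'.left jV.left
  thickV : MoreMor.IsThickening jV.left
  thickU : MoreMor.IsThickening iU.left

variable {X X' Y Y' : Sp S} {i : X ⟶ X'} {j : Y ⟶ Y'} {f : X ⟶ Y} {f' : X' ⟶ Y'}

theorem exists_charts_over (hX' : IsAlgSpace X') (hj : IsThickMor j) (hcart : IsPullback i f f' j)
    {U' V' : Over S} (a' : (yon S).obj U' ⟶ X') (b' : (yon S).obj V' ⟶ Y') (h' : U' ⟶ V')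
    (ha' : RepWith @Etale a') (has' : RepWith @Surjective a') (hb' : RepWith @Etale b')
    (w' : a' ≫ f' = (yon S).map h' ≫ b') :
    ∃ c : Charts i j f f', ∃ e : c.V' = V', c.b' = (yon S).map (eqToHom e) ≫ b' := by
  obtain ⟨V, jV, b, sqj⟩ := hj.1 b'
  obtain ⟨U, iU, h, sq⟩ : ∃ (U : Over S) (iU : U ⟶ U') (h : U ⟶ V), IsPullback iU h h' jV :=
    ⟨_, _, _, IsPullback.of_hasPullback h' jV⟩
  have sqy := sq.map (yon S)
  let a := hcart.lift ((yon S).map iU ≫ a') ((yon S).map h ≫ b) (by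
    rw [Category.assoc, w', Category.assoc, sqj.w, ← Category.assoc, ← Functor.map_comp, sq.w,
      Functor.map_comp, Category.assoc])
  have hafst : a ≫ i = (yon S).map iU ≫ a' := hcart.lift_fst _ _ _
  have hasnd : a ≫ f = (yon S).map h ≫ b := hcart.lift_snd _ _ _
  have big : IsPullback ((yon S).map iU) ((yon S).map h ≫ b) (a' ≫ f') j := by
    have := sqy.paste_vert sqj.flip
    rwa [← w'] at this
  have sqi : IsPullback a ((yon S).map iU) i a' :=
    (IsPullback.of_bot (by rw [hasnd]; exact big) hafst.symm hcart).flip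
  have htV : MoreMor.IsThickening jV.left := hj.2 b' _ jV sqj
  have sqs : IsPullback iU.left h.left h'.left jV.left := sq.map (Over.forget S)
  refine ⟨⟨U, U', V, V', a, a', b, b', iU, jV, h, h', repWith_of_isPullback sqi.flip ha',
    repWith_of_isPullback sqi.flip has', ha', has', repWith_of_isPullback sqj.flip hb', hb', hasnd, w',
    sqi, sqj, sqs, htV, ⟨MorphismProperty.of_isPullback (P := @IsClosedImmersion) sqs.flip htV.1,
      MorphismProperty.of_isPullback (P := @Surjective) sqs.flip htV.2⟩⟩, rfl, ?_⟩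
  simp

theorem exists_charts (hX' : IsAlgSpace X') (hY' : IsAlgSpace Y') (hj : IsThickMor j)
    (hcart : IsPullback i f f' j) : Nonempty (Charts i j f f') := by
  obtain ⟨U', V', a', b', h', ha', has', hb', -, w'⟩ := exists_chart hX' hY' f'
  obtain ⟨c, -⟩ := exists_charts_over hX' hj hcart a' b' h' ha' has' hb' w'
  exact ⟨c⟩

/-- An etale local property is checked on the charts. -/
theorem Charts.locP_iff {P : MorphismProperty Scheme.{u}} (c : Charts i j f f') (hP : EtLocal P)
    (H : P c.h.left ↔ P c.h'.left) : LocP P f ↔ LocP P f' :=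
  ⟨fun hf => locP_of_one_chart hP c.h' c.ha' c.has' c.hb' c.w' (H.1 (hf c.a c.b c.h c.ha c.hb c.w)),
    fun hf => locP_of_one_chart hP c.h c.ha c.has c.hb c.w (H.2 (hf c.a' c.b' c.h' c.ha' c.hb' c.w'))⟩

theorem Charts.lft_left {c : Charts i j f f'} (hf : LocP @LocallyOfFiniteType f) :
    LocallyOfFiniteType c.h.left := hf c.a c.b c.h c.ha c.hb c.w

theorem Charts.lft'_left {c : Charts i j f f'} (hf : LocP @LocallyOfFiniteType f') :
    LocallyOfFiniteType c.h'.left := hf c.a' c.b' c.h' c.ha' c.hb' c.w'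

/-- Constant fibre dimension is checked on either side. -/
theorem Charts.fibreDim_iff (c : Charts i j f f') (p : WithBot ℕ∞ → Prop)
    (hf : LocP @LocallyOfFiniteType f) (hf' : LocP @LocallyOfFiniteType f') :
    (∀ x, HasAtMor (fun _ _ h u => p (FlatMor.fibreDimAt h u)) f x) ↔
      (∀ x', HasAtMor (fun _ _ h u => p (FlatMor.fibreDimAt h u)) f' x') := by
  have := Charts.lft'_left (c := c) hf'
  have e : ∀ u, FlatMor.fibreDimAt c.h.left u = FlatMor.fibreDimAt c.h'.left (c.iU.left u) := fun u =>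
    H8Props.FieldDim.fibreDimAt_baseChange c.h'.left c.sq u
  constructor
  · intro H x'
    obtain ⟨u', rfl⟩ := surjective_ofPt_of_repWith le_rfl c.has' x'
    obtain ⟨u, rfl⟩ := c.thickU.2.surj u'
    refine ((etInvAt_fibreDimAt p).hasAtMor_iff hf' c.ha' c.hb' c.w' _).2 ?_
    rw [← e]
    exact ((etInvAt_fibreDimAt p).hasAtMor_iff hf c.ha c.hb c.w u).1 (H _)
  · intro H x
    obtain ⟨u, rfl⟩ := surjective_ofPt_of_repWith le_rfl c.has x
    refine ((etInvAt_fibreDimAt p).hasAtMor_iff hf c.ha c.hb c.w u).2 ?_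
    rw [e]
    exact ((etInvAt_fibreDimAt p).hasAtMor_iff hf' c.ha' c.hb' c.w' _).1 (H _)

/-- On an etale chart the kernel ideal of a finite order thickening is nilpotent. -/
theorem isNilpotent_ker_chart {Z Z' : Sp S} {k : Z ⟶ Z'} (hk : IsFinThickMor k) {W W' : Over S}
    {b : (yon S).obj W' ⟶ Z'} (hb : RepWith @Etale b) {fst : (yon S).obj W ⟶ Z} {snd : W ⟶ W'}
    (sq : IsPullback fst ((yon S).map snd) k b) : IsNilpotent snd.left.ker := by
  obtain ⟨n, hkt, hn⟩ := hk
  have hcl : IsClosedImmersion snd.left := (hkt.2 b fst snd sq).1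
  refine ⟨n + 1, ?_⟩
  refine Scheme.IdealSheafData.ext (funext fun O => ?_)
  let V : Over S := Over.mk (O.1.ι ≫ W'.hom)
  let ι : V ⟶ W' := Over.homMk O.1.ι
  let Q : Over S := Over.mk ((snd.left ⁻¹ᵁ O.1).ι ≫ W.hom)
  let κ : Q ⟶ W := Over.homMk (snd.left ⁻¹ᵁ O.1).ι
  let q : Q ⟶ V := Over.homMk (snd.left ∣_ O.1) (by
    show (snd.left ∣_ O.1) ≫ O.1.ι ≫ W'.hom = (snd.left ⁻¹ᵁ O.1).ι ≫ W.hom
    rw [← Category.assoc, morphismRestrict_ι, Category.assoc, Over.w snd])
  have sqR : IsPullback κ q snd ι :=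
    IsPullback.of_map (Over.forget S) (Over.OverMorphism.ext (morphismRestrict_ι snd.left O.1).symm)
      (isPullback_morphismRestrict snd.left O.1).flip
  have hι : Etale ι.left := inferInstanceAs (Etale O.1.ι)
  have h : (snd.left ∣_ O.1).ker ^ (n + 1) = ⊥ :=
    hn _ _ q O.2 (repWith_comp ((repWith_yon_map_iff _ ι).2 hι) hb) ((sqR.map (yon S)).paste_horiz sq)
  haveI : IsAffine O.1.toScheme := O.2
  have h' := congrFun (congrArg Scheme.IdealSheafData.ideal h) ⟨⊤, isAffineOpen_top _⟩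
  simp only [Scheme.IdealSheafData.ideal_pow, Pi.pow_apply, Scheme.IdealSheafData.ideal_bot,
    Pi.bot_apply, Scheme.ker_morphismRestrict_ideal] at h'
  have key : ∀ V : W'.left.affineOpens, (V : W'.left.Opens) = O.1.ι ''ᵁ ⊤ → snd.left.ker.ideal V ^ (n + 1) = ⊥ := by
    rintro ⟨V, hV⟩ rfl
    exact h'
  simp only [Scheme.IdealSheafData.ideal_pow, Pi.pow_apply]
  exact key O O.1.ι_image_top.symm

theorem Charts.finThickU (c : Charts i j f f') (hi : IsFinThickMor i) : IsNilpotent c.iU.left.ker :=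
  isNilpotent_ker_chart hi c.ha' c.sqi

theorem Charts.finThickV (c : Charts i j f f') (hj : IsFinThickMor j) :
    MoreMor.IsFiniteOrderThickening c.jV.left :=
  ⟨c.thickV, isNilpotent_ker_chart hj c.hb' c.sqj⟩

end Groth.Agent.H13AlgSp.ThickCharts
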