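import Groth.Agent.H12AlgSp.RelDim
import Groth.Agent.H12AlgSp.RelDimApps
import Groth.Agent.H13AlgSp.LocP
import Groth.Agent.S1386
import Groth.Agent.H8Props.FibreCriterion
import Groth.Agent.H8Props.FlatLocus.Scheme
import Groth.Prelude.Def_AlgSpMor5

/-!
Fibrewise criterion of flatness and the flat locus for morphisms of algebraic spaces.
-/

universe u

open CategoryTheory CategoryTheory.Limits AlgebraicGeometry Opposite Topology
open AlgSp Groth.Agent.H12AlgSp Groth.Agent.H8Props.FibreCriterion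

namespace Groth.Agent.H13AlgSp.FibreFlat

variable {S : Scheme.{u}}

theorem flatQ_etInvAt :
    EtInvAt (⊤ : MorphismProperty Scheme.{u}) (fun _ _ h u => (Scheme.Hom.stalkMap h u).hom.Flat) where
  precomp g f hg _ w := S4656.result g f w (Flat.stalkMap g w)
  postcomp f g hg _ u := by
    refine ⟨fun h => ?_, fun h => (S4656.result f g u h).2 (Flat.stalkMap g _)⟩
    let σ := pullback.lift (f := f ≫ g) (g := g) (𝟙 _) f (Category.id_comp _)
    haveI : Etale (pullback.fst (f ≫ g) g) := inferInstance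
    haveI : Etale (σ ≫ pullback.fst (f ≫ g) g) := by rw [pullback.lift_fst]; infer_instance
    haveI : Etale σ := Etale.of_comp σ (pullback.fst (f ≫ g) g)
    have hp : pullback.fst (f ≫ g) g (σ u) = u := by
      rw [← Scheme.Hom.comp_apply, pullback.lift_fst]; rfl
    have h' := flat_stalkMap_baseChange (IsPullback.of_hasPullback (f ≫ g) g) (σ u) (hp.symm ▸ h)
    exact flat_stalkMap_congr (pullback.lift_snd _ _ _) u
      ((S4656.result σ (pullback.snd (f ≫ g) g) u (Flat.stalkMap σ u)).2 h')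

/-- Flatness at a point can be tested on any chart through the point. -/
theorem isFlatAtMor_iff {F G : Sp S} {f : F ⟶ G} {U V : Over S} {a : (yon S).obj U ⟶ F}
    {b : (yon S).obj V ⟶ G} {h : U ⟶ V} (ha : RepWith @Etale a) (hb : RepWith @Etale b)
    (w : a ≫ f = (yon S).map h ≫ b) (u : U.left) :
    IsFlatAtMor f (Points.ofPt a u) ↔ (h.left.stalkMap u).hom.Flat :=
  ⟨fun H => H a b h u ha hb w rfl, fun H _ _ a' b' h' u' ha' hb' w' e =>
    (flatQ_etInvAt.chart_iff (fun _ _ _ _ _ _ _ _ => trivial) ha hb ha' hb' w w' e.symm).1 H⟩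

/-- The chart of a base change over a chart of the original morphism. -/
theorem exists_chart_pullback {X Y X' Y' XV : Sp S} {f : X ⟶ Y} {g : Y' ⟶ Y} {p : X' ⟶ X} {f' : X' ⟶ Y'}
    (sq : IsPullback p f' f g) {U V V' : Over S} {b : (yon S).obj V ⟶ Y} {fstV : XV ⟶ X}
    {sndV : XV ⟶ (yon S).obj V} (sqV : IsPullback fstV sndV f b) {c : (yon S).obj U ⟶ XV} {h : U ⟶ V}
    (hc : c ≫ sndV = (yon S).map h) {b' : (yon S).obj V' ⟶ Y'} {k : V' ⟶ V}
    (w : b' ≫ g = (yon S).map k ≫ b) :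
    ∃ a' : (yon S).obj (pullback h k) ⟶ X', a' ≫ p = (yon S).map (pullback.fst h k) ≫ c ≫ fstV ∧
      a' ≫ f' = (yon S).map (pullback.snd h k) ≫ b' ∧
      ∀ (P : MorphismProperty Scheme.{u}), P.IsStableUnderBaseChange → P.IsStableUnderComposition →
        RepWith P c → RepWith P b' → RepWith P a' := by
  obtain ⟨Q, q₁, q₂, sqQ⟩ : ∃ (Q : Sp S) (q₁ : Q ⟶ X') (q₂ : Q ⟶ (yon S).obj V'), IsPullback q₁ q₂ f' b' :=
    ⟨_, _, _, IsPullback.of_hasPullback _ _⟩
  obtain ⟨e, he₁, he₂⟩ := sqV.exists_lift (q₁ ≫ p) (q₂ ≫ (yon S).map k)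
    (by rw [Category.assoc, sq.w, reassoc_of% sqQ.w, Category.assoc, w])
  have sqe : IsPullback e q₂ sndV ((yon S).map k) := by
    refine IsPullback.of_right (h₁₂ := fstV) (v₁₃ := f) (h₂₂ := b) ?_ he₂ sqV
    rw [he₁, ← w]
    exact sqQ.paste_horiz sq
  have sqU := (IsPullback.of_hasPullback h k).map (yon S)
  obtain ⟨d, hd₁, hd₂⟩ := sqe.exists_lift ((yon S).map (pullback.fst h k) ≫ c)
    ((yon S).map (pullback.snd h k)) (by rw [Category.assoc, hc, sqU.w])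
  have sqd : IsPullback ((yon S).map (pullback.fst h k)) d c e :=
    IsPullback.of_bot (by rw [hd₂, hc]; exact sqU) hd₁.symm sqe
  refine ⟨d ≫ q₁, ?_, ?_, fun P _ _ hPc hPb => ?_⟩
  · rw [Category.assoc, ← he₁, reassoc_of% hd₁]
  · rw [Category.assoc, sqQ.w, reassoc_of% hd₂]
  · exact repWith_comp (repWith_of_isPullback sqd hPc) (repWith_of_isPullback sqQ.flip hPb)

section Triple

variable {X Y Z : Sp S} (f : X ⟶ Y) (h : Y ⟶ Z)

/-- Compatible charts of two composable morphisms, with etale surjective maps to the fibre products. -/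
theorem exists_chart_triple (hX : IsAlgSpace X) (hY : IsAlgSpace Y) (hZ : IsAlgSpace Z) :
    ∃ (U V W : Over S) (a : (yon S).obj U ⟶ X) (b : (yon S).obj V ⟶ Y) (c : (yon S).obj W ⟶ Z)
      (h₁ : U ⟶ V) (h₂ : V ⟶ W) (e₁ : (yon S).obj U ⟶ pullback f b) (e₂ : (yon S).obj V ⟶ pullback h c)
      (e₁₂ : (yon S).obj U ⟶ pullback (f ≫ h) c),
      (RepWith @Etale a ∧ RepWith @Surjective a) ∧ (RepWith @Etale b ∧ RepWith @Surjective b) ∧
      (RepWith @Etale c ∧ RepWith @Surjective c) ∧ a ≫ f = (yon S).map h₁ ≫ b ∧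
      b ≫ h = (yon S).map h₂ ≫ c ∧
      (RepWith @Etale e₁ ∧ e₁ ≫ pullback.fst f b = a ∧ e₁ ≫ pullback.snd f b = (yon S).map h₁ ∧
        RepWith @Surjective e₁) ∧
      (RepWith @Etale e₂ ∧ e₂ ≫ pullback.fst h c = b ∧ e₂ ≫ pullback.snd h c = (yon S).map h₂ ∧
        RepWith @Surjective e₂) ∧
      (RepWith @Etale e₁₂ ∧ e₁₂ ≫ pullback.fst (f ≫ h) c = a ∧
        e₁₂ ≫ pullback.snd (f ≫ h) c = (yon S).map (h₁ ≫ h₂) ∧ RepWith @Surjective e₁₂) := by
  obtain ⟨W, c, hc, hcs⟩ := hZ.atlas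
  obtain ⟨V, e₂, he₂, he₂s⟩ := (isAlgSpace_pullback hZ.diag hY (IsAlgSpace.yon_obj W) h c).atlas
  obtain ⟨h₂, hh₂⟩ := (yon S).map_surjective (e₂ ≫ pullback.snd h c)
  have sqh := IsPullback.of_hasPullback h c
  have hb : RepWith @Etale (e₂ ≫ pullback.fst h c) := repWith_comp he₂ (repWith_of_isPullback sqh.flip hc)
  have hbs : RepWith @Surjective (e₂ ≫ pullback.fst h c) :=
    repWith_comp he₂s (repWith_of_isPullback sqh.flip hcs)
  generalize hbd : e₂ ≫ pullback.fst h c = b at hb hbs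
  obtain ⟨U, e₁, he₁, he₁s⟩ := (isAlgSpace_pullback hY.diag hX (IsAlgSpace.yon_obj V) f b).atlas
  obtain ⟨h₁, hh₁⟩ := (yon S).map_surjective (e₁ ≫ pullback.snd f b)
  have sqf := IsPullback.of_hasPullback f b
  have sqfh := IsPullback.of_hasPullback (f ≫ h) c
  obtain ⟨σ, hσ₁, hσ₂⟩ := sqh.exists_lift (pullback.fst (f ≫ h) c ≫ f) (pullback.snd (f ≫ h) c)
    (by rw [Category.assoc]; exact sqfh.w)
  have sqσ : IsPullback (pullback.fst (f ≫ h) c) σ f (pullback.fst h c) :=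
    IsPullback.of_bot (by rw [hσ₂]; exact sqfh) hσ₁.symm sqh
  obtain ⟨m, hm₁, hm₂⟩ := sqσ.exists_lift (pullback.fst f b) (pullback.snd f b ≫ e₂)
    (by rw [Category.assoc, hbd]; exact sqf.w)
  have sqm : IsPullback m (pullback.snd f b) σ e₂ :=
    IsPullback.of_right (by rw [hm₁, hbd]; exact sqf) hm₂ sqσ
  refine ⟨U, V, W, e₁ ≫ pullback.fst f b, b, c, h₁, h₂, e₁, e₂, e₁ ≫ m,
    ⟨repWith_comp he₁ (repWith_of_isPullback sqf.flip hb), repWith_comp he₁s (repWith_of_isPullback sqf.flip hbs)⟩,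
    ⟨hb, hbs⟩, ⟨hc, hcs⟩, ?_, ?_, ⟨he₁, rfl, hh₁.symm, he₁s⟩, ⟨he₂, hbd, hh₂.symm, he₂s⟩,
    ⟨repWith_comp he₁ (repWith_of_isPullback sqm.flip he₂), ?_, ?_,
      repWith_comp he₁s (repWith_of_isPullback sqm.flip he₂s)⟩⟩
  · rw [Category.assoc, sqf.w, ← Category.assoc, hh₁]
  · rw [← hbd, Category.assoc, sqh.w, ← Category.assoc, hh₂]
  · rw [Category.assoc, hm₁]
  · rw [← hσ₂, Category.assoc, reassoc_of% hm₂, ← hh₂, Functor.map_comp, ← Category.assoc e₁, ← hh₁]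

/-- Flat maps of fibres over fields give flat maps of fibres of charts. -/
theorem flat_fiberMap_chart {U V W : Over S} {a : (yon S).obj U ⟶ X} {b : (yon S).obj V ⟶ Y}
    {c : (yon S).obj W ⟶ Z} {h₁ : U ⟶ V} {h₂ : V ⟶ W} (wa : a ≫ f = (yon S).map h₁ ≫ b)
    {e₂ : (yon S).obj V ⟶ pullback h c} (he₂ : RepWith @Etale e₂) (he₂a : e₂ ≫ pullback.fst h c = b)
    (he₂b : e₂ ≫ pullback.snd h c = (yon S).map h₂)
    {e₁₂ : (yon S).obj U ⟶ pullback (f ≫ h) c} (he₁₂ : RepWith @Etale e₁₂)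
    (he₁₂a : e₁₂ ≫ pullback.fst (f ≫ h) c = a)
    (he₁₂b : e₁₂ ≫ pullback.snd (f ≫ h) c = (yon S).map (h₁ ≫ h₂))
    (hfib : ∀ (K : Type u) [Field K] (sK : Spec (CommRingCat.of K) ⟶ S)
      (z : (AlgSp.yon S).obj (Over.mk sK) ⟶ Z) (Xz Yz : AlgSp.Sp S)
      (pX : Xz ⟶ X) (qX : Xz ⟶ (AlgSp.yon S).obj (Over.mk sK))
      (pY : Yz ⟶ Y) (qY : Yz ⟶ (AlgSp.yon S).obj (Over.mk sK)) (fz : Xz ⟶ Yz),
      IsPullback pX qX (f ≫ h) z → IsPullback pY qY h z → fz ≫ pY = pX ≫ f → fz ≫ qY = qX →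
      AlgSp.LocP @Flat fz) (s : W.left) : Flat (MoreMor.fiberMap h₁.left h₂.left s) := by
  let sK : Spec (CommRingCat.of (W.left.residueField s)) ⟶ S := W.left.fromSpecResidueField s ≫ W.hom
  let κ : Over.mk sK ⟶ W := Over.homMk (W.left.fromSpecResidueField s)
  let z := (yon S).map κ ≫ c
  obtain ⟨Xz, pX, qX, sqX⟩ : ∃ (P : Sp S) (p : P ⟶ X) (q : P ⟶ _), IsPullback p q (f ≫ h) z :=
    ⟨_, _, _, IsPullback.of_hasPullback _ _⟩
  obtain ⟨Yz, pY, qY, sqY⟩ : ∃ (P : Sp S) (p : P ⟶ Y) (q : P ⟶ _), IsPullback p q h z :=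
    ⟨_, _, _, IsPullback.of_hasPullback _ _⟩
  obtain ⟨fz, hz₁, hz₂⟩ := sqY.exists_lift (pX ≫ f) qX (by rw [Category.assoc, sqX.w])
  have hfz := hfib _ sK z Xz Yz pX qX pY qY fz sqX sqY hz₁ hz₂
  have hid : RepWith @Etale (𝟙 ((yon S).obj (Over.mk sK))) := repWith_id _ _
  obtain ⟨aK, ha₁, ha₂, haP⟩ := exists_chart_pullback sqX (IsPullback.of_hasPullback (f ≫ h) c) he₁₂b
    (b' := 𝟙 _) (k := κ) (Category.id_comp _)
  obtain ⟨bK, hb₁, hb₂, hbP⟩ := exists_chart_pullback sqY (IsPullback.of_hasPullback h c) he₂b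
    (b' := 𝟙 _) (k := κ) (Category.id_comp _)
  have haK := haP @Etale inferInstance inferInstance he₁₂ hid
  have hbK := hbP @Etale inferInstance inferInstance he₂ hid
  rw [Category.comp_id] at ha₂ hb₂
  rw [he₁₂a] at ha₁
  rw [he₂a] at hb₁
  let φ : pullback (h₁ ≫ h₂) κ ⟶ pullback h₂ κ :=
    pullback.map _ _ _ _ h₁ (𝟙 _) (𝟙 _) (by simp) (by simp)
  have hφ₁ : φ ≫ pullback.fst h₂ κ = pullback.fst (h₁ ≫ h₂) κ ≫ h₁ := pullback.lift_fst _ _ _
  have hφ₂ : φ ≫ pullback.snd h₂ κ = pullback.snd (h₁ ≫ h₂) κ :=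
    (pullback.lift_snd _ _ _).trans (Category.comp_id _)
  have : Flat φ.left := hfz aK bK φ haK hbK (sqY.hom_ext
    (by rw [Category.assoc, hz₁, reassoc_of% ha₁, wa, Category.assoc, hb₁]
        simp only [← Functor.map_comp_assoc, hφ₁])
    (by rw [Category.assoc, hz₂, ha₂, Category.assoc, hb₂, ← Functor.map_comp, hφ₂]))
  have sU : IsPullback (pullback.fst (h₁ ≫ h₂) κ).left (pullback.snd (h₁ ≫ h₂) κ).left
      (h₁.left ≫ h₂.left) (W.left.fromSpecResidueField s) :=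
    (IsPullback.of_hasPullback (h₁ ≫ h₂) κ).map (Over.forget S)
  have sV : IsPullback (pullback.fst h₂ κ).left (pullback.snd h₂ κ).left h₂.left
      (W.left.fromSpecResidueField s) := (IsPullback.of_hasPullback h₂ κ).map (Over.forget S)
  have hh : sU.isoPullback.hom ≫ MoreMor.fiberMap h₁.left h₂.left s = φ.left ≫ sV.isoPullback.hom := by
    apply pullback.hom_ext
    · change (_ ≫ MoreMor.fiberMap h₁.left h₂.left s) ≫ h₂.left.fiberι s = (_ ≫ _) ≫ h₂.left.fiberι s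
      rw [Category.assoc, Category.assoc, fiberMap_fiberι]
      exact ((sU.isoPullback_hom_fst_assoc h₁.left).trans (congrArg CommaMorphism.left hφ₁).symm).trans
        (congrArg (φ.left ≫ ·) sV.isoPullback_hom_fst).symm
    · change (_ ≫ MoreMor.fiberMap h₁.left h₂.left s) ≫ h₂.left.fiberToSpecResidueField s =
        (_ ≫ _) ≫ h₂.left.fiberToSpecResidueField s
      rw [Category.assoc, Category.assoc, fiberMap_fiberToSpec]
      exact (sU.isoPullback_hom_snd.trans (congrArg CommaMorphism.left hφ₂).symm).trans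
        (congrArg (φ.left ≫ ·) sV.isoPullback_hom_snd).symm
  exact (MorphismProperty.arrow_mk_iso_iff @Flat (Arrow.isoMk sU.isoPullback sV.isoPullback hh)).1 this

end Triple

/-- The fibrewise criterion for locally Noetherian schemes. -/
theorem flat_of_fiberMap_noetherian {X Y Z : Scheme.{u}} [IsLocallyNoetherian X] [IsLocallyNoetherian Y]
    (f : X ⟶ Y) (g : Y ⟶ Z) [Flat (f ≫ g)] (x : X) [Flat (MoreMor.fiberMap f g (g (f x)))] :
    (f.stalkMap x).hom.Flat ∧ (g.stalkMap (f x)).hom.Flat := by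
  have key : ∀ (s : Z) (z : (f ≫ g).fiber s) (x : X), (f ≫ g).fiberι s z = x →
      ((MoreMor.fiberMap f g s).stalkMap z).hom.Flat →
      (f.stalkMap x).hom.Flat ∧ (g.stalkMap (f x)).hom.Flat := by
    intro s z x e h
    subst e
    have h1 := flat_quotient_of_flat_fiberMap f g s z h
    generalize (f ≫ g).fiberι s z = x at h1 ⊢
    algebraize [(f.stalkMap x).hom, (g.stalkMap (f x)).hom]
    letI : Algebra (Z.presheaf.stalk (g (f x))) (X.presheaf.stalk x) := ((f ≫ g).stalkMap x).hom.toAlgebra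
    haveI : IsScalarTower (Z.presheaf.stalk (g (f x))) (Y.presheaf.stalk (f x)) (X.presheaf.stalk x) :=
      IsScalarTower.of_algebraMap_eq' (congrArg CommRingCat.Hom.hom (Scheme.Hom.stalkMap_comp f g x))
    haveI : Module.Flat (Z.presheaf.stalk (g (f x))) (X.presheaf.stalk x) := Flat.stalkMap (f ≫ g) x
    haveI : IsLocalHom (algebraMap (Z.presheaf.stalk (g (f x))) (Y.presheaf.stalk (f x))) :=
      inferInstanceAs (IsLocalHom (g.stalkMap (f x)).hom)
    haveI : IsLocalHom (algebraMap (Y.presheaf.stalk (f x)) (X.presheaf.stalk x)) :=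
      inferInstanceAs (IsLocalHom (f.stalkMap x).hom)
    exact flat_of_flat_fibre (R := Z.presheaf.stalk (g (f x))) (RingHom.flat_algebraMap_iff.mp h1)
  exact key (g (f x)) ((f ≫ g).asFiber x) x ((f ≫ g).fiberι_asFiber x) (Flat.stalkMap (MoreMor.fiberMap f g (g (f x))) _)

/-- Flatness of a base change descends at a point, for a morphism over the base satisfying the fibrewise criterion. -/
theorem flat_stalkMap_descend {X Y Z X' Y' Z' : Scheme.{u}} (f : X ⟶ Y) (g : Y ⟶ Z)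
    [LocallyOfFinitePresentation (f ≫ g)] [Flat (f ≫ g)] [LocallyOfFiniteType g]
    {f' : X' ⟶ Y'} {g' : Y' ⟶ Z'} {a : Z' ⟶ Z} {gY : Y' ⟶ Y} {gX : X' ⟶ X}
    (hY : IsPullback gY g' g a) (hX : IsPullback gX f' f gY) (x' : X') (h : (f'.stalkMap x').hom.Flat) :
    (f.stalkMap (gX x')).hom.Flat := by
  let s' := g' (f' x')
  let z' : (f' ≫ g').fiber s' := (f' ≫ g').asFiber x'
  have hz' : (f' ≫ g').fiberι s' z' = x' := (f' ≫ g').fiberι_asFiber x'
  have hfib : ((MoreMor.fiberMap f' g' s').stalkMap z').hom.Flat :=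
    flat_stalkMap_baseChange (isPullback_fiberMap f' g' s') z' (hz'.symm ▸ h)
  obtain ⟨z, hz, hz2⟩ := flat_fiberMap_descend hY hX s' z' hfib
  rw [hz'] at hz
  have hs : a s' = g (f (gX x')) := by
    rw [← Scheme.Hom.comp_apply gX, hX.w, Scheme.Hom.comp_apply, ← Scheme.Hom.comp_apply gY, hY.w,
      Scheme.Hom.comp_apply]
  have key : ∀ (s : Z) (z : (f ≫ g).fiber s), s = g (f (gX x')) → (f ≫ g).fiberι s z = gX x' →
      ((MoreMor.fiberMap f g s).stalkMap z).hom.Flat → (f.stalkMap (gX x')).hom.Flat := by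
    intro s z hs hz hz2
    subst hs
    have e : z = (f ≫ g).asFiber (gX x') :=
      ((f ≫ g).fiberι _).isEmbedding.injective (hz.trans ((f ≫ g).fiberι_asFiber _).symm)
    subst e
    exact (((S1386.result f g).1 (gX x')).1 ⟨Flat.stalkMap _ _, hz2⟩).2
  exact key _ z hs hz hz2

section Main

variable {X Y Z : Sp S} {f : X ⟶ Y} {h : Y ⟶ Z} (hX : IsAlgSpace X) (hY : IsAlgSpace Y) (hZ : IsAlgSpace Z)
  (hfl : LocP @Flat (f ≫ h))

include hX hY hZ hfl

theorem flat_of_fibres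
    (hfib : ∀ (K : Type u) [Field K] (sK : Spec (CommRingCat.of K) ⟶ S)
      (z : (AlgSp.yon S).obj (Over.mk sK) ⟶ Z) (Xz Yz : AlgSp.Sp S)
      (pX : Xz ⟶ X) (qX : Xz ⟶ (AlgSp.yon S).obj (Over.mk sK))
      (pY : Yz ⟶ Y) (qY : Yz ⟶ (AlgSp.yon S).obj (Over.mk sK)) (fz : Xz ⟶ Yz),
      IsPullback pX qX (f ≫ h) z → IsPullback pY qY h z → fz ≫ pY = pX ≫ f → fz ≫ qY = qX →
      AlgSp.LocP @Flat fz)
    (crit : ∀ {U V W : Over S} (a : (yon S).obj U ⟶ X) (b : (yon S).obj V ⟶ Y) (c : (yon S).obj W ⟶ Z)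
      (h₁ : U ⟶ V) (h₂ : V ⟶ W), RepWith @Etale a → RepWith @Etale b → RepWith @Etale c →
      a ≫ (f ≫ h) = (yon S).map (h₁ ≫ h₂) ≫ c → b ≫ h = (yon S).map h₂ ≫ c → Flat (h₁.left ≫ h₂.left) →
      (∀ s, Flat (MoreMor.fiberMap h₁.left h₂.left s)) →
      ∀ x : U.left, (h₁.left.stalkMap x).hom.Flat ∧ (h₂.left.stalkMap (h₁.left x)).hom.Flat) :
    LocP @Flat f ∧ (IsSurjectiveMor f → LocP @Flat h) := by
  obtain ⟨U, V, W, a, b, c, h₁, h₂, e₁, e₂, e₁₂, ⟨ha, has⟩, ⟨hb, hbs⟩, ⟨hc, -⟩, wa, wb,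
    ⟨-, -, he₁b, he₁s⟩, ⟨he₂, he₂a, he₂b, -⟩, ⟨he₁₂, he₁₂a, he₁₂b, -⟩⟩ := exists_chart_triple f h hX hY hZ
  have w : a ≫ f ≫ h = (yon S).map (h₁ ≫ h₂) ≫ c := by
    rw [← Category.assoc, wa, Category.assoc, wb, Functor.map_comp, Category.assoc]
  have : Flat (h₁.left ≫ h₂.left) := hfl a c (h₁ ≫ h₂) ha hc w
  have key := crit a b c h₁ h₂ ha hb hc w wb this
    (flat_fiberMap_chart f h wa he₂ he₂a he₂b he₁₂ he₁₂a he₁₂b hfib)
  refine ⟨H13AlgSp.locP_of_chart ha has hb wa (Flat.iff_flat_stalkMap _ |>.2 fun x => (key x).1),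
    fun hs => H13AlgSp.locP_of_chart hb hbs hc wb (Flat.iff_flat_stalkMap _ |>.2 fun v => ?_)⟩
  obtain ⟨x, hx⟩ := hs (Points.ofPt b v)
  obtain ⟨q, -, hq⟩ := exists_point_of_isPullback (IsPullback.of_hasPullback f b) x (Points.ofScheme V v)
    (hx.trans (Points.ofPt_eq_map_ofScheme b v))
  obtain ⟨u, hu⟩ := surjective_ofPt_of_repWith le_rfl he₁s q
  have e : Points.ofScheme V (h₁.left u) = Points.ofScheme V v := by
    rw [← hq, ← hu, Points.map_ofPt, he₁b, ← Category.comp_id ((yon S).map h₁), ofPt_map,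
      Points.ofPt_eq_map_ofScheme, Points.map_id]
  rw [← (Points.schemeHomeo V).injective e]
  exact (key u).2

end Main

section Locus

variable {X Y Z : Sp S} {f : X ⟶ Y} {h : Y ⟶ Z} (hX : IsAlgSpace X) (hY : IsAlgSpace Y) (hZ : IsAlgSpace Z)
  (hfp : LocP @LocallyOfFinitePresentation (f ≫ h)) (hft : LocP @LocallyOfFiniteType h)

include hX hY hZ hfp hft

theorem isOpen_flatLocus : IsOpen {x : Points X | IsFlatAtMor f x} := by
  obtain ⟨U, V, W, a, b, c, h₁, h₂, -, -, -, ⟨ha, has⟩, ⟨hb, -⟩, ⟨hc, -⟩, wa, wb, -, -, -⟩ :=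
    exists_chart_triple f h hX hY hZ
  have : LocallyOfFiniteType h₂.left := hft b c h₂ hb hc wb
  have : LocallyOfFinitePresentation (h₁.left ≫ h₂.left) := hfp a c (h₁ ≫ h₂) ha hc (by
    rw [← Category.assoc, wa, Category.assoc, wb, Functor.map_comp, Category.assoc])
  have : LocallyOfFinitePresentation h₁.left := H12AlgSp.lfp_of_comp h₁.left h₂.left
  rw [← (isQuotientMap_ofPt ha has).isOpen_preimage]
  convert Groth.Agent.H8Props.FlatLocus.isOpen_setOf_flat_stalkMap h₁.left using 1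
  ext u
  exact isFlatAtMor_iff ha hb wa u

theorem flatLocus_baseChange (hfl : LocP @Flat (f ≫ h)) {X' Y' Z' : Sp S} (hZ' : IsAlgSpace Z')
    {g : Z' ⟶ Z} {f' : X' ⟶ Y'} {h' : Y' ⟶ Z'} {pX : X' ⟶ X} {pY : Y' ⟶ Y}
    (sqY : IsPullback pY h' h g) (sqX : IsPullback pX f' f pY) (x' : Points X') :
    IsFlatAtMor f' x' ↔ IsFlatAtMor f (Points.map pX x') := by
  obtain ⟨U, V, W, a, b, c, h₁, h₂, e₁, e₂, -, ⟨ha, -⟩, ⟨hb, -⟩, ⟨hc, hcs⟩, wa, wb,
    ⟨he₁, he₁a, he₁b, he₁s⟩, ⟨he₂, he₂a, he₂b, he₂s⟩, -⟩ := exists_chart_triple f h hX hY hZ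
  have sqg := IsPullback.of_hasPullback g c
  obtain ⟨T, t, ht, hts⟩ := (isAlgSpace_pullback hZ.diag hZ' (IsAlgSpace.yon_obj W) g c).atlas
  obtain ⟨k, hk⟩ := (yon S).map_surjective (t ≫ pullback.snd g c)
  obtain ⟨b', hb'₁, hb'₂, hb'P⟩ := exists_chart_pullback sqY (IsPullback.of_hasPullback h c) he₂b
    (b' := t ≫ pullback.fst g c) (k := k) (by rw [hk, Category.assoc, Category.assoc, sqg.w])
  have hte := repWith_comp ht (repWith_of_isPullback sqg.flip hc)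
  have hb'e := hb'P @Etale inferInstance inferInstance he₂ hte
  have hb's := hb'P @Surjective inferInstance inferInstance he₂s
    (repWith_comp hts (repWith_of_isPullback sqg.flip hcs))
  rw [he₂a] at hb'₁
  obtain ⟨a', ha'₁, ha'₂, ha'P⟩ := exists_chart_pullback sqX (IsPullback.of_hasPullback f b) he₁b
    (b' := b') (k := pullback.fst h₂ k) hb'₁
  have ha'e := ha'P @Etale inferInstance inferInstance he₁ hb'e
  have ha's := ha'P @Surjective inferInstance inferInstance he₁s hb's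
  rw [he₁a] at ha'₁
  obtain ⟨u', rfl⟩ := surjective_ofPt_of_repWith le_rfl ha's x'
  rw [Points.map_ofPt, ha'₁, ofPt_map, isFlatAtMor_iff ha'e hb'e ha'₂, isFlatAtMor_iff ha hb wa]
  have : LocallyOfFiniteType h₂.left := hft b c h₂ hb hc wb
  have w : a ≫ f ≫ h = (yon S).map (h₁ ≫ h₂) ≫ c := by
    rw [← Category.assoc, wa, Category.assoc, wb, Functor.map_comp, Category.assoc]
  have : LocallyOfFinitePresentation (h₁.left ≫ h₂.left) := hfp a c (h₁ ≫ h₂) ha hc w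
  have : Flat (h₁.left ≫ h₂.left) := hfl a c (h₁ ≫ h₂) ha hc w
  exact ⟨flat_stalkMap_descend h₁.left h₂.left ((IsPullback.of_hasPullback h₂ k).map (Over.forget S))
    ((IsPullback.of_hasPullback h₁ (pullback.fst h₂ k)).map (Over.forget S)) u',
    flat_stalkMap_baseChange ((IsPullback.of_hasPullback h₁ (pullback.fst h₂ k)).map (Over.forget S)) u'⟩

end Locus

end Groth.Agent.H13AlgSp.FibreFlat
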