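import Groth.Agent.H13AlgSp.ThickTwo
import Groth.Agent.H13AlgSp.FibreFlat
import Groth.Agent.H12AlgSp.LocPCancel
import Groth.Agent.S1309
import Groth.Agent.S1317
import Groth.Agent.S1320
import Groth.Agent.S1321
import Groth.Agent.S1322
import Groth.Agent.S1381
import Groth.Agent.S1384
import Groth.Agent.S1385

/-!
Properties of morphisms of algebraic spaces over a thickening of the base.
-/

universe u

open CategoryTheory CategoryTheory.Limits AlgebraicGeometry Opposite
open AlgSp Groth.Agent.H12AlgSp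

namespace Groth.Agent.H13AlgSp.ThickCharts

variable {S : Scheme.{u}} {X X' Y Y' B B' : Sp S} {iX : X ⟶ X'} {iY : Y ⟶ Y'} {iB : B ⟶ B'}
  {f : X ⟶ Y} {f' : X' ⟶ Y'} {g : Y ⟶ B} {g' : Y' ⟶ B'}

/-- Chart diagrams of a morphism over a thickening of the base. -/
structure Three (iX : X ⟶ X') (iY : Y ⟶ Y') (iB : B ⟶ B') (f : X ⟶ Y) (f' : X' ⟶ Y')
    (g : Y ⟶ B) (g' : Y' ⟶ B') where
  /-- charts of the top square -/
  top : Charts iX iY f f'
  /-- thin chart of the base -/
  W : Over S
  /-- thick chart of the base -/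
  W' : Over S
  c : (yon S).obj W ⟶ B
  c' : (yon S).obj W' ⟶ B'
  jW : W ⟶ W'
  k : top.V ⟶ W
  k' : top.V' ⟶ W'
  hc : RepWith @Etale c
  hc' : RepWith @Etale c'
  wk : top.b ≫ g = (yon S).map k ≫ c
  wk' : top.b' ≫ g' = (yon S).map k' ≫ c'
  sqW : IsPullback c ((yon S).map jW) iB c'
  thickW : MoreMor.IsThickening jW.left
  sqY : IsPullback top.jV.left k.left k'.left jW.left
  sqX : IsPullback top.iU.left (top.h.left ≫ k.left) (top.h'.left ≫ k'.left) jW.left
  w : top.iU.left ≫ top.h'.left = top.h.left ≫ top.jV.left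

theorem exists_three (hX' : IsAlgSpace X') (hY' : IsAlgSpace Y') (hB' : IsAlgSpace B')
    (hB : IsThickMor iB) (hcX : IsPullback iX (f ≫ g) (f' ≫ g') iB)
    (hcY : IsPullback iY g g' iB) (w : iX ≫ f' = f ≫ iY) :
    Nonempty (Three iX iY iB f f' g g') := by
  obtain ⟨U', V', W', a', b', c', h', k', -, -, -, ⟨ha', has'⟩, ⟨hb', hbs'⟩, ⟨hc', hcs'⟩, wa', wb', -⟩ :=
    FibreFlat.exists_chart_triple f' g' hX' hY' hB'
  obtain ⟨W, jW, c, sqW⟩ := hB.1 c'
  obtain ⟨V, jV, k, sV⟩ : ∃ (V : Over S) (jV : V ⟶ V') (k : V ⟶ W), IsPullback jV k k' jW :=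
    ⟨_, _, _, IsPullback.of_hasPullback k' jW⟩
  obtain ⟨U, iU, h, sU⟩ : ∃ (U : Over S) (iU : U ⟶ U') (h : U ⟶ V), IsPullback iU h h' jV :=
    ⟨_, _, _, IsPullback.of_hasPullback h' jV⟩
  have hc : RepWith @Etale c := repWith_of_isPullback sqW.flip hc'
  obtain ⟨b, hb1, hb2⟩ := hcY.exists_lift ((yon S).map jV ≫ b') ((yon S).map k ≫ c) (by
    rw [Category.assoc, wb', Category.assoc, sqW.w, ← Category.assoc, ← Functor.map_comp, sV.w,
      Functor.map_comp, Category.assoc])
  have bigY : IsPullback ((yon S).map jV) ((yon S).map k ≫ c) (b' ≫ g') iB := by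
    have := (sV.map (yon S)).paste_vert sqW.flip
    rwa [← wb'] at this
  have sqj : IsPullback b ((yon S).map jV) iY b' :=
    (IsPullback.of_bot (by rw [hb2]; exact bigY) hb1.symm hcY).flip
  have htop : IsPullback iX f f' iY := IsPullback.of_bot hcX w hcY
  obtain ⟨a, hafst, hasnd⟩ := htop.exists_lift ((yon S).map iU ≫ a') ((yon S).map h ≫ b) (by
    rw [Category.assoc, wa', Category.assoc, sqj.w, ← Category.assoc, ← Functor.map_comp, sU.w,
      Functor.map_comp, Category.assoc])
  have bigX : IsPullback ((yon S).map iU) ((yon S).map h ≫ b) (a' ≫ f') iY := by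
    have := (sU.map (yon S)).paste_vert sqj.flip
    rwa [← wa'] at this
  have sqi : IsPullback a ((yon S).map iU) iX a' :=
    (IsPullback.of_bot (by rw [hasnd]; exact bigX) hafst.symm htop).flip
  have htW : MoreMor.IsThickening jW.left := hB.2 c' _ jW sqW
  have sV' : IsPullback jV.left k.left k'.left jW.left := sV.map (Over.forget S)
  have sU' : IsPullback iU.left h.left h'.left jV.left := sU.map (Over.forget S)
  have htV : MoreMor.IsThickening jV.left := ⟨MorphismProperty.of_isPullback (P := @IsClosedImmersion) sV'.flip htW.1,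
    MorphismProperty.of_isPullback (P := @Surjective) sV'.flip htW.2⟩
  exact ⟨⟨⟨U, U', V, V', a, a', b, b', iU, jV, h, h', repWith_of_isPullback sqi.flip ha',
    repWith_of_isPullback sqi.flip has', ha', has', repWith_of_isPullback sqj.flip hb', hb', hasnd, wa',
    sqi, sqj, sU', htV, ⟨MorphismProperty.of_isPullback (P := @IsClosedImmersion) sU'.flip htV.1,
      MorphismProperty.of_isPullback (P := @Surjective) sU'.flip htV.2⟩⟩,
    W, W', c, c', jW, k, k', hc, hc', hb2, wb', sqW, htW, sV', sU'.paste_vert sV', sU'.w⟩⟩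

theorem Three.flat_comp (t : Three iX iY iB f f' g g') (hflat : LocP @Flat (f' ≫ g')) :
    Flat (t.top.h'.left ≫ t.k'.left) :=
  hflat t.top.a' t.c' (t.top.h' ≫ t.k') t.top.ha' t.hc' (by
    rw [← Category.assoc, t.top.w', Category.assoc, t.wk', Functor.map_comp, Category.assoc])

theorem Three.finiteOrderW (t : Three iX iY iB f f' g g') (hB : IsFinThickMor iB) :
    MoreMor.IsFiniteOrderThickening t.jW.left :=
  ⟨t.thickW, isNilpotent_ker_chart hB t.hc' t.sqW⟩

theorem Three.finiteOrderV (t : Three iX iY iB f f' g g') (hB : IsFinThickMor iB) :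
    MoreMor.IsFiniteOrderThickening t.top.jV.left :=
  haveI := t.thickW.1
  ⟨t.top.thickV, Groth.Agent.H7Flat.NilDeform.isNilpotent_ker_of_isPullback (t.finiteOrderW hB).2 t.sqY⟩

theorem Three.flatAt_base (t : Three iX iY iB f f' g g') (hflat : LocP @Flat (f' ≫ g'))
    (hf : LocP @Flat f') (x' : Points X') : IsFlatAtMor g' (Points.map f' x') := by
  obtain ⟨u, rfl⟩ := surjective_ofPt_of_repWith le_rfl t.top.has' x'
  rw [Points.map_ofPt, t.top.w', ofPt_map]
  refine (FibreFlat.isFlatAtMor_iff t.top.hb' t.hc' t.wk' _).2 ?_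
  have := t.flat_comp hflat
  have : Flat t.top.h'.left := hf _ _ _ t.top.ha' t.top.hb' t.top.w'
  exact (S4656.result t.top.h'.left t.k'.left u (Flat.stalkMap _ u)).1 (Flat.stalkMap (t.top.h'.left ≫ t.k'.left) u)

end Groth.Agent.H13AlgSp.ThickCharts
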