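import Groth.Agent.H13AlgSp.ThickRep
import Groth.Agent.H13AlgSp.ThickThree
import Groth.Agent.H12AlgSp.Presentation
import Mathlib.CategoryTheory.Sites.EpiMono

/-!
Isomorphisms, open immersions, monomorphisms and finite locally free morphisms over thickenings.
-/

universe u

open CategoryTheory CategoryTheory.Limits AlgebraicGeometry Opposite
open AlgSp Groth.Agent.H12AlgSp

namespace Groth.Agent.H13AlgSp.ThickFlat

variable {S : Scheme.{u}}

theorem isIso_of_openImmersion_surjective {X Y : Sp S} (hY : IsAlgSpace Y) {f : X ⟶ Y}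
    (ho : RepWith @IsOpenImmersion f) (hs : Function.Surjective (Points.map f)) : IsIso f := by
  have hss : RepWith @Surjective f := repWith_surjective_of_map ho.rep hs
  have : Mono f := mono_of_openImmersion ho
  obtain ⟨V, p, hp, hps⟩ := hY.atlas
  obtain ⟨W, w, k, sq⟩ := ho.rep p
  have : IsOpenImmersion w.left := ho.property p k w sq
  have : Surjective w.left := hss.property p k w sq
  have hw : IsIso w.left := (isIso_iff_isOpenImmersion_and_surjective w.left).2 ⟨‹_›, ‹_›⟩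
  have : IsIso w := by
    have : IsIso ((Over.forget S).map w) := hw
    exact isIso_of_reflects_iso w (Over.forget S)
  have := Groth.Agent.H13Inf.epi_of_etale_surjective hp hps
  have e : ((yon S).map (inv w) ≫ k) ≫ f = p := by
    rw [Category.assoc, sq.w, Functor.map_inv, IsIso.inv_hom_id_assoc]
  have : Epi f := epi_of_epi_fac e
  exact isIso_of_mono_of_epi f

/-- The diagonal data of a cartesian square over a thickened base. -/
theorem exists_diag_data {X X' Y Y' B B' : Space S} {iX : X ⟶ X'} {iY : Y ⟶ Y'} {iB : B ⟶ B'}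
    {f : X ⟶ Y} {f' : X' ⟶ Y'} {g : Y ⟶ B} {g' : Y' ⟶ B'}
    (hcY : IsPullback iY.hom g.hom g'.hom iB.hom) (htop : IsPullback iX.hom f.hom f'.hom iY.hom) :
    ∃ (P P' : Space S) (pr pr₂ : P' ⟶ X') (iP : P ⟶ P') (qP : P ⟶ B) (δ : X ⟶ P) (δ' : X' ⟶ P'),
      IsPullback iX.hom (δ ≫ qP).hom (δ' ≫ pr ≫ f' ≫ g').hom iB.hom ∧
      IsPullback iP.hom qP.hom (pr ≫ f' ≫ g').hom iB.hom ∧
      iX ≫ δ' = δ ≫ iP ∧ δ' ≫ pr = 𝟙 X' ∧ IsPullback pr.hom pr₂.hom f'.hom f'.hom ∧
      (Mono f.hom → IsIso δ.hom) ∧ (IsIso δ'.hom → Mono f'.hom) := by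
  let P'₀ := pullback f'.hom f'.hom
  have hP'₀ : IsAlgSpace P'₀ := isAlgSpace_pullback Y'.property.diag X'.property X'.property _ _
  let pr₀ : P'₀ ⟶ X'.obj := pullback.fst _ _
  let pr₂₀ : P'₀ ⟶ X'.obj := pullback.snd _ _
  have sqK : IsPullback pr₀ pr₂₀ f'.hom f'.hom := IsPullback.of_hasPullback _ _
  obtain ⟨P₀, iP₀, q₀, sqP⟩ : ∃ (P₀ : Sp S) (iP : P₀ ⟶ P'₀) (q : P₀ ⟶ Y.obj),
      IsPullback iP q (pr₀ ≫ f'.hom) iY.hom := ⟨_, _, _, IsPullback.of_hasPullback _ _⟩
  have hP₀ : IsAlgSpace P₀ := isAlgSpace_of_isPullback Y'.property.diag hP'₀ Y.property sqP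
  obtain ⟨p₁, h₁, h₁'⟩ := htop.exists_lift (iP₀ ≫ pr₀) q₀ (by rw [Category.assoc]; exact sqP.w)
  have sq₁ : IsPullback iP₀ p₁ pr₀ iX.hom := IsPullback.of_bot (by rw [h₁']; exact sqP) h₁.symm htop
  obtain ⟨p₂, h₂, h₂'⟩ := htop.exists_lift (iP₀ ≫ pr₂₀) q₀ (by
    rw [Category.assoc, ← sqK.w]; exact sqP.w)
  have sqker : IsPullback p₂ p₁ f.hom f.hom := by
    refine IsPullback.of_right (h₁₂ := iX.hom) (v₁₃ := f'.hom) (h₂₂ := iY.hom) ?_
      (h₂'.trans h₁'.symm) htop
    rw [h₂, ← htop.w]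
    exact sq₁.paste_horiz sqK.flip
  have hself : (𝟙 X'.obj ≫ f'.hom) = (𝟙 X'.obj ≫ f'.hom) := rfl
  obtain ⟨d', hd'₁, hd'₂⟩ := sqK.exists_lift (𝟙 X'.obj) (𝟙 X'.obj) hself
  obtain ⟨d, hd₁, hd₂⟩ := sqP.exists_lift (iX.hom ≫ d') f.hom (by
    rw [Category.assoc, ← Category.assoc d', hd'₁, Category.id_comp, htop.w])
  have hdp₁ : d ≫ p₁ = 𝟙 _ := htop.hom_ext
    (by rw [Category.assoc, h₁, ← Category.assoc, hd₁, Category.assoc, hd'₁, Category.comp_id, Category.id_comp])
    (by rw [Category.assoc, h₁', hd₂, Category.id_comp])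
  have hdp₂ : d ≫ p₂ = 𝟙 _ := htop.hom_ext
    (by rw [Category.assoc, h₂, ← Category.assoc, hd₁, Category.assoc, hd'₂, Category.comp_id, Category.id_comp])
    (by rw [Category.assoc, h₂', hd₂, Category.id_comp])
  refine ⟨⟨P₀, hP₀⟩, ⟨P'₀, hP'₀⟩, ObjectProperty.homMk pr₀, ObjectProperty.homMk pr₂₀,
    ObjectProperty.homMk iP₀, ObjectProperty.homMk (q₀ ≫ g.hom), ObjectProperty.homMk d,
    ObjectProperty.homMk d', ?_, ?_, ObjectProperty.hom_ext _ hd₁.symm, ObjectProperty.hom_ext _ hd'₁, sqK,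
    fun hm => ?_, fun hi => ?_⟩
  · show IsPullback iX.hom (d ≫ q₀ ≫ g.hom) (d' ≫ pr₀ ≫ f'.hom ≫ g'.hom) iB.hom
    rw [← Category.assoc d', hd'₁, Category.id_comp, ← Category.assoc d, hd₂]
    exact htop.paste_vert hcY
  · show IsPullback iP₀ (q₀ ≫ g.hom) (pr₀ ≫ f'.hom ≫ g'.hom) iB.hom
    rw [← Category.assoc]
    exact sqP.paste_vert hcY
  · show IsIso d
    have h12 : p₁ = p₂ := (cancel_mono f.hom).1 sqker.w.symm
    refine ⟨p₁, hdp₁, sqker.hom_ext ?_ ?_⟩
    · rw [Category.assoc, hdp₂, Category.comp_id, Category.id_comp, h12]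
    · rw [Category.assoc, hdp₁, Category.comp_id, Category.id_comp]
  · have : IsIso d' := hi
    have h12 : pr₀ = pr₂₀ := by
      rw [← cancel_epi d', hd'₁, hd'₂]
    exact ⟨fun a b e => by
      obtain ⟨l, hl₁, hl₂⟩ := sqK.exists_lift a b e
      rw [← hl₁, ← hl₂, h12]⟩

section

variable {X X' Y Y' : Space S} {i : X ⟶ X'} {j : Y ⟶ Y'} {f : X ⟶ Y} {f' : X' ⟶ Y'}
  (hj : IsThickMor j.hom) (hcart : IsPullback i.hom f.hom f'.hom j.hom)
  (het : LocP @Etale f.hom → LocP @Etale f'.hom)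
include hj hcart het

theorem openImmersion_iff : RepWith @IsOpenImmersion f.hom ↔ RepWith @IsOpenImmersion f'.hom := by
  refine ⟨fun h => ?_, fun h => repWith_of_isPullback hcart h⟩
  obtain ⟨hm, he⟩ := (mono_iff_locP_openImmersion X.property Y.property).1 h
  exact repWith_isOpenImmersion_of_univInjective X'.property Y'.property
    (isEtaleMor_of_locP_etale Y'.property (het he))
    ((ThickRep.univInjective_iff hj hcart).1 (MonoUnram.isUnivInjectiveMor_of_mono f.hom))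

theorem isIso_iff : IsIso f.hom ↔ IsIso f'.hom := by
  refine ⟨fun h => ?_, fun h =>
    MorphismProperty.of_isPullback (P := MorphismProperty.isomorphisms (Sp S)) hcart h⟩
  refine isIso_of_openImmersion_surjective Y'.property
    ((openImmersion_iff hj hcart het).1 (repWith_of_isIso _)) ((ThickRep.surjective_iff hj hcart).1 fun y => ?_)
  exact ⟨Points.map (inv f.hom) y, by rw [← Points.map_comp, IsIso.inv_hom_id, Points.map_id]⟩

omit het

variable (hl : LocP @LocallyOfFiniteType f.hom ↔ LocP @LocallyOfFiniteType f'.hom)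
  (hflat : LocP @Flat f.hom → LocP @Flat f'.hom)
  (hlfp : LocP @LocallyOfFinitePresentation f.hom → LocP @LocallyOfFinitePresentation f'.hom)
include hl hflat hlfp

theorem finLocFree_iff : IsFinLocFreeMor f.hom ↔ IsFinLocFreeMor f'.hom := by
  refine ⟨fun h => ?_, fun h => repWith_of_isPullback (P := finLocFree) hcart h⟩
  have h1 : RepWith @IsFinite f.hom := repWith_le (fun _ _ _ hk => hk.1) h
  have h2 : LocP @Flat f.hom := locP_of_repWith etLocal_flat (repWith_le (fun _ _ _ hk => hk.2.1) h)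
  have h3 : LocP @LocallyOfFinitePresentation f.hom :=
    locP_of_repWith etLocal_lfp (repWith_le (fun _ _ _ hk => hk.2.2) h)
  have k1 := isFiniteMor_iff.1 ((ThickRep.finite_iff hj hcart hl).1 (isFiniteMor_iff.2 h1))
  have k2 := repWith_of_locP etLocal_flat Y'.property k1.rep (hflat h2)
  have k3 := repWith_of_locP etLocal_lfp Y'.property k1.rep (hlfp h3)
  exact ⟨k1.rep, fun {_ _} g fst snd sq =>
    ⟨k1.property g fst snd sq, k2.property g fst snd sq, k3.property g fst snd sq⟩⟩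

theorem finLocFreeOfDeg_iff (d : ℕ) :
    IsFinLocFreeOfDegMor d f.hom ↔ IsFinLocFreeOfDegMor d f'.hom := by
  refine ⟨fun h => ?_, fun h => repWith_of_isPullback (P := finLocFreeOfDeg d) hcart h⟩
  have h' : IsFinLocFreeMor f'.hom := (finLocFree_iff hj hcart hl hflat hlfp).1
    (repWith_le (fun _ _ _ hk => hk.1) h)
  refine ⟨h'.rep, fun {W T} g k w sq => ?_⟩
  have hw : Mor2.IsFinLocFree w.left := h'.property g k w sq
  obtain ⟨T₀, W₀, jT, iW, w₀, g₀, k₀, -, ht, sW, sq₀⟩ := ThickRep.exists_thin_square hj hcart sq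
  have hw₀ : Mor2.IsFinLocFreeOfDeg d w₀.left := h.property g₀ k₀ w₀ sq₀
  refine ⟨hw, fun t => ?_⟩
  obtain ⟨t₀, rfl⟩ := ht.2.surj t
  have : IsFinite w.left := hw.1
  have : Flat w.left := hw.2.1
  have : LocallyOfFinitePresentation w.left := hw.2.2
  exact (Scheme.Hom.finrank_of_isPullback iW.left w₀.left w.left jT.left sW t₀).symm.trans (hw₀.2 t₀)

end

end Groth.Agent.H13AlgSp.ThickFlat
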