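import Groth.Agent.H12AlgSp.LimitAffineBase
import Groth.Agent.H12AlgSp.QSApps
import Groth.Agent.H13AlgSp.FieldExtConn
import Groth.Agent.H7Lim.GeomConnFinite

/-!
Representability over a field extension descends to a finitely generated subextension.
-/

set_option backward.isDefEq.respectTransparency false

universe u

open CategoryTheory CategoryTheory.Limits AlgebraicGeometry Opposite Topology
open AlgSp Groth.Agent.H12AlgSp Groth.Agent.H7Lim.GeomConnFinite

namespace Groth.Agent.H13AlgSp

variable (k : Type u) [Field k] (K : Type u) [Field K] [Algebra k K]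

/-- The spectra of the finitely generated subextensions. -/
noncomputable def subfieldSystem : (Finset K)ᵒᵖ ⥤ Over (Spec (CommRingCat.of k)) where
  obj s := extObj k (IntermediateField.adjoin k ((unop s : Finset K) : Set K))
  map {_ _} h := extHom (IntermediateField.inclusion (IntermediateField.adjoin.mono k _ _
      (by exact_mod_cast leOfHom h.unop)))
  map_id _ := Over.OverMorphism.ext (Scheme.Spec.map_id _)
  map_comp f g := Over.OverMorphism.ext
    (((fieldFunctor k K).op ⋙ Scheme.Spec).map_comp f g)

/-- The spectrum of the extension as a cone. -/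
noncomputable def subfieldCone : Cone (subfieldSystem k K) where
  pt := extObj k K
  π :=
  { app := fun s => extHom (IntermediateField.adjoin k ((unop s : Finset K) : Set K)).val
    naturality := fun _ _ f => Over.OverMorphism.ext
      ((Scheme.Spec.mapCone (fieldCocone k K).op).π.naturality f) }

/-- The spectrum of the extension is the limit. -/
noncomputable def isLimitSubfieldCone : IsLimit (subfieldCone k K) :=
  haveI : Nonempty (Finset K) := ⟨∅⟩
  haveI : IsConnected (Finset K)ᵒᵖ := IsCofiltered.isConnected _
  isLimitOfReflects (Over.forget _) (isLimitOfPreserves Scheme.Spec (fieldIsColimit k K).op)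

variable {k}

/-- The terminal map of a space over a field. -/
noncomputable def toBaseSp (X : Sp (Spec (CommRingCat.of k))) :
    X ⟶ (yon (Spec (CommRingCat.of k))).obj (Over.mk (𝟙 _)) :=
  (IsTerminal.isTerminalObj (yon _) _ Over.mkIdTerminal).from X

theorem schemeOver_iff_bc (X : Sp (Spec (CommRingCat.of k))) (T : Over (Spec (CommRingCat.of k))) :
    SchemeOver (toBaseSp X) T ↔ (X ⨯ (yon _).obj T).obj.IsRepresentable := by
  have hterm : IsTerminal ((yon (Spec (CommRingCat.of k))).obj (Over.mk (𝟙 _))) :=
    IsTerminal.isTerminalObj (yon _) _ Over.mkIdTerminal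
  have sqP : IsPullback (prod.fst : X ⨯ (yon _).obj T ⟶ X) prod.snd (toBaseSp X)
      ((yon _).map (toBaseOver T)) := by
    rw [hterm.hom_ext (toBaseSp X) (hterm.from _), hterm.hom_ext ((yon _).map (toBaseOver T)) (hterm.from _)]
    exact IsPullback.of_is_product (prodIsProd _ _) hterm
  let e := (IsPullback.of_hasPullback (toBaseSp X) ((yon _).map (toBaseOver T))).isoIsPullback _ _ sqP
  constructor
  · intro h
    obtain ⟨W, ⟨μ⟩⟩ := isRepresentable_iff_exists_iso.1 h
    exact isRepresentable_iff_exists_iso.2 ⟨W, ⟨μ ≪≫ e⟩⟩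
  · intro h
    obtain ⟨W, ⟨μ⟩⟩ := isRepresentable_iff_exists_iso.1 h
    exact isRepresentable_iff_exists_iso.2 ⟨W, ⟨μ ≪≫ e.symm⟩⟩

/-- A quasi-compact quasi-separated space which is a scheme over an extension is so over a finitely generated one. -/
theorem exists_subfield_representable {X : Sp (Spec (CommRingCat.of k))} (hX : IsAlgSpace X)
    (hqc : IsQuasiCompactSp X) (hqs : IsQuasiSeparatedSp X) (h : (bcSp X K).obj.IsRepresentable) :
    ∃ s : Finset K, (bcSp X (IntermediateField.adjoin k (s : Set K))).obj.IsRepresentable := by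
  have : Nonempty (Finset K) := ⟨∅⟩
  have hqm : IsQuasiCompactMor (toBaseSp X) :=
    isQuasiCompactMor_of_qc_qs hX (IsAlgSpace.yon_obj _) _ hqc
      (isQuasiSeparatedSp_yon (U := Over.mk (𝟙 (Spec (CommRingCat.of k)))) (inferInstanceAs (QuasiSeparatedSpace (Spec (CommRingCat.of k)))))
  have : ∀ j, IsAffine ((subfieldSystem k K).obj j).left := fun j => inferInstanceAs (IsAffine (Spec _))
  obtain ⟨j, hj⟩ := exists_schemeOver_stage (subfieldSystem k K) (isLimitSubfieldCone k K) hX (toBaseSp X) hqm hqs
    ((schemeOver_iff_bc X _).2 h)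
  exact ⟨j.unop, (schemeOver_iff_bc X _).1 hj⟩

end Groth.Agent.H13AlgSp
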