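import Groth.Agent.H12AlgSp.BCMod.Cech
import Groth.Agent.H18Cech.Lift

/-!
Exactness of the Čech complex of an affine cover with values in a module commuting with base change, in all degrees.
-/

set_option autoImplicit false
set_option backward.isDefEq.respectTransparency false
set_option linter.style.haveILetI false

universe w v₁ u₁

open CategoryTheory CategoryTheory.Limits Opposite
open scoped TensorProduct
open Groth.Agent.H12AlgSp.BCMod Groth.Agent.H18Cech

namespace Groth.Agent.H13AlgSp.AffVanish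

variable {C : Type u₁} [Category.{v₁} C] {J : GrothendieckTopology C} {Rc : Cᵒᵖ ⥤ CommRingCat.{w}}
  {A : AffSite J Rc} {U : C} [HasFiniteProducts (Over U)] {ι : Type w} (Y : ι → Over U)

/-- Fibre products of finitely many affine objects over an affine object are affine. -/
theorem aff_prod (hiso : ∀ {E E' : C}, (E ≅ E') → A.aff E → A.aff E') (hU : A.aff U)
    (hY : ∀ i, A.aff (Y i).left) : ∀ (n : ℕ) (a : Fin (n + 1) → ι), A.aff (∏ᶜ (Y ∘ a)).left := by
  intro n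
  induction n with
  | zero =>
    intro a
    have e : ∏ᶜ (Y ∘ a) ≅ Y (a 0) :=
      { hom := Pi.π (Y ∘ a) 0
        inv := Pi.lift fun k => eqToHom (by rw [Function.comp_apply, Fin.fin_one_eq_zero k])
        hom_inv_id := Pi.hom_ext _ _ fun k => by
          obtain rfl := Fin.fin_one_eq_zero k
          rw [Category.assoc, Pi.lift_π, eqToHom_refl, Category.comp_id, Category.id_comp]
        inv_hom_id := by rw [Pi.lift_π, eqToHom_refl] }
    exact hiso ((Over.forget U).mapIso e).symm (hY _)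
  | succ n ih =>
    intro a
    let W := mkPb A (Y (a 0)).hom (∏ᶜ (Y ∘ (a ∘ Fin.succ))).hom hU (hY _) (ih _)
    let Q : Over U := Over.mk W.str
    let qA : Q ⟶ Y (a 0) := Over.homMk W.q W.q_str
    let qR : Q ⟶ ∏ᶜ (Y ∘ (a ∘ Fin.succ)) := Over.homMk W.p rfl
    let ℓ : ∏ᶜ (Y ∘ a) ⟶ ∏ᶜ (Y ∘ (a ∘ Fin.succ)) := Pi.lift fun k => Pi.π (Y ∘ a) k.succ
    let l : ∏ᶜ (Y ∘ a) ⟶ Q := Over.homMk (W.isPullback.lift (Pi.π (Y ∘ a) 0).left ℓ.left
      ((Over.w (Pi.π (Y ∘ a) 0)).trans (Over.w ℓ).symm)) (by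
        change _ ≫ W.p ≫ _ = _
        rw [IsPullback.lift_snd_assoc]
        exact Over.w ℓ)
    let m : Q ⟶ ∏ᶜ (Y ∘ a) := Pi.lift (Fin.cases qA fun k => qR ≫ Pi.π (Y ∘ (a ∘ Fin.succ)) k)
    have hmA : m ≫ Pi.π (Y ∘ a) 0 = qA := Pi.lift_π _ _
    have hmR : m ≫ ℓ = qR := Pi.hom_ext _ _ fun k =>
      ((Category.assoc _ _ _).trans (congrArg (m ≫ ·) (Pi.lift_π _ k))).trans (Pi.lift_π _ k.succ)
    have hlA : l ≫ qA = Pi.π (Y ∘ a) 0 := Over.OverMorphism.ext (W.isPullback.lift_fst _ _ _)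
    have hlR : l ≫ qR = ℓ := Over.OverMorphism.ext (W.isPullback.lift_snd _ _ _)
    have e : ∏ᶜ (Y ∘ a) ≅ Q :=
      { hom := l
        inv := m
        hom_inv_id := Pi.hom_ext _ _ fun k => by
          rw [Category.assoc, Category.id_comp]
          refine Fin.cases ?_ (fun k => ?_) k
          · rw [hmA, hlA]
          · refine (congrArg (l ≫ ·) (Pi.lift_π _ k.succ)).trans ?_
            refine (Category.assoc _ _ _).symm.trans ?_
            rw [hlR]
            exact Pi.lift_π _ k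
        inv_hom_id := by
          refine Over.OverMorphism.ext (W.isPullback.hom_ext ?_ ?_)
          · exact (congrArg (fun e : Q ⟶ _ => e.left)
              (((Category.assoc m l qA).trans (congrArg (m ≫ ·) hlA)).trans hmA)).trans (Category.id_comp _).symm
          · exact (congrArg (fun e : Q ⟶ _ => e.left)
              (((Category.assoc m l qR).trans (congrArg (m ≫ ·) hlR)).trans hmR)).trans (Category.id_comp _).symm }
    exact hiso ((Over.forget U).mapIso e).symm W.aff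

variable (P : PM Rc)

/-- Cochains as families of sections over the base. -/
abbrev M (n : ℕ) : Type w := (a : Fin (n + 1) → ι) → Sec P (∏ᶜ (Y ∘ a)).hom

/-- The Čech differential, linear over the ring of the base. -/
noncomputable def D (n : ℕ) : M Y P n →ₗ[Rc.obj (op U)] M Y P (n + 1) :=
  LinearMap.pi fun a => ∑ j : Fin (n + 2), ((-1 : ℤ) ^ (j : ℕ)) •
    (res P (faceOver Y j a).left (Over.w (faceOver Y j a))).comp (LinearMap.proj (a ∘ j.succAbove))

/-- The cochain of a family of sections. -/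
noncomputable def toC {n : ℕ} (x : M Y P n) : C' Y P.presheaf n :=
  (Concrete.productEquiv (val Y P.presheaf n)).symm x

/-- The family of sections of a cochain. -/
noncomputable def toM {n : ℕ} (x : C' Y P.presheaf n) : M Y P n :=
  fun a => (Pi.π (val Y P.presheaf n) a).hom x

theorem toM_toC {n : ℕ} (x : M Y P n) : toM Y P (toC Y P x) = x :=
  funext fun a => Concrete.productEquiv_symm_apply_π (val Y P.presheaf n) x a

theorem toM_injective {n : ℕ} : Function.Injective (toM Y P (n := n)) := fun x y h => by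
  apply (Concrete.productEquiv (val Y P.presheaf n)).injective
  funext a
  rw [Concrete.productEquiv_apply_apply, Concrete.productEquiv_apply_apply]
  exact congrFun h a

theorem toM_d {n : ℕ} (x : C' Y P.presheaf n) :
    toM Y P ((d Y P.presheaf n).hom x) = D Y P n (toM Y P x) := by
  funext a
  refine (ev_taut Y P.presheaf a _).symm.trans ((ev_d Y P.presheaf x (taut Y a)).trans ?_)
  simp only [D, LinearMap.pi_apply, LinearMap.sum_apply, LinearMap.smul_apply, LinearMap.comp_apply,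
    LinearMap.proj_apply]
  refine Finset.sum_congr rfl fun j _ => congrArg (fun z : P.obj (op _) => ((-1 : ℤ) ^ (j : ℕ)) • z) ?_
  rw [ev_apply]
  change (P.map (liftT (taut Y a ∘ j.succAbove)).left.op).hom _ = (P.map (faceOver Y j a).left.op).hom _
  refine congrArg (fun m : (∏ᶜ (Y ∘ a)).left ⟶ (∏ᶜ (Y ∘ (a ∘ j.succAbove))).left => (P.map m.op).hom _) ?_
  let η : Over.mk (∏ᶜ (Y ∘ a)).hom ⟶ ∏ᶜ (Y ∘ a) := Over.homMk (𝟙 _) (Category.id_comp _)
  have e : liftT (taut Y a ∘ j.succAbove) = η ≫ faceOver Y j a :=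
    Pi.hom_ext _ _ fun k => by
      refine (liftT_π _ k).trans (Eq.trans ?_ (Category.assoc _ _ _).symm)
      refine Eq.trans ?_ (congrArg (η ≫ ·) (Pi.lift_π _ k)).symm
      exact Over.OverMorphism.ext (Category.id_comp _).symm
  exact (congrArg (fun m : Over.mk (∏ᶜ (Y ∘ a)).hom ⟶ ∏ᶜ (Y ∘ (a ∘ j.succAbove)) => m.left) e).trans
    (Category.id_comp _)

variable {Y} in
/-- The point of a fibre product given by a map to a member and a tuple. -/
noncomputable def liftW {k : ι} {n : ℕ} (W : ∀ a : Fin (n + 1) → ι, Pb A (Y k).hom (∏ᶜ (Y ∘ a)).hom) {V : C}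
    {g : V ⟶ U} (w : V ⟶ (Y k).left) (hw : w ≫ (Y k).hom = g) (τ : Fin (n + 1) → T Y g) :
    V ⟶ (W (idx τ)).obj :=
  (W (idx τ)).isPullback.lift w (liftT τ).left (hw.trans (Over.w (liftT τ)).symm)

theorem liftW_str {k : ι} {n : ℕ} (W : ∀ a : Fin (n + 1) → ι, Pb A (Y k).hom (∏ᶜ (Y ∘ a)).hom) {V : C}
    {g : V ⟶ U} (w : V ⟶ (Y k).left) (hw : w ≫ (Y k).hom = g) (τ : Fin (n + 1) → T Y g) :
    liftW W w hw τ ≫ (W (idx τ)).str = g := by
  change _ ≫ (W (idx τ)).p ≫ _ = g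
  rw [liftW, IsPullback.lift_snd_assoc]
  exact Over.w (liftT τ)

variable [Finite ι]

/-- Base change of cochains to a member of the family. -/
noncomputable def phi {k : ι} {n : ℕ} (W : ∀ a : Fin (n + 1) → ι, Pb A (Y k).hom (∏ᶜ (Y ∘ a)).hom)
    (hP : AllBC A P) (hX : ∀ a : Fin (n + 1) → ι, A.aff (∏ᶜ (Y ∘ a)).left) :
    RingOf Rc (Y k).hom ⊗[Rc.obj (op U)] M Y P n ≃ₗ[Rc.obj (op U)]
      ((a : Fin (n + 1) → ι) → Sec P (W a).str) :=
  letI := Fintype.ofFinite ι
  letI : DecidableEq ι := Classical.decEq ι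
  (TensorProduct.piRight (Rc.obj (op U)) (Rc.obj (op U)) (RingOf Rc (Y k).hom) _).trans
    (LinearEquiv.piCongrRight fun a => LinearEquiv.ofBijective _ ((W a).mu_bij hP (hX a)))

theorem phi_apply {k : ι} {n : ℕ} (W : ∀ a : Fin (n + 1) → ι, Pb A (Y k).hom (∏ᶜ (Y ∘ a)).hom)
    (hP : AllBC A P) (hX : ∀ a : Fin (n + 1) → ι, A.aff (∏ᶜ (Y ∘ a)).left)
    (t : RingOf Rc (Y k).hom ⊗[Rc.obj (op U)] M Y P n) (a : Fin (n + 1) → ι) :
    phi Y P W hP hX t a = mu P (W a).q (W a).p (W a).q_str rfl ((LinearMap.proj a).lTensor _ t) := by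
  induction t with
  | zero => simp
  | add x y hx hy => simp [hx, hy]
  | tmul b s => simp [phi]

/-- The value of a base changed cochain at a point. -/
noncomputable def evW {k : ι} {n : ℕ} (W : ∀ a : Fin (n + 1) → ι, Pb A (Y k).hom (∏ᶜ (Y ∘ a)).hom) {V : C}
    {g : V ⟶ U} (w : V ⟶ (Y k).left) (hw : w ≫ (Y k).hom = g) (τ : Fin (n + 1) → T Y g)
    (x : (a : Fin (n + 1) → ι) → Sec P (W a).str) : Sec P g :=
  res P (liftW W w hw τ) (liftW_str Y W w hw τ) (x (idx τ))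

omit [Finite ι] in
theorem evW_natural {k : ι} {n : ℕ} (W : ∀ a : Fin (n + 1) → ι, Pb A (Y k).hom (∏ᶜ (Y ∘ a)).hom) {V V' : C}
    {g : V ⟶ U} {g' : V' ⟶ U} (b : V' ⟶ V) (hb : b ≫ g = g') (w : V ⟶ (Y k).left) (hw : w ≫ (Y k).hom = g)
    (τ : Fin (n + 1) → T Y g) (x : (a : Fin (n + 1) → ι) → Sec P (W a).str) :
    evW Y P W (b ≫ w) (by rw [Category.assoc, hw, hb]) (pullT b hb τ) x = res P b hb (evW Y P W w hw τ x) := by
  refine Eq.trans ?_ (res_res P _ _ b hb _).symm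
  refine res_congr P ?_ _ _
  refine (W (idx τ)).isPullback.hom_ext ?_ ?_
  · refine (IsPullback.lift_fst _ _ _ _).trans ?_
    rw [Category.assoc, liftW, IsPullback.lift_fst]
  · refine (IsPullback.lift_snd _ _ _ _).trans ?_
    rw [Category.assoc, liftW, IsPullback.lift_snd]
    have h : liftT (pullT b hb τ) = (Over.homMk b hb : Over.mk g' ⟶ Over.mk g) ≫ liftT τ := by
      refine Pi.hom_ext _ _ fun l => (liftT_π _ l).trans (Eq.trans ?_ (Category.assoc _ _ _).symm)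
      refine Eq.trans ?_ (congrArg (fun m => (Over.homMk b hb : Over.mk g' ⟶ Over.mk g) ≫ m) (liftT_π τ l)).symm
      exact Over.OverMorphism.ext rfl
    exact congrArg (fun m : Over.mk g' ⟶ ∏ᶜ (Y ∘ idx τ) => m.left) h

omit [Finite ι] in
theorem evW_congr {k : ι} {n : ℕ} (W : ∀ a : Fin (n + 1) → ι, Pb A (Y k).hom (∏ᶜ (Y ∘ a)).hom) {V : C}
    {g : V ⟶ U} {w w' : V ⟶ (Y k).left} {hw : w ≫ (Y k).hom = g} {hw' : w' ≫ (Y k).hom = g} (e : w = w')
    {τ τ' : Fin (n + 1) → T Y g} (h : ∀ l, (τ l).1 = (τ' l).1) (x : (a : Fin (n + 1) → ι) → Sec P (W a).str) :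
    evW Y P W w hw τ x = evW Y P W w' hw' τ' x := by
  subst e
  obtain rfl : τ = τ' := funext fun l => Subtype.ext (h l)
  rfl

omit [Finite ι] in
theorem evW_add {k : ι} {n : ℕ} (W : ∀ a : Fin (n + 1) → ι, Pb A (Y k).hom (∏ᶜ (Y ∘ a)).hom) {V : C}
    {g : V ⟶ U} (w : V ⟶ (Y k).left) (hw : w ≫ (Y k).hom = g) (τ : Fin (n + 1) → T Y g)
    (x y : (a : Fin (n + 1) → ι) → Sec P (W a).str) :
    evW Y P W w hw τ (x + y) = evW Y P W w hw τ x + evW Y P W w hw τ y := map_add _ _ _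

variable {Y P}

/-- The tautological tuple on a base change. -/
noncomputable abbrev tautW {k : ι} {n : ℕ} (W : ∀ a : Fin (n + 1) → ι, Pb A (Y k).hom (∏ᶜ (Y ∘ a)).hom)
    (a : Fin (n + 1) → ι) : Fin (n + 1) → T Y (W a).str :=
  pullT (W a).p rfl (taut Y a)

omit [Finite ι] in
theorem evW_taut {k : ι} {n : ℕ} (W : ∀ a : Fin (n + 1) → ι, Pb A (Y k).hom (∏ᶜ (Y ∘ a)).hom)
    (a : Fin (n + 1) → ι) (x : (a : Fin (n + 1) → ι) → Sec P (W a).str) :
    evW Y P W (W a).q (W a).q_str (tautW W a) x = x a := by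
  refine (res_congr P (h' := 𝟙 _) ?_ _ _).trans (res_id P (x a))
  refine (W a).isPullback.hom_ext ?_ ?_
  · exact (IsPullback.lift_fst _ _ _ _).trans (Category.id_comp _).symm
  · refine (IsPullback.lift_snd _ _ _ _).trans (Eq.trans ?_ (Category.id_comp _).symm)
    have h : liftT (tautW W a) = (Over.homMk (W a).p rfl : Over.mk (W a).str ⟶ ∏ᶜ (Y ∘ a)) := by
      refine Pi.hom_ext _ _ fun l => (liftT_π _ l).trans ?_
      exact Over.OverMorphism.ext rfl
    exact congrArg (fun m : Over.mk (W a).str ⟶ ∏ᶜ (Y ∘ a) => m.left) h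

theorem phi_D {k : ι} {n : ℕ} (W : ∀ a : Fin (n + 1) → ι, Pb A (Y k).hom (∏ᶜ (Y ∘ a)).hom)
    (W' : ∀ a : Fin (n + 2) → ι, Pb A (Y k).hom (∏ᶜ (Y ∘ a)).hom) (hP : AllBC A P)
    (hX : ∀ a : Fin (n + 1) → ι, A.aff (∏ᶜ (Y ∘ a)).left) (hX' : ∀ a : Fin (n + 2) → ι, A.aff (∏ᶜ (Y ∘ a)).left)
    (t : RingOf Rc (Y k).hom ⊗[Rc.obj (op U)] M Y P n) (a : Fin (n + 2) → ι) :
    phi Y P W' hP hX' ((D Y P n).lTensor _ t) a =
      ∑ j : Fin (n + 2), ((-1 : ℤ) ^ (j : ℕ)) •
        evW Y P W (W' a).q (W' a).q_str (tautW W' a ∘ j.succAbove) (phi Y P W hP hX t) := by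
  induction t with
  | zero =>
    simp only [map_zero, Pi.zero_apply]
    refine (Finset.sum_eq_zero fun j _ => ?_).symm
    change ((-1 : ℤ) ^ (j : ℕ)) • res P _ _ (0 : Sec P _) = 0
    rw [map_zero, smul_zero]
  | add x y hx hy =>
    simp only [map_add, Pi.add_apply, hx, hy, evW_add, smul_add, Finset.sum_add_distrib]
  | tmul b s =>
    rw [phi_apply, LinearMap.lTensor_tmul, LinearMap.lTensor_tmul]
    simp only [D, LinearMap.proj_apply, LinearMap.pi_apply, LinearMap.sum_apply, LinearMap.smul_apply,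
      LinearMap.comp_apply]
    rw [TensorProduct.tmul_sum, map_sum]
    refine Finset.sum_congr rfl fun j _ => ?_
    rw [TensorProduct.tmul_smul, map_zsmul]
    refine congrArg (fun z : Sec P (W' a).str => ((-1 : ℤ) ^ (j : ℕ)) • z) ?_
    have hφ : (liftW W (W' a).q (W' a).q_str (tautW W' a ∘ j.succAbove)) ≫ (W (a ∘ j.succAbove)).p =
        (W' a).p ≫ (faceOver Y j a).left := by
      refine (IsPullback.lift_snd _ _ _ _).trans ?_
      have h : liftT (tautW W' a ∘ j.succAbove) =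
          (Over.homMk (W' a).p rfl : Over.mk (W' a).str ⟶ ∏ᶜ (Y ∘ a)) ≫ faceOver Y j a := by
        refine Pi.hom_ext _ _ fun l => (liftT_π _ l).trans (Eq.trans ?_ (Category.assoc _ _ _).symm)
        refine Eq.trans ?_ (congrArg
          (fun m => (Over.homMk (W' a).p rfl : Over.mk (W' a).str ⟶ ∏ᶜ (Y ∘ a)) ≫ m) (Pi.lift_π _ l)).symm
        exact Over.OverMorphism.ext rfl
      exact congrArg (fun m : Over.mk (W' a).str ⟶ ∏ᶜ (Y ∘ (a ∘ j.succAbove)) => m.left) h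
    refine Eq.trans ?_ (congrArg (fun z => res P (liftW W (W' a).q (W' a).q_str (tautW W' a ∘ j.succAbove))
      (liftW_str Y W _ _ _) z) (phi_apply Y P W hP hX (b ⊗ₜ s) (a ∘ j.succAbove))).symm
    exact (map_res_mu (faceOver Y j a).left (Over.w _) _ _ (W (a ∘ j.succAbove)).q_str rfl _ _ (W' a).q_str rfl
        (liftW W (W' a).q (W' a).q_str (tautW W' a ∘ j.succAbove)) (liftW_str Y W _ _ _)
        (IsPullback.lift_fst _ _ _ _) hφ (b ⊗ₜ s (a ∘ j.succAbove))).symm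

theorem exact_lTensor_D (hP : AllBC A P) (hU : A.aff U) (hY : ∀ i, A.aff (Y i).left)
    (hX : ∀ (n : ℕ) (a : Fin (n + 1) → ι), A.aff (∏ᶜ (Y ∘ a)).left) (k : ι) (n : ℕ)
    (hdd : (D Y P (n + 1)).comp (D Y P n) = 0) :
    Function.Exact ((D Y P n).lTensor (RingOf Rc (Y k).hom)) ((D Y P (n + 1)).lTensor (RingOf Rc (Y k).hom)) := by
  intro t
  refine ⟨fun ht => ?_, fun ⟨s, hs⟩ => by
    rw [← hs, ← LinearMap.lTensor_comp_apply, hdd, LinearMap.lTensor_zero, LinearMap.zero_apply]⟩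
  let W : ∀ (m : ℕ) (a : Fin (m + 1) → ι), Pb A (Y k).hom (∏ᶜ (Y ∘ a)).hom :=
    fun m a => mkPb A _ _ hU (hY k) (hX m a)
  let x := phi Y P (W (n + 1)) hP (hX (n + 1)) t
  have hx : ∀ (V : C) (g : V ⟶ U) (v : V ⟶ (Y k).left) (hv : v ≫ (Y k).hom = g) (τ : Fin (n + 3) → T Y g),
      ∑ j : Fin (n + 3), ((-1 : ℤ) ^ (j : ℕ)) • evW Y P (W (n + 1)) v hv (τ ∘ j.succAbove) x = 0 := by
    intro V g v hv τ
    have h := phi_D (W (n + 1)) (W (n + 2)) hP (hX (n + 1)) (hX (n + 2)) t (idx τ)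
    rw [ht, map_zero, Pi.zero_apply] at h
    have h' := congrArg (res P (liftW (W (n + 2)) v hv τ) (liftW_str Y _ v hv τ)) h.symm
    rw [map_zero, map_sum] at h'
    refine Eq.trans (Finset.sum_congr rfl fun j _ => ?_) h'
    rw [map_zsmul]
    refine congrArg (fun z : Sec P g => ((-1 : ℤ) ^ (j : ℕ)) • z) ?_
    rw [← evW_natural Y P (W (n + 1)) (liftW (W (n + 2)) v hv τ) (liftW_str Y _ v hv τ)]
    refine evW_congr Y P _ (IsPullback.lift_fst _ _ _ _).symm (fun l => ?_) x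
    refine Sigma.ext rfl (heq_of_eq ?_)
    change (τ (j.succAbove l)).1.2 = liftW (W (n + 2)) v hv τ ≫ (W (n + 2) (idx τ)).p ≫ (Pi.π (Y ∘ idx τ) _).left
    rw [liftW, IsPullback.lift_snd_assoc]
    exact (congrArg (fun m : Over.mk g ⟶ (Y ∘ idx τ) (j.succAbove l) => m.left) (liftT_π τ _)).symm
  let y : (a : Fin (n + 1) → ι) → Sec P (W n a).str := fun a =>
    evW Y P (W (n + 1)) (W n a).q (W n a).q_str
      (Fin.cons ⟨⟨k, (W n a).q⟩, (W n a).q_str⟩ (tautW (W n) a) : Fin (n + 2) → T Y (W n a).str) x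
  have hy : ∀ (V : C) (g : V ⟶ U) (v : V ⟶ (Y k).left) (hv : v ≫ (Y k).hom = g) (σ : Fin (n + 1) → T Y g),
      evW Y P (W n) v hv σ y = evW Y P (W (n + 1)) v hv (Fin.cons ⟨⟨k, v⟩, hv⟩ σ : Fin (n + 2) → T Y g) x := by
    intro V g v hv σ
    refine (evW_natural Y P (W (n + 1)) (liftW (W n) v hv σ) (liftW_str Y _ v hv σ) _ _ _ x).symm.trans ?_
    refine evW_congr Y P _ (IsPullback.lift_fst _ _ _ _) (fun l => ?_) x
    refine Fin.cases ?_ (fun l => ?_) l
    · refine Sigma.ext rfl (heq_of_eq ?_)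
      exact IsPullback.lift_fst _ _ _ _
    · refine Sigma.ext rfl (heq_of_eq ?_)
      change liftW (W n) v hv σ ≫ (W n (idx σ)).p ≫ (Pi.π (Y ∘ idx σ) l).left = (σ l).1.2
      rw [liftW, IsPullback.lift_snd_assoc]
      exact congrArg (fun m : Over.mk g ⟶ (Y ∘ idx σ) l => m.left) (liftT_π σ l)
  refine ⟨(phi Y P (W n) hP (hX n)).symm y, (phi Y P (W (n + 1)) hP (hX (n + 1))).injective (funext fun a => ?_)⟩
  rw [phi_D (W n) (W (n + 1)) hP (hX n) (hX (n + 1)), LinearEquiv.apply_symm_apply]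
  refine Eq.trans ?_ (evW_taut (W (n + 1)) a x)
  have h0 := hx _ _ (W (n + 1) a).q (W (n + 1) a).q_str
    (Fin.cons ⟨⟨k, (W (n + 1) a).q⟩, (W (n + 1) a).q_str⟩ (tautW (W (n + 1)) a) : Fin (n + 3) → T Y _)
  rw [Fin.sum_univ_succ, Fin.val_zero, pow_zero, one_smul] at h0
  have e0 : evW Y P (W (n + 1)) (W (n + 1) a).q (W (n + 1) a).q_str
      ((Fin.cons ⟨⟨k, (W (n + 1) a).q⟩, (W (n + 1) a).q_str⟩ (tautW (W (n + 1)) a) :
        Fin (n + 3) → T Y _) ∘ (0 : Fin (n + 3)).succAbove) x =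
      evW Y P (W (n + 1)) (W (n + 1) a).q (W (n + 1) a).q_str (tautW (W (n + 1)) a) x :=
    evW_congr Y P _ rfl (fun l => by simp) x
  refine Eq.trans ?_ ((eq_neg_of_add_eq_zero_left h0).symm.trans e0)
  rw [← Finset.sum_neg_distrib]
  refine Finset.sum_congr rfl fun j _ => ?_
  rw [hy, Fin.val_succ, pow_succ, mul_neg_one, neg_smul, neg_neg]
  refine congrArg (fun z : Sec P _ => ((-1 : ℤ) ^ (j : ℕ)) • z) (evW_congr Y P _ rfl (fun l => ?_) x)
  refine Fin.cases ?_ (fun l => ?_) l <;> simp [Function.comp]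

/-- The Čech complex of an affine cover of an affine object is exact in positive degrees. -/
theorem isZero_cechH_of_allBC (hP : AllBC A P) (hU : A.aff U) (hY : ∀ i, A.aff (Y i).left)
    (hX : ∀ (n : ℕ) (a : Fin (n + 1) → ι), A.aff (∏ᶜ (Y ∘ a)).left)
    (hsur : ∀ p : PrimeSpectrum (Rc.obj (op U)), ∃ i, ∃ q : PrimeSpectrum (RingOf Rc (Y i).hom),
      PrimeSpectrum.comap (algebraMap (Rc.obj (op U)) (RingOf Rc (Y i).hom)) q = p) (n : ℕ) :
    IsZero (EtCech.cechH Y P.presheaf (n + 1)) := by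
  haveI : ∀ i, Module.Flat (Rc.obj (op U)) (RingOf Rc (Y i).hom) := fun i => A.flat _ hU (hY i)
  have hdd : ∀ m, (D Y P (m + 1)).comp (D Y P m) = 0 := fun m => LinearMap.ext fun x => by
    rw [LinearMap.comp_apply, LinearMap.zero_apply, ← toM_toC Y P x, ← toM_d, ← toM_d,
      Groth.Agent.H18Cech.d_d Y P.presheaf]
    exact funext fun a => map_zero _
  refine isZero_cechH_succ Y P.presheaf fun x hx => ?_
  have hex := exact_of_tensor (D Y P n) (D Y P (n + 1)) (hdd n) (fun i => RingOf Rc (Y i).hom) hsur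
    fun i => exact_lTensor_D hP hU hY hX i n (hdd n)
  obtain ⟨s, hs⟩ := (hex (toM Y P x)).1 (by rw [← toM_d, hx]; exact funext fun a => map_zero _)
  exact ⟨toC Y P s, toM_injective Y P (by rw [toM_d, toM_toC, hs])⟩

end Groth.Agent.H13AlgSp.AffVanish
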