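import Groth.Agent.H13AlgSp.AffVanish
import Mathlib.CategoryTheory.Sites.LocallyBijective
import Mathlib.CategoryTheory.Sites.Limits
import Mathlib.CategoryTheory.Filtered.Basic
import Mathlib.CategoryTheory.ConcreteCategory.Elementwise

/-!
Filtered colimits of sheaves evaluated on affine objects of a site.
-/

set_option autoImplicit false
set_option backward.isDefEq.respectTransparency false
set_option linter.style.haveILetI false

universe w v₁ u₁

open CategoryTheory CategoryTheory.Limits Opposite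
open Groth.Agent.H12AlgSp.BCMod

namespace Groth.Agent.H13AlgSp.AffColim

theorem exists_common_stage {J : Type*} [Category J] [IsFiltered J] {κ : Type*} [Finite κ] {i : J}
    (P : κ → ∀ k : J, (i ⟶ k) → Prop) (hex : ∀ s, ∃ (k : J) (f : i ⟶ k), P s k f)
    (hup : ∀ s k l (f : i ⟶ k) (g : k ⟶ l), P s k f → P s l (f ≫ g)) :
    ∃ (k : J) (f : i ⟶ k), ∀ s, P s k f := by
  classical
  haveI := Fintype.ofFinite κ
  suffices ∀ t : Finset κ, ∃ (k : J) (f : i ⟶ k), ∀ s ∈ t, P s k f by
    obtain ⟨k, f, h⟩ := this Finset.univ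
    exact ⟨k, f, fun s => h s (Finset.mem_univ s)⟩
  intro t
  induction t using Finset.induction with
  | empty => exact ⟨i, 𝟙 _, by simp⟩
  | @insert a t _ ih =>
    obtain ⟨k, f, h⟩ := ih
    obtain ⟨l, g, hg⟩ := hex a
    obtain ⟨m, p, q, e⟩ := IsFiltered.span f g
    refine ⟨m, f ≫ p, fun s hs => ?_⟩
    rcases Finset.mem_insert.1 hs with rfl | hs
    · rw [e]; exact hup _ _ _ _ _ hg
    · exact hup _ _ _ _ _ (h s hs)

variable {C : Type u₁} [Category.{v₁} C] {T : GrothendieckTopology C} {Rc : Cᵒᵖ ⥤ CommRingCat.{w}}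
  {J : Type w} [SmallCategory J] [IsFiltered J] [HasSheafify T AddCommGrpCat.{w}]

/-- A shortcut for sections. -/
abbrev sec (F : Sheaf T AddCommGrpCat.{w}) (E : C) := F.obj.obj (op E)

variable (A : AffSite T Rc) (D : J ⥤ Sheaf T AddCommGrpCat.{w})

/-- The comparison with the colimit of presheaves. -/
noncomputable abbrev preDesc : colimit (D ⋙ sheafToPresheaf T AddCommGrpCat.{w}) ⟶ (colimit D).obj :=
  colimit.desc _ ((sheafToPresheaf T AddCommGrpCat.{w}).mapCocone (colimit.cocone D))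

theorem preDesc_eq : ∃ e : (presheafToSheaf T AddCommGrpCat.{w}).obj
    (colimit (D ⋙ sheafToPresheaf T AddCommGrpCat.{w})) ≅ colimit D,
    preDesc D = CategoryTheory.toSheafify T _ ≫ e.hom.hom := by
  let hc := Sheaf.isColimitSheafifyCocone (colimit.cocone (D ⋙ sheafToPresheaf T AddCommGrpCat.{w}))
    (colimit.isColimit _)
  refine ⟨hc.coconePointUniqueUpToIso (colimit.isColimit D), colimit.hom_ext fun j => ?_⟩
  rw [colimit.ι_desc]
  have h := congrArg (fun m => m.hom) (hc.comp_coconePointUniqueUpToIso_hom (colimit.isColimit D) j)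
  refine h.symm.trans ?_
  rw [← Category.assoc]
  exact congrArg (· ≫ _) (Sheaf.sheafifyCocone_ι_app_val _ j)

variable [T.WEqualsLocallyBijective AddCommGrpCat.{w}]

theorem isLocallyBijective_preDesc :
    Presheaf.IsLocallyInjective T (preDesc D) ∧ Presheaf.IsLocallySurjective T (preDesc D) := by
  obtain ⟨e, he⟩ := preDesc_eq D
  haveI : IsIso e.hom.hom := inferInstanceAs (IsIso ((sheafToPresheaf T _).map e.hom))
  rw [he]
  exact ⟨inferInstance, inferInstance⟩

theorem preDesc_ι {j : J} (E : C) (s : sec (D.obj j) E) :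
    (preDesc D).app (op E) ((colimit.ι (D ⋙ sheafToPresheaf T AddCommGrpCat.{w}) j).app (op E) s) =
      (colimit.ι D j).hom.app (op E) s :=
  ConcreteCategory.congr_hom (congrArg (fun m => NatTrans.app m (op E))
    (colimit.ι_desc ((sheafToPresheaf T AddCommGrpCat.{w}).mapCocone (colimit.cocone D)) j)) s

variable {A}

omit [T.WEqualsLocallyBijective AddCommGrpCat.{w}] in
theorem sheaf_ext_arrows (F : Sheaf T AddCommGrpCat.{w}) {E : C} {κ : Type*} {Z : κ → C} {z : ∀ i, Z i ⟶ E}
    (h : Sieve.ofArrows Z z ∈ T E) {a b : sec F E} (hab : ∀ i, F.obj.map (z i).op a = F.obj.map (z i).op b) :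
    a = b := by
  refine (((isSheaf_iff_isSheaf_of_type _ _).1
    (Presheaf.isSheaf_comp_of_isSheaf T F.obj (CategoryTheory.forget AddCommGrpCat.{w}) F.property)) _ h).isSeparatedFor.ext ?_
  rintro Y k ⟨_, l, _, ⟨i⟩, rfl⟩
  change F.obj.map (l ≫ z i).op a = F.obj.map (l ≫ z i).op b
  simp only [op_comp, Functor.map_comp, CategoryTheory.comp_apply, hab i]

theorem colim_inj {E : C} (hE : A.aff E) {j : J} (s : sec (D.obj j) E)
    (h : (colimit.ι D j).hom.app (op E) s = 0) :
    ∃ (k : J) (f : j ⟶ k), (D.map f).hom.app (op E) s = 0 := by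
  haveI := (isLocallyBijective_preDesc D).1
  let ι' := fun k => colimit.ι (D ⋙ sheafToPresheaf T AddCommGrpCat.{w}) k
  have hR := Presheaf.equalizerSieve_mem T (preDesc D) ((ι' j).app (op E) s) 0
    (by rw [preDesc_ι, h, map_zero])
  obtain ⟨κ, _, Z, z, hZ, hzR, hmem, -⟩ := A.exists_refine _ hE hR
  have hex : ∀ i, ∃ (k : J) (f : j ⟶ k), (D.map f).hom.app (op (Z i)) ((D.obj j).obj.map (z i).op s) = 0 := fun i => by
    have h1 : (ι' j).app (op (Z i)) ((D.obj j).obj.map (z i).op s) = (ι' j).app (op (Z i)) 0 := by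
      refine (NatTrans.naturality_apply (ι' j) (z i).op s).trans ((hzR i).trans ?_)
      rw [map_zero, map_zero]
    obtain ⟨k, f, g, hfg⟩ := Concrete.isColimit_exists_of_rep_eq _
      (isColimitOfPreserves ((evaluation Cᵒᵖ AddCommGrpCat.{w}).obj (op (Z i)))
        (colimit.isColimit (D ⋙ sheafToPresheaf T AddCommGrpCat.{w}))) _ _ h1
    exact ⟨k, f, hfg.trans (map_zero _)⟩
  obtain ⟨k, f, hf⟩ := exists_common_stage _ hex fun i k l f g e => by
    rw [D.map_comp]
    exact (congrArg ((D.map g).hom.app _) e).trans (map_zero _)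
  refine ⟨k, f, sheaf_ext_arrows (D.obj k) hmem fun i => ?_⟩
  rw [map_zero]
  exact (NatTrans.naturality_apply (D.map f).hom (z i).op s).symm.trans (hf i)

theorem colim_surj {E : C} (hE : A.aff E) (s : sec (colimit D) E) :
    ∃ (j : J) (t : sec (D.obj j) E), (colimit.ι D j).hom.app (op E) t = s := by
  classical
  haveI := (isLocallyBijective_preDesc D).2
  let ι' := fun k => colimit.ι (D ⋙ sheafToPresheaf T AddCommGrpCat.{w}) k
  obtain ⟨κ, _, Z, z, hZ, hzR, hmem, -⟩ := A.exists_refine _ hE (Presheaf.imageSieve_mem T (preDesc D) s)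
  choose p hp using hzR
  choose j t ht using fun i => Concrete.isColimit_exists_rep _
    (isColimitOfPreserves ((evaluation Cᵒᵖ AddCommGrpCat.{w}).obj (op (Z i)))
      (colimit.isColimit (D ⋙ sheafToPresheaf T AddCommGrpCat.{w}))) (p i)
  haveI := Fintype.ofFinite κ
  obtain ⟨j₀, hj₀⟩ := IsFiltered.sup_objs_exists (Finset.univ.image j)
  let g : ∀ i, j i ⟶ j₀ := fun i => (hj₀ (Finset.mem_image_of_mem j (Finset.mem_univ i))).some
  let t₀ : ∀ i, sec (D.obj j₀) (Z i) := fun i => (D.map (g i)).hom.app _ (t i)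
  have ht₀ : ∀ i, (colimit.ι D j₀).hom.app _ (t₀ i) = (colimit D).obj.map (z i).op s := fun i => by
    refine (ConcreteCategory.congr_hom
      (congrArg (fun φ : D.obj (j i) ⟶ colimit D => φ.hom.app (op (Z i))) (colimit.w D (g i))) (t i)).trans ?_
    refine ((preDesc_ι D (Z i) (t i)).symm.trans (congrArg _ (ht i))).trans (hp i)
  choose W q₁ q₂ hW hpb _ using fun ab : κ × κ => A.exists_pullback (z ab.1) (z ab.2) hE (hZ _) (hZ _)
  have hex : ∀ ab : κ × κ, ∃ (k : J) (f : j₀ ⟶ k), (D.map f).hom.app (op (W ab))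
      ((D.obj j₀).obj.map (q₁ ab).op (t₀ ab.1) - (D.obj j₀).obj.map (q₂ ab).op (t₀ ab.2)) = 0 := fun ab => by
    refine colim_inj D (hW ab) _ ?_
    rw [map_sub, sub_eq_zero, NatTrans.naturality_apply, NatTrans.naturality_apply, ht₀, ht₀,
      ← CategoryTheory.comp_apply, ← CategoryTheory.comp_apply, ← Functor.map_comp, ← Functor.map_comp,
      ← op_comp, ← op_comp, (hpb ab).w]
  obtain ⟨k, f, hf⟩ := exists_common_stage _ hex fun i k l f g e => by
    rw [D.map_comp]
    exact (congrArg ((D.map g).hom.app _) e).trans (map_zero _)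
  let r : ∀ i, sec (D.obj k) (Z i) := fun i => (D.map f).hom.app _ (t₀ i)
  have hsh : Presieve.IsSheafFor ((D.obj k).obj ⋙ CategoryTheory.forget AddCommGrpCat.{w})
      (Presieve.ofArrows Z z) := by
    rw [Presieve.isSheafFor_iff_generate]
    exact ((isSheaf_iff_isSheaf_of_type _ _).1
      (Presheaf.isSheaf_comp_of_isSheaf T (D.obj k).obj (CategoryTheory.forget AddCommGrpCat.{w}) (D.obj k).property)) _ hmem
  have hcomp : Presieve.Arrows.Compatible ((D.obj k).obj ⋙ CategoryTheory.forget AddCommGrpCat.{w}) z r := by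
    intro a b Y ga gb hY
    change (D.obj k).obj.map ga.op (r a) = (D.obj k).obj.map gb.op (r b)
    rw [← (hpb (a, b)).lift_fst ga gb hY]
    conv_rhs => rw [← (hpb (a, b)).lift_snd ga gb hY]
    rw [op_comp, op_comp, Functor.map_comp, Functor.map_comp, CategoryTheory.comp_apply, CategoryTheory.comp_apply]
    refine congrArg _ ?_
    refine (NatTrans.naturality_apply (D.map f).hom (q₁ (a, b)).op (t₀ a)).symm.trans (Eq.trans ?_
      (NatTrans.naturality_apply (D.map f).hom (q₂ (a, b)).op (t₀ b)))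
    exact sub_eq_zero.1 ((map_sub _ _ _).symm.trans (hf (a, b)))
  obtain ⟨x, hx, -⟩ := (Presieve.isSheafFor_arrows_iff _ _).1 hsh r hcomp
  refine ⟨k, x, sheaf_ext_arrows (colimit D) hmem fun i => ?_⟩
  refine (NatTrans.naturality_apply (colimit.ι D k).hom (z i).op x).symm.trans ?_
  refine (congrArg _ (hx i)).trans ?_
  exact (ConcreteCategory.congr_hom
      (congrArg (fun φ : D.obj j₀ ⟶ colimit D => φ.hom.app (op (Z i))) (colimit.w D f)) (t₀ i)).trans (ht₀ i)

open Groth.Agent.H18Cech AffVanish in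
/-- A filtered colimit of sheaves acyclic on affines is acyclic on affines. -/
theorem isAffAcyclic_colimit (hiso : ∀ {E E' : C}, (E ≅ E') → A.aff E → A.aff E')
    (hD : ∀ j, IsAffAcyclic A (D.obj j).obj) : IsAffAcyclic A (colimit D).obj := by
  classical
  intro U _ ι _ Y hU hY hmem hsur p
  haveI := Fintype.ofFinite ι
  refine isZero_cechH_succ Y (colimit D).obj fun x hx => ?_
  have haff : ∀ (m : ℕ) (a : Fin (m + 1) → ι), A.aff (∏ᶜ (Y ∘ a)).left := aff_prod Y hiso hU hY
  choose j t ht using fun a : Fin (p + 1 + 1) → ι =>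
    colim_surj D (haff _ a) ((Pi.π (val Y (colimit D).obj (p + 1)) a).hom x)
  obtain ⟨j₀, hj₀⟩ := IsFiltered.sup_objs_exists (Finset.univ.image j)
  let g : ∀ a, j a ⟶ j₀ := fun a => (hj₀ (Finset.mem_image_of_mem j (Finset.mem_univ a))).some
  let x₀ : C' Y (D.obj j₀).obj (p + 1) :=
    (Concrete.productEquiv (val Y (D.obj j₀).obj (p + 1))).symm fun a => (D.map (g a)).hom.app _ (t a)
  have hx₀ : (mapC Y (colimit.ι D j₀).hom (p + 1)).hom x₀ = x := by
    apply (Concrete.productEquiv (val Y (colimit D).obj (p + 1))).injective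
    funext a
    rw [Concrete.productEquiv_apply_apply, Concrete.productEquiv_apply_apply]
    refine (π_mapC Y (colimit.ι D j₀).hom x₀ a).trans ?_
    refine (congrArg _ (Concrete.productEquiv_symm_apply_π (val Y (D.obj j₀).obj (p + 1)) _ a)).trans ?_
    exact (ConcreteCategory.congr_hom
      (congrArg (fun φ : D.obj (j a) ⟶ colimit D => φ.hom.app (op (∏ᶜ (Y ∘ a)).left)) (colimit.w D (g a))) (t a)).trans
      (ht a)
  have hmd : ∀ {F G : Sheaf T AddCommGrpCat.{w}} (φ : F ⟶ G) (n : ℕ) (y : C' Y F.obj n),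
      (mapC Y φ.hom (n + 1)).hom ((d Y F.obj n).hom y) = (d Y G.obj n).hom ((mapC Y φ.hom n).hom y) :=
    fun φ n y => (ConcreteCategory.congr_hom
      (((cechComplexFunctor Y).map (Functor.whiskerLeft (Over.forget U).op φ.hom)).comm n (n + 1)) y).symm
  have hex : ∀ a : Fin (p + 1 + 1 + 1) → ι, ∃ (k : J) (f : j₀ ⟶ k), (D.map f).hom.app _
      ((Pi.π (val Y (D.obj j₀).obj (p + 1 + 1)) a).hom ((d Y (D.obj j₀).obj (p + 1)).hom x₀)) = 0 := fun a => by
    refine colim_inj D (haff _ a) _ ?_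
    refine (π_mapC Y (colimit.ι D j₀).hom _ a).symm.trans ?_
    exact (congrArg (Pi.π (val Y (colimit D).obj (p + 1 + 1)) a).hom ((hmd (colimit.ι D j₀) _ x₀).trans
      ((congrArg (d Y (colimit D).obj (p + 1)).hom hx₀).trans hx))).trans (map_zero _)
  obtain ⟨k, f, hf⟩ := exists_common_stage _ hex fun a k l f g e => by
    rw [D.map_comp]
    exact (congrArg ((D.map g).hom.app _) e).trans (map_zero _)
  have hdk : (d Y (D.obj k).obj (p + 1)).hom ((mapC Y (D.map f).hom (p + 1)).hom x₀) = 0 := by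
    rw [← hmd (D.map f)]
    apply (Concrete.productEquiv (val Y (D.obj k).obj (p + 1 + 1))).injective
    funext a
    rw [Concrete.productEquiv_apply_apply, Concrete.productEquiv_apply_apply, map_zero]
    exact (π_mapC Y (D.map f).hom _ a).trans (hf a)
  obtain ⟨y, hy⟩ := exists_of_isZero_cechH_succ Y (D.obj k).obj (hD k U ι Y hU hY hmem hsur p) _ hdk
  refine ⟨(mapC Y (colimit.ι D k).hom p).hom y, ?_⟩
  refine ((hmd (colimit.ι D k) p y).symm.trans (congrArg _ hy)).trans ?_
  refine Eq.trans ?_ hx₀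
  apply (Concrete.productEquiv (val Y (colimit D).obj (p + 1))).injective
  funext a
  rw [Concrete.productEquiv_apply_apply, Concrete.productEquiv_apply_apply]
  refine (π_mapC Y (colimit.ι D k).hom _ a).trans ((congrArg _ (π_mapC Y (D.map f).hom x₀ a)).trans ?_)
  exact (ConcreteCategory.congr_hom
      (congrArg (fun φ : D.obj j₀ ⟶ colimit D => φ.hom.app (op (∏ᶜ (Y ∘ a)).left)) (colimit.w D f)) _).trans
    (π_mapC Y (colimit.ι D j₀).hom x₀ a).symm

end Groth.Agent.H13AlgSp.AffColim
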