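import Groth.Agent.H13AlgSp.RedInduced
import Groth.Agent.H12AlgSp.SepAbsolute
import Groth.Agent.H12AlgSp.EtSupport

/-!
# The complement of an affine open of a separated space in a chart
-/

universe u

open CategoryTheory CategoryTheory.Limits AlgebraicGeometry Opposite
open AlgSp Groth.Agent.H12AlgSp Groth.Agent.H13Cartier
open Groth.Agent.H14AlgSt (comap_eq_bot_iff_factors comap_vanishingIdeal_of_smooth)

namespace Groth.Agent.H13AlgSp

variable {S : Scheme.{u}} {X : Sp S}

theorem exists_redInduced_chart (hX : IsAlgSpace X) {T : Set (Points X)} (hT : IsClosed T) {U : Over S}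
    {p : (yon S).obj U ⟶ X} (hp : RepWith @Etale p) (hps : RepWith @Surjective p) :
    ∃ (Z : Sp S) (i : Z ⟶ X) (q : (yon S).obj (subOver U (Scheme.IdealSheafData.vanishingIdeal
        ⟨Points.ofPt p ⁻¹' T, hT.preimage (Points.continuous_ofPt p)⟩)) ⟶ Z),
      IsAlgSpace Z ∧ RepWith @IsClosedImmersion i ∧ Set.range (Points.map i) = T ∧
        IsPullback q ((yon S).map (subIncl U _)) i p := by
  let C : TopologicalSpace.Closeds U.left := ⟨Points.ofPt p ⁻¹' T, hT.preimage (Points.continuous_ofPt p)⟩
  let I := Scheme.IdealSheafData.vanishingIdeal C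
  obtain ⟨R, s, t, sq⟩ := hp.rep p
  obtain ⟨t, rfl⟩ := (yon S).map_surjective t
  have : Etale s.left := hp.property p _ s sq
  have : Etale t.left := hp.property p _ t sq.flip
  have key : I.comap s.left = I.comap t.left := by
    rw [comap_vanishingIdeal_of_smooth, comap_vanishingIdeal_of_smooth]
    congr 1
    ext r
    change Points.ofPt p (s.left r) ∈ T ↔ Points.ofPt p (t.left r) ∈ T
    rw [← ofPt_map s p r, ← ofPt_map t p r, sq.w]
  have hI : ∀ (A : Over S) (d d' : A ⟶ U), (yon S).map d ≫ p = (yon S).map d' ≫ p →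
      I.comap d.left = I.comap d'.left := fun A d d' e => by
    obtain ⟨l, hl⟩ := (yon S).map_surjective (sq.lift ((yon S).map d) ((yon S).map d') e)
    have h1 : l ≫ t = d := (yon S).map_injective (by rw [Functor.map_comp, hl, sq.lift_fst])
    have h2 : l ≫ s = d' := (yon S).map_injective (by rw [Functor.map_comp, hl, sq.lift_snd])
    rw [← h1, ← h2, Over.comp_left, Over.comp_left, Scheme.IdealSheafData.comap_comp,
      Scheme.IdealSheafData.comap_comp, key]
  obtain ⟨q, sqq⟩ := exists_isPullback_idealSub hI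
  have hq : RepWith @Etale q := repWith_of_isPullback sqq.flip hp
  have hqs : RepWith @Surjective q := repWith_of_isPullback sqq.flip hps
  have sqm : IsPullback (idealSubι p I) (Limits.diag (idealSub p I)) (Limits.diag X)
      (prod.map (idealSubι p I) (idealSubι p I)) := by
    have := isPullback_diag_prodMap (IsPullback.id_horiz (𝟙 (idealSub p I))) (F := idealSub p I)
    refine ⟨⟨by ext <;> simp⟩, ⟨PullbackCone.IsLimit.mk _ (fun c => c.snd ≫ prod.fst) (fun c => ?_) (fun c => ?_)
      fun c m h1 h2 => ?_⟩⟩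
    · have h₁ := c.condition =≫ prod.fst
      simp [Limits.prod.lift_fst] at h₁
      simp [h₁]
    · have h₁ := c.condition =≫ prod.fst
      have h₂ := c.condition =≫ prod.snd
      simp [Limits.prod.lift_fst, Limits.prod.lift_snd] at h₁ h₂
      apply Limits.prod.hom_ext
      · simp [Limits.prod.lift_fst]
      · rw [← cancel_mono (idealSubι p I)]
        simp [Limits.prod.lift_snd, ← h₂, ← h₁]
    · have h₁ := h2 =≫ prod.fst
      simpa [Limits.prod.lift_fst] using h₁
  have hZ : IsAlgSpace (idealSub p I) :=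
    ⟨representable_of_isPullback sqm hX.diag, _, q, hq, hqs⟩
  have hcl : RepWith @IsClosedImmersion (idealSubι p I) :=
    repWith_of_etale_cover (fun _ _ k (_ : IsClosedImmersion k) => inferInstanceAs (IsAffineHom k)) hZ hX hp hps sqq
      ((repWith_yon_map_iff _ _).2 (inferInstanceAs (IsClosedImmersion I.subschemeι)))
  refine ⟨_, idealSubι p I, q, hZ, hcl, ?_, sqq⟩
  ext x
  obtain ⟨u, rfl⟩ := surjective_ofPt_of_repWith le_rfl hps x
  have h := Set.ext_iff.mp (preimage_ofPt_range sqq) u
  rw [Set.mem_preimage] at h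
  rw [h, show Set.range (subIncl U I).left = I.support from I.range_subschemeι]
  exact Iff.of_eq (congrArg (fun Z : Set U.left => u ∈ Z) (Scheme.IdealSheafData.coe_support_vanishingIdeal C))

/-- Pullbacks of an affine scheme and an affine open of a chart are affine opens of the chart. -/
theorem isAffineHom_preimage [S.IsSeparated] (hsep : IsSeparatedSp X) {T U : Over S} [IsAffine T.left]
    {j : (yon S).obj T ⟶ X} (hj : RepWith @IsOpenImmersion j) (p : (yon S).obj U ⟶ X) (W : U.left.Opens)
    (hW : (W : Set U.left) = Points.ofPt p ⁻¹' Set.range (Points.ofPt j)) : IsAffineHom W.ι := by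
  refine ⟨fun A hA => ?_⟩
  rw [← Scheme.Hom.isAffineOpen_iff_of_isOpenImmersion W.ι, Scheme.Hom.image_preimage_eq_opensRange_inf,
    Scheme.Opens.opensRange_ι]
  let UA : Over S := Over.mk (A.ι ≫ U.hom)
  let a : UA ⟶ U := Over.homMk A.ι rfl
  haveI : IsAffine UA.left := hA
  let g : (yon S).obj UA ⟶ X := (yon S).map a ≫ p
  obtain ⟨P, snd, fst, sq⟩ := hj.rep g
  haveI hs : IsOpenImmersion snd.left := hj.property g fst snd sq
  obtain ⟨fst, rfl⟩ := (yon S).map_surjective fst
  haveI : IsAffine P.left := (isAffine_and_surjective_of_isSeparatedSp hsep sq).1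
  have h2 := preimage_ofPt_range sq
  rw [range_map_yon] at h2
  have e : (snd.left ≫ A.ι).opensRange = W ⊓ A := by
    apply TopologicalSpace.Opens.ext
    rw [Scheme.Hom.coe_opensRange, TopologicalSpace.Opens.coe_inf, hW,
      show Set.range ⇑(snd.left ≫ A.ι) = ⇑A.ι '' Set.range ⇑snd.left by
        rw [← Set.range_comp]; rfl, ← h2]
    ext z
    simp only [Set.mem_image, Set.mem_preimage, Set.mem_inter_iff]
    constructor
    · rintro ⟨y, hy, rfl⟩
      rw [ofPt_map a p y] at hy
      exact ⟨hy, y.2⟩
    · rintro ⟨hz, hzA⟩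
      refine ⟨⟨z, hzA⟩, ?_, rfl⟩
      rw [ofPt_map a p]
      exact hz
  rw [← e]
  exact isAffineOpen_opensRange _

end Groth.Agent.H13AlgSp
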