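import Groth.Agent.H02CA.Adeq.Big.LanMono
import Groth.Prelude.Def_AlgSpOX2

/-!
Inverse image of abelian sheaves along a representable morphism preserves monomorphisms.
-/

set_option autoImplicit false
set_option backward.isDefEq.respectTransparency false
set_option linter.style.haveILetI false

universe u

open CategoryTheory CategoryTheory.Limits AlgebraicGeometry Opposite
open AlgSp

namespace Groth.Agent.H13AlgSp.AffVanish

variable {S : Scheme.{u}} {X Y : Sp S} {f : X ⟶ Y} (hf : Representable f) {E' : EtOver X}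

/-- The morphism underlying a map to a base change. -/
noncomputable abbrev bcProj {E : EtOver Y} (a : E' ⟶ (EtOver.bc hf).obj E) : E'.obj.left ⟶ E.obj.left :=
  a.hom.left ≫ hf.snd E.obj.hom

theorem bcProj_w {E : EtOver Y} (a : E' ⟶ (EtOver.bc hf).obj E) :
    (yon S).map (bcProj hf a) ≫ E.obj.hom = E'.obj.hom ≫ f := by
  rw [Functor.map_comp, Category.assoc, ← hf.w E.obj.hom]
  exact (Category.assoc _ _ _).symm.trans (congrArg (· ≫ f) (EtOver.w a))

theorem bcProj_ext {E : EtOver Y} (a b : E' ⟶ (EtOver.bc hf).obj E) (h : bcProj hf a = bcProj hf b) : a = b :=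
  EtOver.hom_ext _ _ (hf.hom_ext ((EtOver.w a).trans (EtOver.w b).symm) h)

/-- A map to a base change from its underlying morphism. -/
noncomputable abbrev toBc {E : EtOver Y} (w : E'.obj.left ⟶ E.obj.left)
    (hw : E'.obj.hom ≫ f = (yon S).map w ≫ E.obj.hom) : E' ⟶ (EtOver.bc hf).obj E :=
  EtOver.homMk (hf.lift E'.obj.hom w hw) (hf.lift_fst _ _ _)

theorem bcProj_toBc {E : EtOver Y} (w : E'.obj.left ⟶ E.obj.left)
    (hw : E'.obj.hom ≫ f = (yon S).map w ≫ E.obj.hom) : bcProj hf (toBc hf w hw) = w :=
  hf.lift_snd _ _ _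

theorem bcProj_comp {E₁ E₂ : EtOver Y} (a : E' ⟶ (EtOver.bc hf).obj E₁) (g : E₁ ⟶ E₂) :
    bcProj hf (a ≫ (EtOver.bc hf).map g) = bcProj hf a ≫ g.hom.left := by
  change (a.hom.left ≫ (EtOver.bcMap hf g).hom.left) ≫ hf.snd E₂.obj.hom = _
  rw [Category.assoc, EtOver.bcMap_snd, ← Category.assoc]

theorem isCofilteredOrEmpty_bc (E' : EtOver X) : IsCofilteredOrEmpty (StructuredArrow E' (EtOver.bc hf)) := by
  constructor
  · intro A B
    let h₂ := B.right.property.1
    have hAB : (yon S).map (bcProj hf B.hom) ≫ B.right.obj.hom = (yon S).map (bcProj hf A.hom) ≫ A.right.obj.hom :=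
      (bcProj_w hf B.hom).trans (bcProj_w hf A.hom).symm
    let w : E'.obj.left ⟶ (EtOver.prodObj A.right B.right).obj.left :=
      h₂.lift' (bcProj hf B.hom) (bcProj hf A.hom) hAB
    have hw : E'.obj.hom ≫ f = (yon S).map w ≫ (EtOver.prodObj A.right B.right).obj.hom := by
      change _ = (yon S).map w ≫ (yon S).map (h₂.snd A.right.obj.hom) ≫ A.right.obj.hom
      rw [← Category.assoc, ← Functor.map_comp, Functor.relativelyRepresentable.lift'_snd]
      exact (bcProj_w hf A.hom).symm
    refine ⟨StructuredArrow.mk (toBc hf w hw),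
      StructuredArrow.homMk (EtOver.prodFst _ _) (bcProj_ext hf _ _ ?_),
      StructuredArrow.homMk (EtOver.prodSnd _ _) (bcProj_ext hf _ _ ?_), trivial⟩
    · exact (bcProj_comp hf (toBc hf w hw) _).trans ((congrArg (· ≫ _) (bcProj_toBc hf w hw)).trans
        (Functor.relativelyRepresentable.lift'_snd _ _ _ _))
    · exact (bcProj_comp hf (toBc hf w hw) _).trans ((congrArg (· ≫ _) (bcProj_toBc hf w hw)).trans
        (Functor.relativelyRepresentable.lift'_fst _ _ _ _))
  · intro A B g g'
    let d : B.right ⟶ EtOver.prodObj B.right B.right :=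
      (EtOver.prodIsLimit B.right B.right).lift (BinaryFan.mk (𝟙 _) (𝟙 _))
    let c : A.right ⟶ EtOver.prodObj B.right B.right :=
      (EtOver.prodIsLimit B.right B.right).lift (BinaryFan.mk g.right g'.right)
    have d1 : d ≫ EtOver.prodFst _ _ = 𝟙 _ :=
      (EtOver.prodIsLimit B.right B.right).fac (BinaryFan.mk (𝟙 _) (𝟙 _)) ⟨WalkingPair.left⟩
    have d2 : d ≫ EtOver.prodSnd _ _ = 𝟙 _ :=
      (EtOver.prodIsLimit B.right B.right).fac (BinaryFan.mk (𝟙 _) (𝟙 _)) ⟨WalkingPair.right⟩
    have c1 : c ≫ EtOver.prodFst _ _ = g.right :=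
      (EtOver.prodIsLimit B.right B.right).fac (BinaryFan.mk g.right g'.right) ⟨WalkingPair.left⟩
    have c2 : c ≫ EtOver.prodSnd _ _ = g'.right :=
      (EtOver.prodIsLimit B.right B.right).fac (BinaryFan.mk g.right g'.right) ⟨WalkingPair.right⟩
    have hg : bcProj hf A.hom ≫ g.right.hom.left = bcProj hf A.hom ≫ g'.right.hom.left := by
      rw [← bcProj_comp, ← bcProj_comp, StructuredArrow.w g, StructuredArrow.w g']
    have hc : bcProj hf A.hom ≫ c.hom.left = (bcProj hf A.hom ≫ g.right.hom.left) ≫ d.hom.left := by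
      have e1 := congrArg (fun k => k.hom.left) d1
      have e2 := congrArg (fun k => k.hom.left) d2
      have e3 := congrArg (fun k => k.hom.left) c1
      have e4 := congrArg (fun k => k.hom.left) c2
      apply Functor.relativelyRepresentable.hom_ext' B.right.property.1
      · exact (Category.assoc _ _ _).trans ((congrArg (_ ≫ ·) e4).trans
          (hg.symm.trans ((Category.comp_id _).symm.trans ((congrArg (_ ≫ ·) e2.symm).trans
            (Category.assoc _ _ _).symm))))
      · exact (Category.assoc _ _ _).trans ((congrArg (_ ≫ ·) e3).trans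
          ((Category.comp_id _).symm.trans ((congrArg (_ ≫ ·) e1.symm).trans (Category.assoc _ _ _).symm)))
    let w : E'.obj.left ⟶ (EtOver.pullbackObj c d).obj.left :=
      pullback.lift (bcProj hf A.hom) (bcProj hf A.hom ≫ g.right.hom.left) hc
    have hwq : w ≫ (EtOver.pullbackFst c d).hom.left = bcProj hf A.hom := pullback.lift_fst _ _ _
    have hw : E'.obj.hom ≫ f = (yon S).map w ≫ (EtOver.pullbackObj c d).obj.hom := by
      rw [← EtOver.w (EtOver.pullbackFst c d), ← Category.assoc ((yon S).map w), ← Functor.map_comp, hwq]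
      exact (bcProj_w hf A.hom).symm
    have hq : EtOver.pullbackFst c d ≫ g.right = EtOver.pullbackFst c d ≫ g'.right := by
      have h1 : EtOver.pullbackFst c d ≫ g.right = EtOver.pullbackSnd c d := by
        rw [← c1, ← Category.assoc, EtOver.pullback_condition, Category.assoc, d1, Category.comp_id]
      have h2 : EtOver.pullbackFst c d ≫ g'.right = EtOver.pullbackSnd c d := by
        rw [← c2, ← Category.assoc, EtOver.pullback_condition, Category.assoc, d2, Category.comp_id]
      rw [h1, h2]
    refine ⟨StructuredArrow.mk (toBc hf w hw),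
      StructuredArrow.homMk (EtOver.pullbackFst c d) (bcProj_ext hf _ _ ?_), ?_⟩
    · exact (bcProj_comp hf (toBc hf w hw) _).trans ((congrArg (· ≫ _) (bcProj_toBc hf w hw)).trans hwq)
    · exact StructuredArrow.ext _ _ hq

theorem preservesMonomorphisms_lan_of_colim {C : Type (u + 1)} [Category.{u} C] {D : Type (u + 1)} [Category.{u} D]
    (F : C ⥤ D)
    (h : ∀ (Z : D) (P Q : C ⥤ AddCommGrpCat.{u + 1}) (φ : P ⟶ Q) [Mono φ],
      Mono (colim.map (Functor.whiskerLeft (CostructuredArrow.proj F Z) φ))) :
    (F.lan : (C ⥤ AddCommGrpCat.{u + 1}) ⥤ _).PreservesMonomorphisms := by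
  refine ⟨fun {P Q} φ hφ => ?_⟩
  haveI : ∀ Z, Mono ((F.lan.map φ).app Z) := fun Z => by
    let hP : IsColimit ((Functor.LeftExtension.mk (F.leftKanExtension P) (F.leftKanExtensionUnit P)).coconeAt Z) :=
      F.isPointwiseLeftKanExtensionLeftKanExtensionUnit P Z
    let hQ : IsColimit ((Functor.LeftExtension.mk (F.leftKanExtension Q) (F.leftKanExtensionUnit Q)).coconeAt Z) :=
      F.isPointwiseLeftKanExtensionLeftKanExtensionUnit Q Z
    let eP := hP.coconePointUniqueUpToIso (colimit.isColimit _)
    let eQ := hQ.coconePointUniqueUpToIso (colimit.isColimit _)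
    have key : (F.lan.map φ).app Z ≫ eQ.hom =
        eP.hom ≫ colim.map (Functor.whiskerLeft (CostructuredArrow.proj F Z) φ) := by
      refine hP.hom_ext fun T => ?_
      have hη : ∀ x : C, (F.leftKanExtensionUnit P).app x ≫ (F.lan.map φ).app (F.obj x) =
          φ.app x ≫ (F.leftKanExtensionUnit Q).app x :=
        fun x => (F.leftKanExtension P).descOfIsLeftKanExtension_fac_app (F.leftKanExtensionUnit P)
          (F.leftKanExtension Q) (φ ≫ F.leftKanExtensionUnit Q) x
      have eP1 := hP.comp_coconePointUniqueUpToIso_hom (colimit.isColimit _) T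
      have eQ1 := hQ.comp_coconePointUniqueUpToIso_hom (colimit.isColimit _) T
      change ((F.leftKanExtensionUnit P).app T.left ≫ (F.leftKanExtension P).map T.hom) ≫
        (F.lan.map φ).app Z ≫ eQ.hom = _
      calc _ = ((F.leftKanExtensionUnit P).app T.left ≫ (F.lan.map φ).app (F.obj T.left)) ≫
            (F.leftKanExtension Q).map T.hom ≫ eQ.hom := by
              simp only [Category.assoc]
              exact congrArg (_ ≫ ·) ((F.lan.map φ).naturality_assoc T.hom eQ.hom)
        _ = φ.app T.left ≫ ((F.leftKanExtensionUnit Q).app T.left ≫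
            (F.leftKanExtension Q).map T.hom) ≫ eQ.hom := by
              rw [hη]; simp only [Category.assoc]
        _ = φ.app T.left ≫ colimit.ι (CostructuredArrow.proj F Z ⋙ Q) T := congrArg (_ ≫ ·) eQ1
        _ = colimit.ι (CostructuredArrow.proj F Z ⋙ P) T ≫
            colim.map (Functor.whiskerLeft (CostructuredArrow.proj F Z) φ) :=
              (ι_colimMap (Functor.whiskerLeft (CostructuredArrow.proj F Z) φ) T).symm
        _ = _ := (congrArg (· ≫ colim.map (Functor.whiskerLeft (CostructuredArrow.proj F Z) φ)) eP1.symm).trans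
              (Category.assoc _ _ _)
    haveI := h Z P Q φ
    have : Mono ((F.lan.map φ).app Z ≫ eQ.hom) := by rw [key]; exact @mono_comp _ _ _ _ _ eP.hom inferInstance _ this
    exact mono_of_mono _ eQ.hom
  exact NatTrans.mono_of_mono_app _

theorem preservesMonomorphisms_pullEt : (pullEt hf AddCommGrpCat.{u + 1}).PreservesMonomorphisms := by
  haveI : ((EtOver.bc hf).op.lan : ((EtOver Y)ᵒᵖ ⥤ AddCommGrpCat.{u + 1}) ⥤
      ((EtOver X)ᵒᵖ ⥤ AddCommGrpCat.{u + 1})).PreservesMonomorphisms := by
    refine preservesMonomorphisms_lan_of_colim _ fun Z P Q φ hφ => ?_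
    haveI := isCofilteredOrEmpty_bc hf Z.unop
    let e := structuredArrowOpEquivalence (EtOver.bc hf) Z.unop
    haveI : Mono (Functor.whiskerLeft (CostructuredArrow.proj (EtOver.bc hf).op Z) φ) :=
      @NatTrans.mono_of_mono_app _ _ _ _ _ _ _ fun x => inferInstanceAs (Mono (φ.app _))
    by_cases hne : Nonempty (StructuredArrow Z.unop (EtOver.bc hf))
    · haveI := hne
      haveI : IsCofiltered (StructuredArrow Z.unop (EtOver.bc hf)) := {}
      haveI : IsFiltered (CostructuredArrow (EtOver.bc hf).op Z) := IsFiltered.of_equivalence e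
      haveI : HasFilteredColimitsOfSize.{u, u + 1} AddCommGrpCat.{u + 1} :=
        hasFilteredColimitsOfSize_of_univLE.{u, u + 1, u + 1, u + 1}
      haveI : AB5OfSize.{u, u + 1} AddCommGrpCat.{u + 1} :=
        AB5OfSize_of_univLE.{u, u + 1, u + 1, u + 1} AddCommGrpCat.{u + 1}
      haveI : PreservesFiniteLimits (colim (J := CostructuredArrow (EtOver.bc hf).op Z)
        (C := AddCommGrpCat.{u + 1})) := inferInstance
      exact (colim (J := CostructuredArrow (EtOver.bc hf).op Z) (C := AddCommGrpCat.{u + 1})).map_mono _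
    · haveI : IsEmpty (CostructuredArrow (EtOver.bc hf).op Z) :=
        ⟨fun T => hne ⟨(e.inverse.obj T).unop⟩⟩
      have h0 : IsZero ((colim (J := CostructuredArrow (EtOver.bc hf).op Z)).obj
          (CostructuredArrow.proj (EtOver.bc hf).op Z ⋙ P)) :=
        (IsZero.iff_id_eq_zero _).2 (colimit.hom_ext fun j => isEmptyElim j)
      exact ⟨fun a b _ => h0.eq_of_tgt a b⟩
  haveI : (Functor.sheafPullbackConstruction.sheafPullback (EtOver.bc hf) AddCommGrpCat.{u + 1}
      (etTop Y) (etTop X)).PreservesMonomorphisms := by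
    haveI : (sheafToPresheaf (etTop Y) AddCommGrpCat.{u + 1}).PreservesMonomorphisms :=
      Functor.preservesMonomorphisms_of_adjunction (sheafificationAdjunction _ _)
    haveI : (presheafToSheaf (etTop X) AddCommGrpCat.{u + 1}).PreservesMonomorphisms :=
      preservesMonomorphisms_of_preservesLimitsOfShape _
    unfold Functor.sheafPullbackConstruction.sheafPullback; infer_instance
  exact Functor.PreservesMonomorphisms.of_iso (Functor.sheafPullbackConstruction.sheafPullbackIso
    (EtOver.bc hf) AddCommGrpCat.{u + 1} (etTop Y) (etTop X)).symm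

theorem injective_push (I : AbEt X) [Injective I] : Injective ((pushEt hf AddCommGrpCat.{u + 1}).obj I) := by
  haveI := preservesMonomorphisms_pullEt hf
  exact Injective.injective_of_adjoint (pullPushAdjEt hf AddCommGrpCat.{u + 1}) I

end Groth.Agent.H13AlgSp.AffVanish
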