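import Groth.Agent.H13AlgSp.AffPush
import Groth.Agent.H13AlgSp.PullMono
import Groth.Agent.H12AlgSp.EtNbhd
import Mathlib.GroupTheory.QuotientGroup.Basic

/-!
Cohomology of sheaves acyclic on affines is unchanged by direct image along an affine morphism.
-/

set_option autoImplicit false
set_option backward.isDefEq.respectTransparency false
set_option linter.style.haveILetI false

universe w v u

open CategoryTheory CategoryTheory.Limits AlgebraicGeometry Opposite CategoryTheory.Abelian
open AlgSp Groth.Agent.H12AlgSp.BCMod Groth.Agent.H12AlgSp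

namespace Groth.Agent.H13AlgSp.AffVanish

section Shift

variable {C : Type u} [Category.{v} C] [Abelian C] [HasExt.{w} C] {T : ShortComplex C} (hT : T.ShortExact)
  [Injective T.X₂] (Z : C) (n : ℕ)

/-- The connecting map. -/
noncomputable def connMap : Ext.{w} Z T.X₃ n →+ Ext.{w} Z T.X₁ (n + 1) :=
  hT.extClass.postcomp Z rfl

/-- The image of the middle term. -/
noncomputable def midRange : AddSubgroup (Ext.{w} Z T.X₃ n) :=
  ((Ext.mk₀ T.g).postcomp Z (add_zero n)).range

theorem connMap_surjective : Function.Surjective (connMap hT Z n) := fun x =>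
  Ext.covariant_sequence_exact₁ Z hT x (Ext.eq_zero_of_injective (n := n) _) rfl

omit [Injective T.X₂] in
theorem connMap_ker : (connMap hT Z n).ker = midRange (T := T) Z n := by
  ext x
  constructor
  · intro hx
    obtain ⟨y, hy⟩ := Ext.covariant_sequence_exact₃ Z hT x rfl hx
    exact ⟨y, hy⟩
  · rintro ⟨y, rfl⟩
    change (y.comp (Ext.mk₀ T.g) (add_zero n)).comp hT.extClass rfl = 0
    rw [Ext.comp_assoc_of_second_deg_zero, ShortComplex.ShortExact.comp_extClass, Ext.comp_zero]

/-- Dimension shifting. -/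
noncomputable def connEquiv : Ext.{w} Z T.X₃ n ⧸ midRange (T := T) Z n ≃+ Ext.{w} Z T.X₁ (n + 1) :=
  (QuotientAddGroup.quotientAddEquivOfEq (connMap_ker hT Z n).symm).trans
    (QuotientAddGroup.quotientKerEquivOfSurjective _ (connMap_surjective hT Z n))

theorem midRange_eq_bot : midRange (T := T) Z (n + 1) = ⊥ := by
  refine (AddSubgroup.eq_bot_iff_forall _).2 ?_
  rintro _ ⟨x, rfl⟩
  rw [Ext.eq_zero_of_injective x, map_zero]

end Shift

section Glob

variable {S : Scheme.{w}} {X Y : Sp S} {f : X ⟶ Y} (hf : Representable f)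

/-- Maps factoring through base changes. -/
def bcSieve (E' : EtOver X) : Sieve E' where
  arrows P _ := Nonempty (StructuredArrow P (EtOver.bc hf))
  downward_closed := fun {_ _ _} h g => h.map fun A => StructuredArrow.mk (g ≫ A.hom)

variable {F : AbEt X} (t : (Functor.const (EtOver Y)ᵒᵖ).obj (AddCommGrpCat.of (ULift.{w + 1} ℤ)) ⟶
  ((pushEt hf AddCommGrpCat.{w + 1}).obj F).obj)

theorem indep {P : EtOver X} {E₁ E₂ : EtOver Y} (a : P ⟶ (EtOver.bc hf).obj E₁) (b : P ⟶ (EtOver.bc hf).obj E₂) :
    (show AddCommGrpCat.of (ULift.{w + 1} ℤ) ⟶ F.obj.obj (op ((EtOver.bc hf).obj E₁)) from t.app (op E₁)) ≫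
        F.obj.map a.op =
      (show AddCommGrpCat.of (ULift.{w + 1} ℤ) ⟶ F.obj.obj (op ((EtOver.bc hf).obj E₂)) from t.app (op E₂)) ≫
        F.obj.map b.op := by
  haveI := isCofilteredOrEmpty_bc hf P
  obtain ⟨C, α, β, -⟩ := IsCofilteredOrEmpty.cone_objs (StructuredArrow.mk a) (StructuredArrow.mk b)
  have h₁ : (show AddCommGrpCat.of (ULift.{w + 1} ℤ) ⟶ _ from t.app (op E₁)) ≫
      F.obj.map ((EtOver.bc hf).map α.right).op = t.app (op C.right) :=
    (t.naturality α.right.op).symm.trans (Category.id_comp _)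
  have h₂ : (show AddCommGrpCat.of (ULift.{w + 1} ℤ) ⟶ _ from t.app (op E₂)) ≫
      F.obj.map ((EtOver.bc hf).map β.right).op = t.app (op C.right) :=
    (t.naturality β.right.op).symm.trans (Category.id_comp _)
  have ha : a = C.hom ≫ (EtOver.bc hf).map α.right := (StructuredArrow.w α).symm
  have hb : b = C.hom ≫ (EtOver.bc hf).map β.right := (StructuredArrow.w β).symm
  rw [ha, hb, op_comp, op_comp, Functor.map_comp, Functor.map_comp, ← Category.assoc, ← Category.assoc, h₁, h₂]

variable (hcov : ∀ E' : EtOver X, bcSieve hf E' ∈ etTop X E')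

/-- The covering by maps factoring through base changes. -/
abbrev bcCover (E' : EtOver X) : (etTop X).Cover E' := ⟨bcSieve hf E', hcov E'⟩

/-- Gluing. -/
noncomputable def glueApp (E' : EtOver X) : AddCommGrpCat.of (ULift.{w + 1} ℤ) ⟶ F.obj.obj (op E') :=
  F.property.amalgamate (bcCover hf hcov E')
    (fun I => t.app (op (Classical.choice I.hf).right) ≫ F.obj.map (Classical.choice I.hf).hom.op)
    (fun I₁ I₂ r => by
      rw [Category.assoc, Category.assoc, ← Functor.map_comp, ← Functor.map_comp, ← op_comp, ← op_comp]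
      exact indep hf t _ _)

theorem glueApp_map {P E' : EtOver X} (g : P ⟶ E') {E : EtOver Y} (a : P ⟶ (EtOver.bc hf).obj E) :
    glueApp hf t hcov E' ≫ F.obj.map g.op =
      (show AddCommGrpCat.of (ULift.{w + 1} ℤ) ⟶ F.obj.obj (op ((EtOver.bc hf).obj E)) from t.app (op E)) ≫
        F.obj.map a.op := by
  have hg : (bcSieve hf E').arrows g := ⟨StructuredArrow.mk a⟩
  exact (F.property.amalgamate_map (bcCover hf hcov E') _ _ ⟨P, g, hg⟩).trans (indep hf t _ _)

/-- Gluing. -/
noncomputable def glue : (Functor.const (EtOver X)ᵒᵖ).obj (AddCommGrpCat.of (ULift.{w + 1} ℤ)) ⟶ F.obj where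
  app E' := glueApp hf t hcov E'.unop
  naturality {A B} h := by
    refine F.property.hom_ext (bcCover hf hcov B.unop) _ _ fun I => ?_
    obtain ⟨J⟩ := I.hf
    refine ((congrArg (· ≫ F.obj.map I.f.op) (Category.id_comp _)).trans (glueApp_map hf t hcov I.f J.hom)).trans ?_
    refine (glueApp_map hf t hcov (I.f ≫ h.unop) J.hom).symm.trans ?_
    rw [op_comp, Functor.map_comp, Quiver.Hom.op_unop, Category.assoc]

theorem glue_bc (E : EtOver Y) :
    (glue hf t hcov).app (op ((EtOver.bc hf).obj E)) = t.app (op E) := by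
  have := glueApp_map hf t hcov (𝟙 ((EtOver.bc hf).obj E)) (𝟙 ((EtOver.bc hf).obj E))
  rw [op_id, CategoryTheory.Functor.map_id, Category.comp_id] at this
  exact this.trans (Category.comp_id _)

/-- The constant integers. -/
noncomputable abbrev intEt (X : Sp S) : AbEt X :=
  (constantSheaf (etTop X) AddCommGrpCat.{w + 1}).obj (AddCommGrpCat.of (ULift.{w + 1} ℤ))

/-- Sections of a sheaf on a site as maps out of the constant integers. -/
noncomputable abbrev intHomEquiv (X : Sp S) (G : AbEt X) :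
    (intEt X ⟶ G) ≃ ((Functor.const (EtOver X)ᵒᵖ).obj (AddCommGrpCat.of (ULift.{w + 1} ℤ)) ⟶ G.obj) :=
  (sheafificationAdjunction (etTop X) AddCommGrpCat.{w + 1}).homEquiv _ G

/-- The comparison of constant sheaves. -/
noncomputable def intPush : intEt Y ⟶ (pushEt hf AddCommGrpCat.{w + 1}).obj (intEt X) :=
  (intHomEquiv Y _).symm
    { app := fun E => (intHomEquiv X (intEt X) (𝟙 _)).app (op ((EtOver.bc hf).obj E.unop))
      naturality := fun _ _ h => (intHomEquiv X (intEt X) (𝟙 _)).naturality ((EtOver.bc hf).map h.unop).op }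

theorem intHomEquiv_push (φ : intEt X ⟶ F) (E : EtOver Y) :
    (intHomEquiv Y _ (intPush hf ≫ (pushEt hf AddCommGrpCat.{w + 1}).map φ)).app (op E) =
      (intHomEquiv X F φ).app (op ((EtOver.bc hf).obj E)) := by
  have h₁ : intHomEquiv Y _ (intPush hf ≫ (pushEt hf AddCommGrpCat.{w + 1}).map φ) =
      intHomEquiv Y _ (intPush hf) ≫ ((pushEt hf AddCommGrpCat.{w + 1}).map φ).hom :=
    (sheafificationAdjunction (etTop Y) AddCommGrpCat.{w + 1}).homEquiv_naturality_right _ _
  have h₂ : intHomEquiv X F φ = intHomEquiv X _ (𝟙 _) ≫ φ.hom :=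
    (congrArg _ (Category.id_comp φ).symm).trans
      ((sheafificationAdjunction (etTop X) AddCommGrpCat.{w + 1}).homEquiv_naturality_right _ _)
  rw [h₁, h₂, intPush, Equiv.apply_symm_apply]
  rfl

include hcov in
theorem bijective_intPush (F : AbEt X) :
    Function.Bijective fun φ : intEt X ⟶ F => intPush hf ≫ (pushEt hf AddCommGrpCat.{w + 1}).map φ := by
  constructor
  · intro φ ψ h
    apply (intHomEquiv X F).injective
    ext E' : 2
    refine F.property.hom_ext (bcCover hf hcov E'.unop) _ _ fun I => ?_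
    obtain ⟨J⟩ := I.hf
    have key : ∀ θ : intEt X ⟶ F, (intHomEquiv X F θ).app E' ≫ F.obj.map I.f.op =
        (show AddCommGrpCat.of (ULift.{w + 1} ℤ) ⟶ _ from
          (intHomEquiv Y _ (intPush hf ≫ (pushEt hf AddCommGrpCat.{w + 1}).map θ)).app (op J.right)) ≫
          F.obj.map J.hom.op := by
      intro θ
      rw [intHomEquiv_push]
      exact ((intHomEquiv X F θ).naturality I.f.op).symm.trans ((intHomEquiv X F θ).naturality J.hom.op)
    exact (key φ).trans ((congrArg (fun s : intEt Y ⟶ (pushEt hf AddCommGrpCat.{w + 1}).obj F =>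
      (show AddCommGrpCat.of (ULift.{w + 1} ℤ) ⟶ _ from (intHomEquiv Y _ s).app (op J.right)) ≫
        F.obj.map J.hom.op) h).trans (key ψ).symm)
  · intro ψ
    refine ⟨(intHomEquiv X F).symm (glue hf (intHomEquiv Y _ ψ) hcov), (intHomEquiv Y _).injective ?_⟩
    ext E : 2
    refine (intHomEquiv_push hf _ E.unop).trans ?_
    rw [Equiv.apply_symm_apply]
    exact glue_bc hf _ hcov E.unop

/-- Degree zero. -/
noncomputable def hPushZero (F : AbEt X) :
    HEt X F 0 ≃+ HEt Y ((pushEt hf AddCommGrpCat.{w + 1}).obj F) 0 :=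
  (Ext.addEquiv₀.trans (AddEquiv.ofBijective
    (AddMonoidHom.mk' (fun φ : intEt X ⟶ F => intPush hf ≫ (pushEt hf AddCommGrpCat.{w + 1}).map φ)
      fun φ ψ => by rw [Functor.map_add, Preadditive.comp_add])
    (bijective_intPush hf hcov F))).trans Ext.addEquiv₀.symm

theorem hPushZero_natural {F G : AbEt X} (φ : F ⟶ G) (x : HEt X F 0) :
    hPushZero hf hcov G (Ext.comp x (Ext.mk₀ φ) (add_zero 0)) =
      Ext.comp (hPushZero hf hcov F x) (Ext.mk₀ ((pushEt hf AddCommGrpCat.{w + 1}).map φ)) (add_zero 0) := by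
  obtain ⟨x, rfl⟩ := (Ext.mk₀_bijective _ _).surjective x
  rw [Ext.mk₀_comp_mk₀]
  have : ∀ {F : AbEt X} (y : intEt X ⟶ F), hPushZero hf hcov F (Ext.mk₀ y) =
      Ext.mk₀ (intPush hf ≫ (pushEt hf AddCommGrpCat.{w + 1}).map y) := fun {F} y =>
    congrArg (fun z => Ext.mk₀ (intPush hf ≫ (pushEt hf AddCommGrpCat.{w + 1}).map z))
      (Ext.addEquiv₀.apply_symm_apply y)
  rw [this, this, Ext.mk₀_comp_mk₀, Functor.map_comp, Category.assoc]

include hcov in
/-- Affine morphisms do not change the cohomology of sheaves acyclic on affines. -/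
theorem nonempty_hEt_push (haff : IsAffineMor f) (n : ℕ) : ∀ F : AbEt X, IsAffAcyclic (etAff X) F.obj →
    Nonempty (HEt X F n ≃+ HEt Y ((pushEt hf AddCommGrpCat.{w + 1}).obj F) n) := by
  induction n with
  | zero => exact fun F _ => ⟨hPushZero hf hcov F⟩
  | succ n ih =>
    intro F hF
    let T := ShortComplex.mk (Injective.ι F) (cokernel.π (Injective.ι F)) (cokernel.condition _)
    have hT : T.ShortExact :=
      { exact := ShortComplex.exact_of_g_is_cokernel _ (cokernelIsCokernel _) }
    haveI : Injective T.X₂ := inferInstanceAs (Injective (Injective.under F))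
    have hQ : IsAffAcyclic (etAff X) T.X₃.obj :=
      @isAffAcyclic_X₃ _ _ _ _ (etAff X) _ _ _ _ aff_iso T hT hF
        (@isAffAcyclic_of_injective _ _ _ _ (etAff X) _ _ T.X₂ inferInstance)
    haveI : PreservesLimitsOfSize.{0, 0} (pushEt hf AddCommGrpCat.{w + 1}) :=
      (pullPushAdjEt hf AddCommGrpCat.{w + 1}).rightAdjoint_preservesLimits
    haveI : Injective (T.map (pushEt hf AddCommGrpCat.{w + 1})).X₂ := injective_push hf T.X₂
    have hT' : (T.map (pushEt hf AddCommGrpCat.{w + 1})).ShortExact := by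
      haveI := hT.mono_f
      exact ShortComplex.ShortExact.mk' (hT.exact.map_of_mono_of_preservesKernel _ inferInstance inferInstance)
        (inferInstanceAs (Mono ((pushEt hf AddCommGrpCat.{w + 1}).map T.f))) (epi_push hf haff hT hF)
    obtain ⟨e, he⟩ : ∃ e : HEt X T.X₃ n ≃+ HEt Y (T.map (pushEt hf AddCommGrpCat.{w + 1})).X₃ n,
        (midRange (T := T) (intEt X) n).map e.toAddMonoidHom =
          midRange (T := T.map (pushEt hf AddCommGrpCat.{w + 1})) (intEt Y) n := by
      cases n with
      | zero =>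
        refine ⟨hPushZero hf hcov T.X₃, ?_⟩
        ext y
        constructor
        · rintro ⟨_, ⟨x, rfl⟩, rfl⟩
          exact ⟨hPushZero hf hcov T.X₂ x, (hPushZero_natural hf hcov T.g x).symm⟩
        · rintro ⟨x, rfl⟩
          refine ⟨_, ⟨(hPushZero hf hcov T.X₂).symm x, rfl⟩, ?_⟩
          refine (hPushZero_natural hf hcov T.g _).trans ?_
          rw [AddEquiv.apply_symm_apply]
          rfl
      | succ m =>
        obtain ⟨e⟩ := ih T.X₃ hQ
        exact ⟨e, by rw [midRange_eq_bot, midRange_eq_bot, AddSubgroup.map_bot]⟩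
    exact ⟨(connEquiv hT (intEt X) n).symm.trans
      ((QuotientAddGroup.congr _ _ e he).trans (connEquiv hT' (intEt Y) n))⟩

end Glob

section Space

variable {S : Scheme.{w}} {X Y : Sp S} {f : X ⟶ Y} (hf : Representable f)

theorem surjective_prodFst (E₁ E₂ : EtOver X) (h : RepWith @Surjective E₂.obj.hom) :
    Surjective (EtOver.prodFst E₁ E₂).hom.left.left :=
  (repWith_yon_map_iff _ _).1
    ((repWith_isStableUnderBaseChange (S := S) @Surjective).of_isPullback
      (E₂.property.1.isPullback E₁.obj.hom) h)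

theorem bcSieve_mem (hY : IsAlgSpace Y) (E' : EtOver X) : bcSieve hf E' ∈ etTop X E' := by
  obtain ⟨U, p, hp, hps⟩ := hY.atlas
  let E₀ : EtOver Y := EtOver.mk p hp
  let W := (EtOver.bc hf).obj E₀
  have hW : RepWith @Surjective W.obj.hom :=
    (repWith_isStableUnderBaseChange (S := S) @Surjective).of_isPullback
      (hf.isPullback E₀.obj.hom).flip hps
  haveI := surjective_prodFst E' W hW
  refine (etTop X).superset_covering ?_
    (ofArrows_mem_etTop (fun _ : Unit => EtOver.prodObj E' W) (fun _ => EtOver.prodFst E' W) fun x => ?_)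
  · rw [Sieve.ofArrows, Sieve.generate_le_iff]
    rintro P g ⟨i⟩
    exact ⟨StructuredArrow.mk (EtOver.prodSnd E' W)⟩
  · exact ⟨(), (EtOver.prodFst E' W).hom.left.left.surjective x⟩

end Space

end Groth.Agent.H13AlgSp.AffVanish
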