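import Groth.Agent.H13AlgSp.EtGen
import Groth.Agent.H16Derived.KInjRes.Countable

/-!
Derived limits of towers in the derived category of modules on a small etale site, when the cohomology
sheaves are acyclic on affine objects and the transition maps are surjective on affine objects.
-/

set_option autoImplicit false
set_option backward.isDefEq.respectTransparency false
set_option linter.style.haveILetI false
set_option linter.unusedSectionVars false

universe w u

open CategoryTheory CategoryTheory.Limits AlgebraicGeometry Opposite DerivedCategory DerivedCategory.TStructure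
open AlgSp Groth.Agent.H12AlgSp.BCMod Groth.Agent.H13AlgSp.SiteGenU Groth.Agent.H13AlgSp.EtGen
open Groth.Agent.H15Site (RlimTriang.exists_lift RlimTriang.eq_zero)

namespace Groth.Agent.H13AlgSp.EtRlim

variable {S : Scheme.{u}} {X : Sp S}

/-- The map on sections of a morphism of modules. -/
noncomputable abbrev sec {M N : ModEt X} (f : M ⟶ N) (V : EtOver X) :
    ((toAbEt X).obj M).obj.obj (op V) →+ ((toAbEt X).obj N).obj.obj (op V) :=
  (((toAbEt X).map f).hom.app (op V)).hom

theorem sec_add {M N : ModEt X} (f g : M ⟶ N) (V : EtOver X)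
    (s : ((toAbEt X).obj M).obj.obj (op V)) : sec (f + g) V s = sec f V s + sec g V s :=
  congrArg (fun φ : (toAbEt X).obj M ⟶ (toAbEt X).obj N => (φ.hom.app (op V)).hom s) ((toAbEt X).map_add)

theorem sec_comp {M N P : ModEt X} (f : M ⟶ N) (g : N ⟶ P) (V : EtOver X)
    (s : ((toAbEt X).obj M).obj.obj (op V)) : sec (f ≫ g) V s = sec g V (sec f V s) :=
  congrArg (fun φ : (toAbEt X).obj M ⟶ (toAbEt X).obj P => (φ.hom.app (op V)).hom s) ((toAbEt X).map_comp f g)

theorem eEt_add {V : EtOver X} {M : ModEt X} (φ ψ : (freeF X).obj V ⟶ M) :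
    eEt X V M (φ + ψ) = eEt X V M φ + eEt X V M ψ := by
  have h : φ + ψ = biprod.lift φ ψ ≫ (biprod.fst + biprod.snd) := by
    rw [Preadditive.comp_add, biprod.lift_fst, biprod.lift_snd]
  conv_lhs => rw [h, eEt_naturality_right]
  refine (sec_add (biprod.fst : M ⊞ M ⟶ M) biprod.snd V _).trans ?_
  exact congrArg₂ (· + ·) ((eEt_naturality_right X _ _).symm.trans (by rw [biprod.lift_fst]))
    ((eEt_naturality_right X _ _).symm.trans (by rw [biprod.lift_snd]))

/-- Sections, additively. -/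
noncomputable def eA (V : EtOver X) (M : ModEt X) :
    ((freeF X).obj V ⟶ M) ≃+ ((toAbEt X).obj M).obj.obj (op V) :=
  AddEquiv.mk' (eEt X V M) eEt_add

theorem eA_naturality {V : EtOver X} {M N : ModEt X} (φ : (freeF X).obj V ⟶ M) (f : M ⟶ N) :
    eA V N (φ ≫ f) = sec f V (eA V M φ) := eEt_naturality_right X φ f

/-- Epimorphisms of quasi-coherent modules are surjective on maps out of the free module on an affine. -/
theorem surjective_comp_of_epi {M N : ModEt X} (f : M ⟶ N) [Epi f] (hM : M.IsQuasicoherent)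
    (hN : N.IsQuasicoherent) {V : EtOver X} (hV : IsAffine V.obj.left.left) :
    Function.Surjective fun φ : (freeF X).obj V ⟶ M => φ ≫ f := fun ψ => by
  obtain ⟨s, hs⟩ := H13EtMod.surjective_of_epi (Rsh := OEt X) (A := etAff X) f
    ((H12AlgSp.BCMod.isQuasicoherent_iff_isBCEt M).1 hM) ((H12AlgSp.BCMod.isQuasicoherent_iff_isBCEt N).1 hN)
    hV (eA V N ψ)
  refine ⟨(eA V M).symm s, (eA V N).injective ?_⟩
  rw [eA_naturality, AddEquiv.apply_symm_apply]
  exact hs

variable [HasDerivedCategory.{w} (ModEt X)]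

theorem hasProduct_truncTower (L : DerivedCategory (ModEt X)) : HasProduct (CohCx.truncTower L) := by
  haveI := enoughInjectives_modEt X
  exact H16Derived.KInjRes.Countable.hasProduct_of_isGE _ fun n =>
    ⟨-(n : ℤ), inferInstanceAs (t.IsGE ((t.truncGE (-(n : ℤ))).obj L) (-(n : ℤ)))⟩

theorem bijective_post {T : Type*} [Category T] [Preadditive T] [HasShift T ℤ] {P L M : T} (τ : L ⟶ M)
    (hinj : ∀ y : P ⟶ L⟦(0 : ℤ)⟧, y ≫ τ⟦(0 : ℤ)⟧' = 0 → y = 0)
    (hsurj : ∀ x : P ⟶ M⟦(0 : ℤ)⟧, ∃ y, y ≫ τ⟦(0 : ℤ)⟧' = x) :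
    Function.Bijective fun y : P ⟶ L => y ≫ τ := by
  let z := shiftFunctorZero T ℤ
  refine ⟨fun y y' hy => ?_, fun x => ?_⟩
  · simp only at hy
    rw [← cancel_mono (z.inv.app L), ← sub_eq_zero]
    refine hinj _ ?_
    have hn : z.inv.app L ≫ τ⟦(0 : ℤ)⟧' = τ ≫ z.inv.app M := (z.inv.naturality τ).symm
    rw [Preadditive.sub_comp, Category.assoc, Category.assoc, sub_eq_zero]
    exact (congrArg (y ≫ ·) hn).trans (((reassoc_of% hy) (z.inv.app M)).trans (congrArg (y' ≫ ·) hn).symm)
  · obtain ⟨y, hy⟩ := hsurj (x ≫ z.inv.app M)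
    refine ⟨y ≫ z.hom.app L, ?_⟩
    have hn : τ⟦(0 : ℤ)⟧' ≫ z.hom.app M = z.hom.app L ≫ τ := z.hom.naturality τ
    change (y ≫ z.hom.app L) ≫ τ = x
    refine (Category.assoc _ _ _).trans ((congrArg (y ≫ ·) hn.symm).trans ?_)
    refine (Category.assoc _ _ _).symm.trans ((congrArg (· ≫ z.hom.app M) hy).trans ?_)
    simp

/-- All cohomology sheaves are acyclic on affine objects. -/
def VanAll (L : DerivedCategory (ModEt X)) : Prop :=
  ∀ (V : EtOver X), IsAffine V.obj.left.left → ∀ (k : ℕ) (q : ℤ), 0 < k →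
    SiteGenU.Van (genEt X) k V ((homologyFunctor (ModEt X) q).obj L)

theorem vanAll_of_qcoh (L : DerivedCategory (ModEt X))
    (h : ∀ q, ((homologyFunctor (ModEt X) q).obj L).IsQuasicoherent) : VanAll L := fun V hV k q hk =>
  haveI := h q
  van_qcoh X V hV _ hk

theorem isRlimVia_truncTower (L : DerivedCategory (ModEt X)) (h : VanAll L) [HasProduct (CohCx.truncTower L)] :
    CohCx.IsRlimVia (CohCx.truncTower L) (CohCx.truncTowerMap L) L (CohCx.toTruncTower L) := by
  refine isRlimVia_truncTower_of_bound (genEt X) L (affSet X) (exists_aff_cover X) fun V hV => ⟨fun _ => 0, fun T hT => ?_⟩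
  obtain ⟨ι, Y, g, h1, h2, h3⟩ := exists_cofinal_mem (affSet X) (exists_aff_cover X) hT
  exact ⟨ι, Y, g, h1, h2, fun i m k hk => h (Y i) (h3 i) k _ (by simpa using hk)⟩

theorem bijective_map₀ (L : DerivedCategory (ModEt X)) (h : VanAll L) (U : EtOver X)
    (hU : IsAffine U.obj.left.left) :
    Function.Bijective fun y : (singleFunctor _ 0).obj ((genEt X).G.obj U) ⟶ L =>
      (homologyFunctor (ModEt X) 0).map y := by
  haveI := hasProduct_truncTower L
  have hR := isRlimVia_truncTower L h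
  have hg : GoodTr (genEt X) (CohCx.truncTower L) (CohCx.truncTowerMap L) 0 0 U :=
    goodTr_truncTower (genEt X) L 0 0 U fun i hi k hk => h U hU k _ (by omega)
  let M := CohCx.truncTower L 0
  haveI : M.IsGE 0 :=
    haveI : t.IsGE M (-((0 : ℕ) : ℤ)) :=
      inferInstanceAs (t.IsGE ((t.truncGE (-((0 : ℕ) : ℤ))).obj L) (-((0 : ℕ) : ℤ)))
    t.isGE_of_ge M 0 (-((0 : ℕ) : ℤ)) (by omega)
  let τ : L ⟶ M := CohCx.toTruncTower L 0
  have hpost := bijective_post τ (P := (singleFunctor (ModEt X) 0).obj ((genEt X).G.obj U))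
    (fun y hy => detInj_of_goodTr (genEt X) (CohCx.toTruncTower L) hR hg y hy)
    (fun x => detSurj_of_goodTr (genEt X) (CohCx.toTruncTower L) hR hg x)
  haveI : IsIso ((homologyFunctor (ModEt X) 0).map τ) :=
    H16Derived.DTrunc.isIso_homology_truncGEπ L (-((0 : ℕ) : ℤ)) 0 (by omega)
  refine (Function.Bijective.of_comp_iff' ((asIso ((homologyFunctor (ModEt X) 0).map τ)).homToEquiv
    (Z := (homologyFunctor (ModEt X) 0).obj ((singleFunctor _ 0).obj ((genEt X).G.obj U)))).bijective _).1 ?_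
  convert (bijective_cls_of_isGE ((genEt X).G.obj U) M).comp hpost using 1
  funext y
  exact ((homologyFunctor (ModEt X) 0).map_comp y τ).symm

theorem bijective_cls (K : DerivedCategory (ModEt X)) (h : VanAll K) (U : EtOver X)
    (hU : IsAffine U.obj.left.left) (q : ℤ) :
    Function.Bijective fun y : (singleFunctor _ 0).obj ((genEt X).G.obj U) ⟶ K⟦q⟧ => cls y := by
  have hL : VanAll (K⟦q⟧) := fun V hV k i hk =>
    van_of_iso (genEt X) (((homologyFunctor (ModEt X) 0).shiftIso q i (q + i) rfl).app K) (h V hV k (q + i) hk)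
  have e : (fun y : (singleFunctor _ 0).obj ((genEt X).G.obj U) ⟶ K⟦q⟧ => cls y) =
      (Iso.homCongr (ιX ((genEt X).G.obj U)).symm (σ K q)) ∘
        (fun y => (homologyFunctor _ 0).map y) := by
    funext y
    simp only [cls, Function.comp_apply, Iso.homCongr_apply, Iso.symm_inv]
  rw [e]
  exact (Iso.homCongr _ _).bijective.comp (bijective_map₀ (K⟦q⟧) hL U hU)

variable {K : ℕ → DerivedCategory (ModEt X)} {τ : ∀ n, K (n + 1) ⟶ K n} [HasProduct K]
  {L : DerivedCategory (ModEt X)} {a : ∀ n, L ⟶ K n}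
  (hL : CohCx.IsRlimVia K τ L a) (hK : ∀ n, VanAll (K n))
  (hs : ∀ (V : EtOver X), IsAffine V.obj.left.left → ∀ (q : ℤ) (n : ℕ),
    Function.Surjective fun φ : (freeF X).obj V ⟶ (homologyFunctor (ModEt X) q).obj (K (n + 1)) =>
      φ ≫ (homologyFunctor (ModEt X) q).map (τ n))

include hK hs in
theorem surjective_transition {V : EtOver X} (hV : IsAffine V.obj.left.left) (r : ℤ) (n : ℕ)
    (x : (singleFunctor _ 0).obj ((genEt X).G.obj V) ⟶ (K n)⟦r⟧) : ∃ x', x' ≫ (τ n)⟦r⟧' = x := by
  obtain ⟨s, hs'⟩ := hs V hV r n (cls x)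
  obtain ⟨y, hy⟩ := (bijective_cls (K (n + 1)) (hK _) V hV r).2 s
  refine ⟨y, (bijective_cls (K n) (hK n) V hV r).1 ?_⟩
  simp only at hy ⊢
  rw [cls_comp, hy]
  exact hs'

include hL hK hs in
theorem eq_zero {V : EtOver X} (hV : IsAffine V.obj.left.left) (m : ℤ)
    (y : (singleFunctor _ 0).obj ((genEt X).G.obj V) ⟶ L⟦m⟧) (hy : ∀ n, y ≫ (a n)⟦m⟧' = 0) : y = 0 :=
  H15Site.RlimTriang.eq_zero hL m (fun z => H15Site.RlimTriang.exists_sub_eq
    (M := fun n => (singleFunctor _ 0).obj ((genEt X).G.obj V) ⟶ (K n)⟦m - 1⟧)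
    (fun n => Preadditive.rightComp _ ((τ n)⟦m - 1⟧')) 0
    (fun n _ x => surjective_transition hK hs hV (m - 1) n x) z) y hy

variable {c : ℕᵒᵖ ⥤ ModEt X}

set_option maxHeartbeats 1600000 in
include hL hK hs in
/-- `H^q` of the derived limit is the limit. -/
theorem isIso_of_fac (q : ℤ)
    (f : (homologyFunctor (ModEt X) q).obj L ⟶ limit (Functor.ofOpSequence (X := fun n => (homologyFunctor (ModEt X) q).obj (K n))
      (fun n => (homologyFunctor (ModEt X) q).map (τ n))))
    (hf : ∀ n, f ≫ limit.π (Functor.ofOpSequence (X := fun n => (homologyFunctor (ModEt X) q).obj (K n))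
      (fun n => (homologyFunctor (ModEt X) q).map (τ n))) (op n) = (homologyFunctor (ModEt X) q).map (a n)) :
    IsIso f := by
  let H := homologyFunctor (ModEt X) q
  haveI : Mono f := Preadditive.mono_of_cancel_zero _ fun {Q} g hg => (genEt X).gen g fun U h => by
    obtain ⟨S, hS, hlift⟩ := exists_local_lift (genEt X) (h ≫ g)
    obtain ⟨ι, Yf, j, hj, hcov, hY⟩ := exists_cofinal_mem (affSet X) (exists_aff_cover X) hS
    refine (genEt X).sep hcov _ ?_
    rintro W _ ⟨_, p, _, ⟨i⟩, rfl⟩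
    obtain ⟨y, hy⟩ := hlift (j i) (hj i)
    have hy0 : ∀ n, y ≫ (a n)⟦q⟧' = 0 := fun n => (bijective_cls (K n) (hK n) _ (hY i) q).1 (by
      simp only
      rw [cls_comp, hy, cls_zero]
      have hz : ((genEt X).G.map (j i) ≫ h ≫ g) ≫ f = 0 := by
        simp only [Category.assoc, hg, comp_zero]
      exact (congrArg (_ ≫ ·) (hf n).symm).trans
        ((Category.assoc _ _ _).symm.trans ((congrArg (· ≫ _) hz).trans zero_comp)))
    rw [eq_zero hL hK hs (hY i) q y hy0, cls_zero] at hy
    rw [Functor.map_comp, Category.assoc]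
    exact (congrArg (_ ≫ ·) hy.symm).trans comp_zero
  haveI : Epi f := Preadditive.epi_of_cancel_zero _ fun {Q} φ hφ => (genEt X).gen φ fun U s => by
    obtain ⟨ι, Yf, j, hcov, hY⟩ := exists_aff_cover X U
    refine (genEt X).sep hcov _ ?_
    rintro W _ ⟨_, p, _, ⟨i⟩, rfl⟩
    choose x hx using fun n => (bijective_cls (K n) (hK n) _ (hY i) q).2 ((genEt X).G.map (j i) ≫ s ≫ limit.π _ (op n))
    simp only at hx
    obtain ⟨y, hy⟩ := H15Site.RlimTriang.exists_lift hL q x fun n => (bijective_cls (K n) (hK n) _ (hY i) q).1 (by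
      simp only
      rw [cls_comp, hx, hx]
      exact (Category.assoc _ _ _).trans (congrArg (_ ≫ ·) ((Category.assoc _ _ _).trans (congrArg (s ≫ ·)
        (ModAcyc.limit_π_succ (Rsh := OEt X) (M := fun n => H.obj (K n)) (fun n => H.map (τ n)) n)))))
    have e : cls y ≫ f = (genEt X).G.map (j i) ≫ s := limit.hom_ext fun n => by
      induction n with
      | op n => rw [Category.assoc, hf, ← cls_comp, hy, hx, Category.assoc]
    rw [Functor.map_comp, Category.assoc, ← Category.assoc ((genEt X).G.map (j i)), ← e, Category.assoc, hφ,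
      comp_zero, comp_zero]
  exact isIso_of_mono_of_epi f

include hL in
theorem exists_cone (q : ℤ) :
    ∃ π : (Functor.const ℕᵒᵖ).obj ((homologyFunctor (ModEt X) q).obj L) ⟶
      Functor.ofOpSequence (X := fun n => (homologyFunctor (ModEt X) q).obj (K n))
        (fun n => (homologyFunctor (ModEt X) q).map (τ n)),
      ∀ n, π.app (op n) = (homologyFunctor (ModEt X) q).map (a n) := by
  refine ⟨NatTrans.ofOpSequence (fun n => (homologyFunctor (ModEt X) q).map (a n)) fun n => ?_, fun n => rfl⟩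
  rw [Functor.ofOpSequence_map_homOfLE_succ, ← Functor.map_comp, comm_of_isRlimVia a hL]
  exact Category.id_comp _

include hL hK hs in
theorem exists_iso (q : ℤ) :
    ∃ f : (homologyFunctor (ModEt X) q).obj L ⟶ limit (Functor.ofOpSequence (X := fun n => (homologyFunctor (ModEt X) q).obj (K n))
      (fun n => (homologyFunctor (ModEt X) q).map (τ n))), IsIso f ∧
      ∀ n, f ≫ limit.π _ (op n) = (homologyFunctor (ModEt X) q).map (a n) := by
  obtain ⟨π, hπ⟩ := exists_cone hL q
  have hf : ∀ n, limit.lift _ ⟨_, π⟩ ≫ limit.π _ (op n) = (homologyFunctor (ModEt X) q).map (a n) := fun n =>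
    (limit.lift_π _ _).trans (hπ n)
  exact ⟨_, isIso_of_fac hL hK hs q _ hf, hf⟩

set_option maxHeartbeats 1600000 in
include hL hK hs in
theorem existsUnique_section (q : ℤ) (W : EtOver X)
    (x : ∀ n, ((toAbEt X).obj ((homologyFunctor (ModEt X) q).obj (K n))).obj.obj (op W))
    (hx : ∀ n, sec ((homologyFunctor (ModEt X) q).map (τ n)) W (x (n + 1)) = x n) :
    ∃! s : ((toAbEt X).obj ((homologyFunctor (ModEt X) q).obj L)).obj.obj (op W),
      ∀ n, sec ((homologyFunctor (ModEt X) q).map (a n)) W s = x n := by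
  obtain ⟨f, hfi, hf⟩ := exists_iso hL hK hs q
  obtain ⟨y, hy, hu⟩ := ModAcyc.existsUnique_limit_section (Rsh := OEt X)
    (M := fun n => (homologyFunctor (ModEt X) q).obj (K n)) (fun n => (homologyFunctor (ModEt X) q).map (τ n)) W x hx
  obtain ⟨φ, hφ⟩ := (eA W _).surjective y
  refine ⟨eA W _ (φ ≫ inv f), fun n => ?_, fun s hs' => ?_⟩
  · have e : (φ ≫ inv f) ≫ (homologyFunctor (ModEt X) q).map (a n) = φ ≫ limit.π _ (op n) :=
      (congrArg (_ ≫ ·) (hf n).symm).trans ((Category.assoc _ _ _).trans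
        (congrArg (φ ≫ ·) (IsIso.inv_hom_id_assoc f _)))
    refine (eA_naturality _ _).symm.trans ((congrArg (eA W _) e).trans ((eA_naturality _ _).trans ?_))
    refine (congrArg (sec _ W) hφ).trans ?_
    exact hy n
  · obtain ⟨ψ, rfl⟩ := (eA W _).surjective s
    have h : eA W _ (ψ ≫ f) = y := hu _ fun n => by
      refine Eq.trans ?_ (hs' n)
      refine (eA_naturality (ψ ≫ f) (limit.π _ (op n))).symm.trans (Eq.trans ?_ (eA_naturality ψ _))
      exact congrArg (eA W _) ((Category.assoc _ _ _).trans (congrArg (ψ ≫ ·) (hf n)))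
    refine congrArg (eA W _) ((cancel_mono f).1 ?_)
    refine ((eA W _).injective (h.trans hφ.symm)).trans ?_
    rw [Category.assoc, IsIso.inv_hom_id, Category.comp_id]

end Groth.Agent.H13AlgSp.EtRlim
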