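import Groth.Agent.H13AlgSp.RFTrunc
import Groth.Agent.H13AlgSp.EtRlim

/-!
Right derived functors on complexes with quasi-coherent cohomology on small etale sites.
-/

set_option autoImplicit false
set_option backward.isDefEq.respectTransparency false
set_option linter.style.haveILetI false
set_option linter.unusedSectionVars false

universe w w' u

open CategoryTheory CategoryTheory.Limits AlgebraicGeometry Opposite DerivedCategory DerivedCategory.TStructure
open AlgSp Groth.Agent.H12AlgSp.BCMod Groth.Agent.H15Site.FlatAdjD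

namespace Groth.Agent.H13AlgSp.EtRF

variable {S : Scheme.{u}} (X : Sp S)

theorem qcoh_of_iso {M N : ModEt X} (e : M ≅ N) (h : M.IsQuasicoherent) : N.IsQuasicoherent :=
  (isQuasicoherent_iff_isBCEt N).2 (IsBCMod.of_iso (Rsh := OEt X) (A := etAff X) e ((isQuasicoherent_iff_isBCEt M).1 h))

theorem qcoh_of_isZero (M : ModEt X) (h : IsZero M) : M.IsQuasicoherent := by
  refine (isQuasicoherent_iff_isBCEt M).2 fun Z E g _ _ => ?_
  have hsub : ∀ W : EtOver X, Subsingleton ((toPM (Rsh := OEt X) M).obj (op W)) := fun W =>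
    AddCommGrpCat.subsingleton_of_isZero
      ((toAbEt X ⋙ sheafToPresheaf _ _ ⋙ (evaluation _ _).obj (op W)).map_isZero h)
  haveI : Subsingleton (Sec (toPM (Rsh := OEt X) M) g) := hsub Z
  haveI : Subsingleton (Sec (toPM (Rsh := OEt X) M) (𝟙 E)) := hsub E
  exact ⟨fun a b _ => Subsingleton.elim a b, fun y => ⟨0, Subsingleton.elim _ _⟩⟩

variable [HasDerivedCategory.{w} (ModEt X)] [HasDerivedCategory.{w'} AddCommGrpCat.{u + 1}]
  (F : ModEt X ⥤ AddCommGrpCat.{u + 1}) [F.Additive] [PreservesLimitsOfShape (Discrete ℕ) F]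
  [EnoughInjectives (ModEt X)] (N : ℕ)
  (hF : ∀ G : ModEt X, G.IsQuasicoherent → ∀ p : ℕ, N ≤ p → IsZero ((F.rightDerived p).obj G))
  [(toD F).HasRightDerivedFunctor (HomotopyCategory.quasiIso (ModEt X) (ComplexShape.up ℤ))]

theorem isRlimVia (E : DerivedCategory (ModEt X))
    (hE : H16Derived.QCohD.HomP (fun M : ModEt X => M.IsQuasicoherent) E) [HasProduct (CohCx.truncTower E)] :
    CohCx.IsRlimVia (CohCx.truncTower E) (CohCx.truncTowerMap E) E (CohCx.toTruncTower E) :=
  EtRlim.isRlimVia_truncTower E (EtRlim.vanAll_of_qcoh E hE)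

include hF in
theorem isIso_RH_truncGEπ {E : DerivedCategory (ModEt X)} (hE : ∀ q, ((homologyFunctor (ModEt X) q).obj E).IsQuasicoherent)
    (c i : ℤ) (hi : c - 1 + N ≤ i) :
    IsIso ((homologyFunctor AddCommGrpCat.{u + 1} i).map
      (((toD F).totalRightDerived DerivedCategory.Qh (HomotopyCategory.quasiIso (ModEt X) (ComplexShape.up ℤ))).map
        ((t.truncGEπ c).app E))) :=
  haveI := H13EtMod.isGrothendieckAbelian_modEt X
  RFTrunc.isIso_RH_truncGEπ F (fun M : ModEt X => M.IsQuasicoherent) (fun e h => qcoh_of_iso X e h)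
    (qcoh_of_isZero X) (fun E hE => isRlimVia X E hE) N hF hE c i hi

include hF in
theorem isZero_RH {E : DerivedCategory (ModEt X)} (hE : ∀ q, ((homologyFunctor (ModEt X) q).obj E).IsQuasicoherent)
    (b : ℤ) [E.IsLE b] (i : ℤ) (hi : b + N ≤ i) :
    IsZero ((homologyFunctor AddCommGrpCat.{u + 1} i).obj
      (((toD F).totalRightDerived DerivedCategory.Qh (HomotopyCategory.quasiIso (ModEt X) (ComplexShape.up ℤ))).obj E)) :=
  haveI := H13EtMod.isGrothendieckAbelian_modEt X
  RFTrunc.isZero_RH_of_isLE F (fun M : ModEt X => M.IsQuasicoherent) (fun e h => qcoh_of_iso X e h)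
    (qcoh_of_isZero X) (fun E hE => isRlimVia X E hE) N hF hE b i hi

theorem isGE_RH (E : DerivedCategory (ModEt X)) (a : ℤ) [E.IsGE a] :
    (((toD F).totalRightDerived DerivedCategory.Qh (HomotopyCategory.quasiIso (ModEt X) (ComplexShape.up ℤ))).obj E).IsGE a :=
  haveI := H13EtMod.isGrothendieckAbelian_modEt X
  H15Site.RDerPlus.isGE_obj F E a

end Groth.Agent.H13AlgSp.EtRF
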