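import Groth.Agent.H13AlgSp.EtRlim
import Groth.Agent.H13AlgSp.AffShift
import Groth.Agent.H13AlgSp.EtRF

/-!
Direct image along an affine morphism is conservative on complexes with quasi-coherent cohomology.
-/

set_option autoImplicit false
set_option backward.isDefEq.respectTransparency false
set_option linter.style.haveILetI false
set_option linter.unusedSectionVars false

universe w w' u

open CategoryTheory CategoryTheory.Limits CategoryTheory.Pretriangulated AlgebraicGeometry Opposite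
open DerivedCategory
open AlgSp Groth.Agent.H12AlgSp Groth.Agent.H12AlgSp.BCMod Groth.Agent.H13AlgSp.EtGen Groth.Agent.H15Site.FlatAdjD
open Groth.Agent.H13AlgSp.EtRlim

namespace Groth.Agent.H13AlgSp.AffConserv

variable {S : Scheme.{u}} {X Y : Sp S}

theorem shortExact_of_five {A : Type*} [Category A] [Abelian A] {A₀ A₁ A₂ A₃ A₄ : A} {f : A₀ ⟶ A₁} {g : A₁ ⟶ A₂}
    {h : A₂ ⟶ A₃} {k : A₃ ⟶ A₄} {w₁ : f ≫ g = 0} {w₂ : g ≫ h = 0} {w₃ : h ≫ k = 0}
    (e₁ : (ShortComplex.mk f g w₁).Exact) (e₂ : (ShortComplex.mk g h w₂).Exact) (e₃ : (ShortComplex.mk h k w₃).Exact) :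
    ∃ (q : cokernel f ⟶ A₂) (r : A₂ ⟶ kernel k) (w : q ≫ r = 0), (ShortComplex.mk q r w).ShortExact := by
  let q : cokernel f ⟶ A₂ := cokernel.desc f g w₁
  let r : A₂ ⟶ kernel k := kernel.lift k h w₃
  haveI : Mono q := e₁.mono_cokernelDesc
  haveI : Epi r := e₃.epi_kernelLift
  have wqh : q ≫ h = 0 := by
    rw [← cancel_epi (cokernel.π f), cokernel.π_desc_assoc, w₂, comp_zero]
  have wqr : q ≫ r = 0 := by
    rw [← cancel_mono (kernel.ι k), Category.assoc, kernel.lift_ι, wqh, zero_comp]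
  let φ₁ : ShortComplex.mk g h w₂ ⟶ ShortComplex.mk q h wqh :=
    { τ₁ := cokernel.π f, τ₂ := 𝟙 _, τ₃ := 𝟙 _
      comm₁₂ := by simp [q]
      comm₂₃ := by simp }
  haveI : Epi φ₁.τ₁ := inferInstanceAs (Epi (cokernel.π f))
  haveI : IsIso φ₁.τ₂ := inferInstanceAs (IsIso (𝟙 A₂))
  haveI : Mono φ₁.τ₃ := inferInstanceAs (Mono (𝟙 A₃))
  let φ₂ : ShortComplex.mk q r wqr ⟶ ShortComplex.mk q h wqh :=
    { τ₁ := 𝟙 _, τ₂ := 𝟙 _, τ₃ := kernel.ι k
      comm₁₂ := by simp
      comm₂₃ := by simp [r] }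
  haveI : Epi φ₂.τ₁ := inferInstanceAs (Epi (𝟙 (cokernel f)))
  haveI : IsIso φ₂.τ₂ := inferInstanceAs (IsIso (𝟙 A₂))
  haveI : Mono φ₂.τ₃ := inferInstanceAs (Mono (kernel.ι k))
  have hex : (ShortComplex.mk q r wqr).Exact :=
    (ShortComplex.exact_iff_of_epi_of_isIso_of_mono φ₂).2 ((ShortComplex.exact_iff_of_epi_of_isIso_of_mono φ₁).1 e₂)
  have hS : (ShortComplex.mk q r wqr).ShortExact :=
    { exact := hex, mono_f := ‹Mono q›, epi_g := ‹Epi r› }
  exact ⟨q, r, wqr, hS⟩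

set_option maxHeartbeats 1000000 in
theorem qcoh_of_five {A₀ A₁ A₂ A₃ A₄ : ModEt X} {f : A₀ ⟶ A₁} {g : A₁ ⟶ A₂} {h : A₂ ⟶ A₃} {k : A₃ ⟶ A₄}
    {w₁ : f ≫ g = 0} {w₂ : g ≫ h = 0} {w₃ : h ≫ k = 0} (e₁ : (ShortComplex.mk f g w₁).Exact)
    (e₂ : (ShortComplex.mk g h w₂).Exact) (e₃ : (ShortComplex.mk h k w₃).Exact)
    (h₀ : A₀.IsQuasicoherent) (h₁ : A₁.IsQuasicoherent) (h₃ : A₃.IsQuasicoherent) (h₄ : A₄.IsQuasicoherent) :
    A₂.IsQuasicoherent := by
  obtain ⟨q, r, wqr, hS⟩ := shortExact_of_five e₁ e₂ e₃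
  exact (isQuasicoherent_iff_isBCEt A₂).2 (IsBCMod.extension (Rsh := OEt X) (A := etAff X) (S := ShortComplex.mk q r wqr) hS
    (IsBCMod.cokernel (Rsh := OEt X) (A := etAff X) f ((isQuasicoherent_iff_isBCEt _).1 h₀) ((isQuasicoherent_iff_isBCEt _).1 h₁))
    (IsBCMod.kernel (Rsh := OEt X) (A := etAff X) k ((isQuasicoherent_iff_isBCEt _).1 h₃) ((isQuasicoherent_iff_isBCEt _).1 h₄)))

set_option maxHeartbeats 1000000 in
theorem qcoh_cone [HasDerivedCategory.{w} (ModEt X)] {T : Triangle (DerivedCategory (ModEt X))}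
    (hT : T ∈ distTriang (DerivedCategory (ModEt X)))
    (h₁ : ∀ q, ((homologyFunctor (ModEt X) q).obj T.obj₁).IsQuasicoherent)
    (h₂ : ∀ q, ((homologyFunctor (ModEt X) q).obj T.obj₂).IsQuasicoherent) (q : ℤ) :
    ((homologyFunctor (ModEt X) q).obj T.obj₃).IsQuasicoherent :=
  qcoh_of_five (HomologySequence.exact₂ T hT q) (HomologySequence.exact₃ T hT q (q + 1) rfl)
    (HomologySequence.exact₁ T hT q (q + 1) rfl) (h₁ q) (h₂ q) (h₁ (q + 1)) (h₂ (q + 1))

variable {f : X ⟶ Y} (hf : Representable f)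

theorem eq_zero_of_local (M : ModEt X) (E : EtOver Y)
    (s : ((toAbEt X).obj M).obj.obj (op ((EtOver.bc hf).obj E))) {T : Sieve E} (hT : T ∈ etTop Y E)
    (h : ∀ ⦃W : EtOver Y⦄ (g : W ⟶ E), T g → ((toAbEt X).obj M).obj.map ((EtOver.bc hf).map g).op s = 0) : s = 0 := by
  let P := ((toAbEt Y).obj ((pushModEt hf).obj M))
  exact P.property.isSeparated E T hT s (0 : ((toAbEt X).obj M).obj.obj (op ((EtOver.bc hf).obj E)))
    fun W g hg => (h g hg).trans (map_zero _).symm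

set_option maxHeartbeats 1000000 in
theorem eq_zero_of_bc (hY : IsAlgSpace Y) (hfa : IsAffineMor f) (M : ModEt X) [M.IsQuasicoherent]
    (hM : ∀ E : EtOver Y, IsAffine E.obj.left.left →
      ∀ s : (toPM (Rsh := OEt X) M).obj (op ((EtOver.bc hf).obj E)), s = 0) : IsZero M := by
  have hBC := (isQuasicoherent_iff_isBCEt M).1 ‹_›
  have hzero : ∀ (P : EtOver X), IsAffine P.obj.left.left → ∀ (E : EtOver Y), IsAffine E.obj.left.left →
      (P ⟶ (EtOver.bc hf).obj E) → ∀ s : ((toAbEt X).obj M).obj.obj (op P), s = 0 := fun P hP E hE a s => by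
    haveI : Subsingleton (Sec (toPM (Rsh := OEt X) M) (𝟙 ((EtOver.bc hf).obj E))) :=
      ⟨fun x y => (hM E hE x).trans (hM E hE y).symm⟩
    obtain ⟨t, rfl⟩ := (hBC a hP (AffVanish.aff_bc hf hfa hE)).2 s
    rw [Subsingleton.elim t 0, map_zero]
  have hall : ∀ (P : EtOver X) (E : EtOver Y), (P ⟶ (EtOver.bc hf).obj E) →
      ∀ s : ((toAbEt X).obj M).obj.obj (op P), s = 0 := fun P E a s => by
    let ι := ULift.{u + 1} E.obj.left.left.affineOpens
    let Z : ι → EtOver Y := fun V => etOpen E V.down.1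
    let m : ∀ i, Z i ⟶ E := fun V => etOpenι E V.down.1
    have hm : Presieve.ofArrows Z m ∈ etPre Y E := (ofArrows_mem_etPre_iff Z m).2 fun x => by
      obtain ⟨_, ⟨V, hV, rfl⟩, hxV, -⟩ :=
        E.obj.left.left.isBasis_affineOpens.exists_subset_of_mem_open (Set.mem_univ x) isOpen_univ
      exact ⟨⟨⟨V, hV⟩⟩, ⟨x, hxV⟩, rfl⟩
    have hb := EtOver.etPre_le_comap_bc hf E hm
    rw [Precoverage.mem_comap_iff, Presieve.map_ofArrows] at hb
    have hcov := (etTop X).pullback_stable a (Precoverage.generate_mem_toGrothendieck hb)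
    refine ((toAbEt X).obj M).property.isSeparated P _ hcov _ _ ?_
    rintro Q g ⟨_, b, _, ⟨i⟩, hb'⟩
    obtain ⟨κ, R, l, hl, hR⟩ := exists_aff_cover X Q
    refine ((toAbEt X).obj M).property.isSeparated Q _ hl _ _ ?_
    rintro R' _ ⟨_, c, _, ⟨k⟩, rfl⟩
    have h0 : ∀ s : ((toAbEt X).obj M).obj.obj (op (R k)), s = 0 :=
      hzero (R k) (hR k) (Z i) i.down.2 (l k ≫ b)
    have h1 : ∀ s : ((toAbEt X).obj M).obj.obj (op Q),
        ((toAbEt X).obj M).obj.map (c ≫ l k).op s = 0 := fun s => by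
      rw [op_comp, Functor.map_comp]
      exact (congrArg (((toAbEt X).obj M).obj.map c.op).hom (h0 _)).trans (map_zero _)
    exact (h1 _).trans (h1 _).symm
  rw [IsZero.iff_id_eq_zero]
  refine (genEt X).gen _ fun U h => ?_
  rw [Category.comp_id]
  refine (eA U M).injective ?_
  rw [map_zero]
  refine ((toAbEt X).obj M).property.isSeparated U _ (AffVanish.bcSieve_mem hf hY U) _ _ ?_
  rintro P g hg
  obtain ⟨A⟩ := hg
  exact (hall P A.right A.hom _).trans (hall P A.right A.hom _).symm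

variable [HasDerivedCategory.{w} (ModEt X)] [HasDerivedCategory.{w'} (ModEt Y)]
  [(toD (pushModEt hf)).HasRightDerivedFunctor (HomotopyCategory.quasiIso (ModEt X) (ComplexShape.up ℤ))]

/-- The derived direct image. -/
noncomputable abbrev Rf : DerivedCategory (ModEt X) ⥤ DerivedCategory (ModEt Y) :=
  (toD (pushModEt hf)).totalRightDerived DerivedCategory.Qh (HomotopyCategory.quasiIso (ModEt X) (ComplexShape.up ℤ))

set_option maxHeartbeats 1000000 in
theorem sections_homology_eq_zero (hfa : IsAffineMor f) (I : CochainComplex (ModEt X) ℤ) [I.IsKInjective]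
    (hI : VanAll (Q.obj I))
    (hz : ((((pushModEt hf).mapHomologicalComplex (ComplexShape.up ℤ)).obj I)).ExactAt 0)
    (E : EtOver Y) (hE : IsAffine E.obj.left.left) (s : (genEt X).G.obj ((EtOver.bc hf).obj E) ⟶ I.homology 0) :
    ∃ T ∈ etTop Y E, ∀ ⦃W : EtOver Y⦄ (g : W ⟶ E), T g → (genEt X).G.map ((EtOver.bc hf).map g) ≫ s = 0 := by
  let P := (genEt X).G.obj ((EtOver.bc hf).obj E)
  let S₀ : CochainComplex (ModEt X) ℤ := (HomologicalComplex.single (ModEt X) (ComplexShape.up ℤ) 0).obj P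
  let η₀ := homologyFunctorFactors (ModEt X) 0
  obtain ⟨y, hy⟩ := (bijective_map₀ (Q.obj I) hI _ (AffVanish.aff_bc hf hfa hE)).2
    ((singleFunctorCompHomologyFunctorIso (ModEt X) 0).hom.app P ≫ s ≫ η₀.inv.app I)
  let j := (singleFunctorIsoCompQ (ModEt X) 0).app P
  obtain ⟨g₀, hg₀⟩ := H16Derived.KInjRes.exists_Q_map_eq (K := S₀) (I := I) (j.inv ≫ y)
  haveI : IsIso (S₀.homologyπ 0) := S₀.isIso_homologyπ (-1) 0 (by simp) (HomologicalComplex.single_obj_d _ _ _ _ _)
  obtain ⟨β, hβ⟩ : ∃ β : P ⟶ S₀.homology 0, β ≫ HomologicalComplex.homologyMap g₀ 0 = s := by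
    refine ⟨(singleFunctorCompHomologyFunctorIso (ModEt X) 0).inv.app P ≫
      (homologyFunctor (ModEt X) 0).map j.hom ≫ η₀.hom.app S₀, ?_⟩
    have h1 : (homologyFunctor (ModEt X) 0).map (Q.map g₀) ≫ η₀.hom.app I =
        η₀.hom.app S₀ ≫ HomologicalComplex.homologyMap g₀ 0 := η₀.hom.naturality g₀
    rw [Category.assoc, Category.assoc, ← h1, hg₀]
    simp only at hy
    rw [← Category.assoc ((homologyFunctor (ModEt X) 0).map j.hom), ← Functor.map_comp, Iso.hom_inv_id_assoc, hy]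
    simp only [Category.assoc, Iso.inv_hom_id_app_assoc, Iso.inv_hom_id_app]
    exact Category.comp_id s
  obtain ⟨k, hk⟩ : ∃ k : P ⟶ I.cycles 0, k ≫ I.homologyπ 0 = s := by
    refine ⟨β ≫ inv (S₀.homologyπ 0) ≫ HomologicalComplex.cyclesMap g₀ 0, ?_⟩
    rw [Category.assoc, Category.assoc]
    exact (congrArg (β ≫ ·) ((congrArg (inv _ ≫ ·) (HomologicalComplex.homologyπ_naturality g₀ 0).symm).trans
      (IsIso.inv_hom_id_assoc _ _))).trans hβ
  let F := pushModEt hf
  let FI := (F.mapHomologicalComplex (ComplexShape.up ℤ)).obj I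
  let φY : (genEt Y).G.obj E ⟶ FI.X 0 := (eA E (FI.X 0)).symm (eA ((EtOver.bc hf).obj E) (I.X 0) (k ≫ I.iCycles 0))
  have hd : φY ≫ FI.d 0 1 = 0 := by
    refine (eA E _).injective ?_
    rw [map_zero]
    refine (eA_naturality φY _).trans ?_
    rw [AddEquiv.apply_symm_apply]
    refine (eA_naturality (k ≫ I.iCycles 0) (I.d 0 1)).symm.trans ?_
    rw [Category.assoc, HomologicalComplex.iCycles_d, comp_zero, map_zero]
  haveI : Epi (FI.toCycles (-1) 0) := by
    refine Preadditive.epi_of_cancel_zero _ fun {Z} φ hφ => ?_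
    obtain ⟨l, hl⟩ := CokernelCofork.IsColimit.desc' (FI.homologyIsCokernel (-1) 0 (by simp)) φ hφ
    rw [← hl]
    exact (congrArg (_ ≫ ·) (((FI.exactAt_iff_isZero_homology 0).1 hz).eq_of_src l 0)).trans comp_zero
  let lft : (genEt Y).G.obj E ⟶ FI.cycles 0 := FI.liftCycles φY 1 (by simp) hd
  obtain ⟨T, hT, hlift⟩ := (genEt Y).loc (pullback.snd (FI.toCycles (-1) 0) lft)
  refine ⟨T, hT, fun W g hg => ?_⟩
  obtain ⟨l, hl⟩ := hlift g hg
  let ψ : (genEt Y).G.obj W ⟶ FI.X (-1) := l ≫ pullback.fst _ _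
  have hψ : ψ ≫ FI.toCycles (-1) 0 = (genEt Y).G.map g ≫ lft := by
    rw [Category.assoc, pullback.condition, ← Category.assoc, hl]
  let ψX : (genEt X).G.obj ((EtOver.bc hf).obj W) ⟶ I.X (-1) :=
    (eA _ (I.X (-1))).symm (eA W (FI.X (-1)) ψ)
  have e : ((genEt X).G.map ((EtOver.bc hf).map g) ≫ k) = ψX ≫ I.toCycles (-1) 0 := by
    rw [← cancel_mono (I.iCycles 0), Category.assoc, Category.assoc, HomologicalComplex.toCycles_i]
    refine (eA _ _).injective ?_
    refine (eEt_naturality_left X _ _).trans ?_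
    refine Eq.trans ?_ (eA_naturality ψX _).symm
    rw [AddEquiv.apply_symm_apply]
    have h1 := congrArg (fun φ => eA W (FI.X 0) (φ ≫ FI.iCycles 0)) hψ
    simp only [Category.assoc, HomologicalComplex.toCycles_i, HomologicalComplex.liftCycles_i, lft] at h1
    rw [eA_naturality] at h1
    refine Eq.trans ?_ h1.symm
    refine Eq.trans ?_ (eEt_naturality_left Y g φY).symm
    rw [show eEt Y E (FI.X 0) φY = eA E (FI.X 0) φY from rfl, AddEquiv.apply_symm_apply]
    rfl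
  rw [← hk, reassoc_of% e, HomologicalComplex.toCycles_comp_homologyπ, comp_zero]

set_option maxHeartbeats 1000000 in
theorem isZero_homology_zero (hY : IsAlgSpace Y) (hfa : IsAffineMor f) (C : DerivedCategory (ModEt X))
    (hC : ∀ q, ((homologyFunctor (ModEt X) q).obj C).IsQuasicoherent) (hR : IsZero ((Rf hf).obj C)) :
    IsZero ((homologyFunctor (ModEt X) 0).obj C) := by
  haveI := H13EtMod.isGrothendieckAbelian_modEt X
  obtain ⟨I, hI, ⟨e⟩⟩ := H16Derived.RFVanish.exists_rep C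
  haveI := hI
  obtain ⟨a⟩ := H15Site.RDerPlus.nonempty_obj_iso (pushModEt hf) I
  have hz : ((((pushModEt hf).mapHomologicalComplex (ComplexShape.up ℤ)).obj I)).ExactAt 0 := by
    rw [HomologicalComplex.exactAt_iff_isZero_homology]
    exact ((homologyFunctor (ModEt Y) 0).map_isZero
      (hR.of_iso ((Rf hf).mapIso e ≪≫ a).symm)).of_iso ((homologyFunctorFactors (ModEt Y) 0).app _).symm
  let η : (homologyFunctor (ModEt X) 0).obj C ≅ I.homology 0 :=
    (homologyFunctor (ModEt X) 0).mapIso e ≪≫ (homologyFunctorFactors (ModEt X) 0).app I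
  have hI' : VanAll (Q.obj I) := vanAll_of_qcoh _ fun q =>
    EtRF.qcoh_of_iso X ((homologyFunctor (ModEt X) q).mapIso e) (hC q)
  haveI : (I.homology 0).IsQuasicoherent := EtRF.qcoh_of_iso X η (hC 0)
  refine (eq_zero_of_bc hf hY hfa (I.homology 0) fun E hE s => ?_).of_iso η
  obtain ⟨φ, rfl⟩ := (eA ((EtOver.bc hf).obj E) (I.homology 0)).surjective s
  obtain ⟨T, hT, h⟩ := sections_homology_eq_zero hf hfa I hI' hz E hE φ
  refine eq_zero_of_local hf (I.homology 0) E _ hT fun W g hg => ?_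
  refine (eEt_naturality_left X _ φ).symm.trans ?_
  exact (congrArg (eA _ _) (h g hg)).trans (map_zero _)

theorem isZero_of_isZero_Rf (hY : IsAlgSpace Y) (hfa : IsAffineMor f) (C : DerivedCategory (ModEt X))
    (hC : ∀ q, ((homologyFunctor (ModEt X) q).obj C).IsQuasicoherent) (hR : IsZero ((Rf hf).obj C)) : IsZero C := by
  haveI := H13EtMod.isGrothendieckAbelian_modEt X
  have hall : ∀ q : ℤ, IsZero ((homologyFunctor (ModEt X) q).obj C) := fun q => by
    obtain ⟨a⟩ := H16Derived.RFVanish.nonempty_shift (pushModEt hf) C q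
    refine (isZero_homology_zero hf hY hfa (C⟦q⟧) (fun i => ?_)
      (((shiftFunctor _ q).map_isZero hR).of_iso a)).of_iso
      (((homologyFunctor (ModEt X) 0).shiftIso q 0 q (by simp)).app C).symm
    exact EtRF.qcoh_of_iso X (((homologyFunctor (ModEt X) 0).shiftIso q i (q + i) rfl).app C).symm (hC _)
  haveI : C.IsGE 0 := (DerivedCategory.isGE_iff C 0).2 fun q _ => hall q
  haveI : C.IsLE (-1) := (DerivedCategory.isLE_iff C (-1)).2 fun q _ => hall q
  exact TStructure.t.isZero C (-1) 0 (by omega)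

theorem isIso_of_isIso_Rf (hY : IsAlgSpace Y) (hfa : IsAffineMor f) {A B : DerivedCategory (ModEt X)}
    (hA : ∀ q, ((homologyFunctor (ModEt X) q).obj A).IsQuasicoherent)
    (hB : ∀ q, ((homologyFunctor (ModEt X) q).obj B).IsQuasicoherent) (α : A ⟶ B)
    (hα : IsIso ((Rf hf).map α)) : IsIso α := by
  haveI := H13EtMod.isGrothendieckAbelian_modEt X
  obtain ⟨C, g, d, hT⟩ := distinguished_cocone_triangle α
  exact ((Triangle.mk α g d).isZero₃_iff_isIso₁ hT).1 (isZero_of_isZero_Rf hf hY hfa C (qcoh_cone hT hA hB)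
    (RFTrunc.isZero_RF_cone (pushModEt hf) hT hα))

end Groth.Agent.H13AlgSp.AffConserv
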