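import Groth.Agent.H13AlgSp.AffCech
import Groth.Agent.H18Cech.Lift
import Groth.Agent.H18Cech.InjectiveVanish
import Mathlib.CategoryTheory.Preadditive.Injective.Preserves
import Mathlib.Algebra.Homology.DerivedCategory.Ext.EnoughInjectives
import Mathlib.Algebra.Homology.DerivedCategory.Ext.ExactSequences

/-!
Cartan's criterion on a site with affine objects: modules commuting with base change have no higher cohomology over
affine objects.
-/

set_option autoImplicit false
set_option backward.isDefEq.respectTransparency false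
set_option linter.style.haveILetI false

universe w v₁ u₁

open CategoryTheory CategoryTheory.Limits Opposite CategoryTheory.Abelian
open Groth.Agent.H12AlgSp.BCMod

namespace Groth.Agent.H13AlgSp.AffVanish

variable {C : Type u₁} [Category.{v₁} C] {J : GrothendieckTopology C} {Rc : Cᵒᵖ ⥤ CommRingCat.{w}}

/-- Čech acyclicity for finite affine covers of affine objects. -/
def IsAffAcyclic (A : AffSite J Rc) (G : Cᵒᵖ ⥤ AddCommGrpCat.{w}) : Prop :=
  ∀ (U : C) [HasFiniteProducts (Over U)] (ι : Type w) [Finite ι] (Y : ι → Over U), A.aff U →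
    (∀ i, A.aff (Y i).left) → Sieve.ofArrows (fun i => (Y i).left) (fun i => (Y i).hom) ∈ J U →
    (∀ p : PrimeSpectrum (Rc.obj (op U)), ∃ i, ∃ q : PrimeSpectrum (RingOf Rc (Y i).hom),
      PrimeSpectrum.comap (algebraMap (Rc.obj (op U)) (RingOf Rc (Y i).hom)) q = p) →
    ∀ p : ℕ, IsZero (EtCech.cechH Y G (p + 1))

variable {A : AffSite J Rc}

theorem isAffAcyclic_of_allBC (hiso : ∀ {E E' : C}, (E ≅ E') → A.aff E → A.aff E') {P : PM Rc}
    (hP : AllBC A P) : IsAffAcyclic A P.presheaf := fun _ _ _ _ Y hU hY _ hsur p =>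
  isZero_cechH_of_allBC hP hU hY (aff_prod Y hiso hU hY) hsur p

variable [LocallySmall.{w} C] [HasSheafify J AddCommGrpCat.{w}]

theorem isAffAcyclic_of_injective (G : Sheaf J AddCommGrpCat.{w}) [Injective G] : IsAffAcyclic A G.obj := by
  intro U _ ι _ Y _ _ _ _ p
  haveI : Injective G.obj :=
    Injective.injective_of_adjoint (sheafificationAdjunction J AddCommGrpCat.{w}) G
  exact Groth.Agent.H18Cech.isZero_cechH_of_injective Y _ p

omit [LocallySmall.{w} C] in
theorem exact_sections {S : ShortComplex (Sheaf J AddCommGrpCat.{w})} (hS : S.ShortExact) (V : Cᵒᵖ) :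
    Function.Injective (S.f.hom.app V) ∧ ∀ x, S.g.hom.app V x = 0 → ∃ y, S.f.hom.app V y = x := by
  haveI := hS.mono_f
  haveI : Mono ((sheafToPresheaf _ _).map S.f) := (sheafToPresheaf _ _).map_mono S.f
  refine ⟨(AddCommGrpCat.mono_iff_injective _).1
    (inferInstanceAs (Mono (((sheafToPresheaf _ _).map S.f).app V))), ?_⟩
  exact (ShortComplex.ab_exact_iff _).1 (hS.exact.map_of_mono_of_preservesKernel
    (sheafToPresheaf J AddCommGrpCat.{w} ⋙ (evaluation _ _).obj V) inferInstance inferInstance)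

variable [HasPullbacks C] [J.WEqualsLocallyBijective AddCommGrpCat.{w}] [Balanced (Sheaf J AddCommGrpCat.{w})]

omit [LocallySmall.{w} C] in
theorem hasFiniteProducts_over (U : C) : HasFiniteProducts (Over U) :=
  have : HasBinaryProducts (Over U) := Over.ConstructProducts.over_binaryProduct_of_pullback
  have : HasTerminal (Over U) := Over.over_hasTerminal U
  hasFiniteProducts_of_has_binary_and_terminal

omit [LocallySmall.{w} C] in
/-- Epimorphisms with acyclic kernel are surjective on sections over affine objects. -/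
theorem surjective_sections {S : ShortComplex (Sheaf J AddCommGrpCat.{w})} (hS : S.ShortExact)
    (h₁ : IsAffAcyclic A S.X₁.obj) {U : C} (hU : A.aff U) : Function.Surjective (S.g.hom.app (op U)) := by
  intro s
  haveI := hasFiniteProducts_over U
  haveI := hS.epi_g
  haveI : Sheaf.IsLocallySurjective S.g := (Sheaf.isLocallySurjective_iff_epi' _ S.g).2 inferInstance
  obtain ⟨κ, _, Z, z, hZ, hR, hmem, hsur⟩ := A.exists_refine _ hU (Presheaf.imageSieve_mem J S.g.hom s)
  let Y : ULift.{w} κ → Over U := fun i => Over.mk (z i.down)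
  have hmem' : Sieve.ofArrows (fun i => (Y i).left) (fun i => (Y i).hom) ∈ J U := by
    refine J.superset_covering ?_ hmem
    rw [Sieve.ofArrows, Sieve.generate_le_iff]
    rintro V g ⟨i⟩
    exact ⟨_, 𝟙 _, z i, ⟨(ULift.up i : ULift.{w} κ)⟩, Category.id_comp _⟩
  have hsh : ∀ G : Sheaf J AddCommGrpCat.{w}, Presieve.IsSheafFor (G.obj ⋙ CategoryTheory.forget AddCommGrpCat.{w})
      (Presieve.ofArrows (fun i => (Y i).left) (fun i => (Y i).hom)) := fun G => by
    rw [Presieve.isSheafFor_iff_generate]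
    exact ((isSheaf_iff_isSheaf_of_type _ _).1
      (Presheaf.isSheaf_comp_of_isSheaf J G.obj (CategoryTheory.forget AddCommGrpCat.{w}) G.property)) _ hmem'
  exact Groth.Agent.H18Cech.exists_lift_of_isZero (S := S.map (sheafToPresheaf _ _)) Y
    (fun V => (exact_sections hS V).1) (fun V => (exact_sections hS V).2) (hsh S.X₂) (hsh S.X₃).isSeparatedFor
    (h₁ U (ULift.{w} κ) Y hU (fun i => hZ i.down) hmem' (fun p => by
      obtain ⟨i, q, hq⟩ := hsur p
      exact ⟨⟨i⟩, q, hq⟩) 0) s fun i => hR i.down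

omit [LocallySmall.{w} C] in
theorem isAffAcyclic_X₃ (hiso : ∀ {E E' : C}, (E ≅ E') → A.aff E → A.aff E')
    {S : ShortComplex (Sheaf J AddCommGrpCat.{w})} (hS : S.ShortExact)
    (h₁ : IsAffAcyclic A S.X₁.obj) (h₂ : IsAffAcyclic A S.X₂.obj) : IsAffAcyclic A S.X₃.obj := by
  intro U _ ι _ Y hU hY hmem hsur p
  have hT := Groth.Agent.H18Cech.shortExact_map (S := S.map (sheafToPresheaf _ _)) Y
    (fun V => (exact_sections hS V).1) (fun V => (exact_sections hS V).2)
    fun n a => surjective_sections hS h₁ (aff_prod Y hiso hU hY n a)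
  exact (hT.homology_exact₃ (p + 1) (p + 1 + 1) rfl).isZero_of_both_zeros
    ((h₂ U ι Y hU hY hmem hsur p).eq_of_src _ _) ((h₁ U ι Y hU hY hmem hsur (p + 1)).eq_of_tgt _ _)

/-- Higher `Ext` groups out of an object representing sections over an affine object vanish on acyclic sheaves. -/
theorem subsingleton_ext [EnoughInjectives (Sheaf J AddCommGrpCat.{w})] [HasExt.{w} (Sheaf J AddCommGrpCat.{w})]
    (hiso : ∀ {E E' : C}, (E ≅ E') → A.aff E → A.aff E') {U : C} (hU : A.aff U) {Z : Sheaf J AddCommGrpCat.{w}}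
    (ev : ∀ F : Sheaf J AddCommGrpCat.{w}, (Z ⟶ F) ≃ F.obj.obj (op U))
    (hev : ∀ {F G : Sheaf J AddCommGrpCat.{w}} (φ : Z ⟶ F) (g : F ⟶ G), ev G (φ ≫ g) = g.hom.app _ (ev F φ)) :
    ∀ (p : ℕ) (G : Sheaf J AddCommGrpCat.{w}), IsAffAcyclic A G.obj → Subsingleton (Ext.{w} Z G (p + 1)) := by
  intro p
  induction p with
  | zero =>
    intro G hG
    let S := ShortComplex.mk (Injective.ι G) (cokernel.π (Injective.ι G)) (cokernel.condition _)
    have hS : S.ShortExact := { exact := ShortComplex.exact_of_g_is_cokernel _ (cokernelIsCokernel _) }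
    refine subsingleton_of_forall_eq 0 fun x => ?_
    obtain ⟨y, rfl⟩ := Ext.covariant_sequence_exact₁ _ hS x (Ext.eq_zero_of_injective _) rfl
    obtain ⟨φ, rfl⟩ := (Ext.mk₀_bijective _ _).surjective y
    obtain ⟨s, hs⟩ := surjective_sections hS hG hU (ev _ φ)
    have h2 : (ev S.X₂).symm s ≫ S.g = φ := (ev _).injective (by rw [hev, Equiv.apply_symm_apply, hs])
    rw [← h2, ← Ext.mk₀_comp_mk₀, Ext.comp_assoc_of_second_deg_zero, hS.comp_extClass, Ext.comp_zero]
  | succ p ih =>
    intro G hG
    let S := ShortComplex.mk (Injective.ι G) (cokernel.π (Injective.ι G)) (cokernel.condition _)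
    have hS : S.ShortExact := { exact := ShortComplex.exact_of_g_is_cokernel _ (cokernelIsCokernel _) }
    refine subsingleton_of_forall_eq 0 fun x => ?_
    obtain ⟨y, rfl⟩ := Ext.covariant_sequence_exact₁ _ hS x (Ext.eq_zero_of_injective _) rfl
    rw [(ih S.X₃ (isAffAcyclic_X₃ hiso hS hG (isAffAcyclic_of_injective _))).elim y 0, Ext.zero_comp]

end Groth.Agent.H13AlgSp.AffVanish
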