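import Groth.Agent.H13AlgSp.AffineQuotient
import Groth.Agent.H13AlgSp.FpqcIso
import Mathlib.CategoryTheory.Sites.RegularEpi
import Mathlib.AlgebraicGeometry.EffectiveEpi

/-!
An algebraic space over an affine scheme which becomes affine after an fpqc cover is affine.
-/

universe u

open CategoryTheory CategoryTheory.Limits AlgebraicGeometry Opposite MorphismProperty
open AlgSp Groth.Agent.H12AlgSp

namespace Groth.Agent.H13AlgSp

variable {S : Scheme.{u}}

theorem isAffine_pullback_left {A B C : Over S} (f : A ⟶ C) (g : B ⟶ C) [IsAffine A.left] [IsAffine B.left]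
    [IsAffine C.left] : IsAffine (pullback f g).left := by
  have sq : IsPullback (pullback.fst f g).left (pullback.snd f g).left f.left g.left :=
    (IsPullback.of_hasPullback f g).map (Over.forget S)
  exact IsAffine.of_isIso (f := sq.isoPullback.hom)

/-- A space with quasi-compact space of points covered by finitely many affines has an affine atlas. -/
theorem exists_affine_atlas {Q : Sp S} (hQ : IsAlgSpace Q) {Q' : Over S} [CompactSpace Q'.left]
    (q' : (yon S).obj Q' ⟶ Q) (hs : Function.Surjective (Points.ofPt q')) :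
    ∃ (U : Over S) (d : (yon S).obj U ⟶ Q), IsAffine U.left ∧ RepWith @Etale d ∧ RepWith @Surjective d := by
  obtain ⟨U₀, d₀, hde, hds⟩ := hQ.atlas
  have hcont : Continuous (Points.ofPt q') := Points.continuous_ofPt q'
  have hopen := isOpenMap_ofPt_of_repWith etale_le_universallyOpen hde
  obtain ⟨t, ht⟩ := isCompact_univ.elim_finite_subcover
    (fun V : U₀.left.affineOpens => Points.ofPt q' ⁻¹' (Points.ofPt d₀ '' (V.1 : Set U₀.left)))
    (fun V => (hopen _ V.1.isOpen).preimage hcont)
    (fun x _ => by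
      obtain ⟨u, hu⟩ := surjective_ofPt_of_repWith le_rfl hds (Points.ofPt q' x)
      obtain ⟨V, hV⟩ := TopologicalSpace.Opens.mem_iSup.1
        ((iSup_affineOpens_eq_top U₀.left).ge (Set.mem_univ u))
      exact Set.mem_iUnion.2 ⟨V, u, hV, hu⟩)
  let σ : (∐ fun V : t => V.1.1.toScheme) ⟶ U₀.left := Sigma.desc fun V => V.1.1.ι
  have : ∀ V : t, IsAffine V.1.1.toScheme := fun V => V.1.2
  have hσ : Etale σ := IsZariskiLocalAtSource.sigmaDesc (P := @Etale) fun V => inferInstance
  let U : Over S := Over.mk (σ ≫ U₀.hom)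
  let σ' : U ⟶ U₀ := Over.homMk σ rfl
  have he : RepWith @Etale ((yon S).map σ' ≫ d₀) := repWith_comp ((repWith_yon_map_iff _ σ').2 hσ) hde
  refine ⟨U, (yon S).map σ' ≫ d₀, inferInstanceAs (IsAffine (∐ fun V : t => V.1.1.toScheme)), he,
    repWith_surjective_of_map he.1 fun y => ?_⟩
  obtain ⟨x, rfl⟩ := hs y
  obtain ⟨V, hV, u, hu, e⟩ := Set.mem_iUnion₂.1 (ht (Set.mem_univ x))
  let v : U.left := Sigma.ι (fun V : t => V.1.1.toScheme) ⟨V, hV⟩ ⟨u, hu⟩
  refine ⟨Points.ofScheme U v, ?_⟩
  rw [Points.map_ofPt, Category.id_comp, ofPt_map]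
  refine Eq.trans ?_ e
  refine congrArg (Points.ofPt d₀) ?_
  change σ (Sigma.ι (fun V : t => V.1.1.toScheme) ⟨V, hV⟩ ⟨u, hu⟩) = u
  rw [← Scheme.Hom.comp_apply, Sigma.ι_desc]
  rfl

set_option maxHeartbeats 1000000 in
/-- An algebraic space over an affine scheme, affine after a flat surjective affine base change, is affine. -/
theorem exists_iso_affine {Q : Sp S} (hQ : IsAlgSpace Q) {Z : Over S} [IsAffine Z.left]
    (pr : Q ⟶ (yon S).obj Z) {W : Over S} (c : W ⟶ Z) [IsAffine W.left] [Flat c.left] [Surjective c.left]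
    {Q' : Over S} [IsAffine Q'.left] (q' : (yon S).obj Q' ⟶ Q) (b' : Q' ⟶ W)
    (sqQ : IsPullback q' ((yon S).map b') pr ((yon S).map c)) :
    ∃ (Z₀ : Over S) (z₀ : Z₀ ⟶ Z) (κ : Q ⟶ (yon S).obj Z₀),
      IsAffine Z₀.left ∧ IsIso κ ∧ κ ≫ (yon S).map z₀ = pr := by
  have hq's : Function.Surjective (Points.ofPt q') := by
    intro y
    obtain ⟨z, hz⟩ := (Points.schemeEquiv Z).surjective (Points.map pr y)
    obtain ⟨w, hw⟩ := c.left.surjective z
    obtain ⟨p, hp, -⟩ := exists_point_of_isPullback sqQ y (Points.ofScheme W w) (by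
      rw [← hz, ← Points.ofPt_eq_map_ofScheme, ← Category.comp_id ((yon S).map c), ofPt_map, hw]
      rfl)
    obtain ⟨p, rfl⟩ := (Points.schemeEquiv Q').surjective p
    exact ⟨p, (Points.ofPt_eq_map_ofScheme q' p).trans hp⟩
  obtain ⟨U, d, hUaff, hde, hds⟩ := exists_affine_atlas hQ q' hq's
  obtain ⟨uu, huu⟩ := (yon S).map_surjective (d ≫ pr)
  let U' := pullback uu c
  have sqU : IsPullback (pullback.fst uu c) (pullback.snd uu c) uu c := IsPullback.of_hasPullback _ _
  have hU' : IsAffine U'.left := isAffine_pullback_left uu c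
  have : IsAffine (pullback uu c).left := hU'
  have sqU2 := sqU.map (yon S)
  rw [huu] at sqU2
  obtain ⟨e', he'⟩ := (yon S).map_surjective (sqQ.lift ((yon S).map (pullback.fst uu c) ≫ d)
    ((yon S).map (pullback.snd uu c)) (by rw [Category.assoc]; exact sqU2.w))
  have sqE : IsPullback ((yon S).map (pullback.fst uu c)) ((yon S).map e') d q' := by
    refine IsPullback.of_bot ?_ ?_ sqQ
    · rw [he', sqQ.lift_snd]; exact sqU2
    · rw [he', sqQ.lift_fst]
  have he'e : Etale e'.left := etale_left_of_repWith (repWith_of_isPullback sqE hde)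
  have he's : Surjective e'.left := surjective_left_of_repWith (repWith_of_isPullback sqE hds)
  have heb : e' ≫ b' = pullback.snd uu c := (yon S).map_injective (by
    rw [Functor.map_comp (f := e'), he', sqQ.lift_snd])
  obtain ⟨R, t, s', sqR⟩ := hde.1 d
  obtain ⟨s, rfl⟩ := (yon S).map_surjective s'
  have hst : s ≫ uu = t ≫ uu := (yon S).map_injective (by
    rw [Functor.map_comp, Functor.map_comp, huu, ← Category.assoc, sqR.w, Category.assoc])
  -- the relation after base change
  let R' := pullback e' e'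
  have ker : IsPullback (pullback.fst e' e') (pullback.snd e' e') e' e' := IsPullback.of_hasPullback _ _
  have h1 := (ker.map (yon S)).paste_horiz sqE
  rw [← sqE.w] at h1
  -- `h1 : IsPullback (p₁ ≫ fst) p₂ d (fst ≫ d)`
  have hρex : ∃ ρ : R' ⟶ R, ρ ≫ s = pullback.fst e' e' ≫ pullback.fst uu c ∧
      ρ ≫ t = pullback.snd e' e' ≫ pullback.fst uu c ∧
      IsPullback ((yon S).map ρ) ((yon S).map (pullback.snd e' e')) ((yon S).map t)
        ((yon S).map (pullback.fst uu c)) := by
    obtain ⟨ρ, hρ⟩ := (yon S).map_surjective (sqR.lift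
      ((yon S).map (pullback.fst e' e') ≫ (yon S).map (pullback.fst uu c))
      ((yon S).map (pullback.snd e' e') ≫ (yon S).map (pullback.fst uu c))
      (by rw [Category.assoc (h := d), Category.assoc]; exact h1.w))
    refine ⟨ρ, ?_, ?_, ?_⟩
    · apply (yon S).map_injective
      rw [Functor.map_comp, Functor.map_comp, hρ, sqR.lift_fst]
    · apply (yon S).map_injective
      rw [Functor.map_comp, Functor.map_comp, hρ, sqR.lift_snd]
    · refine IsPullback.of_right ?_ ?_ sqR
      · rw [hρ, sqR.lift_fst]; exact h1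
      · rw [hρ, sqR.lift_snd]
  obtain ⟨ρ, hρs, hρt, hρsq⟩ := hρex
  have sqR' : IsPullback ρ (pullback.snd e' e' ≫ pullback.snd uu c) (t ≫ uu) c :=
    (IsPullback.of_map (yon S) ((yon S).map_injective (by simpa using hρsq.w)) hρsq).paste_vert sqU
  have hR : IsAffine R.left := by
    have h2 : IsAffineHom (pullback.snd e' e' ≫ pullback.snd uu c).left := by
      have hR' : IsAffine R'.left := isAffine_pullback_left e' e'
      exact inferInstanceAs (IsAffineHom (_ : R'.left ⟶ W.left))
    have h3 : IsAffineHom (t ≫ uu).left := MorphismProperty.of_isPullback_of_descendsAlong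
      (P := @IsAffineHom) (Q := Groth.Agent.H18Descent.fpqc.{u}) (sqR'.map (Over.forget S)).flip
      ⟨⟨‹Surjective c.left›, ‹Flat c.left›⟩, inferInstanceAs (QuasiCompact c.left)⟩ h2
    exact isAffine_of_isAffineHom (t ≫ uu).left
  have hR' : IsAffine R'.left := isAffine_pullback_left e' e'
  have : EffectiveEpi e'.left := inferInstance
  have hst' : s.left ≫ uu.left = t.left ≫ uu.left := congrArg (fun f => Over.Hom.left f) hst
  have sqR'' := sqR'.map (Over.forget S)
  have hsqR3 : IsPullback ρ.left (pullback.snd e' e' ≫ pullback.snd uu c).left (s.left ≫ uu.left) c.left := by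
    rw [hst']; exact sqR''
  have h₁' : pullback.fst e' e' ≫ pullback.snd uu c = pullback.snd e' e' ≫ pullback.snd uu c := by
    rw [← heb, pullback.condition_assoc]
  have sqUl : IsPullback (pullback.fst uu c).left (pullback.snd uu c).left uu.left c.left :=
    sqU.map (Over.forget S)
  have kerl : IsPullback (pullback.fst e' e').left (pullback.snd e' e').left e'.left e'.left :=
    ker.map (Over.forget S)
  obtain ⟨Z₀, z₀, u₀, φ, hZ₀, hu₀, hst₀, hφ, hφ₁, hφ₂⟩ := exists_affine_quotient c.left uu.left s.left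
    t.left hst' sqUl hsqR3 (pullback.fst e' e').left (pullback.snd e' e').left
    (congrArg (fun f => Over.Hom.left f) hρs.symm) (congrArg (fun f => Over.Hom.left f) h₁')
    (congrArg (fun f => Over.Hom.left f) hρt.symm) rfl e'.left kerl
  let Z₀' : Over S := Over.mk (z₀ ≫ Z.hom)
  let z : Z₀' ⟶ Z := Over.homMk z₀ rfl
  let u : U ⟶ Z₀' := Over.homMk u₀ (by
    change u₀ ≫ z₀ ≫ Z.hom = U.hom
    rw [reassoc_of% hu₀]; exact Over.w uu)
  have huz : u ≫ z = uu := Over.OverMorphism.ext hu₀
  have hsu : s ≫ u = t ≫ u := Over.OverMorphism.ext hst₀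
  have hd : Epi d := epi_of_local_lifts d fun T y => by
    obtain ⟨V, v, k', sq⟩ := hde.1 y
    have hve : Etale v.left := hde.2 y k' v sq
    have hvs : Surjective v.left := hds.2 y k' v sq
    exact ⟨PUnit, fun _ => V, fun _ => v, ofArrows_mem_J _ (fun _ => inferInstance) (fun _ => inferInstance)
      (fun t => ⟨⟨⟩, v.left.surjective t⟩), fun _ => ⟨k', sq.w⟩⟩
  have : EffectiveEpi d := by
    have := IsRegularEpiCategory.regularEpiOfEpi d
    infer_instance
  let κ : Q ⟶ (yon S).obj Z₀' := EffectiveEpi.desc d ((yon S).map u) fun g₁ g₂ hg => by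
    have h3 := congrArg (sqR.lift g₁ g₂ hg ≫ ·) (congrArg (yon S).map hsu)
    simp only [Functor.map_comp, ← Category.assoc, sqR.lift_fst, sqR.lift_snd] at h3
    exact h3
  have hκ : d ≫ κ = (yon S).map u := EffectiveEpi.fac _ _ _
  have hκz : κ ≫ (yon S).map z = pr := by
    rw [← cancel_epi d, reassoc_of% hκ, ← Functor.map_comp, huz, huu]
  -- base change of `κ`
  have sqZ := (IsPullback.of_hasPullback z c).map (Over.forget S)
  have hφ' : IsIso (φ ≫ (sqZ.isoPullback).inv) := inferInstance
  let φ₁ : Q' ⟶ pullback z c := pullback.lift (Over.homMk (φ ≫ pullback.fst z₀ c.left) (by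
      change (φ ≫ pullback.fst z₀ c.left) ≫ z₀ ≫ Z.hom = Q'.hom
      rw [Category.assoc, pullback.condition_assoc, Over.w c]
      rw [← cancel_epi e'.left, reassoc_of% hφ₂]
      rw [Over.w (pullback.snd uu c), Over.w e'])) b' (by
      apply Over.OverMorphism.ext
      change (φ ≫ pullback.fst z₀ c.left) ≫ z₀ = b'.left ≫ c.left
      rw [Category.assoc, pullback.condition, ← cancel_epi e'.left, reassoc_of% hφ₂]
      rw [← Over.comp_left, ← Over.comp_left, ← Over.comp_left, ← Category.assoc, heb])
  have hφb : φ ≫ pullback.snd z₀ c.left = b'.left := by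
    rw [← cancel_epi e'.left, hφ₂]
    exact (congrArg (fun f => Over.Hom.left f) heb).symm
  have hφ₁iso : IsIso φ₁ := by
    have h4 : φ₁.left = φ ≫ sqZ.isoPullback.inv := by
      apply sqZ.hom_ext
      · rw [Category.assoc]
        erw [sqZ.isoPullback_inv_fst]
        exact congrArg (fun f => Over.Hom.left f) (pullback.lift_fst _ _ _)
      · rw [Category.assoc]
        erw [sqZ.isoPullback_inv_snd]
        refine (congrArg (fun f => Over.Hom.left f) (pullback.lift_snd _ _ _)).trans ?_
        exact hφb.symm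
    have : IsIso ((Over.forget S).map φ₁) := by change IsIso φ₁.left; rw [h4]; exact hφ'
    exact isIso_of_reflects_iso φ₁ (Over.forget S)
  have hq'κ : q' ≫ κ = (yon S).map (φ₁ ≫ pullback.fst z c) := by
    have : Epi ((yon S).map e') := epi_of_local_lifts _ fun T y => by
      obtain ⟨y, rfl⟩ := (yon S).map_surjective y
      have sq := (IsPullback.of_hasPullback e' y).map (Over.forget S)
      have : Etale (pullback.snd e' y).left := MorphismProperty.of_isPullback (P := @Etale) sq he'e
      have : Surjective (pullback.snd e' y).left := MorphismProperty.of_isPullback (P := @Surjective) sq he's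
      exact ⟨PUnit, fun _ => _, fun _ => pullback.snd e' y, ofArrows_mem_J _ (fun _ => inferInstance)
        (fun _ => inferInstance) (fun t => ⟨⟨⟩, (pullback.snd e' y).left.surjective t⟩),
        fun _ => ⟨(yon S).map (pullback.fst e' y), by
          rw [← Functor.map_comp, ← Functor.map_comp, pullback.condition]⟩⟩
    rw [← cancel_epi ((yon S).map e'), ← Category.assoc, ← sqE.w, Category.assoc, hκ, ← Functor.map_comp,
      ← Functor.map_comp]
    congr 1
    apply Over.OverMorphism.ext
    simp only [φ₁, pullback.lift_fst]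
    exact hφ₁.symm
  have : Mono κ := by
    refine mono_of_yon fun T a b e => hom_ext_of_fpqc hQ.diag a b fun Z' j hZ' => ?_
    obtain ⟨y, hy⟩ := (yon S).map_surjective ((yon S).map j ≫ a ≫ κ ≫ (yon S).map z)
    have sqY := IsPullback.of_hasPullback y c
    have hY : IsAffine (pullback y c).left := isAffine_pullback_left y c
    refine ⟨1, fun _ => pullback y c, fun _ => pullback.fst y c, fun _ => hY,
      fun _ => MorphismProperty.of_isPullback (P := @Flat) (sqY.map (Over.forget S)).flip ‹Flat c.left›,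
      fun z' => ⟨0, (MorphismProperty.of_isPullback (P := @Surjective) (sqY.map (Over.forget S)).flip
        ‹Surjective c.left›).surj z'⟩, fun _ => ?_⟩
    have lifts : ∀ (a : (yon S).obj T ⟶ Q), (yon S).map j ≫ a ≫ κ ≫ (yon S).map z = (yon S).map y →
        ∃ a' : (yon S).obj (pullback y c) ⟶ (yon S).obj Q',
          a' ≫ q' = (yon S).map (pullback.fst y c ≫ j) ≫ a ∧
          a' ≫ (yon S).map b' = (yon S).map (pullback.snd y c) := by
      intro a ha
      refine ⟨sqQ.lift ((yon S).map (pullback.fst y c ≫ j) ≫ a) ((yon S).map (pullback.snd y c)) ?_,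
        sqQ.lift_fst .., sqQ.lift_snd ..⟩
      rw [Category.assoc, ← hκz, Functor.map_comp, Category.assoc, ha, ← Functor.map_comp,
        ← Functor.map_comp, pullback.condition]
    obtain ⟨a', ha₁, ha₂⟩ := lifts a hy.symm
    obtain ⟨b'', hb₁, hb₂⟩ := lifts b (by rw [← reassoc_of% e, hy])
    suffices a' = b'' by rw [← ha₁, ← hb₁, this]
    rw [← cancel_mono ((yon S).map φ₁)]
    apply ((IsPullback.of_hasPullback z c).map (yon S)).hom_ext
    · simp only [Category.assoc, ← Functor.map_comp, ← hq'κ, reassoc_of% ha₁, reassoc_of% hb₁, e]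
    · simp only [Category.assoc, ← Functor.map_comp, φ₁, pullback.lift_snd, ha₂, hb₂]
  have hus : Surjective u₀ ∧ Etale u₀ := by
    have sq3 : IsPullback (pullback.fst uu c).left (e'.left ≫ φ) u₀ (pullback.fst z₀ c.left) := by
      refine IsPullback.of_bot ?_ (by rw [Category.assoc, hφ₁]) (IsPullback.of_hasPullback z₀ c.left)
      rw [Category.assoc, hφ₂, hu₀]
      exact sqU.map (Over.forget S)
    have h6 : Surjective (e'.left ≫ φ) := inferInstance
    have h7 : Etale (e'.left ≫ φ) := inferInstance
    have hf : Groth.Agent.H18Descent.fpqc.{u} (pullback.fst z₀ c.left) :=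
      MorphismProperty.of_isPullback (P := Groth.Agent.H18Descent.fpqc.{u})
        (IsPullback.of_hasPullback z₀ c.left).flip
        ⟨⟨‹Surjective c.left›, ‹Flat c.left›⟩, inferInstanceAs (QuasiCompact c.left)⟩
    refine ⟨⟨fun x => ?_⟩, MorphismProperty.of_isPullback_of_descendsAlong
      (P := @Etale) (Q := Groth.Agent.H18Descent.fpqc.{u}) sq3.flip hf h7⟩
    obtain ⟨w, rfl⟩ := hf.1.1.surj x
    obtain ⟨v, rfl⟩ := h6.surj w
    exact ⟨(pullback.fst uu c).left v, congrArg (fun f => f v) sq3.w⟩
  have : IsIso κ := by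
    refine isIso_of_mono_of_local_lifts κ fun T y => ?_
    obtain ⟨y, rfl⟩ := (yon S).map_surjective y
    have sq := (IsPullback.of_hasPullback u y).map (Over.forget S)
    have : Etale (pullback.snd u y).left := MorphismProperty.of_isPullback (P := @Etale) sq hus.2
    have : Surjective (pullback.snd u y).left :=
      MorphismProperty.of_isPullback (P := @Surjective) sq hus.1
    exact ⟨PUnit, fun _ => _, fun _ => pullback.snd u y, ofArrows_mem_J _ (fun _ => inferInstance)
      (fun _ => inferInstance) (fun t => ⟨⟨⟩, (pullback.snd u y).left.surjective t⟩),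
      fun _ => ⟨(yon S).map (pullback.fst u y) ≫ d, by
        rw [Category.assoc, hκ, ← Functor.map_comp, ← Functor.map_comp, pullback.condition]⟩⟩
  exact ⟨Z₀', z, κ, hZ₀, ‹_›, hκz⟩

end Groth.Agent.H13AlgSp
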