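import Groth.Agent.H13AlgSp.FlatEqualizer
import Mathlib.AlgebraicGeometry.Morphisms.Flat
import Mathlib.AlgebraicGeometry.Morphisms.FlatRank
import Mathlib.CategoryTheory.EffectiveEpi.Basic

/-!
The quotient of a flat base-change affine equivalence relation.
-/

universe u

open CategoryTheory CategoryTheory.Limits AlgebraicGeometry

namespace Groth.Agent.H13AlgSp

set_option backward.isDefEq.respectTransparency.types false in
theorem exists_affine_quotient {Z W U R U' R' Q' : Scheme.{u}} [IsAffine Z] [IsAffine W] [IsAffine U]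
    [IsAffine R] [IsAffine U'] [IsAffine R'] [IsAffine Q'] (c : W ⟶ Z) [Flat c] (uu : U ⟶ Z)
    (s t : R ⟶ U) (hst : s ≫ uu = t ≫ uu) {cU : U' ⟶ U} {cW : U' ⟶ W}
    (sqU : IsPullback cU cW uu c) {cR : R' ⟶ R} {wR : R' ⟶ W} (sqR : IsPullback cR wR (s ≫ uu) c)
    (p₁ p₂ : R' ⟶ U') (h₁ : p₁ ≫ cU = cR ≫ s) (h₁' : p₁ ≫ cW = wR) (h₂ : p₂ ≫ cU = cR ≫ t)
    (h₂' : p₂ ≫ cW = wR) (e : U' ⟶ Q') [EffectiveEpi e] (ker : IsPullback p₁ p₂ e e) :
    ∃ (Z₀ : Scheme.{u}) (z₀ : Z₀ ⟶ Z) (u₀ : U ⟶ Z₀) (φ : Q' ⟶ pullback z₀ c),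
      IsAffine Z₀ ∧ u₀ ≫ z₀ = uu ∧ s ≫ u₀ = t ≫ u₀ ∧ IsIso φ ∧
      e ≫ φ ≫ pullback.fst z₀ c = cU ≫ u₀ ∧ e ≫ φ ≫ pullback.snd z₀ c = cW := by
  let A₀ := RingHom.eqLocus s.appTop.hom t.appTop.hom
  let ι₀ : CommRingCat.of A₀ ⟶ Γ(U, ⊤) := CommRingCat.ofHom A₀.subtype
  have huu : ∀ x, uu.appTop.hom x ∈ A₀ := fun x => congr(($(hst)).appTop.hom x)
  let α₀ : Γ(Z, ⊤) ⟶ CommRingCat.of A₀ := CommRingCat.ofHom (uu.appTop.hom.codRestrict A₀ huu)
  have hαι : α₀ ≫ ι₀ = uu.appTop := rfl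
  let u₀ : U ⟶ Spec (CommRingCat.of A₀) := U.isoSpec.hom ≫ Spec.map ι₀
  let z₀ : Spec (CommRingCat.of A₀) ⟶ Z := Spec.map α₀ ≫ Z.isoSpec.inv
  have hu₀ : u₀ ≫ z₀ = uu := by
    simp only [u₀, z₀, Category.assoc]
    rw [← Spec.map_comp_assoc, hαι, Scheme.isoSpec_hom_naturality_assoc]
    simp
  have happ : u₀.appTop = (Scheme.ΓSpecIso (CommRingCat.of A₀)).hom ≫ ι₀ := by
    rw [show u₀ = U.toSpecΓ ≫ Spec.map ι₀ from rfl, Scheme.Hom.comp_appTop, Scheme.toSpecΓ_appTop,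
      Scheme.ΓSpecIso_naturality]
  have hinj : Function.Injective u₀.appTop.hom := by
    rw [happ, CommRingCat.hom_comp, RingHom.coe_comp]
    exact Subtype.val_injective.comp
      (ConcreteCategory.bijective_of_isIso (Scheme.ΓSpecIso (CommRingCat.of A₀)).hom).injective
  have hrange : ∀ x, s.appTop.hom x = t.appTop.hom x ↔ x ∈ Set.range u₀.appTop.hom := by
    intro x
    rw [happ, CommRingCat.hom_comp, RingHom.coe_comp, Set.range_comp,
      (ConcreteCategory.bijective_of_isIso (Scheme.ΓSpecIso (CommRingCat.of A₀)).hom).surjective.range_eq,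
      Set.image_univ]
    exact ⟨fun h => ⟨⟨x, h⟩, rfl⟩, by rintro ⟨⟨y, hy⟩, rfl⟩; exact hy⟩
  have hst₀ : s ≫ u₀ = t ≫ u₀ := ext_of_isAffine (by
    ext x
    exact (hrange _).2 ⟨x, rfl⟩)
  have sqA := IsPullback.of_hasPullback z₀ c
  have : IsAffine (pullback z₀ c) := inferInstance
  let u₀' : U' ⟶ pullback z₀ c :=
    pullback.lift (cU ≫ u₀) cW (by rw [Category.assoc, hu₀, sqU.w])
  have hu₀'₁ : u₀' ≫ pullback.fst z₀ c = cU ≫ u₀ := pullback.lift_fst _ _ _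
  have hu₀'₂ : u₀' ≫ pullback.snd z₀ c = cW := pullback.lift_snd _ _ _
  obtain ⟨hinj', hrange'⟩ := injective_and_range_of_flat (r := c.appTop) c.flat_appTop
    (isPushout_appTop_of_isPullback sqA).flip (isPushout_appTop_of_isPullback sqU).flip
    (isPushout_appTop_of_isPullback sqR).flip
    (ι := u₀.appTop) (by rw [← Scheme.Hom.comp_appTop, hu₀])
    (f := s.appTop) (g := t.appTop) (by rw [← Scheme.Hom.comp_appTop])
    (by rw [← Scheme.Hom.comp_appTop, hst]) hinj hrange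
    (ι' := u₀'.appTop) (by rw [← Scheme.Hom.comp_appTop, hu₀'₂])
    (by rw [← Scheme.Hom.comp_appTop, ← Scheme.Hom.comp_appTop, hu₀'₁])
    (f' := p₁.appTop) (g' := p₂.appTop) (by rw [← Scheme.Hom.comp_appTop, h₁'])
    (by rw [← Scheme.Hom.comp_appTop, ← Scheme.Hom.comp_appTop, h₁])
    (by rw [← Scheme.Hom.comp_appTop, h₂'])
    (by rw [← Scheme.Hom.comp_appTop, ← Scheme.Hom.comp_appTop, h₂])
  have hp : p₁ ≫ u₀' = p₂ ≫ u₀' := by
    apply pullback.hom_ext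
    · rw [Category.assoc, Category.assoc, hu₀'₁, reassoc_of% h₁, reassoc_of% h₂, hst₀]
    · rw [Category.assoc, Category.assoc, hu₀'₂, h₁', h₂']
  let φ : Q' ⟶ pullback z₀ c := EffectiveEpi.desc e u₀' fun g₁ g₂ hg => by
    have h3 := congrArg (ker.lift g₁ g₂ hg ≫ ·) hp
    simp only [← Category.assoc, ker.lift_fst, ker.lift_snd] at h3
    exact h3
  have hφ : e ≫ φ = u₀' := EffectiveEpi.fac _ _ _
  have he : ∀ x, e.appTop.hom x ∈ u₀'.appTop.hom.range := fun x =>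
    hrange' _ congr(($(ker.w)).appTop.hom x)
  let E := RingEquiv.ofBijective u₀'.appTop.hom.rangeRestrict
    ⟨fun a b h => hinj' (congrArg Subtype.val h), RingHom.rangeRestrict_surjective _⟩
  let ρ : Γ(Q', ⊤) ⟶ Γ(pullback z₀ c, ⊤) :=
    CommRingCat.ofHom (E.symm.toRingHom.comp (e.appTop.hom.codRestrict _ he))
  have hρ : ρ ≫ u₀'.appTop = e.appTop := by
    ext x
    exact congr(($(E.apply_symm_apply ⟨e.appTop.hom x, he x⟩)).1)
  let ψ : pullback z₀ c ⟶ Q' := (pullback z₀ c).isoSpec.hom ≫ Spec.map ρ ≫ Q'.isoSpec.inv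
  have hψ : u₀' ≫ ψ = e := by
    simp only [ψ]
    rw [← Scheme.isoSpec_hom_naturality_assoc u₀', ← Spec.map_comp_assoc, hρ,
      Scheme.isoSpec_hom_naturality_assoc]
    simp
  have h1 : φ ≫ ψ = 𝟙 _ := by
    rw [← cancel_epi e, reassoc_of% hφ, hψ, Category.comp_id]
  have h2 : ψ ≫ φ = 𝟙 _ := ext_of_isAffine (by
    ext x
    apply hinj'
    have h3 : u₀' ≫ ψ ≫ φ = u₀' ≫ 𝟙 _ := by rw [reassoc_of% hψ, hφ, Category.comp_id]
    exact congr(($(h3)).appTop.hom x))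
  exact ⟨_, z₀, u₀, φ, inferInstance, hu₀, hst₀, ⟨ψ, h1, h2⟩,
    by rw [reassoc_of% hφ, hu₀'₁], by rw [reassoc_of% hφ, hu₀'₂]⟩

end Groth.Agent.H13AlgSp
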