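import Groth.Agent.H13AlgSp.FieldExtConn
import Mathlib.RingTheory.Spectrum.Prime.Topology

/-!
Descending clopen sets of base changes along algebraic field extensions to finite levels.
-/

universe u

open CategoryTheory CategoryTheory.Limits AlgebraicGeometry Opposite Topology
open AlgSp Groth.Agent.H12AlgSp
open scoped TensorProduct

namespace Groth.Agent.H13AlgSp

variable {k : Type u} [Field k] (R L : Type u) [Field R] [Algebra k R] [Field L] [Algebra k L]

/-- The spectrum of a tensor product of extensions as an object over the base field. -/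
noncomputable abbrev tensorObj : Over (Spec (CommRingCat.of k)) :=
  Over.mk (Spec.map (CommRingCat.ofHom (algebraMap k (R ⊗[k] L))))

noncomputable def tensorFst : tensorObj (k := k) R L ⟶ extObj k R :=
  Over.homMk (Spec.map (CommRingCat.ofHom (Algebra.TensorProduct.includeLeftRingHom))) (by
    change Spec.map _ ≫ Spec.map _ = Spec.map _
    rw [← Spec.map_comp, ← CommRingCat.ofHom_comp]
    try rfl)

noncomputable def tensorSnd : tensorObj (k := k) R L ⟶ extObj k L :=
  Over.homMk (Spec.map (CommRingCat.ofHom (Algebra.TensorProduct.includeRight (R := k) (A := R) (B := L)).toRingHom)) (by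
    change Spec.map _ ≫ Spec.map _ = Spec.map _
    rw [← Spec.map_comp, ← CommRingCat.ofHom_comp,
      show (Algebra.TensorProduct.includeRight (R := k) (A := R) (B := L)).toRingHom.comp (algebraMap k L) =
        algebraMap k (R ⊗[k] L) from RingHom.ext (Algebra.TensorProduct.includeRight (R := k) (A := R) (B := L)).commutes])

/-- The product of spectra of extensions is the spectrum of the tensor product. -/
noncomputable def tensorLift :
    (yon (Spec (CommRingCat.of k))).obj (tensorObj (k := k) R L) ⟶
      (yon _).obj (extObj k R) ⨯ (yon _).obj (extObj k L) :=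
  prod.lift ((yon _).map (tensorFst R L)) ((yon _).map (tensorSnd R L))

theorem isIso_tensorLift : IsIso (tensorLift (k := k) R L) := by
  have hterm : IsTerminal ((yon (Spec (CommRingCat.of k))).obj (Over.mk (𝟙 _))) :=
    IsTerminal.isTerminalObj (yon _) _ Over.mkIdTerminal
  have e : ∀ (K : Type u) [Field K] [Algebra k K], (Over.mkIdTerminal.from (extObj k K)).left =
      Spec.map (CommRingCat.ofHom (algebraMap k K)) := fun K _ _ =>
    (Category.comp_id _).symm.trans (Over.w (Over.mkIdTerminal.from (extObj k K)))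
  have sqO : IsPullback (tensorFst (k := k) R L) (tensorSnd R L) (Over.mkIdTerminal.from _) (Over.mkIdTerminal.from _) := by
    refine IsPullback.of_map (Over.forget _) (Over.mkIdTerminal.hom_ext _ _) ?_
    change IsPullback _ _ (Over.mkIdTerminal.from (extObj k R)).left (Over.mkIdTerminal.from (extObj k L)).left
    rw [e, e]
    exact IsPullback.of_iso_pullback ⟨by
        change Spec.map _ ≫ Spec.map _ = Spec.map _ ≫ Spec.map _
        rw [← Spec.map_comp, ← Spec.map_comp, ← CommRingCat.ofHom_comp, ← CommRingCat.ofHom_comp]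
        congr 2
        ext x
        simp [RingHom.algebraMap_toAlgebra]⟩ (pullbackSpecIso k R L).symm
      (pullbackSpecIso_inv_fst k R L) (pullbackSpecIso_inv_snd k R L)
  have sq := sqO.map (yon (Spec (CommRingCat.of k)))
  rw [hterm.hom_ext ((yon _).map (Over.mkIdTerminal.from (extObj k R))) (hterm.from _),
    hterm.hom_ext ((yon _).map (Over.mkIdTerminal.from (extObj k L))) (hterm.from _)] at sq
  have sqP : IsPullback (prod.fst : (yon _).obj (extObj k R) ⨯ (yon _).obj (extObj k L) ⟶ _) prod.snd
      (hterm.from _) (hterm.from _) := IsPullback.of_is_product (prodIsProd _ _) hterm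
  have : tensorLift R L = (sq.isoIsPullback _ _ sqP).hom := by
    refine sqP.hom_ext ?_ ?_
    · rw [IsPullback.isoIsPullback_hom_fst, tensorLift, Limits.prod.lift_fst]
    · rw [IsPullback.isoIsPullback_hom_snd, tensorLift, Limits.prod.lift_snd]
  rw [this]
  infer_instance

theorem bijective_ofPt_tensorLift : Function.Bijective (Points.ofPt (tensorLift (k := k) R L)) := by
  have := isIso_tensorLift (k := k) R L
  have e : Points.ofPt (tensorLift (k := k) R L) = Points.map (tensorLift R L) ∘ Points.schemeHomeo _ :=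
    funext fun t => Points.ofPt_eq_map_ofScheme _ t
  rw [e]
  refine Function.Bijective.comp ?_ (Points.schemeHomeo _).bijective
  exact Function.bijective_iff_has_inverse.2 ⟨Points.map (inv (tensorLift R L)),
    fun z => by rw [← Points.map_comp, IsIso.hom_inv_id, Points.map_id],
    fun z => by rw [← Points.map_comp, IsIso.inv_hom_id, Points.map_id]⟩

variable {R} {K : Type u} [Field K] [Algebra k K]

/-- A clopen set of the product with a field of an algebraic extension is saturated over a finite level. -/
theorem exists_level_saturated [Algebra.IsAlgebraic k K]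
    (B : Set (Points ((yon (Spec (CommRingCat.of k))).obj (extObj k R) ⨯ (yon _).obj (extObj k K)))) (hB : IsClopen B) :
    ∃ L : IntermediateField k K, Module.Finite k L ∧ ∀ a b,
      Points.map (bcSpMap _ L.val) a = Points.map (bcSpMap _ L.val) b → a ∈ B → b ∈ B := by
  obtain ⟨e, -, he⟩ := PrimeSpectrum.exists_idempotent_basicOpen_eq_of_isClopen
    (hB.preimage (Points.continuous_ofPt (tensorLift (k := k) R K)) :
      IsClopen (X := PrimeSpectrum (R ⊗[k] K)) (Points.ofPt (tensorLift R K) ⁻¹' B))
  obtain ⟨L, hL, ⟨e', he'⟩, -⟩ := Groth.Agent.H02CA.GeomIrred.exists_finite_subextension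
    (Algebra.TensorProduct.comm k R K e) (Algebra.TensorProduct.comm k R K e)
  refine ⟨L, hL, fun a b hab ha => ?_⟩
  let G : R ⊗[k] L →ₐ[k] R ⊗[k] K := Algebra.TensorProduct.map (AlgHom.id k R) L.val
  have hG : G (Algebra.TensorProduct.comm k L R e') = e := by
    apply (Algebra.TensorProduct.comm k R K).injective
    refine Eq.trans ?_ he'
    have : ((Algebra.TensorProduct.comm k R K).toAlgHom.comp G).comp (Algebra.TensorProduct.comm k L R).toAlgHom =
        Algebra.TensorProduct.map L.val (AlgHom.id k R) := by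
      ext x <;> simp [G]
    exact congr($this e')
  let g : tensorObj (k := k) R K ⟶ tensorObj (k := k) R L := Over.homMk (Spec.map (CommRingCat.ofHom G.toRingHom)) (by
    change Spec.map _ ≫ Spec.map _ = Spec.map _
    rw [← Spec.map_comp, ← CommRingCat.ofHom_comp,
      show G.toRingHom.comp (algebraMap k (R ⊗[k] L)) = algebraMap k (R ⊗[k] K) from RingHom.ext G.commutes])
  have hcomm : tensorLift (k := k) R K ≫ bcSpMap _ L.val = (yon _).map g ≫ tensorLift R L := by
    apply Limits.prod.hom_ext
    · simp only [tensorLift, Category.assoc, Limits.prod.map_fst, Category.comp_id, Limits.prod.lift_fst,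
        ← Functor.map_comp]
      congr 1
      refine Over.OverMorphism.ext ?_
      change Spec.map _ = Spec.map _ ≫ Spec.map _
      rw [← Spec.map_comp, ← CommRingCat.ofHom_comp]
      congr 2
      all_goals (ext x; simp [G])
    · simp only [tensorLift, Category.assoc, Limits.prod.map_snd, Limits.prod.lift_snd_assoc, Limits.prod.lift_snd,
        ← Functor.map_comp]
      congr 1
      refine Over.OverMorphism.ext ?_
      change Spec.map _ ≫ Spec.map _ = Spec.map _ ≫ Spec.map _
      rw [← Spec.map_comp, ← Spec.map_comp, ← CommRingCat.ofHom_comp, ← CommRingCat.ofHom_comp]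
      congr 2
      all_goals (ext x; simp [G])
  obtain ⟨a', rfl⟩ := (bijective_ofPt_tensorLift (k := k) R K).2 a
  obtain ⟨b', rfl⟩ := (bijective_ofPt_tensorLift (k := k) R K).2 b
  have h2 : g.left a' = g.left b' := by
    apply (bijective_ofPt_tensorLift (k := k) R L).1
    rw [← ofPt_map, ← ofPt_map, ← hcomm, ← Points.map_ofPt, ← Points.map_ofPt, hab]
  let cG : PrimeSpectrum (R ⊗[k] K) → PrimeSpectrum (R ⊗[k] L) := PrimeSpectrum.comap G.toRingHom
  have h3 : ∀ c : PrimeSpectrum (R ⊗[k] K), Points.ofPt (tensorLift R K) c ∈ B ↔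
      Algebra.TensorProduct.comm k L R e' ∉ (cG c).asIdeal := fun c => by
    change c ∈ Points.ofPt (tensorLift R K) ⁻¹' B ↔ _
    rw [show (cG c).asIdeal = c.asIdeal.comap G.toRingHom from rfl, Ideal.mem_comap, show G.toRingHom _ = e from hG]
    exact (Set.ext_iff.1 he c).trans (PrimeSpectrum.mem_basicOpen e c)
  have h2' : cG a' = cG b' := h2
  rw [h3, ← h2', ← h3]
  exact ha

theorem bcSpMap_fst (X : Sp (Spec (CommRingCat.of k))) {L E : Type u} [Field L] [Field E] [Algebra k L] [Algebra k E]
    (a : L →ₐ[k] E) : bcSpMap X a ≫ prod.fst = prod.fst := by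
  simp

theorem isOpenMap_isClosedMap_prod_fst (X : Sp (Spec (CommRingCat.of k))) (L : Type u) [Field L] [Algebra k L]
    [Algebra.IsAlgebraic k L] :
    IsOpenMap (Points.map (prod.fst : bcSp X L ⟶ X)) ∧ IsClosedMap (Points.map (prod.fst : bcSp X L ⟶ X)) := by
  obtain ⟨q, sq⟩ := exists_bcSp_square X L
  have e : (Over.mkIdTerminal.from (extObj k L)).left = Spec.map (CommRingCat.ofHom (algebraMap k L)) :=
    (Category.comp_id _).symm.trans (Over.w (Over.mkIdTerminal.from (extObj k L)))
  have : DiscreteTopology (Spec (CommRingCat.of k)) := inferInstanceAs (DiscreteTopology (PrimeSpectrum k))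
  have : IsIntegralHom (Spec.map (CommRingCat.ofHom (algebraMap k L))) :=
    IsIntegralHom.SpecMap_iff.mpr (algebraMap_isIntegral_iff.mpr inferInstance)
  constructor
  · refine isOpenMap_map_of_repWith le_rfl (repWith_of_isPullback sq.flip ((repWith_yon_map_iff @UniversallyOpen _).2 ?_))
    rw [e]
    exact @Groth.Agent.H06Desc.universallyOpen_of_discreteTopology _ (Spec (CommRingCat.of k)) _ ‹_›
  · refine isClosedMap_map_of_repWith le_rfl (repWith_of_isPullback sq.flip ((repWith_yon_map_iff @UniversallyClosed _).2 ?_))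
    rw [e]
    infer_instance

theorem isClopenMap_bcSpMap (X : Sp (Spec (CommRingCat.of k))) {L E : Type u} [Field L] [Field E] [Algebra k L]
    [Algebra k E] [Algebra.IsAlgebraic k E] (a : L →ₐ[k] E) (A : Set (Points (bcSp X E))) (hA : IsClopen A) :
    IsClopen (Points.map (bcSpMap X a) '' A) := by
  have : IsIntegralHom (Spec.map (CommRingCat.ofHom a.toRingHom)) := by
    refine IsIntegralHom.SpecMap_iff.mpr fun x => ?_
    obtain ⟨p, hp, hpx⟩ := Algebra.IsIntegral.isIntegral (R := k) x
    refine ⟨p.map (algebraMap k L), hp.map _, ?_⟩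
    rw [Polynomial.eval₂_map, CommRingCat.hom_ofHom, show a.toRingHom.comp (algebraMap k L) = algebraMap k E from
      RingHom.ext a.commutes]
    exact hpx
  exact ⟨isClosedMap_map_of_repWith le_rfl (repWith_bcSpMap @UniversallyClosed a inferInstance) _ hA.isClosed,
    isOpenMap_bcSpMap a _ hA.isOpen⟩

/-- A space connected over all finite levels of an algebraic extension is connected over it. -/
theorem connectedSpace_bcSp_of_levels (X : Sp (Spec (CommRingCat.of k))) [Algebra.IsAlgebraic k K]
    (h : ∀ L : IntermediateField k K, Module.Finite k L → ConnectedSpace (Points (bcSp X L))) :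
    ConnectedSpace (Points (bcSp X K)) := by
  have hbot := h ⊥ inferInstance
  have hXc : ConnectedSpace (Points X) := by
    rw [connectedSpace_iff_univ, ← (surjective_map_prod_fst X (⊥ : IntermediateField k K)).range_eq]
    exact isConnected_range (Points.continuous_map _)
  obtain ⟨x₀⟩ := (inferInstance : Nonempty (Points X))
  obtain ⟨z₀, -⟩ := surjective_map_prod_fst X K x₀
  refine connectedSpace_iff_clopen.2 ⟨⟨z₀⟩, fun A hA => ?_⟩
  by_contra! hne
  obtain ⟨r, rfl⟩ := Quotient.exists_rep x₀
  obtain ⟨φ, hφ⟩ := Spec.map_surjective (R := CommRingCat.of k) (S := CommRingCat.of r.K) r.str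
  letI : Algebra k r.K := φ.hom.toAlgebra
  have hpt : extObj k r.K = r.pt := by
    change Over.mk _ = Over.mk r.str
    rw [← hφ]
    rfl
  obtain ⟨ρ, hρ⟩ : ∃ ρ : (yon _).obj (extObj k r.K) ⟶ X,
      ∀ (E : Type u) [Field E] [Algebra k E] (v : Points (bcSp X E)), Points.map prod.fst v = Points.mk r →
        ∃ c, Points.map (prod.map ρ (𝟙 ((yon _).obj (extObj k E)))) c = v := by
    suffices hr : ∀ (P : Over (Spec (CommRingCat.of k))) (ρ : (yon _).obj P ⟶ X) (t : P.left),
        Points.ofPt ρ t = Points.mk r → ∀ (E : Type u) [Field E] [Algebra k E] (v : Points (bcSp X E)),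
          Points.map prod.fst v = Points.mk r →
          ∃ c, Points.map (prod.map ρ (𝟙 ((yon _).obj (extObj k E)))) c = v by
      revert hpt
      generalize extObj k r.K = P
      rintro rfl
      exact ⟨r.toHom, hr r.pt r.toHom (IsLocalRing.closedPoint r.K) (Points.ofPt_toHom r _)⟩
    intro P ρ t ht E _ _ v hv
    obtain ⟨c, hc, -⟩ := exists_point_of_isPullback (isPullback_prod_map_fst' (Y := (yon _).obj (extObj k E)) ρ) v
      (Points.ofScheme P t) (by rw [hv, ← Points.ofPt_eq_map_ofScheme, ht])
    exact ⟨c, hc⟩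
  obtain ⟨L, hL, hsat⟩ := exists_level_saturated (R := r.K) (K := K)
    (Points.map (prod.map ρ (𝟙 _)) ⁻¹' A) (hA.preimage (Points.continuous_map _))
  let π := Points.map (bcSpMap X L.val)
  let πL := Points.map (prod.fst : bcSp X L ⟶ X)
  have hD : IsClopen (π '' A ∩ π '' Aᶜ) :=
    (isClopenMap_bcSpMap X L.val A hA).inter (isClopenMap_bcSpMap X L.val _ hA.compl)
  have : Algebra.IsAlgebraic k L := inferInstance
  obtain ⟨ho, hc⟩ := isOpenMap_isClosedMap_prod_fst X L
  have hx : Points.mk r ∉ πL '' (π '' A ∩ π '' Aᶜ) := by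
    rintro ⟨d, ⟨⟨a, ha, rfl⟩, ⟨b, hb, hab⟩⟩, hd⟩
    change Points.map prod.fst (Points.map (bcSpMap X L.val) a) = Points.mk r at hd
    rw [← Points.map_comp, bcSpMap_fst] at hd
    obtain ⟨a', rfl⟩ := hρ K a hd
    have sq : IsPullback (prod.map ρ (𝟙 ((yon _).obj (extObj k K))))
        (bcSpMap ((yon _).obj (extObj k r.K)) L.val) (bcSpMap X L.val)
        (prod.map ρ (𝟙 ((yon _).obj (extObj k L)))) := by
      refine IsPullback.of_bot ?_ (by ext <;> simp) (isPullback_prod_map_fst' ρ)
      simpa using isPullback_prod_map_fst' (Y := (yon _).obj (extObj k K)) ρ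
    obtain ⟨b', hb1, hb2⟩ := exists_point_of_isPullback sq b (Points.map (bcSpMap _ L.val) a') (by
      rw [show Points.map (bcSpMap X L.val) b = _ from hab, ← Points.map_comp]
      dsimp only [π]
      rw [← Points.map_comp]
      congr 1
      exact sq.w)
    refine hb ?_
    rw [← hb1]
    exact hsat a' b' hb2.symm ha
  have hE : πL '' (π '' A ∩ π '' Aᶜ) = ∅ := by
    rcases isClopen_iff.1 (⟨hc _ hD.isClosed, ho _ hD.isOpen⟩ : IsClopen (πL '' (π '' A ∩ π '' Aᶜ))) with h' | h'
    · exact h'
    · exact absurd (h' ▸ Set.mem_univ _) hx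
  have hdisj : π '' A ∩ π '' Aᶜ = ∅ := Set.image_eq_empty.1 hE
  have := h L hL
  obtain ⟨a, ha⟩ := hne.1
  obtain ⟨b, hb⟩ := Set.nonempty_compl.2 hne.2
  rcases isClopen_iff.1 (isClopenMap_bcSpMap X L.val A hA) with h' | h'
  · exact (Set.image_eq_empty.1 h' ▸ ha : a ∈ (∅ : Set _))
  · exact Set.notMem_empty _ (hdisj ▸ ⟨h' ▸ Set.mem_univ (π b), b, hb, rfl⟩ : π b ∈ (∅ : Set _))

end Groth.Agent.H13AlgSp
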