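import Groth.Agent.H13AlgSp.DecentDense
import Groth.Agent.H13AlgSp.DecentCriteria
import Groth.Agent.H13AlgSp.DecentGeneric
import Groth.Agent.H17.Fibre

/-!
Decent spaces with finitely many irreducible components.
-/

universe u

open CategoryTheory CategoryTheory.Limits AlgebraicGeometry Opposite Topology TopologicalSpace
open AlgSp Groth.Agent.H12AlgSp

namespace Groth.Agent.H13AlgSp

section Topology

variable {α β : Type*} [TopologicalSpace α] [TopologicalSpace β] {e : α → β}

theorem finite_components_of_openEmbedding (he : IsOpenEmbedding e) (h : (irreducibleComponents β).Finite) :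
    (irreducibleComponents α).Finite := by
  have hex : ∀ T : irreducibleComponents α, ∃ Z : irreducibleComponents β, e '' T.1 ⊆ Z.1 := fun T => by
    obtain ⟨Z, hZ, hle⟩ := exists_mem_irreducibleComponents_subset_of_isIrreducible _
      (T.2.1.image e he.continuous.continuousOn)
    exact ⟨⟨Z, hZ⟩, hle⟩
  choose Z hZ using hex
  have := h.to_subtype
  refine Set.finite_coe_iff.1 (Finite.of_injective Z fun T T' hTT => Subtype.ext ?_)
  have key : ∀ T : irreducibleComponents α, e ⁻¹' (Z T).1 = T.1 := fun T => by
    refine (T.2.eq_of_subset ?_ (Set.image_subset_iff.1 (hZ T))).symm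
    obtain ⟨x, hx⟩ := T.2.1.1
    exact IsIrreducible.preimage (Z T).2.1 he ⟨e x, hZ T ⟨x, hx, rfl⟩, x, rfl⟩
  rw [← key T, ← key T', hTT]

theorem finite_components_of_dense (hc : Continuous e) (hd : DenseRange e)
    (h : (irreducibleComponents α).Finite) : (irreducibleComponents β).Finite := by
  refine (h.image fun T => closure (e '' T)).subset fun Z hZ => ?_
  have huniv : (Set.univ : Set β) = ⋃ T ∈ irreducibleComponents α, closure (e '' T) := by
    rw [← h.closure_biUnion, ← Set.image_iUnion₂, ← hd.closure_range]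
    congr 1
    rw [← Set.image_univ]
    congr 1
    refine (Set.eq_univ_of_forall fun x => ?_).symm
    exact Set.mem_iUnion₂.2 ⟨irreducibleComponent x, irreducibleComponent_mem_irreducibleComponents x,
      mem_irreducibleComponent⟩
  obtain ⟨_, ⟨T, hT, rfl⟩, hle⟩ := (isIrreducible_iff_sUnion_isClosed.1 hZ.1)
    (h.toFinset.image fun T => closure (e '' T))
    (by simp) (by
      intro z _
      obtain ⟨T, hT, hz⟩ := Set.mem_iUnion₂.1 (huniv.le (Set.mem_univ z))
      exact ⟨closure (e '' T), by simpa using ⟨T, hT, rfl⟩, hz⟩)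
    |> fun ⟨t, ht, hle⟩ => (⟨t, by simpa using ht, hle⟩ :
      ∃ t ∈ (fun T => closure (e '' T)) '' irreducibleComponents α, Z ⊆ t)
  exact ⟨T, hT, (hZ.eq_of_subset ((hT.1.image e hc.continuousOn).closure) hle).symm⟩

end Topology

variable {S : Scheme.{u}}

theorem isOpenEmbedding_ofPt {X : Sp S} (hX : IsAlgSpace X) {X' : Over S} {j : (yon S).obj X' ⟶ X}
    (hj : RepWith @IsOpenImmersion j) : IsOpenEmbedding (Points.ofPt j) := by
  have h1 : IsEmbedding (Points.map j) :=
    (isEmbedding_of_immersion hX j (repWith_le (Q := @IsImmersion) (fun _ _ k (_ : IsOpenImmersion k) => inferInstance) hj)).1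
  have h2 : IsOpenMap (Points.map j) :=
    isOpenMap_map_of_repWith (fun _ _ k (_ : IsOpenImmersion k) => inferInstance) hj
  rw [show Points.ofPt j = Points.map j ∘ Points.schemeHomeo X' from
    funext fun t => Points.ofPt_eq_map_ofScheme j t]
  exact (⟨h1, h2.isOpen_range⟩ : IsOpenEmbedding (Points.map j)).comp (Points.schemeHomeo X').isOpenEmbedding

theorem isOpenEmbedding_ofPt_injective {X : Sp S} {X' : Over S} {j : (yon S).obj X' ⟶ X}
    (hj : RepWith @IsOpenImmersion j) {x y : X'.left} (h : Points.ofPt j x = Points.ofPt j y) : x = y := by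
  have := mono_of_openImmersion hj
  rw [Points.ofPt_eq_map_ofScheme, Points.ofPt_eq_map_ofScheme] at h
  exact (Points.schemeEquiv X').injective (injective_map_of_mono j h)

/-- A generic point of a chart lying over an open subscheme lies over a generic point of it. -/
theorem exists_generic_preimage {X : Sp S} {X' : Over S} {j : (yon S).obj X' ⟶ X}
    (hj : RepWith @IsOpenImmersion j) {V : Over S} {b : (yon S).obj V ⟶ X} (hb : RepWith @Etale b) {w : V.left}
    (hw : w ∈ genericPoints V.left) {x' : X'.left} (h : Points.ofPt j x' = Points.ofPt b w) :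
    x' ∈ genericPoints X'.left := by
  obtain ⟨W, f, fst, sq⟩ := hb.1 j
  obtain ⟨g, rfl⟩ := (yon S).map_surjective fst
  have hfe : Etale f.left := hb.2 _ _ _ sq
  have hgo : IsOpenImmersion g.left := hj.2 _ _ _ sq.flip
  have hmem : Points.ofPt b w ∈ Set.range (Points.map j) := h ▸ ofPt_mem_range j x'
  obtain ⟨w', hw'⟩ : w ∈ Set.range g.left := (preimage_ofPt_range sq.flip).le hmem
  have hx : f.left w' = x' := (isOpenEmbedding_ofPt_injective hj (by
    rw [← ofPt_map, ← sq.w, ofPt_map, hw', h]))
  rw [Groth.Agent.H8Props.mem_genericPoints_iff] at hw ⊢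
  intro y hy
  obtain ⟨y', hy', rfl⟩ := Flat.generalizingMap f.left (a := w') (hx.symm ▸ hy)
  have : g.left y' = g.left w' := by rw [hw']; exact hw _ (hw' ▸ hy'.map g.left.continuous)
  rw [← hx, g.left.isOpenEmbedding.injective this]

/-- A dense open subscheme with finitely many components and quasi-compact generic points forces decency. -/
theorem isDecent_of_dense_open {X : Sp S} (hX : IsAlgSpace X) {X' : Over S} {j : (yon S).obj X' ⟶ X}
    (hj : RepWith @IsOpenImmersion j) (hdense : Dense (Set.range (Points.ofPt j)))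
    (hfin : (irreducibleComponents X'.left).Finite)
    (hqc : ∀ x' : X'.left, (∃ T ∈ irreducibleComponents X'.left, IsGenericPoint x' T) →
      RepWith @QuasiCompact (FieldPt.ofPt j x').toHom) : IsDecent X := by
  refine isDecent_of_finite_geometric hX fun V b hV hb K _ _ str p => ?_
  have hqc' : ∀ x' ∈ genericPoints X'.left, RepWith @QuasiCompact (FieldPt.ofPt j x').toHom := fun x' hx' =>
    hqc x' ((isGenericPoint_component_iff x').2 fun y hy => by
      rw [Groth.Agent.H8Props.mem_genericPoints_iff.1 hx' y hy])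
  have hgfin : (genericPoints X'.left).Finite := genericPoints.finite hfin
  let O : Set V.left := Points.ofPt b ⁻¹' Set.range (Points.ofPt j)
  let F : Set V.left := ⋃ x' ∈ genericPoints X'.left, Points.ofPt b ⁻¹' {Points.ofPt j x'}
  have hFfin : F.Finite := hgfin.biUnion fun x' hx' => by
    refine (finite_fibre_affine (FieldPt.ofPt j x') (hqc' x' hx') hb).subset fun v hv => ?_
    exact hv
  have hOF : O ⊆ closure F := fun v hv => by
    obtain ⟨w, hw, hwv⟩ := Groth.Agent.H17.exists_genericPoint_specializes v
    have hw' : Points.ofPt b w ∈ Set.range (Points.ofPt j) := (hwv.map (Points.continuous_ofPt b)).mem_open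
      (isOpenEmbedding_ofPt hX hj).isOpen_range hv
    obtain ⟨x', hx'⟩ := hw'
    exact closure_mono (Set.singleton_subset_iff.2
      (Set.mem_iUnion₂.2 ⟨x', exists_generic_preimage hj hb hw hx', hx'.symm⟩)) hwv.mem_closure
  have hcl : closure F = Set.univ := by
    have h1 : closure O = Set.univ :=
      (hdense.preimage (isOpenMap_ofPt_of_repWith etale_le_universallyOpen hb)).closure_eq
    exact Set.univ_subset_iff.1 (h1 ▸ closure_minimal hOF isClosed_closure)
  have hgenF : genericPoints V.left ⊆ F := fun w hw => by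
    have hw1 : w ∈ closure F := hcl ▸ Set.mem_univ w
    rw [← Set.biUnion_of_singleton F, hFfin.closure_biUnion] at hw1
    obtain ⟨v, hv, hvw⟩ := Set.mem_iUnion₂.1 hw1
    rwa [← Groth.Agent.H8Props.mem_genericPoints_iff.1 hw v (specializes_iff_mem_closure.2 hvw)]
  by_cases hne : {e : Over.mk str ⟶ V | (yon S).map e ≫ b = p}.Nonempty
  swap
  · rw [Set.not_nonempty_iff_eq_empty.1 hne]; exact Set.finite_empty
  obtain ⟨e₀, he₀ : (yon S).map e₀ ≫ b = p⟩ := hne
  obtain ⟨R, s, t', sq⟩ := hb.1 b
  obtain ⟨t, rfl⟩ := (yon S).map_surjective t'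
  have hse : Etale s.left := hb.2 b _ s sq
  have : IsSeparated s.left := isSeparated_of_selfProduct sq
  let v : V.left := e₀.left (IsLocalRing.closedPoint K)
  obtain ⟨η, hη, hηv⟩ := Groth.Agent.H17.exists_genericPoint_specializes v
  obtain ⟨x', hx', hηx⟩ := Set.mem_iUnion₂.1 (hgenF hη)
  have hfib : (s.left ⁻¹' {η}).Finite := by
    refine (finite_fibre_rel hX (FieldPt.ofPt j x') (hqc' x' hx') hb sq).subset fun r hr => ?_
    show Points.ofPt ((yon S).map t ≫ b) r = Points.mk (FieldPt.ofPt j x')
    rw [ofPt_map, ofPt_target_eq_source sq r, show s.left r = η from hr]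
    exact hηx
  obtain ⟨n, hn⟩ := exists_not_atLeast s.left hfib
  refine Set.not_infinite.1 fun hinf => hn (hηv.mem_open (isOpen_atLeast s.left n) ?_)
  obtain ⟨es, hes, hcard⟩ := hinf.exists_subset_card_eq n
  let φ : Fin n ≃ es := (es.equivFinOfCardEq hcard).symm
  have hw : ∀ i, (yon S).map (φ i).1 ≫ b = (yon S).map e₀ ≫ b := fun i => (hes (φ i).2).trans he₀.symm
  refine ⟨K, inferInstance, e₀.left, fun i => (pairLift sq _ _ (hw i)).left, rfl, fun i i' h => ?_, fun i => ?_⟩
  · refine φ.injective (Subtype.ext ?_)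
    rw [← pairLift_t sq _ _ (hw i), ← pairLift_t sq _ _ (hw i')]
    exact congrArg (· ≫ t) (Over.OverMorphism.ext h)
  · exact congrArg CommaMorphism.left (pairLift_s sq _ _ (hw i))

/-- Decency with finitely many components in terms of a dense open subscheme. -/
theorem isDecent_and_finite_components_iff (X : Space S) :
    (IsDecent X.obj ∧ (irreducibleComponents (Points X.obj)).Finite) ↔
      ∃ (X' : Over S) (j : (yon S).obj X' ⟶ X.obj), RepWith @IsOpenImmersion j ∧
        Dense (Set.range (Points.ofPt j)) ∧ (irreducibleComponents X'.left).Finite ∧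
        ∀ x' : X'.left, (∃ T ∈ irreducibleComponents X'.left, IsGenericPoint x' T) →
          RepWith @QuasiCompact (FieldPt.ofPt j x').toHom := by
  constructor
  · rintro ⟨hd, hfin⟩
    obtain ⟨X'', j, hj, hrep, hdense⟩ := exists_dense_open_subscheme X hd
    obtain ⟨Y, ⟨e⟩⟩ := hrep.has_representation
    let j' : (yon S).obj Y ⟶ X.obj := (isoOfRepresentableBy e).hom ≫ j.hom
    have hj' : RepWith @IsOpenImmersion j' := repWith_comp (repWith_of_isIso _) hj
    refine ⟨Y, j', hj', ?_, finite_components_of_openEmbedding (isOpenEmbedding_ofPt X.property hj') hfin,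
      fun x' _ => ?_⟩
    · refine hdense.mono ?_
      rintro _ ⟨z, rfl⟩
      rw [← range_map_yon]
      exact ⟨Points.map (isoOfRepresentableBy e).inv z, by rw [← Points.map_comp, Iso.inv_hom_id_assoc]⟩
    · obtain ⟨p, hp, -, hpq⟩ := hd (Points.ofPt j' x')
      exact repWith_qc_of_qc X.property _ p hpq hp.symm
  · rintro ⟨X', j, hj, hdense, hfin, hqc⟩
    exact ⟨isDecent_of_dense_open X.property hj hdense hfin hqc,
      finite_components_of_dense (Points.continuous_ofPt j) hdense hfin⟩

end Groth.Agent.H13AlgSp
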