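import Groth.Prelude.Def_W4stk3decentspacesp2Birat
import Groth.Agent.H13AlgSp.DecentComponents
import Groth.Agent.H12AlgSp.OpenSub
import Groth.Agent.H17.Birat
import Groth.Agent.H17.Fibre
import Groth.Agent.S4366

/-!
# Birational morphisms of decent spaces near generic points
-/

set_option autoImplicit false
set_option backward.isDefEq.respectTransparency false
set_option linter.style.haveILetI false

universe u

open CategoryTheory CategoryTheory.Limits AlgebraicGeometry Topology TopologicalSpace
open AlgSp Groth.Agent.H12AlgSp W4stk3decentspacesp2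

noncomputable section

namespace Groth.Agent.H13AlgSp.Birat

variable {S : Scheme.{u}}

theorem component_iff_mem {α : Type*} [TopologicalSpace α] {x : α} :
    (∃ T ∈ irreducibleComponents α, IsGenericPoint x T) ↔ x ∈ genericPoints α :=
  ⟨fun ⟨_, hT, hx⟩ => (hx.def ▸ hT : closure {x} ∈ irreducibleComponents α), fun h => ⟨_, h, rfl⟩⟩

theorem mem_genericPoints_chart {X : Sp S} (hX : IsAlgSpace X) (hd : IsDecent X) {U : Over S}
    {a : (yon S).obj U ⟶ X} (ha : RepWith @Etale a) (u : U.left) :
    Points.ofPt a u ∈ genericPoints (Points X) ↔ u ∈ genericPoints U.left :=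
  component_iff_mem.symm.trans (component_iff_mem_genericPoints hX hd ha u)

theorem etale_of_openImm {X : Sp S} {U : Over S} {a : (yon S).obj U ⟶ X} (ha : RepWith @IsOpenImmersion a) :
    RepWith @Etale a :=
  repWith_le (Q := @Etale) (fun _ _ k (_ : IsOpenImmersion k) => inferInstance) ha

/-- A point in the fibre whose residue extension is integral has no proper specialization in the fibre. -/
theorem eq_of_specializes_of_isIntegral {X Y : Scheme.{u}} (f : X ⟶ Y) {w w' : X} (hs : w ⤳ w')
    (he : f w' = f w) (hint : (f.residueFieldMap w).hom.IsIntegral) : w' = w := by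
  obtain ⟨z, hz⟩ : w' ∈ Set.range (f.fiberι (f w)) := by rw [f.range_fiberι]; exact he
  have h1 : f.asFiber w ⤳ z := by
    rw [← (f.fiberι (f w)).isEmbedding.isInducing.specializes_iff, f.fiberι_asFiber, hz]
    exact hs
  have h2 : z = f.asFiber w :=
    (H17.isClosed_singleton_asFiber f w hint).closure_eq.le (specializes_iff_mem_closure.1 h1)
  rw [← hz, h2, f.fiberι_asFiber]

theorem isIntegral_residueFieldMap_etale {X Y : Scheme.{u}} (f : X ⟶ Y) [Etale f] (x : X) :
    (f.residueFieldMap x).hom.IsIntegral := by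
  haveI := H12AlgSp.lqf_of_etale f
  haveI : DiscreteTopology ↥(f.fiber (f x)) := by
    have hd := (f.isDiscrete_preimage_singleton (f x)).to_subtype
    exact (f.fiberHomeo (f x)).discreteTopology_iff.2 hd
  exact RingHom.IsIntegral.of_finite (H17.finite_residueFieldMap f x (isClosed_discrete _))

theorem isIntegral_residueFieldMap_of_isIso {X Y : Scheme.{u}} (f : X ⟶ Y) (x : X) [IsIso (f.stalkMap x)] :
    (f.residueFieldMap x).hom.IsIntegral := by
  refine RingHom.IsIntegral.of_finite (RingHom.Finite.of_surjective _ fun z => ?_)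
  obtain ⟨z', rfl⟩ := Scheme.residue_surjective X x z
  obtain ⟨t, rfl⟩ := (ConcreteCategory.bijective_of_isIso (f.stalkMap x)).2 z'
  exact ⟨Y.residue (f x) t, by
    rw [← CommRingCat.comp_apply, Scheme.residue_residueFieldMap, CommRingCat.comp_apply]⟩

/-- The fibre of a birational morphism over a generic point is a single point. -/
theorem eq_of_map_eq_generic {X Y : Space S} {f : X ⟶ Y} (hX : IsDecent X.obj) (hY : IsDecent Y.obj)
    (hf : IsBirational f.hom) {x x' : Points X.obj} (hx : x ∈ genericPoints (Points X.obj))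
    (h : Points.map f.hom x' = Points.map f.hom x) : x' = x := by
  haveI := H12AlgSp.t0Space_points Y.property hY
  haveI := quasiSober_of_isDecent Y.property hY
  obtain ⟨U, V, a, b, g, u, ha, hb, hab, hu, hiso⟩ := hf.stalkIso x hx
  obtain ⟨W, c, hc, hcs⟩ := X.property.atlas
  obtain ⟨w', rfl⟩ := surjective_ofPt_of_repWith le_rfl hcs x'
  obtain ⟨w, hw, hww⟩ := H17.exists_genericPoint_specializes w'
  have hcw := (mem_genericPoints_chart X.property hX hc w).2 hw
  have hy : Points.map f.hom x ∈ genericPoints (Points Y.obj) := hf.bijOn.mapsTo hx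
  have e0 : Points.map f.hom (Points.ofPt c w) = Points.map f.hom x := by
    refine H17.mem_genericPoints_iff.1 hy _ ?_
    rw [← h]
    exact (hww.map (Points.continuous_ofPt c)).map (Points.continuous_map _)
  obtain rfl : Points.ofPt c w = x := hf.bijOn.injOn hcw hx e0
  -- scheme charts
  obtain ⟨W₀, k, fst, sq⟩ := hb.1 (c ≫ f.hom)
  obtain ⟨h₀, rfl⟩ := (yon S).map_surjective fst
  have hko : IsOpenImmersion k.left := hb.2 _ _ _ sq
  obtain ⟨W₁, m, fst₁, sq₁⟩ := ha.1 c
  obtain ⟨q, rfl⟩ := (yon S).map_surjective fst₁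
  have hmo : IsOpenImmersion m.left := ha.2 _ _ _ sq₁
  have hqe : Etale q.left := hc.2 _ _ _ sq₁.flip
  obtain ⟨l', hl1, hl2⟩ := sq.exists_lift ((yon S).map (q ≫ g)) ((yon S).map m)
    (by rw [Functor.map_comp, Category.assoc, ← hab, ← Category.assoc, sq₁.w, Category.assoc])
  obtain ⟨l, rfl⟩ := (yon S).map_surjective l'
  rw [← Functor.map_comp] at hl1 hl2
  have hlh : l.left ≫ h₀.left = q.left ≫ g.left := by
    rw [← Over.comp_left, ← Over.comp_left, (yon S).map_injective hl1]
  have hlk : l.left ≫ k.left = m.left := by rw [← Over.comp_left, (yon S).map_injective hl2]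
  obtain ⟨w₁, hw₁⟩ : w ∈ Set.range m.left := by
    rw [← preimage_ofPt_range sq₁]
    rw [Set.mem_preimage, ← hu]
    exact ofPt_mem_range a u
  have hrk : Set.range k.left = Points.ofPt (c ≫ f.hom) ⁻¹' Set.range (Points.map b) :=
    (preimage_ofPt_range sq).symm
  obtain ⟨z', hz'⟩ : w' ∈ Set.range k.left := by
    rw [hrk, Set.mem_preimage, ← Points.map_ofPt, h, ← hu, Points.map_ofPt, hab, ofPt_map]
    exact ofPt_mem_range b _
  have hkl : k.left (l.left w₁) = w := by rw [← Scheme.Hom.comp_apply, hlk, hw₁]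
  have hzs : l.left w₁ ⤳ z' := by
    rw [← k.left.isEmbedding.isInducing.specializes_iff, hkl, hz']
    exact hww
  have heq : h₀.left z' = h₀.left (l.left w₁) := by
    apply isOpenEmbedding_ofPt_injective hb
    rw [← ofPt_map, ← ofPt_map, sq.w, ofPt_map, ofPt_map, hz', hkl, ← Points.map_ofPt, ← Points.map_ofPt, h]
  have hqu : q.left w₁ = u := by
    apply isOpenEmbedding_ofPt_injective ha
    rw [← ofPt_map, sq₁.w, ofPt_map, hw₁, hu]
  have hint : (h₀.left.residueFieldMap (l.left w₁)).hom.IsIntegral := by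
    haveI : IsIso (g.left.stalkMap (q.left w₁)) := by rw [hqu]; exact hiso
    have h1 : ((q.left ≫ g.left).residueFieldMap w₁).hom.IsIntegral := by
      rw [Scheme.residueFieldMap_comp, CommRingCat.hom_comp]
      exact RingHom.IsIntegral.trans _ _ (isIntegral_residueFieldMap_of_isIso g.left _)
        (isIntegral_residueFieldMap_etale q.left w₁)
    have h2 : ((l.left ≫ h₀.left).residueFieldMap w₁).hom.IsIntegral := by
      rw [Scheme.Hom.residueFieldMap_congr hlh, CommRingCat.hom_comp]
      exact RingHom.IsIntegral.trans _ _ (RingHom.IsIntegral.of_finite (RingHom.Finite.of_surjective _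
        (ConcreteCategory.bijective_of_isIso (C := CommRingCat) _).2)) h1
    rw [Scheme.residueFieldMap_comp, CommRingCat.hom_comp] at h2
    exact RingHom.IsIntegral.tower_bot _ _ (RingHom.injective _) h2
  rw [← hz', eq_of_specializes_of_isIntegral h₀.left hzs heq hint, hkl]

/-- Base change of a scheme morphism to the local ring of a point with one-point preimage of generalizations. -/
theorem isIso_snd_fromSpecStalk {U V : Scheme.{u}} (f : U ⟶ V) (x : U) [IsIso (f.stalkMap x)]
    (hy : f x ∈ genericPoints V) (hfib : ∀ z, f z = f x → z = x) :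
    IsIso (pullback.snd f (V.fromSpecStalk (f x))) := by
  set g := V.fromSpecStalk (f x)
  have hg : ∀ s, g s = f x := fun s =>
    H17.mem_genericPoints_iff.1 hy _ (show g s ∈ {z | z ⤳ f x} from
      Scheme.range_fromSpecStalk (x := f x) ▸ Set.mem_range_self s)
  have hgsub : Subsingleton (Spec (V.presheaf.stalk (f x))) :=
    ⟨fun a b => g.isEmbedding.injective ((hg a).trans (hg b).symm)⟩
  have hPsub : Subsingleton (pullback f g : Scheme.{u}) := by
    refine ⟨fun a b => (pullback.fst f g).isEmbedding.injective ?_⟩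
    have : ∀ c, pullback.fst f g c = x := fun c => by
      refine hfib _ ?_
      rw [← Scheme.Hom.comp_apply, pullback.condition, Scheme.Hom.comp_apply, hg]
    rw [this, this]
  haveI : Surjective (pullback.snd f g) := ⟨fun s => by
    obtain ⟨t, -, ht⟩ := Scheme.Pullback.exists_preimage_pullback (f := f) (g := g) x s (hg s).symm
    exact ⟨t, ht⟩⟩
  have hgiso : ∀ s, IsIso (g.stalkMap s) := fun s => by
    have hp : IsIso ((pullback.fst (𝟙 V) g).stalkMap (inv (pullback.snd (𝟙 V) g) s)) :=
      S4366.result (𝟙 V) (f x) _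
    have h : IsIso ((inv (pullback.snd (𝟙 V) g) ≫ pullback.fst (𝟙 V) g).stalkMap s) := by
      rw [Scheme.Hom.stalkMap_comp]
      exact @IsIso.comp_isIso _ _ _ _ _ _ _ hp inferInstance
    refine H17.Birat.isIso_stalkMap_congr ?_ s h
    rw [IsIso.inv_comp_eq, ← pullback.condition, Category.comp_id]
  haveI : ∀ t, IsIso ((pullback.snd f g).stalkMap t) := fun t => by
    have hp := S4366.result f (f x) t
    have hx' : pullback.fst f g t = x := hfib _ (by
      rw [← Scheme.Hom.comp_apply, pullback.condition, Scheme.Hom.comp_apply, hg])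
    have hf' : IsIso (f.stalkMap (pullback.fst f g t)) := by rw [hx']; infer_instance
    have h : IsIso ((pullback.fst f g ≫ f).stalkMap t) := by
      rw [Scheme.Hom.stalkMap_comp]
      exact @IsIso.comp_isIso _ _ _ _ _ _ _ hf' hp
    have h' := H17.Birat.isIso_stalkMap_congr pullback.condition t h
    have h'' : IsIso (g.stalkMap (pullback.snd f g t) ≫ (pullback.snd f g).stalkMap t) := by
      rw [← Scheme.Hom.stalkMap_comp]; exact h'
    exact @IsIso.of_isIso_comp_left _ _ _ _ _ _ _ (hgiso _) h''
  haveI : IsOpenImmersion (pullback.snd f g) := IsOpenImmersion.of_isIso_stalkMap _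
    (.of_continuous_injective_isOpenMap (pullback.snd f g).continuous
      (Function.injective_of_subsingleton _) fun O _ => by
        rcases Set.eq_empty_or_nonempty ((pullback.snd f g) '' O) with h | ⟨w, hw⟩
        · rw [h]; exact isOpen_empty
        · rw [show (pullback.snd f g) '' O = Set.univ from
            Set.eq_univ_of_forall fun s => Subsingleton.elim w s ▸ hw]
          exact isOpen_univ)
  exact (isIso_iff_isOpenImmersion_and_surjective _).2 ⟨inferInstance, inferInstance⟩

/-- Open subscheme diagrams of a birational morphism inside a prescribed open subscheme of the target. -/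
theorem exists_diag {X Y : Space S} {f : X ⟶ Y} (hf : IsBirational f.hom) {x : Points X.obj}
    (hx : x ∈ genericPoints (Points X.obj)) {V : Over S} {b : (yon S).obj V ⟶ Y.obj}
    (hb : RepWith @IsOpenImmersion b) (hxb : Points.map f.hom x ∈ Set.range (Points.map b)) :
    ∃ (U : Over S) (a : (yon S).obj U ⟶ X.obj) (g : U ⟶ V) (u : U.left), RepWith @IsOpenImmersion a ∧
      a ≫ f.hom = (yon S).map g ≫ b ∧ Points.ofPt a u = x ∧ IsIso (g.left.stalkMap u) := by
  obtain ⟨U', V', a', b', g', u', ha', hb', hab, hu, hiso⟩ := hf.stalkIso x hx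
  obtain ⟨U, m, fst, sq⟩ := hb.1 (a' ≫ f.hom)
  obtain ⟨g, rfl⟩ := (yon S).map_surjective fst
  haveI hmo : IsOpenImmersion m.left := hb.2 _ _ _ sq
  obtain ⟨u, rfl⟩ : u' ∈ Set.range m.left := by
    rw [← preimage_ofPt_range sq]
    show Points.ofPt (a' ≫ f.hom) u' ∈ Set.range (Points.map b)
    rw [← Points.map_ofPt, hu]
    exact hxb
  refine ⟨U, (yon S).map m ≫ a', g, u, repWith_comp (repWith_of_isPullback sq hb) ha', ?_,
    by rw [ofPt_map, hu], ?_⟩
  · rw [Category.assoc, sq.w]
  obtain ⟨Q, j₂, fst₂, sq₂⟩ := hb.1 b'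
  obtain ⟨j₁, rfl⟩ := (yon S).map_surjective fst₂
  haveI : IsOpenImmersion j₂.left := hb.2 _ _ _ sq₂
  haveI : IsOpenImmersion j₁.left := hb'.2 _ _ _ sq₂.flip
  obtain ⟨l', hl1, hl2⟩ := sq₂.exists_lift ((yon S).map g) ((yon S).map (m ≫ g'))
    (by rw [sq.w, hab, Functor.map_comp, Category.assoc])
  obtain ⟨l, rfl⟩ := (yon S).map_surjective l'
  rw [← Functor.map_comp] at hl1 hl2
  have e1 : l.left ≫ j₁.left = g.left := by rw [← Over.comp_left, (yon S).map_injective hl1]
  have e2 : m.left ≫ g'.left = l.left ≫ j₂.left := by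
    rw [← Over.comp_left, ← Over.comp_left, (yon S).map_injective hl2]
  have h1 : IsIso ((m.left ≫ g'.left).stalkMap u) := by
    rw [Scheme.Hom.stalkMap_comp]
    exact @IsIso.comp_isIso _ _ _ _ _ _ _ hiso inferInstance
  have h2 : IsIso (j₂.left.stalkMap (l.left u) ≫ l.left.stalkMap u) := by
    rw [← Scheme.Hom.stalkMap_comp]; exact H17.Birat.isIso_stalkMap_congr e2 u h1
  haveI : IsIso (l.left.stalkMap u) := IsIso.of_isIso_comp_left (j₂.left.stalkMap (l.left u)) _
  refine H17.Birat.isIso_stalkMap_congr e1 u ?_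
  rw [Scheme.Hom.stalkMap_comp]
  infer_instance

/-- Base change to the local ring at a generic point is an isomorphism. -/
theorem isIso_snd_at_generic {X Y : Space S} (f : X ⟶ Y) (hX : IsDecent X.obj) (hY : IsDecent Y.obj)
    (hf : IsBirational f.hom) {V : Over S} (b : (yon S).obj V ⟶ Y.obj)
    (hb : RepWith @IsOpenImmersion b) (v : V.left)
    (hv : Points.ofPt b v ∈ genericPoints (Points Y.obj)) {P : Sp S} (fst : P ⟶ X.obj)
    (snd : P ⟶ (yon S).obj (Over.mk (V.left.fromSpecStalk v ≫ V.hom)))
    (hP : IsPullback fst snd f.hom ((yon S).map (Over.homMk (V.left.fromSpecStalk v) rfl) ≫ b)) :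
    IsIso snd := by
  have hvg : v ∈ genericPoints V.left := (mem_genericPoints_chart Y.property hY (etale_of_openImm hb) v).1 hv
  obtain ⟨x, hx, hxv⟩ := hf.bijOn.surjOn hv
  obtain ⟨U, a, g, u, ha, hab, hu, hiso⟩ := exists_diag hf hx hb (hxv ▸ ofPt_mem_range b v)
  haveI := mono_of_openImmersion hb
  haveI := mono_of_openImmersion ha
  have hgu : g.left u = v := by
    apply isOpenEmbedding_ofPt_injective hb
    rw [← hxv, ← hu, Points.map_ofPt, hab, ofPt_map]
  have hfib : ∀ z, g.left z = g.left u → z = u := fun z hz => by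
    apply isOpenEmbedding_ofPt_injective ha
    rw [hu]
    refine eq_of_map_eq_generic hX hY hf hx ?_
    rw [Points.map_ofPt, hab, ofPt_map, hz, hgu, hxv]
  subst hgu
  let T : Over S := Over.mk (V.left.fromSpecStalk (g.left u) ≫ V.hom)
  let lz : T ⟶ V := Over.homMk (V.left.fromSpecStalk (g.left u)) rfl
  obtain ⟨k, hk⟩ := exists_factor_open ha fst (by
    rintro _ ⟨p, rfl⟩
    obtain ⟨t, ht⟩ := (Points.schemeHomeo T).surjective (Points.map snd p)
    have e : Points.map f.hom (Points.map fst p) = Points.map f.hom x := by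
      rw [hxv, ← Points.map_comp, hP.w, Points.map_comp, ← ht]
      refine (Points.ofPt_eq_map_ofScheme _ t).symm.trans ?_
      rw [ofPt_map]
      congr 1
      exact H17.mem_genericPoints_iff.1 hvg _ (show lz.left t ∈ {z | z ⤳ g.left u} from
        Scheme.range_fromSpecStalk (x := g.left u) ▸ Set.mem_range_self t)
    rw [eq_of_map_eq_generic hX hY hf hx e, ← hu]
    exact ofPt_mem_range a u)
  have sq1 : IsPullback k snd ((yon S).map g) ((yon S).map lz) := by
    have w : k ≫ (yon S).map g = snd ≫ (yon S).map lz := by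
      rw [← cancel_mono b, Category.assoc, ← hab, ← Category.assoc, hk, hP.w, Category.assoc]
    refine ⟨⟨w⟩, ⟨PullbackCone.IsLimit.mk w (fun s => hP.lift (s.fst ≫ a) s.snd ?_) (fun s => ?_) (fun s => ?_)
      fun s m h1 h2 => ?_⟩⟩
    · rw [Category.assoc, hab, ← Category.assoc, s.condition, Category.assoc]
    · rw [← cancel_mono a, Category.assoc, hk, hP.lift_fst]
    · exact hP.lift_snd _ _ _
    · exact hP.hom_ext (by rw [hP.lift_fst, ← h1, Category.assoc, hk]) (by rw [hP.lift_snd, h2])
  have sq2 : IsPullback (pullback.fst g lz) (pullback.snd g lz) g lz := IsPullback.of_hasPullback g lz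
  have hi : IsIso (pullback.snd g lz).left := by
    have sq3 := sq2.map (Over.forget S)
    haveI := isIso_snd_fromSpecStalk g.left u hvg hfib
    rw [show (pullback.snd g lz).left = sq3.isoPullback.hom ≫ pullback.snd g.left (V.left.fromSpecStalk (g.left u))
      from sq3.isoPullback_hom_snd.symm]
    infer_instance
  haveI : IsIso ((Over.forget S).map (pullback.snd g lz)) := hi
  haveI : IsIso (pullback.snd g lz) := isIso_of_reflects_iso _ (Over.forget S)
  have sq4 := sq2.map (yon S)
  rw [show snd = (sq1.isoIsPullback _ _ sq4).hom ≫ (yon S).map (pullback.snd g lz) from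
    (sq1.isoIsPullback_hom_snd _ _ sq4).symm]
  infer_instance

end Groth.Agent.H13AlgSp.Birat
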