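import Groth.Agent.H13AlgSp.BiratOpen
import Groth.Agent.H12AlgSp.DecentLocal
import Groth.Agent.S10383
import Groth.Agent.S10395

/-!
# Birationality is stable under etale base change
-/

set_option autoImplicit false
set_option backward.isDefEq.respectTransparency false
set_option linter.style.haveILetI false

universe u

open CategoryTheory CategoryTheory.Limits AlgebraicGeometry Topology TopologicalSpace
open AlgSp Groth.Agent.H12AlgSp W4stk3decentspacesp2

noncomputable section

namespace Groth.Agent.H13AlgSp.Birat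

variable {S : Scheme.{u}}

/-- Base change of a morphism that is an isomorphism at a generic point. -/
theorem exists_unique_generic_baseChange {U V V' Q : Scheme.{u}} {g : U ⟶ V} {e : V' ⟶ V} {p : Q ⟶ U}
    {q : Q ⟶ V'} (sq : IsPullback p q g e) (u : U) [IsIso (g.stalkMap u)] (hv : g u ∈ genericPoints V)
    (hfib : ∀ z, g z = g u → z = u) (v' : V') (hv' : v' ∈ genericPoints V') (he : e v' = g u) :
    ∃ t : Q, q t = v' ∧ (∀ t', q t' = v' → t' = t) ∧ IsIso (q.stalkMap t) := by
  let c := V'.fromSpecStalk v'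
  have hU : IsIso (pullback.snd g (V.fromSpecStalk (g u))) := isIso_snd_fromSpecStalk g u hv hfib
  have hc : ∀ s, c s = v' := fun s =>
    H17.mem_genericPoints_iff.1 hv' _ (show c s ∈ {z | z ⤳ v'} from
      Scheme.range_fromSpecStalk (x := v') ▸ Set.mem_range_self s)
  haveI hsub : Subsingleton (Spec (V'.presheaf.stalk v')) :=
    ⟨fun a b => c.isEmbedding.injective ((hc a).trans (hc b).symm)⟩
  haveI : IsIso (pullback.snd q c) := by
    have big : IsPullback (pullback.fst q c ≫ p) (pullback.snd q c) g (c ≫ e) :=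
      (IsPullback.of_hasPullback q c).paste_horiz sq
    obtain ⟨k, hk⟩ : ∃ k : Spec (V'.presheaf.stalk v') ⟶ Spec (V.presheaf.stalk (g u)),
        k ≫ V.fromSpecStalk (g u) = c ≫ e :=
      ⟨Spec.map (e.stalkMap v') ≫ Spec.map (V.presheaf.stalkCongr (.of_eq he.symm)).hom, by
        rw [Category.assoc, TopCat.Presheaf.stalkCongr_hom]
        simp [Scheme.SpecMap_stalkSpecializes_fromSpecStalk, c]⟩
    let sqU := IsPullback.of_hasPullback g (V.fromSpecStalk (g u))
    let l := sqU.lift (pullback.fst q c ≫ p) (pullback.snd q c ≫ k) (by rw [big.w, Category.assoc, hk])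
    have sq2 : IsPullback l (pullback.snd q c) (pullback.snd g (V.fromSpecStalk (g u))) k :=
      IsPullback.of_right (by rw [sqU.lift_fst, hk]; exact big) (sqU.lift_snd _ _ _) sqU
    exact sq2.isIso_snd_of_isIso
  obtain ⟨s⟩ : Nonempty (Spec (V'.presheaf.stalk v')) := inferInstance
  have hbij := (Scheme.Hom.homeomorph (pullback.snd q c)).bijective
  haveI : Subsingleton (pullback q c : Scheme.{u}) := ⟨fun a b => hbij.1 (Subsingleton.elim _ _)⟩
  obtain ⟨t₀, -⟩ := hbij.2 s
  refine ⟨pullback.fst q c t₀, ?_, fun t' ht' => ?_, ?_⟩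
  · rw [← Scheme.Hom.comp_apply, pullback.condition, Scheme.Hom.comp_apply, hc]
  · obtain ⟨t₁, ht₁, -⟩ := Scheme.Pullback.exists_preimage_pullback (f := q) (g := c) t' s (ht'.trans (hc s).symm)
    rw [← ht₁, Subsingleton.elim t₁ t₀]
  · haveI hgiso : ∀ r, IsIso (c.stalkMap r) := fun r => by
      have hp : IsIso ((pullback.fst (𝟙 V') c).stalkMap (inv (pullback.snd (𝟙 V') c) r)) :=
        S4366.result (𝟙 V') v' _
      have h : IsIso ((inv (pullback.snd (𝟙 V') c) ≫ pullback.fst (𝟙 V') c).stalkMap r) := by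
        rw [Scheme.Hom.stalkMap_comp]
        exact @IsIso.comp_isIso _ _ _ _ _ _ _ hp inferInstance
      refine H17.Birat.isIso_stalkMap_congr ?_ r h
      rw [IsIso.inv_comp_eq, ← pullback.condition, Category.comp_id]
    haveI := S4366.result q v' t₀
    have h : IsIso ((pullback.snd q c ≫ c).stalkMap t₀) := by
      rw [Scheme.Hom.stalkMap_comp]
      infer_instance
    haveI := H17.Birat.isIso_stalkMap_congr pullback.condition.symm t₀ h
    exact H17.Birat.isIso_stalkMap_of_comp (pullback.fst q c) q t₀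

theorem finite_components_of_generic {α : Type*} [TopologicalSpace α] [QuasiSober α]
    (h : (genericPoints α).Finite) : (irreducibleComponents α).Finite := by
  refine (h.image fun x => closure {x}).subset fun T hT => ?_
  obtain ⟨x, hx⟩ := QuasiSober.sober hT.1 (isClosed_of_mem_irreducibleComponents T hT)
  exact ⟨x, (hx.def.symm ▸ hT : closure {x} ∈ irreducibleComponents α), hx.def⟩

/-- Etale affine base change of a birational morphism. -/
theorem birational_baseChange {X Y : Space S} (f : X ⟶ Y) (hX : IsDecent X.obj) (hY : IsDecent Y.obj)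
    (hXf : (irreducibleComponents (Points X.obj)).Finite) (hYf : (irreducibleComponents (Points Y.obj)).Finite)
    (hf : IsBirational f.hom) {V : Over S} [IsAffine V.left] (b : (yon S).obj V ⟶ Y.obj)
    (hb : RepWith @Etale b) {P : Sp S} (fst : P ⟶ X.obj) (snd : P ⟶ (yon S).obj V)
    (hP : IsPullback fst snd f.hom b) :
    IsDecent P ∧ (irreducibleComponents (Points P)).Finite ∧
      (irreducibleComponents (Points ((yon S).obj V))).Finite ∧ IsBirational snd := by
  haveI := H12AlgSp.t0Space_points Y.property hY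
  haveI := quasiSober_of_isDecent Y.property hY
  haveI := quasiSober_of_isDecent X.property hX
  have hPa : IsAlgSpace P := ObjectProperty.prop_of_iso IsAlgSpace hP.isoPullback.symm
    (H12AlgSp.isAlgSpace_pullback Y.property.diag X.property (IsAlgSpace.yon_obj V) f.hom b)
  let PS : Space S := ⟨P, hPa⟩
  let VS : Space S := ⟨(yon S).obj V, IsAlgSpace.yon_obj V⟩
  have hPd : IsDecent P := S10383.result (X := X) (Y := Y) (Z := VS) (P := PS) f (ObjectProperty.homMk b)
    (ObjectProperty.homMk fst) (ObjectProperty.homMk snd) hP hX (isDecent_yon V)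
  haveI := quasiSober_of_isDecent hPa hPd
  haveI := quasiSober_of_isDecent VS.property (isDecent_yon V)
  have hfst : IsEtaleMor fst := fun _ a ha =>
    H12AlgSp.repWith_comp ha (H12AlgSp.repWith_of_isPullback hP.flip hb)
  have genP : ∀ p, p ∈ genericPoints (Points P) ↔ Points.map fst p ∈ genericPoints (Points X.obj) := fun p =>
    component_iff_mem.symm.trans ((component_iff_of_isEtaleMor X.property hPa hX hfst p).trans component_iff_mem)
  have genV : ∀ v, Points.ofScheme V v ∈ genericPoints (Points ((yon S).obj V)) ↔ v ∈ genericPoints V.left :=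
    fun v => by
      rw [← mem_genericPoints_chart VS.property (isDecent_yon V) (repWith_id _ V) v]
  have genY : ∀ v, Points.ofPt b v ∈ genericPoints (Points Y.obj) ↔ v ∈ genericPoints V.left :=
    mem_genericPoints_chart Y.property hY hb
  have hVfin : (genericPoints V.left).Finite := by
    refine ((genericPoints.finite hYf).biUnion fun y _ =>
      finite_fibre_of_isDecent hY y V b inferInstance hb).subset fun v hv => ?_
    exact Set.mem_biUnion ((genY v).2 hv) (rfl : v ∈ Points.ofPt b ⁻¹' {Points.ofPt b v})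
  have hbP : ∀ p, Points.map b (Points.map snd p) = Points.map f.hom (Points.map fst p) := fun p => by
    rw [← Points.map_comp, ← Points.map_comp, hP.w]
  have core : ∀ v ∈ genericPoints V.left, ∃ p : Points P, p ∈ genericPoints (Points P) ∧
      Points.map snd p = Points.ofScheme V v ∧ (∀ p', Points.map snd p' = Points.ofScheme V v → p' = p) ∧
      ∃ (Q W : Over S) (a : (yon S).obj Q ⟶ P) (m : (yon S).obj W ⟶ (yon S).obj V) (g : Q ⟶ W) (t : Q.left),
        RepWith @IsOpenImmersion a ∧ RepWith @IsOpenImmersion m ∧ a ≫ snd = (yon S).map g ≫ m ∧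
          Points.ofPt a t = p ∧ IsIso (g.left.stalkMap t) := by
    intro v hv
    have hy := (genY v).2 hv
    obtain ⟨x, hx, hxy⟩ := hf.bijOn.surjOn hy
    obtain ⟨U₀, V₀, a₀, b₀, g₀, u, ha₀, hb₀, hab₀, hu, hiso⟩ := hf.stalkIso x hx
    obtain ⟨V₁, m, fst₁, sq₁⟩ := hb₀.1 b
    obtain ⟨e, rfl⟩ := (yon S).map_surjective fst₁
    haveI : IsOpenImmersion m.left := hb₀.2 _ _ _ sq₁
    have hyu : Points.ofPt b₀ (g₀.left u) = Points.ofPt b v := by
      rw [← hxy, ← hu, Points.map_ofPt, hab₀, ofPt_map]
    have hgv : g₀.left u ∈ genericPoints V₀.left :=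
      (mem_genericPoints_chart Y.property hY (etale_of_openImm hb₀) _).1 (hyu ▸ hy)
    have hfib : ∀ z, g₀.left z = g₀.left u → z = u := fun z hz => by
      apply isOpenEmbedding_ofPt_injective ha₀
      rw [hu]
      refine eq_of_map_eq_generic hX hY hf hx ?_
      rw [Points.map_ofPt, hab₀, ofPt_map, hz, hyu, hxy]
    obtain ⟨v₁, rfl⟩ : v ∈ Set.range m.left := by
      rw [← preimage_ofPt_range sq₁, Set.mem_preimage, ← hyu]
      exact ofPt_mem_range b₀ _
    have hev : e.left v₁ = g₀.left u := isOpenEmbedding_ofPt_injective hb₀ (by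
      rw [← ofPt_map, sq₁.w, ofPt_map, hyu])
    have hv₁ : v₁ ∈ genericPoints V₁.left := H17.mem_genericPoints_iff.2 fun z hz =>
      m.left.isEmbedding.injective (H17.mem_genericPoints_iff.1 hv _ (hz.map m.left.continuous))
    let Q := pullback g₀ e
    let pU : Q ⟶ U₀ := pullback.fst g₀ e
    let pV : Q ⟶ V₁ := pullback.snd g₀ e
    have sqQ : IsPullback pU pV g₀ e := IsPullback.of_hasPullback g₀ e
    haveI := hiso
    obtain ⟨t, ht, hun, hti⟩ := exists_unique_generic_baseChange (g := g₀.left) (e := e.left) (p := pU.left)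
      (q := pV.left) (sqQ.map (Over.forget S)) u hgv hfib v₁ hv₁ hev
    have big : IsPullback ((yon S).map pU) ((yon S).map pV ≫ (yon S).map m) (a₀ ≫ f.hom) b :=
      hab₀.symm ▸ (sqQ.map (yon S)).paste_vert sq₁
    obtain ⟨a, ha1, ha2⟩ := hP.exists_lift ((yon S).map pU ≫ a₀) ((yon S).map pV ≫ (yon S).map m)
      (by rw [Category.assoc, big.w])
    have sqa : IsPullback ((yon S).map pU) a a₀ fst := IsPullback.of_bot (ha2.symm ▸ big) ha1.symm hP
    have hao : RepWith @IsOpenImmersion a := H12AlgSp.repWith_of_isPullback sqa ha₀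
    have hat : Points.map snd (Points.ofPt a t) = Points.ofScheme V (m.left v₁) := by
      rw [Points.map_ofPt, ha2, ← Functor.map_comp, ← ht]
      apply (Points.schemeEquiv V).symm.injective
      show Points.toScheme V (Points.ofPt ((yon S).map (pV ≫ m)) t) =
        Points.toScheme V (Points.ofScheme V (m.left (pV.left t)))
      rw [Points.toScheme_ofPt, Points.toScheme_ofScheme, Over.comp_left, Scheme.Hom.comp_apply]
    have hfx : ∀ p', Points.map snd p' = Points.ofScheme V (m.left v₁) → Points.map fst p' = x := fun p' hp' => by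
      refine eq_of_map_eq_generic hX hY hf hx ?_
      rw [← hbP, hp', hxy, Points.ofPt_eq_map_ofScheme]
    refine ⟨Points.ofPt a t, (genP _).2 ((hfx _ hat).symm ▸ hx), hat, fun p' hp' => ?_,
      Q, V₁, a, (yon S).map m, pV, t, hao, H12AlgSp.repWith_of_isPullback sq₁ hb₀, ha2, rfl, hti⟩
    obtain ⟨r, -, hr⟩ := exists_point_of_isPullback sqa (Points.ofScheme U₀ u) p'
      (by rw [hfx p' hp', ← Points.ofPt_eq_map_ofScheme, hu])
    obtain ⟨t', ht'⟩ := (Points.schemeHomeo Q).surjective r
    have hr' : Points.ofPt a t' = p' := by rw [← hr, ← ht', Points.ofPt_eq_map_ofScheme]; rfl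
    rw [← hr']
    congr 1
    refine hun t' (m.left.isEmbedding.injective ?_)
    rw [← hr', Points.map_ofPt, ha2, ← Functor.map_comp] at hp'
    exact (Points.toScheme_ofPt (pV ≫ m) t').symm.trans
      ((congrArg (Points.toScheme V) hp').trans (Points.toScheme_ofScheme V _))
  have genPV : ∀ p ∈ genericPoints (Points P), ∃ v ∈ genericPoints V.left, Points.map snd p = Points.ofScheme V v := by
    intro p hp
    obtain ⟨v, hv⟩ := (Points.schemeHomeo V).surjective (Points.map snd p)
    have hv' : Points.map snd p = Points.ofScheme V v := hv.symm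
    refine ⟨v, (genY v).1 ?_, hv'⟩
    rw [Points.ofPt_eq_map_ofScheme, ← hv', hbP]
    exact hf.bijOn.mapsTo ((genP p).1 hp)
  have hbij : Set.BijOn (Points.map snd) (genericPoints (Points P)) (genericPoints (Points ((yon S).obj V))) := by
    refine ⟨fun p hp => ?_, fun p hp p' hp' he => ?_, fun w hw => ?_⟩
    · obtain ⟨v, hv, e⟩ := genPV p hp
      exact e ▸ (genV v).2 hv
    · obtain ⟨v, hv, e⟩ := genPV p hp
      obtain ⟨q, -, -, hq, -⟩ := core v hv
      rw [hq p e, hq p' (he ▸ e)]
    · obtain ⟨v, rfl⟩ := (Points.schemeHomeo V).surjective w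
      obtain ⟨q, hq, hqv, -⟩ := core v ((genV v).1 hw)
      exact ⟨q, hq, hqv⟩
  have hVgen : (genericPoints (Points ((yon S).obj V))).Finite := by
    refine (hVfin.image (Points.ofScheme V)).subset fun w hw => ?_
    obtain ⟨v, rfl⟩ := (Points.schemeHomeo V).surjective w
    exact ⟨v, (genV v).1 hw, rfl⟩
  refine ⟨hPd, finite_components_of_generic (hbij.finite_iff_finite.2 hVgen),
    finite_components_of_generic hVgen, hbij, fun p hp => ?_⟩
  obtain ⟨v, hv, e⟩ := genPV p hp
  obtain ⟨q, -, -, hq, Q, W, a, m, g, t, h1, h2, h3, h4, h5⟩ := core v hv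
  exact ⟨Q, W, a, m, g, t, h1, h2, h3, h4.trans (hq p e).symm, h5⟩

end Groth.Agent.H13AlgSp.Birat
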