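import Groth.Agent.H13AlgSp.BiratEt
import Groth.Agent.H13AlgSp.AffineLocal
import Groth.Agent.H12AlgSp.LimitDescendIso
import Groth.Agent.H12AlgSp.AffineMor
import Groth.Agent.H18Et.EtaleNormalScheme

/-!
# Integral birational morphisms onto normal decent spaces
-/

set_option autoImplicit false
set_option backward.isDefEq.respectTransparency false
set_option linter.style.haveILetI false

universe u

open CategoryTheory CategoryTheory.Limits AlgebraicGeometry Topology TopologicalSpace
open AlgSp Groth.Agent.H12AlgSp W4stk3decentspacesp2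

noncomputable section

namespace Groth.Agent.H13AlgSp.Birat

/-- An integral birational map to a normal ring from a reduced ring is bijective. -/
theorem bijective_of_integral_birational {A B : Type u} [CommRing A] [CommRing B] [_root_.IsReduced A]
    [_root_.IsReduced B] (φ : A →+* B) (hint : φ.IsIntegral) (hfin : (minimalPrimes B).Finite)
    (hbij : Set.BijOn (fun Q => Q.comap φ) (minimalPrimes B) (minimalPrimes A))
    (hloc : ∀ (Q : Ideal B) [Q.IsPrime], Q ∈ minimalPrimes B →
      Function.Bijective (Localization.localRingHom (Q.comap φ) Q φ rfl))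
    (hA : ∀ (p : Ideal A) [p.IsPrime],
      IsDomain (Localization.AtPrime p) ∧ IsIntegrallyClosed (Localization.AtPrime p)) :
    Function.Bijective φ := by
  classical
  constructor
  · rw [injective_iff_map_eq_zero]
    intro a ha
    have h : a ∈ sInf (minimalPrimes A) := Submodule.mem_sInf.2 fun q hq => by
      obtain ⟨Q, -, rfl⟩ := hbij.surjOn hq
      show φ a ∈ Q
      rw [ha]
      exact Q.zero_mem
    have : a ∈ nilradical A := by rwa [nilradical, ← Ideal.sInf_minimalPrimes, Ideal.zero_eq_bot] at *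
    simpa using (mem_nilradical.1 this).eq_zero
  · intro b
    let J : Ideal A :=
      { carrier := {s | φ s * b ∈ φ.range}
        add_mem' := fun {s t} hs ht => by
          show φ (s + t) * b ∈ φ.range
          rw [map_add, add_mul]
          exact add_mem hs ht
        zero_mem' := by
          show φ 0 * b ∈ φ.range
          rw [map_zero, zero_mul]
          exact zero_mem _
        smul_mem' := fun c s hs => by
          show φ (c * s) * b ∈ φ.range
          rw [map_mul, mul_assoc]
          exact mul_mem ⟨c, rfl⟩ hs }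
    suffices hJ : J = ⊤ by
      obtain ⟨a, ha⟩ := (show (1 : A) ∈ J from hJ.symm ▸ Submodule.mem_top : φ 1 * b ∈ φ.range)
      exact ⟨a, by simpa using ha⟩
    by_contra hJ
    obtain ⟨p, hp, hJp⟩ := Ideal.exists_le_maximal J hJ
    haveI := hp.isPrime
    haveI := (hA p).1
    haveI := (hA p).2
    let R := Localization.AtPrime p
    let q₀ : Ideal A := RingHom.ker (algebraMap A R)
    haveI hq₀ : q₀.IsPrime := RingHom.ker_isPrime _
    have hle : ∀ r : Ideal A, r.IsPrime → r ≤ p → q₀ ≤ r := fun r hr hrp a ha => by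
      obtain ⟨⟨m, hm⟩, h⟩ := (IsLocalization.map_eq_zero_iff p.primeCompl R a).1 ha
      exact (hr.mem_or_mem (h.symm ▸ r.zero_mem : m * a ∈ r)).resolve_left fun h' => hm (hrp h')
    have hq₀p : q₀ ≤ p := fun a ha => by
      by_contra hap
      exact ((IsLocalization.map_units R (⟨a, hap⟩ : p.primeCompl)).ne_zero) ha
    have hmin : q₀ ∈ minimalPrimes A :=
      ⟨⟨hq₀, bot_le⟩, fun r hr hrq => hle r hr.1 (hrq.trans hq₀p)⟩
    obtain ⟨Q, hQ, hQc⟩ := hbij.surjOn hmin
    haveI : Q.IsPrime := hQ.1.1
    replace hQc : Q.comap φ = q₀ := hQc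
    let L := FractionRing R
    have hunit : ∀ m : (Q.comap φ).primeCompl, IsUnit ((algebraMap R L).comp (algebraMap A R) m) := fun m => by
      refine isUnit_iff_ne_zero.2 ((map_ne_zero_iff _ (IsFractionRing.injective R L)).2 fun h => ?_)
      exact m.2 ((SetLike.ext_iff.1 hQc _).2 h)
    let lf : Localization.AtPrime (Q.comap φ) →+* L := IsLocalization.lift hunit
    let e := RingEquiv.ofBijective _ (hloc Q hQ)
    let θ : B →+* L := lf.comp (e.symm.toRingHom.comp (algebraMap B (Localization.AtPrime Q)))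
    have hθ : θ.comp φ = (algebraMap R L).comp (algebraMap A R) := by
      refine RingHom.ext fun a => ?_
      have h : e.symm (algebraMap B (Localization.AtPrime Q) (φ a)) =
          algebraMap A (Localization.AtPrime (Q.comap φ)) a :=
        e.injective (by rw [e.apply_symm_apply]; exact (Localization.localRingHom_to_map _ _ _ rfl a).symm)
      show lf (e.symm (algebraMap B (Localization.AtPrime Q) (φ a))) = _
      rw [h]
      exact IsLocalization.lift_eq hunit a
    have hker : ∀ z, θ z = 0 → z ∈ Q := fun z hz => by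
      by_contra hzQ
      exact ((IsLocalization.map_units (Localization.AtPrime Q) (⟨z, hzQ⟩ : Q.primeCompl)).map
        (lf.comp e.symm.toRingHom)).ne_zero hz
    have hb : IsIntegral R (θ b) := by
      obtain ⟨P, hP, hPb⟩ := hint b
      refine ⟨P.map (algebraMap A R), hP.map _, ?_⟩
      rw [Polynomial.eval₂_map, ← hθ, ← Polynomial.hom_eval₂, hPb, map_zero]
    obtain ⟨r, hr⟩ := IsIntegrallyClosed.isIntegral_iff.1 hb
    obtain ⟨⟨a', ⟨s, hs⟩⟩, has⟩ := IsLocalization.surj p.primeCompl r
    have hθ' : ∀ a, θ (φ a) = algebraMap R L (algebraMap A R a) := RingHom.congr_fun hθ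
    have hz : φ s * b - φ a' ∈ Q := hker _ (by
      have h2 : algebraMap R L r * algebraMap R L (algebraMap A R s) = algebraMap R L (algebraMap A R a') := by
        rw [← map_mul]
        exact congrArg _ has
      rw [map_sub, map_mul, hθ', hθ', ← hr, mul_comm, h2, sub_self])
    have hu : ∀ Q' ∈ minimalPrimes B, Q' ≠ Q → ∃ u, u ∉ p ∧ φ u ∈ Q' := fun Q' hQ' hne => by
      by_contra hcon
      simp only [not_exists, not_and] at hcon
      have hle' : Q'.comap φ ≤ p := fun u hu => by
        by_contra hup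
        exact hcon u hup hu
      haveI : Q'.IsPrime := hQ'.1.1
      have h1 : q₀ ≤ Q'.comap φ := hle _ inferInstance hle'
      have h2 : Q'.comap φ ≤ q₀ := (hbij.mapsTo hQ').2 ⟨hq₀, bot_le⟩ h1
      exact hne (hbij.injOn hQ' hQ ((le_antisymm h2 h1).trans hQc.symm))
    choose! u hu1 hu2 using hu
    let T := (hfin.sdiff (t := {Q})).toFinset
    let w := ∏ Q' ∈ T, u Q'
    have hw : w ∉ p := fun h => by
      obtain ⟨Q', hQ', h'⟩ := (Ideal.IsPrime.prod_mem_iff (p := p)).1 h
      obtain ⟨h1, h2⟩ : Q' ∈ minimalPrimes B ∧ Q' ∉ ({Q} : Set (Ideal B)) := (Set.Finite.mem_toFinset (hfin.sdiff (t := {Q}))).1 hQ'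
      exact hu1 Q' h1 h2 h'
    have hzero : φ w * (φ s * b - φ a') = 0 := by
      have h : φ w * (φ s * b - φ a') ∈ sInf (minimalPrimes B) := Submodule.mem_sInf.2 fun Q' hQ' => by
        by_cases he : Q' = Q
        · rw [he]
          exact Ideal.mul_mem_left _ _ hz
        · refine Ideal.mul_mem_right _ _ ?_
          rw [map_prod]
          exact Ideal.prod_mem _ ((Set.Finite.mem_toFinset (hfin.sdiff (t := {Q}))).2 ⟨hQ', he⟩) (hu2 Q' hQ' he)
      have : φ w * (φ s * b - φ a') ∈ nilradical B := by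
        rwa [nilradical, ← Ideal.sInf_minimalPrimes, Ideal.zero_eq_bot] at *
      simpa using (mem_nilradical.1 this).eq_zero
    have hmem : w * s ∈ J := ⟨w * a', by rw [map_mul, map_mul]; linear_combination -hzero⟩
    exact (hp.isPrime.mem_or_mem (hJp hmem)).elim hw hs

theorem mem_minimalPrimes_iff_generic {A : Type u} [CommRing A] (x : PrimeSpectrum A) :
    x.asIdeal ∈ minimalPrimes A ↔ x ∈ genericPoints (PrimeSpectrum A) := by
  show _ ↔ closure {x} ∈ irreducibleComponents (PrimeSpectrum A)
  rw [← PrimeSpectrum.vanishingIdeal_mem_minimalPrimes, PrimeSpectrum.vanishingIdeal_singleton]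

theorem isDomain_integrallyClosed_of_equiv {A B : Type u} [CommRing A] [CommRing B] (e : A ≃+* B)
    (h : IsDomain A ∧ IsIntegrallyClosed A) : IsDomain B ∧ IsIntegrallyClosed B :=
  ⟨haveI := h.1; e.symm.toMulEquiv.isDomain, haveI := h.2; IsIntegrallyClosed.of_equiv e⟩

theorem isIso_Spec_of_integral_birational {A B : CommRingCat.{u}} (φ : A ⟶ B) (hint : φ.hom.IsIntegral)
    [_root_.IsReduced B] (hfin : (genericPoints ↥(Spec B)).Finite)
    (hbij : Set.BijOn (fun x => Spec.map φ x) (genericPoints ↥(Spec B)) (genericPoints ↥(Spec A)))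
    (hiso : ∀ x : Spec B, x ∈ genericPoints ↥(Spec B) → IsIso ((Spec.map φ).stalkMap x))
    (hA : Pi1.IsNormalScheme (Spec A)) : IsIso (Spec.map φ) := by
  have hA' : ∀ (p : Ideal A) [p.IsPrime],
      IsDomain (Localization.AtPrime p) ∧ IsIntegrallyClosed (Localization.AtPrime p) := fun p _ =>
    isDomain_integrallyClosed_of_equiv (Spec.stalkIso A ⟨p, ‹_›⟩).commRingCatIsoToRingEquiv
      (hA ⟨p, ‹_›⟩)
  haveI : _root_.IsReduced A := isReduced_ofLocalizationMaximal _ fun p hp => by
    haveI := (hA' p).1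
    infer_instance
  have hgB : ∀ (Q : Ideal B) [Q.IsPrime], Q ∈ minimalPrimes B ↔
      (⟨Q, ‹_›⟩ : PrimeSpectrum B) ∈ genericPoints (PrimeSpectrum B) := fun Q _ =>
    mem_minimalPrimes_iff_generic (⟨Q, ‹_›⟩ : PrimeSpectrum B)
  have hloc : ∀ (Q : Ideal B) [Q.IsPrime], Q ∈ minimalPrimes B →
      Function.Bijective (Localization.localRingHom (Q.comap φ.hom) Q φ.hom rfl) := fun Q _ hQ => by
    haveI := hiso ⟨Q, ‹_›⟩ ((hgB Q).1 hQ)
    have h : IsIso (CommRingCat.ofHom (Localization.localRingHom (Q.comap φ.hom) Q φ.hom rfl)) :=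
      ((MorphismProperty.isomorphisms CommRingCat.{u}).arrow_mk_iso_iff
        (Scheme.arrowStalkMapSpecIso φ ⟨Q, ‹_›⟩)).1 (hiso _ ((hgB Q).1 hQ))
    exact ConcreteCategory.bijective_of_isIso (CommRingCat.ofHom (Localization.localRingHom (Q.comap φ.hom) Q φ.hom rfl))
  have hfinB : (minimalPrimes B).Finite := by
    refine (hfin.image fun x : PrimeSpectrum B => x.asIdeal).subset fun Q hQ => ?_
    haveI : Q.IsPrime := hQ.1.1
    exact ⟨⟨Q, ‹_›⟩, (hgB Q).1 hQ, rfl⟩
  have hbij' : Set.BijOn (fun Q => Q.comap φ.hom) (minimalPrimes B) (minimalPrimes A) := by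
    refine ⟨fun Q hQ => ?_, fun Q hQ Q' hQ' he => ?_, fun q hq => ?_⟩
    · haveI : Q.IsPrime := hQ.1.1
      exact (mem_minimalPrimes_iff_generic (Spec.map φ ⟨Q, ‹_›⟩)).2 (hbij.mapsTo ((hgB Q).1 hQ))
    · haveI : Q.IsPrime := hQ.1.1
      haveI : Q'.IsPrime := hQ'.1.1
      exact congrArg PrimeSpectrum.asIdeal (hbij.injOn ((hgB Q).1 hQ) ((hgB Q').1 hQ') (PrimeSpectrum.ext he))
    · haveI : q.IsPrime := hq.1.1
      obtain ⟨x, hx, he⟩ := hbij.surjOn ((mem_minimalPrimes_iff_generic (⟨q, ‹_›⟩ : PrimeSpectrum A)).1 hq)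
      exact ⟨x.asIdeal, (mem_minimalPrimes_iff_generic x).2 hx, congrArg PrimeSpectrum.asIdeal he⟩
  haveI : IsIso φ :=
    (ConcreteCategory.isIso_iff_bijective φ).2 (bijective_of_integral_birational φ.hom hint hfinB hbij' hloc hA')
  infer_instance

theorem genericPoints_homeo {α β : Type*} [TopologicalSpace α] [TopologicalSpace β] [QuasiSober α] [T0Space α]
    [QuasiSober β] [T0Space β] (e : α ≃ₜ β) (x : α) : e x ∈ genericPoints β ↔ x ∈ genericPoints α := by
  rw [H17.mem_genericPoints_iff, H17.mem_genericPoints_iff]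
  refine ⟨fun h y hy => e.injective (h _ (hy.map e.continuous)), fun h y hy => ?_⟩
  rw [← h (e.symm y) (by simpa using hy.map e.symm.continuous), e.apply_symm_apply]

/-- Affine integral birational morphisms to normal schemes. -/
theorem isIso_of_integral_birational_affine {W V : Scheme.{u}} (i : W ⟶ V) [IsAffine W] [IsAffine V]
    [IsIntegralHom i] [IsReduced W] (hV : Pi1.IsNormalScheme V) (hfin : (genericPoints W).Finite)
    (hbij : Set.BijOn (fun x => i x) (genericPoints W) (genericPoints V))
    (hiso : ∀ x : W, x ∈ genericPoints W → IsIso (i.stalkMap x)) : IsIso i := by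
  let eW : ↥W ≃ₜ ↥(Spec Γ(W, ⊤)) := Scheme.homeoOfIso W.isoSpec
  let eV : ↥V ≃ₜ ↥(Spec Γ(V, ⊤)) := Scheme.homeoOfIso V.isoSpec
  have e : Spec.map i.appTop = W.isoSpec.inv ≫ i ≫ V.isoSpec.hom := by
    rw [← Scheme.isoSpec_hom_naturality, Iso.inv_hom_id_assoc]
  have hp : ∀ x, Spec.map i.appTop (eW x) = eV (i x) := fun x => by
    rw [e]
    show V.isoSpec.hom (i ((W.isoSpec.hom ≫ W.isoSpec.inv) x)) = _
    rw [Iso.hom_inv_id]
    rfl
  have hint : i.appTop.hom.IsIntegral := by
    rw [← IsIntegralHom.SpecMap_iff, e]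
    infer_instance
  haveI : _root_.IsReduced Γ(W, ⊤) := inferInstance
  haveI : IsIso (Spec.map i.appTop) := by
    refine isIso_Spec_of_integral_birational i.appTop hint ?_ ?_ (fun x hx => ?_) ?_
    · exact (hfin.image eW).subset fun x hx =>
        ⟨eW.symm x, (genericPoints_homeo eW _).1 (by rwa [eW.apply_symm_apply]), eW.apply_symm_apply x⟩
    · refine ⟨fun x hx => ?_, fun x hx x' hx' he => ?_, fun y hy => ?_⟩
      · obtain ⟨x, rfl⟩ := eW.surjective x
        show Spec.map i.appTop (eW x) ∈ _
        rw [hp, genericPoints_homeo]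
        exact hbij.mapsTo ((genericPoints_homeo eW _).1 hx)
      · obtain ⟨x, rfl⟩ := eW.surjective x
        obtain ⟨x', rfl⟩ := eW.surjective x'
        refine congrArg eW (hbij.injOn ((genericPoints_homeo eW _).1 hx) ((genericPoints_homeo eW _).1 hx')
          (eV.injective ?_))
        rw [← hp, ← hp]
        exact he
      · obtain ⟨y, rfl⟩ := eV.surjective y
        obtain ⟨x, hx, rfl⟩ := hbij.surjOn ((genericPoints_homeo eV _).1 hy)
        exact ⟨eW x, (genericPoints_homeo eW _).2 hx, hp x⟩
    · haveI := hiso (W.isoSpec.inv x) ((genericPoints_homeo eW _).1 (by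
        show (W.isoSpec.inv ≫ W.isoSpec.hom) x ∈ _
        rw [Iso.inv_hom_id]
        exact hx))
      refine H17.Birat.isIso_stalkMap_congr e.symm x ?_
      rw [Scheme.Hom.stalkMap_comp, Scheme.Hom.stalkMap_comp]
      infer_instance
    · exact H18Et.EtaleNormalScheme.isNormalScheme_of_etale V.isoSpec.inv hV
  have e' : i = W.isoSpec.hom ≫ Spec.map i.appTop ≫ V.isoSpec.inv := by
    rw [← Category.assoc, Scheme.isoSpec_hom_naturality, Category.assoc, Iso.hom_inv_id, Category.comp_id]
  rw [e']
  infer_instance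

variable {S : Scheme.{u}}

theorem normal_chart {Y : Sp S} (hY : IsAlgSpace Y)
    (h : EtaleLocally (fun T => ∀ t : ↥T, IsDomain ↥(T.presheaf.stalk t) ∧
      IsIntegrallyClosed ↥(T.presheaf.stalk t)) Y) {V : Over S} {b : (yon S).obj V ⟶ Y}
    (hb : RepWith @Etale b) : Pi1.IsNormalScheme V.left :=
  etaleLocally_chart (Q := fun T => ∀ t : ↥T, IsDomain ↥(T.presheaf.stalk t) ∧
      IsIntegrallyClosed ↥(T.presheaf.stalk t))
    (fun g hg hB => haveI := hg; H18Et.EtaleNormalScheme.isNormalScheme_of_etale g hB)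
    (fun g hg hs hA t => by
      haveI := hg
      haveI := hs
      obtain ⟨x, rfl⟩ := g.surjective t
      exact H18Et.EtaleNormalScheme.normal_stalk_of_flat g x (hA x))
    hY h hb

/-- Integral birational morphisms to normal decent spaces from reduced ones are isomorphisms. -/
theorem isIso_of_integral_birational {X Y : Space S} (f : X ⟶ Y) (hX : IsDecent X.obj) (hY : IsDecent Y.obj)
    (hXf : (irreducibleComponents (Points X.obj)).Finite) (hYf : (irreducibleComponents (Points Y.obj)).Finite)
    (hi : IsIntegralMor f.hom) (hf : IsBirational f.hom)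
    (hYn : EtaleLocally (fun T => ∀ t : ↥T, IsDomain ↥(T.presheaf.stalk t) ∧
      IsIntegrallyClosed ↥(T.presheaf.stalk t)) Y.obj)
    (hXr : EtaleLocally (fun T => IsReduced T) X.obj) : IsIso f.hom := by
  obtain ⟨V, p, hp, hps⟩ := Y.property.atlas
  obtain ⟨W, i, fst, sq⟩ := (isIntegralMor_iff.1 hi).1 p
  haveI : IsIntegralHom i.left := (isIntegralMor_iff.1 hi).2 _ _ _ sq
  refine isIso_of_repWith_isomorphisms (repWith_of_etale_cover (P := MorphismProperty.isomorphisms Scheme.{u})
    (fun _ _ k (_ : IsIso k) => inferInstanceAs (IsAffineHom k)) X.property Y.property hp hps sq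
    ((repWith_yon_map_iff (MorphismProperty.isomorphisms Scheme.{u}) _).2 (?_ : IsIso i.left)))
  refine (IsZariskiLocalAtTarget.iff_of_openCover (P := MorphismProperty.isomorphisms Scheme.{u})
    (V.left.openCoverOfIsOpenCover (fun A : V.left.affineOpens => A.1)
      (.mk (AlgebraicGeometry.iSup_affineOpens_eq_top V.left)))).2 fun A => ?_
  show IsIso (pullback.snd i.left A.1.ι)
  let VA : Over S := Over.mk (A.1.ι ≫ V.hom)
  let jA : VA ⟶ V := Over.homMk A.1.ι
  haveI : IsAffine VA.left := A.2
  let WA := pullback i jA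
  have sqA : IsPullback (pullback.fst i jA) (pullback.snd i jA) i jA := IsPullback.of_hasPullback i jA
  have hb : RepWith @Etale ((yon S).map jA ≫ p) := repWith_comp (etale_of_openImm (repWith_opensι A.1)) hp
  have big : IsPullback ((yon S).map (pullback.fst i jA) ≫ fst) ((yon S).map (pullback.snd i jA)) f.hom
      ((yon S).map jA ≫ p) := (sqA.map (yon S)).paste_horiz sq
  obtain ⟨hd, hPf, -, hbir⟩ := birational_baseChange f hX hY hXf hYf hf _ hb _ _ big
  let iA : WA ⟶ VA := pullback.snd i jA
  have sqL := sqA.map (Over.forget S)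
  haveI : IsIntegralHom iA.left := MorphismProperty.of_isPullback (P := @IsIntegralHom) sqL ‹_›
  haveI : IsAffine WA.left := isAffine_of_isAffineHom iA.left
  have hWe : RepWith @Etale ((yon S).map (pullback.fst i jA) ≫ fst) :=
    repWith_of_isPullback big.flip hb
  haveI : IsReduced WA.left := FibreRed.isReduced_chart X.property hXr hWe
  have gW : ∀ w, Points.ofScheme WA w ∈ genericPoints (Points ((yon S).obj WA)) ↔ w ∈ genericPoints WA.left :=
    fun w => by
      haveI := H12AlgSp.t0Space_points (IsAlgSpace.yon_obj WA) hd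
      rw [← mem_genericPoints_chart (IsAlgSpace.yon_obj WA) hd (repWith_id _ WA) w]
  have gV : ∀ v, Points.ofScheme VA v ∈ genericPoints (Points ((yon S).obj VA)) ↔ v ∈ genericPoints VA.left :=
    fun v => by
      rw [← mem_genericPoints_chart (IsAlgSpace.yon_obj VA) (isDecent_yon VA) (repWith_id _ VA) v]
  have hmap : ∀ w, Points.map ((yon S).map iA) (Points.ofScheme WA w) = Points.ofScheme VA (iA.left w) := fun w => by
    rw [← Points.ofPt_eq_map_ofScheme]
    apply (Points.schemeEquiv VA).symm.injective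
    exact (Points.toScheme_ofPt iA w).trans (Points.toScheme_ofScheme VA _).symm
  have hii : IsIso iA.left := by
    refine isIso_of_integral_birational_affine iA.left (normal_chart Y.property hYn hb) ?_ ?_ ?_
    · haveI := quasiSober_of_isDecent (IsAlgSpace.yon_obj WA) hd
      haveI := H12AlgSp.t0Space_points (IsAlgSpace.yon_obj WA) hd
      exact ((genericPoints.finite hPf).preimage (Points.schemeHomeo WA).injective.injOn).subset
        fun w hw => (gW w).2 hw
    · refine ⟨fun w hw => (gV _).1 ?_, fun w hw w' hw' he => ?_, fun v hv => ?_⟩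
      · rw [← hmap]
        exact hbir.bijOn.mapsTo ((gW w).2 hw)
      · refine (Points.schemeHomeo WA).injective (hbir.bijOn.injOn ((gW w).2 hw) ((gW w').2 hw') ?_)
        show Points.map ((yon S).map iA) (Points.ofScheme WA w) = Points.map ((yon S).map iA) (Points.ofScheme WA w')
        rw [hmap, hmap]
        exact congrArg _ he
      · obtain ⟨z, hz, hzv⟩ := hbir.bijOn.surjOn ((gV v).2 hv)
        obtain ⟨w, rfl⟩ := (Points.schemeHomeo WA).surjective z
        exact ⟨w, (gW w).1 hz, (Points.schemeHomeo VA).injective ((hmap w).symm.trans hzv)⟩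
    · intro w hw
      let XS : Space S := ⟨(yon S).obj WA, IsAlgSpace.yon_obj WA⟩
      let YS : Space S := ⟨(yon S).obj VA, IsAlgSpace.yon_obj VA⟩
      let fS : XS ⟶ YS := ObjectProperty.homMk ((yon S).map iA)
      obtain ⟨U', a', g', u', ha', hab', hu', hi'⟩ := exists_diag (f := fS) hbir ((gW w).2 hw)
        (V := VA) (b := 𝟙 _) (repWith_id _ _) ⟨_, Points.map_id _⟩
      refine isIso_stalkMap_transfer (X := XS) (Y := YS) (f := fS) (b := 𝟙 _) (repWith_id _ _) (a := 𝟙 _)
        (repWith_id _ _) ha' (g := iA) ?_ hab' ?_ hi'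
      · show 𝟙 _ ≫ (yon S).map iA = (yon S).map iA ≫ 𝟙 _
        simp
      · rw [hu', Points.ofPt_eq_map_ofScheme]
        exact Points.map_id _
  haveI := hii
  rw [show pullback.snd i.left A.1.ι = sqL.isoPullback.inv ≫ iA.left from sqL.isoPullback_inv_snd.symm]
  infer_instance

end Groth.Agent.H13AlgSp.Birat
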