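import Groth.Agent.H13AlgSp.Birat
import Groth.Agent.H13AlgSp.FibreRed
import Groth.Agent.H12AlgSp.QC
import Groth.Agent.H28Top.Spectral
import Groth.Agent.S9678

/-!
# Birational morphisms of decent spaces are isomorphisms over dense opens
-/

set_option autoImplicit false
set_option backward.isDefEq.respectTransparency false
set_option linter.style.haveILetI false

universe u

open CategoryTheory CategoryTheory.Limits AlgebraicGeometry Topology TopologicalSpace
open AlgSp Groth.Agent.H12AlgSp W4stk3decentspacesp2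

noncomputable section

namespace Groth.Agent.H13AlgSp.Birat

variable {S : Scheme.{u}}

theorem dense_of_generic {α : Type*} [TopologicalSpace α] [QuasiSober α] {U : Set α}
    (h : genericPoints α ⊆ U) : Dense U := fun z => by
  obtain ⟨γ, hγ, hγz⟩ := H17.exists_genericPoint_specializes z
  exact closure_mono (Set.singleton_subset_iff.2 (h hγ)) hγz.mem_closure

/-- A dense open contains the generic points when there are finitely many components. -/
theorem generic_subset_of_dense_open {α : Type*} [TopologicalSpace α] [QuasiSober α]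
    (hfin : (irreducibleComponents α).Finite) {U : Set α} (hU : IsOpen U) (hd : Dense U) :
    genericPoints α ⊆ U := fun x hx => by
  have hO : IsOpen (⋃₀ (irreducibleComponents α \ {closure {x}}))ᶜ :=
    (Set.sUnion_eq_biUnion.symm ▸ hfin.sdiff.isClosed_biUnion fun T hT => isClosed_of_mem_irreducibleComponents T hT.1 :
      IsClosed (⋃₀ (irreducibleComponents α \ {closure {x}}))).isOpen_compl
  have hxO : x ∈ (⋃₀ (irreducibleComponents α \ {closure {x}}))ᶜ := by
    rintro ⟨T, ⟨hT, hne⟩, hxT⟩
    exact hne (hx.eq_of_ge hT.1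
      (closure_minimal (Set.singleton_subset_iff.2 hxT) (isClosed_of_mem_irreducibleComponents T hT)))
  obtain ⟨z, hzO, hzU⟩ := hd.inter_open_nonempty _ hO ⟨x, hxO⟩
  obtain ⟨T, hT, hzT⟩ := Set.mem_sUnion.1 ((sUnion_irreducibleComponents (X := α)).symm ▸ Set.mem_univ z)
  have hTe : T = closure {x} := by
    by_contra hne
    exact hzO ⟨T, ⟨hT, hne⟩, hzT⟩
  exact (specializes_iff_mem_closure.2 (hTe ▸ hzT)).mem_open hU hzU

/-- Isomorphy of local rings passes between open subscheme diagrams. -/
theorem isIso_stalkMap_transfer {X Y : Space S} {f : X ⟶ Y} {U U' V : Over S} {b : (yon S).obj V ⟶ Y.obj}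
    (hb : RepWith @IsOpenImmersion b) {a : (yon S).obj U ⟶ X.obj} (ha : RepWith @IsOpenImmersion a)
    {a' : (yon S).obj U' ⟶ X.obj} (ha' : RepWith @IsOpenImmersion a') {g : U ⟶ V} {g' : U' ⟶ V}
    (hab : a ≫ f.hom = (yon S).map g ≫ b) (hab' : a' ≫ f.hom = (yon S).map g' ≫ b) {u : U.left} {u' : U'.left}
    (h : Points.ofPt a u = Points.ofPt a' u') (hi : IsIso (g'.left.stalkMap u')) : IsIso (g.left.stalkMap u) := by
  haveI := mono_of_openImmersion hb
  obtain ⟨Q, j', fst, sq⟩ := ha.1 a'
  obtain ⟨j, rfl⟩ := (yon S).map_surjective fst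
  haveI : IsOpenImmersion j'.left := ha.2 _ _ _ sq
  haveI : IsOpenImmersion j.left := ha'.2 _ _ _ sq.flip
  obtain ⟨q, rfl⟩ : u' ∈ Set.range j'.left := by
    rw [← preimage_ofPt_range sq, Set.mem_preimage, ← h]
    exact ofPt_mem_range a u
  obtain rfl : j.left q = u := isOpenEmbedding_ofPt_injective ha (by rw [h, ← ofPt_map, ← ofPt_map, sq.w])
  have e : j ≫ g = j' ≫ g' := by
    apply (yon S).map_injective
    rw [← cancel_mono b, Functor.map_comp, Functor.map_comp, Category.assoc, Category.assoc, ← hab, ← hab',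
      ← Category.assoc, ← Category.assoc, sq.w]
  have e' : j'.left ≫ g'.left = j.left ≫ g.left := by rw [← Over.comp_left, ← Over.comp_left, e]
  have h1 : IsIso ((j'.left ≫ g'.left).stalkMap q) := by
    rw [Scheme.Hom.stalkMap_comp]
    exact @IsIso.comp_isIso _ _ _ _ _ _ _ hi inferInstance
  haveI := H17.Birat.isIso_stalkMap_congr e' q h1
  exact H17.Birat.isIso_stalkMap_of_comp j.left g.left q

theorem repWith_opensι {U : Over S} (O : U.left.Opens) :
    RepWith @IsOpenImmersion ((yon S).map (Over.homMk O.ι : Over.mk (O.ι ≫ U.hom) ⟶ U)) :=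
  (repWith_yon_map_iff _ _).2 (inferInstanceAs (IsOpenImmersion O.ι))

/-- Dense open subschemes on which a birational morphism restricts to an isomorphism. -/
theorem exists_dense_iso {X Y : Space S} (f : X ⟶ Y) (hX : IsDecent X.obj) (hY : IsDecent Y.obj)
    (hXf : (irreducibleComponents (Points X.obj)).Finite) (hYf : (irreducibleComponents (Points Y.obj)).Finite)
    (hf : IsBirational f.hom)
    (h : (LocP @LocallyOfFiniteType f.hom ∧ EtaleLocally (fun T => IsReduced T) Y.obj) ∨
      LocP @LocallyOfFinitePresentation f.hom) :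
    ∃ (U V : Over S) (a : (yon S).obj U ⟶ X.obj) (b : (yon S).obj V ⟶ Y.obj) (g : U ⟶ V),
      RepWith @IsOpenImmersion a ∧ RepWith @IsOpenImmersion b ∧
        Dense (Set.range (Points.ofPt a)) ∧ Dense (Set.range (Points.ofPt b)) ∧
          a ≫ f.hom = (yon S).map g ≫ b ∧ IsIso g.left := by
  haveI := quasiSober_of_isDecent X.property hX
  haveI := quasiSober_of_isDecent Y.property hY
  obtain ⟨U₀, a₀, ha₀, ha₀d, -, -⟩ := (isDecent_and_finite_components_iff X).1 ⟨hX, hXf⟩
  obtain ⟨V₀, b₀, hb₀, hb₀d, -, -⟩ := (isDecent_and_finite_components_iff Y).1 ⟨hY, hYf⟩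
  have hgX := generic_subset_of_dense_open hXf (isOpenEmbedding_ofPt X.property ha₀).isOpen_range ha₀d
  have hgY := generic_subset_of_dense_open hYf (isOpenEmbedding_ofPt Y.property hb₀).isOpen_range hb₀d
  obtain ⟨U₁, m, fst, sq⟩ := hb₀.1 (a₀ ≫ f.hom)
  obtain ⟨g, rfl⟩ := (yon S).map_surjective fst
  let a₁ := (yon S).map m ≫ a₀
  have ha₁ : RepWith @IsOpenImmersion a₁ := repWith_comp (repWith_of_isPullback sq hb₀) ha₀
  have hab : a₁ ≫ f.hom = (yon S).map g ≫ b₀ := by rw [Category.assoc, sq.w]
  have hgX₁ : genericPoints (Points X.obj) ⊆ Set.range (Points.ofPt a₁) := fun x hx => by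
    obtain ⟨u₀, rfl⟩ := hgX hx
    obtain ⟨u, rfl⟩ : u₀ ∈ Set.range m.left := by
      rw [← preimage_ofPt_range sq, Set.mem_preimage, ← Points.map_ofPt]
      obtain ⟨v, hv⟩ := hgY (hf.bijOn.mapsTo hx)
      exact hv ▸ ofPt_mem_range b₀ v
    exact ⟨u, ofPt_map _ _ _⟩
  have gU : ∀ u : U₁.left, Points.ofPt a₁ u ∈ genericPoints (Points X.obj) ↔ u ∈ genericPoints U₁.left :=
    mem_genericPoints_chart X.property hX (etale_of_openImm ha₁)
  have gV : ∀ v : V₀.left, Points.ofPt b₀ v ∈ genericPoints (Points Y.obj) ↔ v ∈ genericPoints V₀.left :=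
    mem_genericPoints_chart Y.property hY (etale_of_openImm hb₀)
  have hpt : ∀ u : U₁.left, Points.ofPt b₀ (g.left u) = Points.map f.hom (Points.ofPt a₁ u) := fun u => by
    rw [Points.map_ofPt, hab, ofPt_map]
  have hbij : Set.BijOn (fun x => g.left.base x) (genericPoints U₁.left) (genericPoints V₀.left) := by
    refine ⟨fun u hu => ?_, fun u hu u' hu' he => ?_, fun v hv => ?_⟩
    · refine (gV _).1 ?_
      rw [hpt]
      exact hf.bijOn.mapsTo ((gU u).2 hu)
    · refine isOpenEmbedding_ofPt_injective ha₁ (hf.bijOn.injOn ((gU u).2 hu) ((gU u').2 hu') ?_)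
      rw [← hpt, ← hpt]
      exact congrArg _ he
    · obtain ⟨x, hx, hxv⟩ := hf.bijOn.surjOn ((gV v).2 hv)
      obtain ⟨u, rfl⟩ := hgX₁ hx
      exact ⟨u, (gU u).1 hx, isOpenEmbedding_ofPt_injective hb₀ (by rw [hpt, hxv])⟩
  have hiso : ∀ u : U₁.left, u ∈ genericPoints U₁.left → IsIso (g.left.stalkMap u) := fun u hu => by
    obtain ⟨U', a', g', u', ha', hab', hu', hi⟩ := exists_diag hf ((gU u).2 hu) hb₀
      (by rw [← hpt]; exact ofPt_mem_range b₀ _)
    exact isIso_stalkMap_transfer hb₀ ha₁ ha' hab hab' hu'.symm hi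
  have hty : (LocallyOfFiniteType g.left ∧ IsReduced V₀.left) ∨ LocallyOfFinitePresentation g.left :=
    h.imp (fun h => ⟨h.1 a₁ b₀ g (etale_of_openImm ha₁) (etale_of_openImm hb₀) hab,
        FibreRed.isReduced_chart Y.property h.2 (etale_of_openImm hb₀)⟩)
      fun h => h a₁ b₀ g (etale_of_openImm ha₁) (etale_of_openImm hb₀) hab
  obtain ⟨U, V, hUV, hUd, hVd, hi⟩ := S9678.result g.left
    (finite_components_of_openEmbedding (isOpenEmbedding_ofPt X.property ha₁) hXf)
    (finite_components_of_openEmbedding (isOpenEmbedding_ofPt Y.property hb₀) hYf) hbij hiso hty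
  let iU : Over.mk (U.ι ≫ U₁.hom) ⟶ U₁ := Over.homMk U.ι
  let iV : Over.mk (V.ι ≫ V₀.hom) ⟶ V₀ := Over.homMk V.ι
  let r : Over.mk (U.ι ≫ U₁.hom) ⟶ Over.mk (V.ι ≫ V₀.hom) := Over.homMk (g.left.resLE V U hUV) (by
    show g.left.resLE V U hUV ≫ V.ι ≫ V₀.hom = U.ι ≫ U₁.hom
    rw [← Category.assoc, Scheme.Hom.resLE_comp_ι, Category.assoc, Over.w g])
  refine ⟨_, _, (yon S).map iU ≫ a₁, (yon S).map iV ≫ b₀, r, repWith_comp (repWith_opensι U) ha₁,
    repWith_comp (repWith_opensι V) hb₀, ?_, ?_, ?_, hi⟩
  · refine dense_of_generic fun x hx => ?_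
    obtain ⟨u, rfl⟩ := hgX₁ hx
    have hu : u ∈ U := generic_subset_of_dense_open
      (finite_components_of_openEmbedding (isOpenEmbedding_ofPt X.property ha₁) hXf) U.2 hUd ((gU u).1 hx)
    exact ⟨⟨u, hu⟩, ofPt_map _ _ _⟩
  · refine dense_of_generic fun y hy => ?_
    obtain ⟨v, rfl⟩ := hgY hy
    have hv : v ∈ V := generic_subset_of_dense_open
      (finite_components_of_openEmbedding (isOpenEmbedding_ofPt Y.property hb₀) hYf) V.2 hVd ((gV v).1 hy)
    exact ⟨⟨v, hv⟩, ofPt_map _ _ _⟩
  · have e : iU ≫ g = r ≫ iV := by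
      ext
      exact (Scheme.Hom.resLE_comp_ι _ _).symm
    rw [Category.assoc, hab, ← Category.assoc, ← Functor.map_comp, e, Functor.map_comp, Category.assoc]

theorem repWith_closedImmersion_section {P V : Sp S} {p : P ⟶ V} (hp : IsSeparatedMor p) {σ : V ⟶ P}
    (hσ : σ ≫ p = 𝟙 V) : RepWith @IsClosedImmersion σ := by
  haveI : Mono σ := mono_of_mono_fac hσ
  let l : P ⟶ pullback p p := pullback.lift (𝟙 P) (p ≫ σ) (by simp [hσ])
  have w : σ ≫ pullback.diagonal p = σ ≫ l := by
    ext
    · simp [l]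
    · simp [l, reassoc_of% hσ]
  refine repWith_of_isPullback (IsPullback.mk ⟨w⟩ ⟨PullbackCone.IsLimit.mk w (fun s => s.snd ≫ p) (fun s => ?_)
    (fun s => ?_) fun s m h1 h2 => ?_⟩) hp
  · have h1 := congrArg (· ≫ pullback.fst p p) s.condition
    have h2 := congrArg (· ≫ pullback.snd p p) s.condition
    simp [l] at h1 h2
    rw [Category.assoc, ← h2]
  · have h1 := congrArg (· ≫ pullback.fst p p) s.condition
    have h2 := congrArg (· ≫ pullback.snd p p) s.condition
    simp [l] at h1 h2
    rw [Category.assoc, ← h2, h1]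
  · rw [← h2, Category.assoc, hσ, Category.comp_id]

/-- Over a dense open subscheme of the target the morphism is an isomorphism. -/
theorem exists_dense_iso_pullback {X Y : Space S} (f : X ⟶ Y) (hX : IsDecent X.obj) (hY : IsDecent Y.obj)
    (hXf : (irreducibleComponents (Points X.obj)).Finite) (hYf : (irreducibleComponents (Points Y.obj)).Finite)
    (hf : IsBirational f.hom) (h₁ : IsQuasiCompactMor f.hom ∨ IsSeparatedMor f.hom)
    (h₂ : (LocP @LocallyOfFiniteType f.hom ∧ EtaleLocally (fun T => IsReduced T) Y.obj) ∨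
      LocP @LocallyOfFinitePresentation f.hom) :
    ∃ (V : Over S) (b : (yon S).obj V ⟶ Y.obj), RepWith @IsOpenImmersion b ∧
      Dense (Set.range (Points.ofPt b)) ∧
        ∀ ⦃P : Sp S⦄ (fst : P ⟶ X.obj) (snd : P ⟶ (yon S).obj V),
          IsPullback fst snd f.hom b → IsIso snd := by
  haveI := quasiSober_of_isDecent X.property hX
  haveI := quasiSober_of_isDecent Y.property hY
  haveI := H12AlgSp.t0Space_points Y.property hY
  obtain ⟨U, V, a, b, g, ha, hb, had, hbd, hab, hg⟩ := exists_dense_iso f hX hY hXf hYf hf h₂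
  haveI : IsIso ((Over.forget S).map g) := hg
  haveI : IsIso g := isIso_of_reflects_iso _ (Over.forget S)
  haveI := mono_of_openImmersion ha
  haveI := mono_of_openImmersion hb
  have hab' : (yon S).map (inv g) ≫ a ≫ f.hom = b := by
    rw [hab, ← Category.assoc, ← Functor.map_comp, IsIso.inv_hom_id, CategoryTheory.Functor.map_id,
      Category.id_comp]
  let C : Set (Points X.obj) := (Set.range (Points.ofPt a))ᶜ
  have hC : IsClosed C := (isOpenEmbedding_ofPt X.property ha).isOpen_range.isClosed_compl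
  suffices hgood : ∃ O : V.left.Opens, genericPoints V.left ⊆ O ∧
      ∀ z ∈ C, ∀ v ∈ O, Points.map f.hom z ≠ Points.ofPt b v by
    obtain ⟨O, hO, hOC⟩ := hgood
    let iO : Over.mk (O.ι ≫ V.hom) ⟶ V := Over.homMk O.ι
    refine ⟨_, (yon S).map iO ≫ b, repWith_comp (repWith_opensι O) hb, ?_, fun P fst snd sq => ?_⟩
    · refine dense_of_generic fun y hy => ?_
      obtain ⟨v, rfl⟩ := generic_subset_of_dense_open hYf (isOpenEmbedding_ofPt Y.property hb).isOpen_range hbd hy
      exact ⟨⟨v, hO ((mem_genericPoints_chart Y.property hY (etale_of_openImm hb) v).1 hy)⟩, ofPt_map _ _ _⟩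
    · obtain ⟨k, hk⟩ := exists_factor_open ha fst (by
        rintro _ ⟨p, rfl⟩
        obtain ⟨t, ht⟩ := (Points.schemeHomeo (Over.mk (O.ι ≫ V.hom))).surjective (Points.map snd p)
        have e : Points.map f.hom (Points.map fst p) = Points.ofPt b (O.ι t) := by
          rw [← Points.map_comp, sq.w, Points.map_comp, ← ht]
          refine (Points.ofPt_eq_map_ofScheme _ t).symm.trans ?_
          exact ofPt_map _ _ _
        obtain ⟨u, hu⟩ : Points.map fst p ∈ Set.range (Points.ofPt a) := by
          by_contra hn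
          exact hOC _ hn _ t.2 e
        rw [← hu]
        exact ofPt_mem_range a u)
      have w : k ≫ (yon S).map g = snd ≫ (yon S).map iO := by
        rw [← cancel_mono b, Category.assoc, ← hab, ← Category.assoc, hk, sq.w, Category.assoc]
      refine ⟨⟨sq.lift ((yon S).map (iO ≫ inv g) ≫ a) (𝟙 _) ?_, ?_, sq.lift_snd _ _ _⟩⟩
      · rw [Category.assoc, Functor.map_comp, Category.assoc, hab', Category.id_comp]
      · refine sq.hom_ext ?_ (by rw [Category.assoc, sq.lift_snd, Category.comp_id, Category.id_comp])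
        rw [Category.assoc, sq.lift_fst, Category.id_comp, ← hk, ← Category.assoc, Functor.map_comp,
          ← Category.assoc, ← w, Category.assoc k, ← Functor.map_comp, IsIso.hom_inv_id,
          CategoryTheory.Functor.map_id, Category.comp_id]
  rcases h₁ with hqc | hsep
  · have hpt : ∀ v ∈ genericPoints V.left, ∃ O : V.left.Opens, v ∈ O ∧
        ∀ z ∈ C, ∀ w ∈ O, Points.map f.hom z ≠ Points.ofPt b w := fun v hv => by
      have hy := (mem_genericPoints_chart Y.property hY (etale_of_openImm hb) v).2 hv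
      obtain ⟨x, hx, hxv⟩ := hf.bijOn.surjOn hy
      have hxa : x ∈ Set.range (Points.ofPt a) :=
        generic_subset_of_dense_open hXf (isOpenEmbedding_ofPt X.property ha).isOpen_range had hx
      obtain ⟨A, hA, hvA, -⟩ := exists_isAffineOpen_mem_and_subset (U := (⊤ : V.left.Opens)) (x := v) trivial
      haveI : IsAffine A.toScheme := hA
      have hbA : IsOpen (Points.ofPt b '' (A : Set V.left)) :=
        (isOpenEmbedding_ofPt Y.property hb).isOpenMap _ A.2
      have hbAc : IsCompact (Points.ofPt b '' (A : Set V.left)) := hA.isCompact.image (Points.continuous_ofPt b)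
      obtain ⟨W, c, hW, hc, hcr⟩ := exists_affine_chart X.property (hbA.preimage (Points.continuous_map f.hom))
        (H12AlgSp.isCompact_preimage Y.property hqc hbA hbAc)
      have hcA : ∀ w : W.left, ∃ w' ∈ A, Points.map f.hom (Points.ofPt c w) = Points.ofPt b w' := fun w => by
        have hm : Points.ofPt c w ∈ Points.map f.hom ⁻¹' (Points.ofPt b '' (A : Set V.left)) :=
          hcr ▸ Set.mem_range_self w
        obtain ⟨w', hw', e⟩ := hm
        exact ⟨w', hw', e.symm⟩
      obtain ⟨h', hh⟩ := exists_factor_open hb (c ≫ f.hom) (by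
        rintro _ ⟨p, rfl⟩
        obtain ⟨t, rfl⟩ := (Points.schemeHomeo W).surjective p
        obtain ⟨w', -, e⟩ := hcA t
        refine (?_ : Points.map (c ≫ f.hom) (Points.ofScheme W t) ∈ Set.range (Points.map b))
        rw [← Points.ofPt_eq_map_ofScheme, ← Points.map_ofPt, e]
        exact ofPt_mem_range b w')
      obtain ⟨hs, rfl⟩ := (yon S).map_surjective h'
      have hh' : ∀ w : W.left, Points.ofPt b (hs.left w) = Points.map f.hom (Points.ofPt c w) := fun w => by
        rw [Points.map_ofPt, ← hh, ofPt_map]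
      have hsA : ∀ w : W.left, hs.left w ∈ A := fun w => by
        obtain ⟨w', hw', e⟩ := hcA w
        rwa [isOpenEmbedding_ofPt_injective hb ((hh' w).trans e)]
      let hA' : W.left ⟶ A.toScheme := IsOpenImmersion.lift A.ι hs.left (by
        rintro _ ⟨w, rfl⟩
        rw [Scheme.Opens.range_ι]
        exact hsA w)
      have hA'w : ∀ w, A.ι (hA' w) = hs.left w := fun w => by
        rw [← Scheme.Hom.comp_apply, IsOpenImmersion.lift_fac]
      haveI : IsAffine W.left := hW
      haveI : SpectralSpace A.toScheme := {}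
      let C' : Set W.left := Points.ofPt c ⁻¹' C
      have hC' : IsClosed[constructibleTopology W.left] C' :=
        H28Top.isClosed_constr_of_isClosed (hC.preimage (Points.continuous_ofPt c))
      have himg : IsClosed[constructibleTopology A.toScheme] (hA' '' C') :=
        @IsCompact.isClosed _ (constructibleTopology A.toScheme) (H28Top.t2Space_constr _) _
          (@IsCompact.image _ _ (constructibleTopology W.left) (constructibleTopology A.toScheme) _ hA'
            (@IsClosed.isCompact _ (constructibleTopology W.left) _ (H28Top.compactSpace_constr _) hC')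
            (H28Top.continuous_constr_of_isSpectralMap hA'.isSpectralMap))
      have hvcl : (⟨v, hvA⟩ : A.toScheme) ∉ closure (hA' '' C') := fun hm => by
        obtain ⟨_, ⟨w, hw, rfl⟩, hsp⟩ := H28Top.exists_specializes_of_mem_closure himg hm
        have h1 : hs.left w = v := by
          refine H17.mem_genericPoints_iff.1 hv _ ?_
          rw [← hA'w]
          exact hsp.map A.ι.continuous
        have h2 : Points.ofPt c w = x := eq_of_map_eq_generic hX hY hf hx (by rw [← hh', h1, hxv])
        exact hw (h2 ▸ hxa)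
      refine ⟨⟨A.ι '' (closure (hA' '' C'))ᶜ,
        A.ι.isOpenEmbedding.isOpenMap _ isClosed_closure.isOpen_compl⟩, ⟨_, hvcl, rfl⟩, ?_⟩
      rintro z hz w ⟨t, ht, rfl⟩ he
      obtain ⟨w', rfl⟩ : z ∈ Set.range (Points.ofPt c) := by
        rw [hcr]
        exact ⟨A.ι t, t.2, he.symm⟩
      refine ht (subset_closure ⟨w', hz, ?_⟩)
      apply A.ι.isOpenEmbedding.injective
      rw [hA'w]
      exact isOpenEmbedding_ofPt_injective hb ((hh' w').trans he)
    choose O hO hOC using hpt
    refine ⟨⨆ v : genericPoints V.left, O v.1 v.2, fun v hv => Opens.mem_iSup.2 ⟨⟨v, hv⟩, hO v hv⟩, ?_⟩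
    intro z hz w hw
    obtain ⟨v, hwv⟩ := Opens.mem_iSup.1 hw
    exact hOC v.1 v.2 z hz w hwv
  · refine ⟨⊤, fun _ _ => trivial, fun z hz v _ he => ?_⟩
    have sqP := IsPullback.of_hasPullback f.hom b
    let p := pullback.snd f.hom b
    have hp : IsSeparatedMor p := H12AlgSp.isSeparatedMor_of_isPullback sqP hsep
    let σ : (yon S).obj V ⟶ pullback f.hom b := pullback.lift ((yon S).map (inv g) ≫ a) (𝟙 _)
      (by rw [Category.assoc, hab', Category.id_comp])
    have hσ : RepWith @IsClosedImmersion σ := repWith_closedImmersion_section hp (pullback.lift_snd _ _ _)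
    have hPalg : IsAlgSpace (pullback f.hom b) :=
      H12AlgSp.isAlgSpace_pullback Y.property.diag X.property (IsAlgSpace.yon_obj V) f.hom b
    have hfo : IsOpenMap (Points.map (pullback.fst f.hom b)) :=
      isOpenMap_map_of_repWith (fun _ _ k (_ : IsOpenImmersion k) => inferInstance)
        (repWith_of_isPullback sqP.flip hb)
    have hcl : IsClosed (Set.range (Points.map σ)) :=
      (H12AlgSp.isClosedMap_map_of_repWith (fun _ _ k (_ : IsClosedImmersion k) => inferInstance) hσ).isClosed_range
    have hT : IsOpen (Points.map (pullback.fst f.hom b) '' (Set.range (Points.map σ))ᶜ) :=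
      hfo _ hcl.isOpen_compl
    obtain ⟨q, hq1, hq2⟩ := exists_point_of_isPullback sqP z (Points.ofScheme V v)
      (by rw [he, Points.ofPt_eq_map_ofScheme])
    have hzT : z ∈ Points.map (pullback.fst f.hom b) '' (Set.range (Points.map σ))ᶜ := by
      refine ⟨q, fun ⟨t, ht⟩ => hz ?_, hq1⟩
      rw [← hq1, ← ht, ← Points.map_comp, pullback.lift_fst, Points.map_comp]
      obtain ⟨s, hs⟩ := (Points.schemeHomeo U).surjective (Points.map ((yon S).map (inv g)) t)
      rw [← hs]
      exact ⟨s, Points.ofPt_eq_map_ofScheme a s⟩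
    obtain ⟨_, ⟨q', hq', rfl⟩, u, hu⟩ := had.inter_open_nonempty _ hT ⟨z, hzT⟩
    refine hq' ⟨Points.ofScheme V (g.left u), ?_⟩
    haveI : Mono (pullback.fst f.hom b) := mono_of_openImmersion (repWith_of_isPullback sqP.flip hb)
    apply injective_map_of_mono (pullback.fst f.hom b)
    rw [← hu, ← Points.map_comp, pullback.lift_fst, ← Points.ofPt_eq_map_ofScheme, ofPt_map]
    congr 1
    rw [← Scheme.Hom.comp_apply, ← Over.comp_left, IsIso.hom_inv_id, Over.id_left]
    rfl

end Groth.Agent.H13AlgSp.Birat
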