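import Groth.Agent.H13Cartier.Criteria
import Groth.Agent.H12AlgSp.AffineMor
import Groth.Agent.H12AlgSp.Presentation
import Groth.Agent.H26Blow.Proper
import Groth.Agent.S8896
import Groth.Prelude.Def_W4stk3spdivBlowUp

/-!
# The blow-up of an algebraic space in a centre of finite presentation is proper
-/

set_option autoImplicit false
set_option backward.isDefEq.respectTransparency false
set_option linter.style.haveILetI false

universe u

open CategoryTheory CategoryTheory.Limits AlgebraicGeometry Opposite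
open AlgSp Groth.Agent.H12AlgSp Groth.Agent.H13AlgSp Groth.Agent.H13Cartier

namespace Groth.Agent.H13AlgSp.BlowProper

variable {S : Scheme.{u}}

theorem fg_of_lfp {U : Over S} (I : U.left.IdealSheafData) [LocallyOfFinitePresentation I.subschemeι]
    (V : U.left.affineOpens) : (I.ideal V).FG :=
  Groth.Agent.S8896.fg_ideal (𝟙 U.left) I V V (fun x hx => hx)

theorem repWith_id_yon {P : MorphismProperty Scheme.{u}} [P.IsStableUnderBaseChange] [P.ContainsIdentities]
    (W : Over S) : RepWith P (𝟙 ((yon S).obj W)) := by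
  rw [← (yon S).map_id]
  exact (repWith_yon_map_iff P (𝟙 W)).2 (MorphismProperty.id_mem P W.left)

theorem isProperMor_yon_map {F V : Over S} (b : F ⟶ V) [IsProper b.left] :
    IsProperMor ((yon S).map b) := by
  have h : RepWith @IsProper ((yon S).map b) := (repWith_yon_map_iff _ b).2 ‹_›
  exact ⟨isSeparatedMor_of_repWith
      (repWith_le (fun _ _ k (_ : IsProper k) => inferInstanceAs (IsSeparated k)) h),
    ⟨locP_of_repWith etLocal_lft
        (repWith_le (fun _ _ k (_ : IsProper k) => inferInstanceAs (LocallyOfFiniteType k)) h),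
      isQuasiCompactMor_of_repWith (IsAlgSpace.yon_obj F) (IsAlgSpace.yon_obj V)
        (repWith_le (fun _ _ k (_ : IsProper k) => inferInstanceAs (QuasiCompact k)) h)⟩,
    (repWith_universallyClosed_iff h.rep).1
      (repWith_le (fun _ _ k (_ : IsProper k) => inferInstanceAs (UniversallyClosed k)) h)⟩

theorem invImage_of_cutsOut {Z X : Sp S} {i : Z ⟶ X} {W : Over S} {g : (yon S).obj W ⟶ X}
    {J : W.left.IdealSheafData} (hJ : CutsOut i g J) (hc : BlowUp.IsEffCartierIdeal J) :
    InvImageIsEffCartier i g := by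
  obtain ⟨fst, sq⟩ := hJ
  refine ⟨_, fst, _, sq, isEffCartierSub_of_cutsOut ((repWith_yon_map_iff _ _).2 (inferInstanceAs
    (IsClosedImmersion J.subschemeι))) (repWith_id_yon W) (repWith_id_yon W) (I := J) ?_ hc⟩
  exact ⟨𝟙 _, IsPullback.of_horiz_isIso ⟨by simp⟩⟩

/-- Over a chart of the base, the blow-up of the space is the blow-up of the chart; hence it is proper. -/
theorem isProperMor_of_isBlowUpSp {X X' Z : Sp S} (hX : IsAlgSpace X) (hX' : IsAlgSpace X')
    {i : Z ⟶ X} (hi : RepWith (@IsClosedImmersion ⊓ @LocallyOfFinitePresentation) i)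
    {b : X' ⟶ X} (hb : IsBlowUpSp b i) : IsProperMor b := by
  obtain ⟨U, ψ, hψ, hψs⟩ := hX.atlas
  have hi₁ : RepWith @IsClosedImmersion i := repWith_le (fun _ _ _ h => h.1) hi
  obtain ⟨I, hI⟩ := exists_cutsOut hi₁ ψ
  have hlfp : LocallyOfFinitePresentation I.subschemeι :=
    (repWith_yon_map_iff _ (subIncl U I)).1 (repWith_of_isPullback hI.choose_spec
      (repWith_le (Q := @LocallyOfFinitePresentation) (fun _ _ _ h => h.2) hi))
  obtain ⟨B, bB, hbB⟩ := Groth.Agent.H26Blow.exists_isBlowUp I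
  have : IsProper bB := Groth.Agent.H26Blow.isProper_of_isBlowUp hbB fun x => by
    obtain ⟨W, hW, hxW, -⟩ := exists_isAffineOpen_mem_and_subset (U := (⊤ : U.left.Opens)) (x := x) trivial
    exact ⟨⟨W, hW⟩, hxW, fg_of_lfp I _⟩
  let Bo : Over S := Over.mk (bB ≫ U.hom)
  let β : Bo ⟶ U := Over.homMk bB rfl
  have hP : IsAlgSpace (pullback b ψ) := isAlgSpace_pullback hX.diag hX' (IsAlgSpace.yon_obj U) b ψ
  have sqP := IsPullback.of_hasPullback b ψ
  -- the map from the blow-up of the chart
  have hcutB : CutsOut i ((yon S).map β ≫ ψ) (I.comap bB) := hI.comap β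
  obtain ⟨h, hh, -⟩ := hb.2 (IsAlgSpace.yon_obj Bo) _ (invImage_of_cutsOut hcutB hbB.1)
  let s : (yon S).obj Bo ⟶ pullback b ψ := pullback.lift h ((yon S).map β) hh
  -- the map to the blow-up of the chart
  obtain ⟨T, c, hce, hcs⟩ := hP.atlas
  obtain ⟨k, hk⟩ := (yon S).map_surjective (c ≫ pullback.snd b ψ)
  have hp₁ : RepWith @Etale (pullback.fst b ψ) := repWith_of_isPullback sqP.flip hψ
  obtain ⟨D, f, g, sqD, hD⟩ := hb.1
  have hcutT : CutsOut g (c ≫ pullback.fst b ψ) (I.comap k.left) := by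
    refine cutsOut_of_isPullback sqD ?_
    rw [Category.assoc, pullback.condition, ← Category.assoc, ← hk]
    exact hI.comap k
  have hcT := isEffCartierIdeal_of_cutsOut hD (repWith_comp hce hp₁) hcutT
  obtain ⟨τ, hτ, -⟩ := hbB.2 T.left k.left hcT
  let τo : T ⟶ Bo := Over.homMk τ (by
    simp only [Bo, Over.mk_hom]
    rw [← Category.assoc, hτ]; exact Over.w k)
  have hτo : τo ≫ β = k := Over.OverMorphism.ext hτ
  obtain ⟨R, r₂, r', sqR⟩ := hce.rep c
  obtain ⟨r₁, rfl⟩ := (yon S).map_surjective r'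
  have hr₁ : Etale r₁.left := hce.2 c _ r₁ sqR.flip
  have hkk : r₁ ≫ k = r₂ ≫ k := (yon S).map_injective (by
    rw [Functor.map_comp, Functor.map_comp, hk, reassoc_of% sqR.w])
  have hττ : r₁ ≫ τo = r₂ ≫ τo := by
    obtain ⟨m, -, hu⟩ := hbB.2 R.left (r₁ ≫ k).left (by
      rw [Over.comp_left, Scheme.IdealSheafData.comap_comp]
      exact H29Blow.isEffCartierIdeal_comap_of_flat hcT r₁.left)
    refine Over.OverMorphism.ext ((hu (r₁ ≫ τo).left ?_).trans (hu (r₂ ≫ τo).left ?_).symm)
    · show (r₁ ≫ τo ≫ β).left = _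
      rw [hτo]
    · show (r₂ ≫ τo ≫ β).left = _
      rw [hτo, hkk]
  obtain ⟨hcol⟩ := nonempty_isColimit_of_atlas hce hcs sqR
  obtain ⟨t, ht⟩ := Cofork.IsColimit.desc' hcol ((yon S).map τo) (by
    rw [← Functor.map_comp, ← Functor.map_comp, hττ])
  simp only [Cofork.π_ofπ] at ht
  haveI := epi_of_etale_surjective hce hcs
  have htβ : t ≫ (yon S).map β = pullback.snd b ψ := by
    rw [← cancel_epi c, reassoc_of% ht, ← Functor.map_comp, hτo, hk]
  have hst : s ≫ t = 𝟙 _ := by
    obtain ⟨σ, hσ⟩ := (yon S).map_surjective (s ≫ t)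
    have hσβ : σ ≫ β = β := (yon S).map_injective (by
      rw [Functor.map_comp, hσ, Category.assoc, htβ]; exact pullback.lift_snd _ _ _)
    obtain ⟨m, -, hu⟩ := hbB.2 B bB hbB.1
    have : σ = 𝟙 Bo := Over.OverMorphism.ext ((hu σ.left (congrArg (fun q => Over.Hom.left q) hσβ)).trans
      (hu (𝟙 _) (Category.id_comp _)).symm)
    rw [← hσ, this, CategoryTheory.Functor.map_id]
  have hts : t ≫ s = 𝟙 _ := by
    refine pullback.hom_ext ?_ ?_
    · have hc₁ : InvImageIsEffCartier i (pullback.fst b ψ ≫ b) := by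
        have sq' := IsPullback.of_hasPullback g (pullback.fst b ψ)
        exact ⟨_, _, _, sq'.paste_horiz sqD, isEffCartierSub_pullback_flat hP hX'
          (locP_of_repWith etLocal_flat (repWith_le (fun _ _ q (_ : Etale q) => inferInstanceAs (Flat q)) hp₁))
          hD sq'⟩
      obtain ⟨m, -, hu⟩ := hb.2 hP _ hc₁
      refine (hu _ ?_).trans (hu _ ?_).symm
      · simp only [s, Category.assoc, pullback.lift_fst]
        rw [hh, reassoc_of% htβ, pullback.condition]
      · simp
    · simp [s, htβ]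
  haveI : IsIso t := ⟨s, hts, hst⟩
  have htci : RepWith @IsClosedImmersion t :=
    repWith_of_isPullback (IsPullback.of_vert_isIso (fst := t) (snd := t) (f := 𝟙 _) (g := 𝟙 _) ⟨rfl⟩)
      (repWith_id_yon Bo)
  have : IsProper β.left := ‹IsProper bB›
  refine isProperMor_of_cover hX' hX hψ hψs sqP ?_
  rw [← htβ]
  exact isProperMor_comp hP (IsAlgSpace.yon_obj Bo) (IsAlgSpace.yon_obj U)
    (isProperMor_of_isClosedImmersion (IsAlgSpace.yon_obj Bo) htci) (isProperMor_yon_map β)

end Groth.Agent.H13AlgSp.BlowProper
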