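import Groth.Agent.H12AlgSp.OpenSub
import Groth.Agent.H12AlgSp.LocP
import Groth.Prelude.Def_AlgSpCov

/-!
Wide pullbacks of open immersions and of an atlas.
-/

set_option autoImplicit false
set_option backward.isDefEq.respectTransparency false
set_option linter.style.haveILetI false

universe u

open CategoryTheory CategoryTheory.Limits AlgebraicGeometry Opposite
open AlgSp Groth.Agent.H12AlgSp

namespace Groth.Agent.H13AlgSp.Bootstrap

variable {S : Scheme.{u}}

theorem repWith_openIncl {T : Over S} (O : T.left.Opens) :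
    RepWith @IsOpenImmersion ((yon S).map (openIncl T O)) := by
  haveI : IsOpenImmersion (openIncl T O).left := inferInstanceAs (IsOpenImmersion O.ι)
  exact (repWith_yon_map_iff _ _).2 inferInstance

/-- The iterated fibre product of open subschemes is their intersection. -/
theorem nonempty_iso_inter {T : Over S} {U : Sp S} (e : U ≅ (yon S).obj T) {n : ℕ}
    (O : Fin (n + 1) → T.left.Opens) :
    ∃ η : widePullback U (fun k => (yon S).obj (openOver T (O k)))
        (fun k => (yon S).map (openIncl T (O k)) ≫ e.inv) ≅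
      (yon S).obj (openOver T ⟨⋂ k, (O k : Set T.left), isOpen_iInter_of_finite fun k => (O k).isOpen⟩),
      η.hom ≫ (yon S).map (openIncl T ⟨⋂ k, (O k : Set T.left), isOpen_iInter_of_finite fun k => (O k).isOpen⟩) =
        WidePullback.base (fun k => (yon S).map (openIncl T (O k)) ≫ e.inv) ≫ e.hom := by
  let I : T.left.Opens := ⟨⋂ k, (O k : Set T.left), isOpen_iInter_of_finite fun k => (O k).isOpen⟩
  let g := fun k => (yon S).map (openIncl T (O k)) ≫ e.inv
  have hle : ∀ k, I ≤ O k := fun k => Set.iInter_subset (fun k => (O k : Set T.left)) k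
  let bk : (yon S).obj (openOver T I) ⟶ widePullback U _ g :=
    WidePullback.lift ((yon S).map (openIncl T I) ≫ e.inv) (fun k => (yon S).map (openLE T (hle k))) fun k => by
      rw [← Category.assoc, ← Functor.map_comp, openLE_incl]
  obtain ⟨fw, hfw⟩ := exists_factor_open (repWith_openIncl I) (WidePullback.base g ≫ e.hom) (by
    rintro _ ⟨z, rfl⟩
    have hz : ∀ k, Points.toScheme T (Points.map (WidePullback.base g ≫ e.hom) z) ∈ O k := fun k => by
      have hb : WidePullback.base g ≫ e.hom = WidePullback.π g k ≫ (yon S).map (openIncl T (O k)) := by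
        rw [← WidePullback.π_arrow g k]; simp only [g, Category.assoc, Iso.inv_hom_id, Category.comp_id]
      obtain ⟨t, ht⟩ := (range_map_yon ((yon S).map (openIncl T (O k)))).le
        ⟨Points.map (WidePullback.π g k) z, rfl⟩
      rw [hb, Points.map_comp, ← ht, Points.toScheme_ofPt]
      exact t.2
    refine ⟨Points.ofScheme (openOver T I) ⟨_, Set.mem_iInter.2 hz⟩, ?_⟩
    refine (Points.ofScheme_toScheme T _).symm.trans ((congrArg (Points.ofScheme T) ?_).trans (Points.ofScheme_toScheme T _))
    rw [← Points.ofPt_eq_map_ofScheme, Points.toScheme_ofPt]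
    rfl)
  haveI := mono_of_openImmersion (repWith_openIncl I)
  refine ⟨⟨fw, bk, ?_, ?_⟩, hfw⟩
  · apply WidePullback.hom_ext
    · intro k
      haveI := mono_of_openImmersion (repWith_openIncl (O k))
      rw [← cancel_mono (g k)]
      simp only [Category.assoc, bk, Category.id_comp]
      rw [WidePullback.lift_π_assoc, WidePullback.π_arrow]
      change _ ≫ (yon S).map _ ≫ (yon S).map _ ≫ e.inv = _
      rw [← Category.assoc ((yon S).map _), ← Functor.map_comp, openLE_incl, ← Category.assoc, hfw,
        Category.assoc, Iso.hom_inv_id, Category.comp_id]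
    · simp only [Category.assoc, bk, Category.id_comp]
      rw [WidePullback.lift_base, ← Category.assoc, hfw, Category.assoc, Iso.hom_inv_id, Category.comp_id]
  · rw [← cancel_mono ((yon S).map (openIncl T I)), Category.assoc, hfw]
    simp [bk]

/-- The iterated fibre product of an atlas is a scheme, etale over the base. -/
theorem exists_iter_atlas {X : Sp S} {U : Over S} {p : (yon S).obj U ⟶ X} (hp : RepWith @Etale p) (n : ℕ) :
    ∃ (T : Over S) (t : (yon S).obj T ⟶ X) (q : Fin (n + 1) → (T ⟶ U)), RepWith @Etale t ∧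
      (∀ k, (yon S).map (q k) ≫ p = t) ∧
      ∀ ⦃Z : Sp S⦄ (z : Z ⟶ X) (y : Fin (n + 1) → (Z ⟶ (yon S).obj U)), (∀ k, y k ≫ p = z) →
        ∃! l : Z ⟶ (yon S).obj T, ∀ k, l ≫ (yon S).map (q k) = y k := by
  induction n with
  | zero =>
    refine ⟨U, p, fun _ => 𝟙 U, hp, fun k => by simp, fun Z z y _ => ⟨y 0, fun k => ?_, fun l hl => ?_⟩⟩
    · obtain rfl : k = 0 := Subsingleton.elim (α := Fin 1) _ _
      simp
    · simpa using hl 0
  | succ n ih =>
    obtain ⟨T, t, q, ht, hq, hu⟩ := ih
    obtain ⟨T', snd, fst', sq⟩ := hp.rep t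
    obtain ⟨fst, rfl⟩ := (yon S).map_surjective fst'
    have hsnd : Etale snd.left := hp.property _ _ snd sq
    refine ⟨T', (yon S).map snd ≫ t, Fin.cons fst (fun k => snd ≫ q k), ?_, ?_, ?_⟩
    · exact repWith_comp ((repWith_yon_map_iff _ _).2 hsnd) ht
    · intro k
      induction k using Fin.cases with
      | zero => simpa using sq.w
      | succ k => simp [hq k]
    · intro Z z y hy
      obtain ⟨l₀, hl₀, hl₀u⟩ := hu z (fun k => y k.succ) (fun k => hy _)
      have e : y 0 ≫ p = l₀ ≫ t := by
        rw [hy 0, ← hy (Fin.succ 0), ← hl₀ 0, Category.assoc, hq]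
      refine ⟨sq.lift (y 0) l₀ e, fun k => ?_, fun l hl => ?_⟩
      · induction k using Fin.cases with
        | zero => simp
        | succ k => simp [← hl₀ k]
      · apply sq.hom_ext
        · simpa using hl 0
        · rw [sq.lift_snd]
          exact hl₀u _ fun k => by simpa using hl k.succ

theorem isAffineOpen_iInter {X : Scheme.{u}} [X.IsSeparated] {n : ℕ} (O : Fin (n + 1) → X.Opens)
    (h : ∀ k, IsAffineOpen (O k)) :
    IsAffineOpen (⟨⋂ k, (O k : Set X), isOpen_iInter_of_finite fun k => (O k).isOpen⟩ : X.Opens) := by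
  induction n with
  | zero =>
    convert h 0
    ext x
    simp [Fin.forall_fin_one]
  | succ n ih =>
    convert (h 0).inf (ih (fun k => O k.succ) fun k => h _) using 1
    ext x
    simp [Fin.forall_fin_succ]

end Groth.Agent.H13AlgSp.Bootstrap
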