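import Groth.Agent.H13AlgSp.Catenary
import Groth.Agent.H13AlgSp.Sober
import Groth.Agent.H12AlgSp.DecentTop
import Groth.Agent.H12AlgSp.RelDim
import Groth.Agent.H12AlgSp.LargeFieldLift
import Groth.Prelude.Def_W4stk3decentspacesp2Birat

/-!
Spaces of points of decent spaces over universally catenary bases are catenary.
-/

set_option autoImplicit false
set_option backward.isDefEq.respectTransparency false

universe u

open CategoryTheory CategoryTheory.Limits AlgebraicGeometry Opposite
open AlgSp Groth.Agent.H12AlgSp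
open Groth.Agent.H7Flat (evKer evKer_eq)

namespace Groth.Agent.H13AlgSp

variable {S : Scheme.{u}} {X : Sp S}

theorem exists_lift_chain (hd : IsDecent X) {U : Over S} {a : (yon S).obj U ⟶ X} (ha : RepWith @Etale a)
    (x : ℕ → Points X) (hx : ∀ i, x (i + 1) ⤳ x i) (u : U.left) (hu : Points.ofPt a u = x 0) :
    ∃ v : ℕ → U.left, v 0 = u ∧ (∀ i, Points.ofPt a (v i) = x i) ∧ ∀ i j, i ≤ j → v j ⤳ v i := by
  have fin : ∀ (z : Points X) (V : Over S) (b : (yon S).obj V ⟶ X), IsAffine V.left →
      RepWith @Etale b → (Points.ofPt b ⁻¹' {z}).Finite := fun z V b hV hb => by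
    obtain ⟨p, rfl, -, hqc⟩ := hd z
    exact @finite_fibre_affine _ _ p hqc _ hV _ hb
  choose g hg using fun (i : ℕ) (w : {w : U.left // Points.ofPt a w = x i}) =>
    exists_lift_generization (fin (x (i + 1))) ha w.1 (by rw [w.2]; exact hx i)
  let v : ∀ i, {w : U.left // Points.ofPt a w = x i} := fun i =>
    Nat.rec ⟨u, hu⟩ (fun i w => ⟨g i w, (hg i w).2⟩) i
  refine ⟨fun i => (v i).1, rfl, fun i => (v i).2, fun i j hij => ?_⟩
  induction j, hij using Nat.le_induction with
  | base => exact specializes_rfl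
  | succ j _ ih => exact (hg j (v j)).1.trans ih

theorem specializes_fromSpec_iff {U : Scheme.{u}} {O : U.Opens} (hO : IsAffineOpen O)
    (p q : PrimeSpectrum Γ(U, O)) : hO.fromSpec p ⤳ hO.fromSpec q ↔ p ≤ q :=
  hO.fromSpec.isOpenEmbedding.isInducing.specializes_iff.trans (PrimeSpectrum.le_iff_specializes _ _).symm

theorem primeIdealOf_le {U : Scheme.{u}} {O : U.Opens} (hO : IsAffineOpen O) {x y : U} (hx : x ∈ O) (hy : y ∈ O)
    (h : x ⤳ y) : hO.primeIdealOf ⟨x, hx⟩ ≤ hO.primeIdealOf ⟨y, hy⟩ := by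
  rw [← specializes_fromSpec_iff hO, hO.fromSpec_primeIdealOf, hO.fromSpec_primeIdealOf]
  exact h

theorem exists_prime_chain (hX : IsAlgSpace X) (hd : IsDecent X) {U : Over S} {a : (yon S).obj U ⟶ X}
    (ha : RepWith @Etale a) (p : LTSeries (TopologicalSpace.IrreducibleCloseds (Points X)))
    {t t' : Points X} (ht : IsGenericPoint t (p.head : Set (Points X))) (ht' : IsGenericPoint t' (p.last : Set (Points X)))
    {O : U.left.Opens} (hO : IsAffineOpen O) (u : U.left) (huO : u ∈ O) (hu : Points.ofPt a u = t) :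
    ∃ (v : U.left) (hvO : v ∈ O), v ⤳ u ∧ Points.ofPt a v = t' ∧
      ∃ s : LTSeries (PrimeSpectrum Γ(U.left, O)), s.head = hO.primeIdealOf ⟨v, hvO⟩ ∧
        s.last = hO.primeIdealOf ⟨u, huO⟩ ∧ s.length = p.length ∧
        ((∀ i : Fin p.length, p.toFun i.castSucc ⋖ p.toFun i.succ) → H02CA.Saturated s) := by
  classical
  haveI := quasiSober_of_isDecent hX hd
  haveI := t0Space_points hX hd
  let c : ℕ → TopologicalSpace.IrreducibleCloseds (Points X) := fun i =>
    p.toFun ⟨min i p.length, Nat.lt_succ_of_le (Nat.min_le_right _ _)⟩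
  let x : ℕ → Points X := fun i => (c i).isIrreducible.genericPoint
  have hx : ∀ i, IsGenericPoint (x i) (c i : Set (Points X)) := fun i => by
    have h := (c i).isIrreducible.isGenericPoint_genericPoint_closure
    rwa [(c i).isClosed.closure_eq] at h
  have hmono : ∀ i j, i ≤ j → c i ≤ c j := fun i j h =>
    p.monotone (Fin.mk_le_mk.2 (min_le_min_right _ h))
  have hstep : ∀ i, x (i + 1) ⤳ x i := fun i => (hx (i + 1)).specializes (hmono i (i + 1) i.le_succ (hx i).mem)
  have hx0 : x 0 = t := by
    refine (hx 0).eq ?_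
    convert ht using 3
    simp [c, RelSeries.head]
  obtain ⟨v, hv0, hvx, hvs⟩ := exists_lift_chain hd ha x hstep u (hu.trans hx0.symm)
  have hvO : ∀ i, v i ∈ O := fun i => (hv0 ▸ hvs 0 i (Nat.zero_le i) : v i ⤳ u).mem_open O.2 huO
  let P : ℕ → PrimeSpectrum Γ(U.left, O) := fun i => hO.primeIdealOf ⟨v (p.length - i), hvO _⟩
  have hP : ∀ i, i < p.length → P i < P (i + 1) := by
    intro i hi
    refine lt_of_le_of_ne (primeIdealOf_le hO _ _ (hvs _ _ (by omega))) fun e => ?_
    have e₁ := congrArg hO.fromSpec e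
    simp only [P, hO.fromSpec_primeIdealOf] at e₁
    have e₂ : x (p.length - i) = x (p.length - (i + 1)) := by
      rw [← hvx, ← hvx]; exact congrArg _ e₁
    have e₃ : c (p.length - i) = c (p.length - (i + 1)) :=
      TopologicalSpace.IrreducibleCloseds.ext (by rw [← (hx _).def, ← (hx _).def, e₂])
    have := p.strictMono.injective e₃
    simp only [Fin.mk.injEq] at this
    omega
  let s : LTSeries (PrimeSpectrum Γ(U.left, O)) := ⟨p.length, fun i => P i, fun i => hP i i.isLt⟩
  refine ⟨v p.length, hvO _, hv0 ▸ hvs 0 p.length (Nat.zero_le _), ?_, s, ?_, ?_, rfl, fun hp i => ?_⟩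
  · rw [hvx]
    refine (hx _).eq ?_
    convert ht' using 3
    simp [c, RelSeries.last, Fin.last]
  · simp [s, P, RelSeries.head]
  · simp [s, P, RelSeries.last, hv0]
  · refine ⟨hP i i.isLt, fun q hq hq' => ?_⟩
    obtain ⟨k, hk⟩ : ∃ k, p.length - (i : ℕ) = k + 1 := ⟨p.length - (i : ℕ) - 1, by have hi : (i : ℕ) < p.length := i.isLt; omega⟩
    have hk' : p.length - ((i : ℕ) + 1) = k := by omega
    have hq₁ : v (k + 1) ⤳ hO.fromSpec q := by
      have := (specializes_fromSpec_iff hO _ _).2 hq.le
      simp only [s, P, Fin.val_castSucc, hO.fromSpec_primeIdealOf] at this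
      rwa [hk] at this
    have hq₂ : hO.fromSpec q ⤳ v k := by
      have := (specializes_fromSpec_iff hO _ _).2 hq'.le
      simp only [s, P, Fin.val_succ, hO.fromSpec_primeIdealOf] at this
      rwa [hk'] at this
    let z := Points.ofPt a (hO.fromSpec q)
    let D : TopologicalSpace.IrreducibleCloseds (Points X) :=
      ⟨closure {z}, isIrreducible_singleton.closure, isClosed_closure⟩
    have hi : (i : ℕ) < p.length := i.isLt
    have hk'' : k < p.length := by omega
    have hcov : c k ⋖ c (k + 1) := by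
      have := hp ⟨k, hk''⟩
      convert this using 2 <;> simp [c, Fin.ext_iff] <;> omega
    have fin : ∀ (w : Points X) (V : Over S) (b : (yon S).obj V ⟶ X), IsAffine V.left →
        RepWith @Etale b → (Points.ofPt b ⁻¹' {w}).Finite := fun w V b hV hb => by
      obtain ⟨r, rfl, -, hqc⟩ := hd w
      exact @finite_fibre_affine _ _ r hqc _ hV _ hb
    have hD₁ : c k ≤ D := by
      intro w hw
      have h₁ : z ⤳ x k := by rw [← hvx]; exact hq₂.map (Points.continuous_ofPt a)
      exact specializes_iff_mem_closure.1 (h₁.trans ((hx k).specializes hw))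
    have hD₂ : D ≤ c (k + 1) := by
      refine (closure_minimal (Set.singleton_subset_iff.2 ?_) (c (k + 1)).isClosed)
      rw [SetLike.mem_coe, ← SetLike.mem_coe, ← (hx (k + 1)).def]
      have h₁ : x (k + 1) ⤳ z := by rw [← hvx]; exact hq₁.map (Points.continuous_ofPt a)
      exact specializes_iff_mem_closure.1 h₁
    have hgen : IsGenericPoint z (D : Set (Points X)) := rfl
    rcases eq_or_lt_of_le hD₁ with e | hlt₁
    · have : z = x k := hgen.eq (e ▸ hx k)
      have e' := eq_of_specializes_of_finite (fin _) ha (hvx k) this hq₂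
      refine hq'.ne (PrimeSpectrum.ext ?_)
      have : q = hO.primeIdealOf ⟨v k, hvO k⟩ :=
        hO.fromSpec.isOpenEmbedding.injective (by rw [hO.fromSpec_primeIdealOf]; exact e'.symm)
      simp only [s, P, Fin.val_succ, hk', this]
    · rcases eq_or_lt_of_le hD₂ with e | hlt₂
      · have : z = x (k + 1) := hgen.eq (e ▸ hx (k + 1))
        have e' := eq_of_specializes_of_finite (fin _) ha this (hvx (k + 1)) hq₁
        refine hq.ne' (PrimeSpectrum.ext ?_)
        have : q = hO.primeIdealOf ⟨v (k + 1), hvO _⟩ :=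
          hO.fromSpec.isOpenEmbedding.injective (by rw [hO.fromSpec_primeIdealOf]; exact e')
        simp only [s, P, Fin.val_castSucc, hk, this]
      · exact hcov.2 hlt₁ hlt₂

theorem resTrdeg_eq_of_ofPt_eq {U : Over S} {a : (yon S).obj U ⟶ X} (ha : RepWith @Etale a) (v v' : U.left)
    (h : Points.ofPt a v = Points.ofPt a v') :
    Dual3.resTrdeg U.hom v = Dual3.resTrdeg U.hom v' := by
  obtain ⟨W, r₂, fst, sq⟩ := ha.1 a
  obtain ⟨r₁, rfl⟩ := (yon S).map_surjective fst
  have : Etale r₂.left := ha.2 a _ r₂ sq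
  have : Etale r₁.left := ha.2 a _ r₁ sq.flip
  have := lqf_of_etale r₁.left
  have := lqf_of_etale r₂.left
  obtain ⟨z, hz₁, hz₂⟩ := exists_point_of_isPullback sq (Points.ofScheme U v) (Points.ofScheme U v')
    (by rw [← Points.ofPt_eq_map_ofScheme, ← Points.ofPt_eq_map_ofScheme, h])
  obtain ⟨w, rfl⟩ := (Points.schemeEquiv W).surjective z
  have e₁ : r₁.left w = v := (Points.schemeEquiv U).injective (by
    refine Eq.trans ?_ hz₁
    change Points.ofScheme _ _ = Points.map _ (Points.ofScheme _ _)
    rw [← Points.ofPt_eq_map_ofScheme, ← Category.comp_id ((yon S).map r₁), ofPt_map])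
  have e₂ : r₂.left w = v' := (Points.schemeEquiv U).injective (by
    refine Eq.trans ?_ hz₂
    change Points.ofScheme _ _ = Points.map _ (Points.ofScheme _ _)
    rw [← Points.ofPt_eq_map_ofScheme, ← Category.comp_id ((yon S).map r₂), ofPt_map])
  have key : ∀ (r : W ⟶ U), LocallyQuasiFinite r.left → LocallyOfFiniteType r.left →
      Dual3.resTrdeg W.hom w = Dual3.resTrdeg U.hom (r.left w) := fun r _ _ => by
    have := resTrdeg_comp r.left U.hom w
    rw [resTrdeg_eq_zero_of_lqf r.left w, add_zero] at this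
    convert this using 2
    exact (Over.w r).symm
  rw [← e₁, ← e₂, ← key r₁ inferInstance inferInstance, ← key r₂ inferInstance inferInstance]

theorem height_congr {B : Type u} [CommRing B] {P P' q q' : Ideal B} (h : P = P') (h' : q = q') :
    (q.map (Ideal.Quotient.mk P)).height = (q'.map (Ideal.Quotient.mk P')).height := by
  subst h h'; rfl

theorem isCatenarySpace_of_isDecent [IsLocallyNoetherian S]
    (hS : ∀ s : S, CAlg.IsUniversallyCatenary (S.presheaf.stalk s)) (hX : IsAlgSpace X) (hd : IsDecent X)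
    (p : X ⟶ (yon S).obj (Over.mk (𝟙 S))) (hp : LocP @LocallyOfFiniteType p) :
    W4stk3decentspacesp2.IsCatenarySpace (Points X) := by
  obtain ⟨U, a, ha, has⟩ := hX.atlas
  obtain ⟨h, hh⟩ := (yon S).map_surjective (a ≫ p)
  have hl : LocallyOfFiniteType h.left :=
    hp a (𝟙 _) h ha (repWith_of_isIso _) (hh.symm.trans (Category.comp_id _).symm)
  have hhom : h.left = U.hom := by simpa using Over.w h
  rw [hhom] at hl
  haveI := quasiSober_of_isDecent hX hd
  intro T T' hTT'
  let t := T.isIrreducible.genericPoint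
  let t' := T'.isIrreducible.genericPoint
  have ht : IsGenericPoint t (T : Set (Points X)) := by
    have h := T.isIrreducible.isGenericPoint_genericPoint_closure
    rwa [T.isClosed.closure_eq] at h
  have ht' : IsGenericPoint t' (T' : Set (Points X)) := by
    have h := T'.isIrreducible.isGenericPoint_genericPoint_closure
    rwa [T'.isClosed.closure_eq] at h
  obtain ⟨u, hu⟩ := surjective_ofPt_of_repWith le_rfl has t
  obtain ⟨V, hV, huV, -⟩ := exists_isAffineOpen_mem_and_subset (x := U.hom u) (U := ⊤) trivial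
  obtain ⟨O, hO, huO, hle⟩ := exists_isAffineOpen_mem_and_subset (x := u) (U := U.hom ⁻¹ᵁ V) huV
  haveI : IsLocallyNoetherian U.left := LocallyOfFiniteType.isLocallyNoetherian U.hom
  haveI : IsNoetherianRing Γ(U.left, O) := IsLocallyNoetherian.component_noetherian ⟨O, hO⟩
  have hcat : CAlg.IsCatenary Γ(U.left, O) := by
    obtain ⟨-, hA⟩ := H22Alg.DimFunLft.isUniversallyCatenary_sections hS hV
    letI := (U.hom.appLE V O hle).hom.toAlgebra
    exact hA Γ(U.left, O) (RingHom.finiteType_algebraMap.1 (U.hom.finiteType_appLE hV hO hle))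
  refine ⟨⟨(Order.height (hO.primeIdealOf ⟨u, huO⟩)).toNat, fun P h₁ h₂ => ?_⟩, fun P Q h₁ h₂ h₁' h₂' hP hQ => ?_⟩
  · obtain ⟨v, hvO, -, -, s, -, hs, hlen, -⟩ :=
      exists_prime_chain hX hd ha P (by rw [h₁]; exact ht) (by rw [h₂]; exact ht') hO u huO hu
    have hfin : Order.height (hO.primeIdealOf ⟨u, huO⟩) ≠ ⊤ := by
      rw [← PrimeSpectrum.height_eq_orderHeight]
      exact Ideal.height_ne_top (hO.primeIdealOf ⟨u, huO⟩).isPrime.ne_top
    have hle' := Order.length_le_height (p := s) hs.le
    rw [← ENat.coe_toNat hfin, hlen] at hle'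
    exact_mod_cast hle'
  · obtain ⟨v, hvO, hvu, hv, s, hs₀, hs, hlen, hsat⟩ :=
      exists_prime_chain hX hd ha P (by rw [h₁]; exact ht) (by rw [h₂]; exact ht') hO u huO hu
    obtain ⟨v', hvO', hvu', hv', s', hs₀', hs', hlen', hsat'⟩ :=
      exists_prime_chain hX hd ha Q (by rw [h₁']; exact ht) (by rw [h₂']; exact ht') hO u huO hu
    have hvv : Points.ofPt a v = Points.ofPt a v' := hv.trans hv'.symm
    have he : U.hom v = U.hom v' := by
      have := congrArg (Points.map p) hvv
      simp only [Points.map_ofPt, ← hh] at this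
      rw [← Category.comp_id ((yon S).map h), ofPt_map, ofPt_map] at this
      have := (Points.schemeEquiv (Over.mk (𝟙 S))).symm.symm.injective this
      rwa [hhom] at this
    have key := height_eq_height U.hom hS hV hO hle hvu hvu' hvO hvO' huO he
      (resTrdeg_eq_of_ofPt_eq ha v v' hvv)
    rw [height_congr (evKer_eq hO v hvO) (evKer_eq hO u huO), height_congr (evKer_eq hO v' hvO') (evKer_eq hO u huO)] at key
    rw [← hs₀, ← hs, height_eq_length hcat s (hsat hP)] at key
    rw [← hs₀', hs.trans hs'.symm, height_eq_length hcat s' (hsat' hQ), hlen, hlen'] at key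
    exact_mod_cast key

end Groth.Agent.H13AlgSp
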