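import Groth.Agent.H13AlgSp.GenericQf
import Groth.Agent.H13AlgSp.QfFibre
import Groth.Agent.H12AlgSp.RelDimApps
import Groth.Agent.H17.DimIneqScheme

/-!
Quasi-finiteness over points of codimension at most one.
-/

universe u

open CategoryTheory CategoryTheory.Limits AlgebraicGeometry Opposite Topology
open AlgSp Groth.Agent.H12AlgSp

namespace Groth.Agent.H13AlgSp

theorem qfAt_of_codimOne {U V : Scheme.{u}} (h : U ⟶ V) [LocallyOfFiniteType h] [IsLocallyNoetherian V]
    {u : U} (hv : ringKrullDim (V.presheaf.stalk (h u)) ≤ 1)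
    (H : ∀ η ∈ genericPoints U, η ⤳ u → Dual3.resTrdeg h η = 0) : h.QuasiFiniteAt u := by
  have key : ∀ z : U, z ⤳ u → h z = h u → Dual3.resTrdeg h z = 0 := by
    intro z hz e
    by_cases hg : z ∈ genericPoints U
    · exact H z hg hz
    obtain ⟨b, hb, hb'⟩ := H17.DimIneq.scheme_ineq h z 0 fun ξ hξ hξz =>
      (H ξ hξ (hξz.trans hz)).le.trans (le_of_eq (Nat.cast_zero (R := Cardinal.{u})).symm)
    have hb1 : b ≤ 1 := by
      rw [← e, hb] at hv
      exact_mod_cast hv
    have h1 : (1 : WithBot ℕ∞) ≤ ringKrullDim (U.presheaf.stalk z) := by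
      have hne : ringKrullDim (U.presheaf.stalk z) ≠ 0 := fun e0 =>
        hg ((ringKrullDim_stalk_eq_zero_iff _).1 e0)
      have h0 : (0 : WithBot ℕ∞) ≤ ringKrullDim (U.presheaf.stalk z) :=
        ringKrullDim_nonneg_of_nontrivial
      revert hne h0
      cases ringKrullDim (U.presheaf.stalk z) with
      | bot => simp
      | coe n =>
        intro hne _
        have hn : n ≠ 0 := fun e => hne (by simp [e])
        exact_mod_cast Order.one_le_iff_pos.2 (pos_iff_ne_zero.2 hn)
    have h2 := hb' 1 (by exact_mod_cast h1)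
    rw [Nat.cast_one, Nat.cast_zero, add_zero] at h2
    have h3 : (b : Cardinal.{u}) ≤ 1 := by
      rw [← Cardinal.ofENat_one]; exact Cardinal.ofENat_le_ofENat.2 hb1
    have h4 : (1 : Cardinal.{u}) + Dual3.resTrdeg h z ≤ 1 + 0 := by
      rw [add_zero]; exact h2.trans h3
    exact nonpos_iff_eq_zero.1 ((Cardinal.add_le_add_iff_of_lt_aleph0 Cardinal.one_lt_aleph0).1
      (by rw [add_comm _ (1 : Cardinal), add_comm (0 : Cardinal)]; exact h4))
  have hclosed : ∀ z : U, z ⤳ u → h z = h u → IsClosed ({h.asFiber z} : Set (h.fiber (h z))) :=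
    fun z hz e => by
    letI := (h.residueFieldMap z).hom.toAlgebra
    have : Algebra.IsAlgebraic (V.residueField (h z)) (U.residueField z) :=
      trdeg_eq_zero_iff.1 (key z hz e)
    exact H17.isClosed_singleton_asFiber h z fun w => (Algebra.IsAlgebraic.isAlgebraic w).isIntegral
  rw [H17.quasiFiniteAt_iff_isClosed_and_max]
  refine ⟨hclosed u specializes_rfl rfl, fun x' hx' => ?_⟩
  have hs := hx'.map (h.fiberι (h u)).continuous
  rw [Scheme.Hom.fiberι_asFiber] at hs
  have e : h (h.fiberι (h u) x') = h u := (h.range_fiberι (h u)).le ⟨x', rfl⟩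
  have hc := hclosed _ hs e
  have hu' : u ∈ h ⁻¹' ({h (h.fiberι (h u) x')} : Set V) := e.symm
  obtain ⟨t, ht⟩ := (h.range_fiberι (h (h.fiberι (h u) x'))).ge hu'
  have hsp : h.asFiber (h.fiberι (h u) x') ⤳ t := by
    rw [← (h.fiberι _).isEmbedding.isInducing.specializes_iff, Scheme.Hom.fiberι_asFiber, ht]
    exact hs
  have heq : t = h.asFiber (h.fiberι (h u) x') := hsp.mem_closed hc rfl
  apply (h.fiberι (h u)).isEmbedding.injective
  rw [Scheme.Hom.fiberι_asFiber]
  refine Eq.trans ?_ ht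
  rw [heq, Scheme.Hom.fiberι_asFiber]

theorem genericPoints_subset_of_dense {U : Scheme.{u}} [IsLocallyNoetherian U] {D : Set U}
    (hD : IsOpen D) (hd : Dense D) : genericPoints U ⊆ D := by
  intro η hη
  obtain ⟨W, hW, hηW, -⟩ := exists_isAffineOpen_mem_and_subset (x := η) (U := ⊤) trivial
  have : IsNoetherianRing Γ(U, W) := IsLocallyNoetherian.component_noetherian ⟨W, hW⟩
  have : IsAffine W.toScheme := hW
  have : IsNoetherian W.toScheme := ⟨⟩
  let η' : W.toScheme := ⟨η, hηW⟩
  have hgen : ∀ t : W.toScheme, t ⤳ η' → t = η' := fun t ht =>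
    Subtype.ext (H8Props.mem_genericPoints_iff.1 hη _ (ht.map continuous_subtype_val))
  obtain ⟨O, hO, hne, hsub⟩ : ∃ O : Set W.toScheme, IsOpen O ∧ O.Nonempty ∧ O ⊆ closure {η'} := by
    have hC : closure {η'} ∈ irreducibleComponents W.toScheme :=
      (show η' ∈ genericPoints W.toScheme from H8Props.mem_genericPoints_iff.2 hgen)
    exact TopologicalSpace.NoetherianSpace.exists_isOpen_nonempty_subset_irreducibleComponent _ hC
  have hO' : IsOpen (W.ι '' O) := W.ι.isOpenEmbedding.isOpenMap _ hO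
  obtain ⟨_, ⟨t, htO, rfl⟩, htD⟩ := hd.inter_open_nonempty _ hO' (hne.image _)
  exact ((specializes_iff_mem_closure.2 (hsub htO)).map W.ι.continuous).mem_open hD htD

variable {S : Scheme.{u}}

theorem isOpen_qfAt {X Y : Sp S} (f : X ⟶ Y) : IsOpen {x : Points X | QfAt f x} := by
  refine isOpen_iff_forall_mem_open.2 ?_
  rintro _ ⟨U, V, a, b, h, u, ha, hb, w, rfl, O, huO, h1, h2⟩
  refine ⟨Points.ofPt a '' O, ?_, isOpenMap_ofPt_of_repWith etale_le_universallyOpen ha _ O.2, Set.mem_image_of_mem _ huO⟩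
  rintro _ ⟨z, hz, rfl⟩
  exact ⟨U, V, a, b, h, z, ha, hb, w, rfl, O, hz, h1, h2⟩

theorem resTrdeg_of_qfAt {X Y : Sp S} {f : X ⟶ Y} {x : Points X} (hq : QfAt f x) :
    HasAtMor (fun _ _ h u => Dual3.resTrdeg h u = 0) f x := by
  obtain ⟨U, V, a, b, h, u, ha, hb, w, rfl, O, huO, hlqf, hlft⟩ := hq
  refine ⟨U, V, a, b, h, u, ha, hb, w, rfl, ?_⟩
  have h1 := resTrdeg_comp O.ι h.left ⟨u, huO⟩
  rw [resTrdeg_eq_zero_of_lqf (O.ι ≫ h.left) ⟨u, huO⟩] at h1
  exact nonpos_iff_eq_zero.1 (h1.symm ▸ self_le_add_right _ _)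

/-- A morphism with algebraic residue extensions at the generic points over a codimension one
point is quasi-finite over it. -/
theorem qfAt_over_codimOne {X Y : Sp S} (hX : IsAlgSpace X) (hY : IsAlgSpace Y) {f : X ⟶ Y}
    (hf : LocP @LocallyOfFiniteType f) (hYn : IsLocNoethSp Y) {y : Points Y}
    (hy : HasAt (fun U u => ringKrullDim ↥(U.presheaf.stalk u) ≤ 1) Y y)
    (h : ∀ x, CodimZero X x → Points.map f x ⤳ y → HasAtMor (fun _ _ h u => Dual3.resTrdeg h u = 0) f x)
    {x : Points X} (hx : Points.map f x = y) : QfAt f x := by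
  obtain ⟨U, V, a, b, g, u, ha, hb, w, rfl⟩ := exists_chart_at hX hY f x
  have : LocallyOfFiniteType g.left := hf a b g ha hb w
  have := isLocallyNoetherian_chart hY hYn hb
  have hmap : ∀ z, Points.map f (Points.ofPt a z) = Points.ofPt b (g.left z) := fun z => by
    rw [Points.map_ofPt, w, ofPt_map]
  refine qfAt_of_chart ha hb w (qfAt_of_codimOne g.left ?_ fun η hη hηu => ?_)
  · obtain ⟨V', b', v', hb', e, hdim⟩ := hy
    rw [← hx, hmap] at e
    rwa [← ringKrullDim_stalk_chart_eq hY hb' hb e]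
  · have hT : HasAtMor (fun _ _ h u => Dual3.resTrdeg h u = 0) f (Points.ofPt a η) := by
      refine h _ ((codimZero_iff_mem_genericPoints hX ha η).2 hη) ?_
      rw [← hx]
      exact (hηu.map (Points.continuous_ofPt a)).map (Points.continuous_map f)
    exact ((etInvAt_resTrdeg fun c => c = 0).hasAtMor_iff (fun {_ _} _ _ _ _ _ _ => trivial) ha hb w η).1 hT

end Groth.Agent.H13AlgSp
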