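import Groth.Agent.H13EtMod.Coh
import Groth.Agent.H13EtMod.Push
import Groth.Agent.H13EtMod.ModEtGroth
import Groth.Agent.H12AlgSp.BCMod.PushQcqs
import Groth.Agent.H12AlgSp.EtRestrictMod
import Groth.Agent.H12AlgSp.QSApps
import Groth.Agent.H12AlgSp.Proper
import Groth.Agent.H12AlgSp.AffineMor
import Mathlib.CategoryTheory.Subobject.MonoOver
import Mathlib.CategoryTheory.Filtered.Final
import Mathlib.CategoryTheory.Abelian.GrothendieckAxioms.Basic

/-!
Quasi-coherent modules on Noetherian algebraic spaces are unions of coherent submodules.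
-/

set_option autoImplicit false
set_option backward.isDefEq.respectTransparency false
set_option linter.style.haveILetI false

universe u

open CategoryTheory CategoryTheory.Limits AlgebraicGeometry Opposite
open AlgSp Groth.Agent.H12AlgSp Groth.Agent.H12AlgSp.BCMod Groth.Agent.H12AlgSp.EtRes Groth.Agent.H13EtMod

namespace Groth.Agent.H13AlgSp.CohSub

variable {S : Scheme.{u}}

section Chart

variable {X : Space S} {T : Over S} (f : (AlgSp.ofScheme S).obj T ⟶ X) (hf : IsEtaleMor f.hom)
  (hr : Representable f.hom) (M : ModEt X.obj)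

/-- The source of the chart as an object of its own site. -/
noncomputable abbrev eTop (T : Over S) : EtOver ((AlgSp.ofScheme S).obj T).obj :=
  EtOver.mk (𝟙 _) (repWith_of_isIso _)

/-- The map to the top object. -/
noncomputable def toTop (E : EtOver ((AlgSp.ofScheme S).obj T).obj) : E ⟶ eTop T :=
  EtOver.homMk ((yon S).preimage E.obj.hom) ((Category.comp_id _).trans ((yon S).map_preimage _))

theorem hom_top_ext {E : EtOver ((AlgSp.ofScheme S).obj T).obj} (a b : E ⟶ eTop T) : a = b :=
  EtOver.hom_ext _ _ ((yon S).map_injective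
    ((Category.comp_id _).symm.trans ((EtOver.w a).trans ((EtOver.w b).symm.trans (Category.comp_id _)))))

/-- Restriction to the chart. -/
noncomputable abbrev resM : ModEt ((AlgSp.ofScheme S).obj T).obj :=
  (SheafOfModules.pushforward.{u + 1} (resHom f hf)).obj M

include hr in
theorem isBC_resM (hM : M.IsQuasicoherent) : IsBCEt (resM f hf M) := by
  have := isLeftAdjoint_postcomp f hf hr
  exact (isQuasicoherent_iff_isBCEt _).1 (isQuasicoherent_res f hf M hM)

/-- The generated submodule on the chart. -/
noncomputable def genSub (G : Set ((pm (resM f hf M)).obj (op (eTop T)))) : AffSub (resM f hf M) where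
  obj E _ := Submodule.span _ (((pm (resM f hf M)).map (toTop E).op).hom '' G)
  res_mem {Z E} g _ _ x hx := by
    induction hx using Submodule.span_induction with
    | mem x hx =>
      obtain ⟨y, hy, rfl⟩ := hx
      refine Submodule.subset_span ⟨y, hy, ?_⟩
      rw [map_comp_sec, hom_top_ext (g ≫ toTop E) (toTop Z)]
    | zero => rw [map_zero]; exact Submodule.zero_mem _
    | add a b _ _ ha hb => rw [map_add]; exact Submodule.add_mem _ ha hb
    | smul r a _ ha => rw [map_smul_sec]; exact Submodule.smul_mem _ _ ha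
  gen {Z E} g _ _ x hx := by
    refine Submodule.span_mono ?_ hx
    rintro _ ⟨y, hy, rfl⟩
    refine ⟨((pm (resM f hf M)).map (toTop E).op).hom y, Submodule.subset_span ⟨y, hy, rfl⟩, ?_⟩
    rw [map_comp_sec, hom_top_ext (g ≫ toTop E) (toTop Z)]

variable (G : Set ((pm (resM f hf M)).obj (op (eTop T)))) (hM : IsBCEt (resM f hf M))

/-- The composite of the unit with the quotient by the generated submodule. -/
noncomputable def psi : M ⟶ (pushModEt hr).obj (cokernel ((genSub f hf M G).incl hM)) :=
  (resAdj f hf hr).unit.app M ≫ (pushModEt hr).map (cokernel.π ((genSub f hf M G).incl hM))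

/-- Restriction to the base change of the chart. -/
noncomputable def bcSec (E : EtOver X.obj) (x : (pm M).obj (op E)) :
    (pm (resM f hf M)).obj (op ((EtOver.bc hr).obj E)) :=
  ((pm M).map (counitHom f.hom hf hr E).op).hom x

theorem appE_psi (E : EtOver X.obj) (x : (pm M).obj (op E)) :
    appE (psi f hf hr M G hM) E x =
      appE (cokernel.π ((genSub f hf M G).incl hM)) ((EtOver.bc hr).obj E) (bcSec f hf hr M E x) :=
  rfl

theorem appE_cokernel_eq_zero_iff (E : EtOver ((AlgSp.ofScheme S).obj T).obj)
    (y : (pm (resM f hf M)).obj (op E)) :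
    appE (cokernel.π ((genSub f hf M G).incl hM)) E y = 0 ↔ y ∈ (genSub f hf M G).sub.obj (op E) := by
  haveI := (genSub f hf M G).mono_incl hM
  let K : ShortComplex (ModEt ((AlgSp.ofScheme S).obj T).obj) :=
    ShortComplex.mk ((genSub f hf M G).incl hM) (cokernel.π _) (cokernel.condition _)
  have hK : K.ShortExact := { exact := ShortComplex.exact_of_g_is_cokernel _ (cokernelIsCokernel _) }
  refine ((exact_shortExact (Rsh := OEt _) hK E).2 y).trans ⟨?_, fun hy => ⟨⟨y, hy⟩, rfl⟩⟩
  rintro ⟨z, rfl⟩
  exact z.2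

/-- The submodule generated by sections on the chart. -/
noncomputable abbrev cohSub : ModEt X.obj := kernel (psi f hf hr M G hM)

theorem mem_range_iff (E : EtOver X.obj) (x : (pm M).obj (op E)) :
    x ∈ LinearMap.range (appE (kernel.ι (psi f hf hr M G hM)) E) ↔
      bcSec f hf hr M E x ∈ (genSub f hf M G).sub.obj (op ((EtOver.bc hr).obj E)) := by
  have h1 := exact_kernel_app (Rsh := OEt X.obj) (psi f hf hr M G hM) E x
  refine h1.symm.trans (Iff.trans ?_ (appE_cokernel_eq_zero_iff f hf M G hM _ (bcSec f hf hr M E x)))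
  exact ⟨fun e => (appE_psi f hf hr M G hM E x).symm.trans e, fun e => (appE_psi f hf hr M G hM E x).trans e⟩

theorem isQuasicoherent_cohSub (hqc : IsQuasiCompactMor f.hom) (hqs : IsQuasiSeparatedMor f.hom)
    [M.IsQuasicoherent] : (cohSub f hf hr M G hM).IsQuasicoherent := by
  have h1 : ((genSub f hf M G).toMod hM).IsQuasicoherent := (genSub f hf M G).isQuasicoherent hM
  have h2 : (resM f hf M).IsQuasicoherent := (isQuasicoherent_iff_isBCEt _).2 hM
  have h3 := ((qcoh_closure _).2.1 _ _ ((genSub f hf M G).incl hM) h1 h2).2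
  exact ((qcoh_closure _).2.1 _ _ _ ‹M.IsQuasicoherent›
    (isQuasicoherent_pushModEt hr _ hqc hqs)).1

/-- The chart as an object of the site of the target. -/
noncomputable abbrev eChart : EtOver X.obj := (EtOver.postcomp f.hom hf).obj (eTop T)

theorem isAffine_eChart [h : IsAffine T.left] : IsAffine (eChart f hf).obj.left.left := h

set_option maxHeartbeats 1600000 in
theorem mem_span_of_mem (hT : IsAffine T.left) (x : (pm M).obj (op (eChart f hf)))
    (hx : x ∈ LinearMap.range (appE (kernel.ι (psi f hf hr M G hM)) (eChart f hf))) :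
    (show (pm (resM f hf M)).obj (op (eTop T)) from x) ∈
      Submodule.span (OSec (X := ((AlgSp.ofScheme S).obj T).obj) (eTop T)) G := by
  have h := (mem_range_iff f hf hr M G hM _ x).1 hx (eTop T) hT (unitHom f.hom hf hr (eTop T))
  have hu : ((pm (resM f hf M)).map (unitHom f.hom hf hr (eTop T)).op).hom (bcSec f hf hr M _ x) = x := by
    change ((pm M).map ((EtOver.postcomp f.hom hf).map (unitHom f.hom hf hr (eTop T))).op).hom
      (((pm M).map (counitHom f.hom hf hr _).op).hom x) = x
    rw [map_comp_sec]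
    have e := (adjBc f.hom hf hr).left_triangle_components (eTop T)
    change (EtOver.postcomp f.hom hf).map (unitHom f.hom hf hr (eTop T)) ≫ counitHom f.hom hf hr _ = 𝟙 _ at e
    rw [e, op_id, (pm M).map_id]
    rfl
  rw [hu] at h
  have e : ∀ y : (pm (resM f hf M)).obj (op (eTop T)), ((pm (resM f hf M)).map (toTop (eTop T)).op).hom y = y := by
    intro y
    rw [hom_top_ext (toTop (eTop T)) (𝟙 _), op_id, (pm (resM f hf M)).map_id]
    rfl
  refine Submodule.span_mono ?_ h
  rintro _ ⟨y, hy, rfl⟩
  exact (e y).symm ▸ hy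

variable {G} in
theorem isFinitePresentation_cohSub (hG : G.Finite) [hT : IsAffine T.left]
    (hs : Set.range (Points.ofPt f.hom) = Set.univ) (hN : IsLocNoethSp X.obj)
    (hqc : IsQuasiCompactMor f.hom) (hqs : IsQuasiSeparatedMor f.hom) [M.IsQuasicoherent] :
    (cohSub f hf hr M G hM).IsFinitePresentation := by
  have hq := isQuasicoherent_cohSub f hf hr M G hM hqc hqs
  have hB : IsBCEt (cohSub f hf hr M G hM) := (isQuasicoherent_iff_isBCEt _).1 hq
  haveI : IsAffine (eChart f hf).obj.left.left := hT
  haveI := isNoetherianRing_OSec X.property hN (eChart f hf)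
  have h₀ : Module.Finite (OSec (eChart f hf)) ((pm (cohSub f hf hr M G hM)).obj (op (eChart f hf))) := by
    let W : Submodule (OSec (eChart f hf)) ((pm M).obj (op (eChart f hf))) := Submodule.span _ G
    haveI : Module.Finite (OSec (eChart f hf)) W := Module.Finite.span_of_finite _ hG
    refine Module.Finite.of_injective (LinearMap.codRestrict W (appE (kernel.ι (psi f hf hr M G hM)) (eChart f hf))
      fun z => mem_span_of_mem f hf hr M G hM hT _ ⟨z, rfl⟩) ?_
    intro a b e
    exact mono_app_injective (Rsh := OEt X.obj) (kernel.ι (psi f hf hr M G hM)) (op _) (congrArg Subtype.val e)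
  refine isFinitePresentation_of_finite X.property hN hq fun E hE => ?_
  let R : Sieve E :=
    { arrows := fun V _ => Nonempty (V ⟶ eChart f hf)
      downward_closed := fun ⟨g⟩ k => ⟨k ≫ g⟩ }
  have hR : R ∈ etTop X.obj E := mem_etTop_of_forall_point _ fun x => by
    obtain ⟨V, g, g₀, v, -, hv⟩ := exists_affine_over (E₀ := eChart f hf) x (by
      have : Set.range (Points.ofPt (eChart f hf).obj.hom) = Set.univ := by
        change Set.range (Points.ofPt (𝟙 _ ≫ f.hom)) = _
        rw [Category.id_comp, hs]
      rw [this]; trivial)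
    exact ⟨V, g, v, ⟨g₀⟩, hv⟩
  obtain ⟨U, hU⟩ := exists_affCov (A := etAff X.obj) hE hR
  refine finite_of_affCov (A := etAff X.obj) hB U fun i => ?_
  obtain ⟨b⟩ := hU i
  exact finite_of_hom b (hB b (U.affZ i) hT)

set_option maxHeartbeats 1600000 in
include hr in
variable {G} in
theorem le_of_forall {N : ModEt X.obj} (ι : N ⟶ M) [N.IsQuasicoherent] [hT : IsAffine T.left]
    (h : ∀ z : (pm N).obj (op (eChart f hf)),
      (show (pm (resM f hf M)).obj (op (eTop T)) from appE ι (eChart f hf) z) ∈
        Submodule.span (OSec (X := ((AlgSp.ofScheme S).obj T).obj) (eTop T)) G) :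
    ι ≫ psi f hf hr M G hM = 0 := by
  refine hom_ext_affine fun E hE x => ?_
  change appE (psi f hf hr M G hM) E (appE ι E x) = 0
  rw [appE_psi, appE_cokernel_eq_zero_iff]
  intro V hV k
  have hB : IsBCEt N := (isQuasicoherent_iff_isBCEt _).1 ‹_›
  let V' := (EtOver.postcomp f.hom hf).obj V
  let a : V' ⟶ E := (EtOver.postcomp f.hom hf).map k ≫ counitHom f.hom hf hr E
  let b : V' ⟶ eChart f hf := (EtOver.postcomp f.hom hf).map (toTop V)
  have hy : ((pm (resM f hf M)).map k.op).hom (bcSec f hf hr M E (appE ι E x)) =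
      appE ι V' (((pm N).map a.op).hom x) := by
    change ((pm M).map ((EtOver.postcomp f.hom hf).map k).op).hom
      (((pm M).map (counitHom f.hom hf hr E).op).hom (appE ι E x)) = _
    rw [map_comp_sec]
    exact (PresheafOfModules.naturality_apply ι.val a.op x).symm
  rw [hy]
  obtain ⟨t, ht⟩ := (hB b hV hT).2 (toSec (pm N) b (((pm N).map a.op).hom x))
  have key : ∀ t, appE ι V' (ofSec (pm N) (ext (pm N) b t)) ∈
      Submodule.span ((OEt X.obj).obj.obj (op V')) (((pm M).map b.op).hom '' G) := by
    intro t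
    induction t with
    | zero => rw [map_zero]; exact (map_zero (appE ι V')).symm ▸ Submodule.zero_mem _
    | add p q hp hq =>
      rw [map_add]
      exact (map_add (appE ι V') (ofSec (pm N) (ext (pm N) b p)) (ofSec (pm N) (ext (pm N) b q))).symm ▸
        Submodule.add_mem _ hp hq
    | tmul c z =>
      rw [ext_tmul]
      refine (map_smul (appE ι V') (show (OEt X.obj).obj.obj (op V') from c) _).symm ▸ Submodule.smul_mem _ _ ?_
      have hz : ∀ z' : (pm (resM f hf M)).obj (op (eTop T)),
          z' ∈ Submodule.span (OSec (X := ((AlgSp.ofScheme S).obj T).obj) (eTop T)) G →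
          ((pm M).map b.op).hom z' ∈ Submodule.span ((OEt X.obj).obj.obj (op V')) (((pm M).map b.op).hom '' G) := by
        intro z' hz'
        induction hz' using Submodule.span_induction with
        | mem w hw => exact Submodule.subset_span ⟨w, hw, rfl⟩
        | zero => rw [map_zero]; exact Submodule.zero_mem _
        | add p q _ _ hp hq => rw [map_add]; exact Submodule.add_mem _ hp hq
        | smul r p _ hp => rw [map_smul_sec]; exact Submodule.smul_mem _ _ hp
      have hn : appE ι V' (((pm N).map b.op).hom (ofSec (pm N) z)) =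
          ((pm M).map b.op).hom (appE ι (eChart f hf) (ofSec (pm N) z)) :=
        PresheafOfModules.naturality_apply ι.val b.op (ofSec (pm N) z)
      exact hn ▸ hz _ (h (ofSec (pm N) z))
  have := key t
  rw [ht] at this
  exact this

set_option maxHeartbeats 1600000 in
theorem exists_finite_mem [M.IsQuasicoherent] [hT : IsAffine T.left] (E : EtOver X.obj)
    (hc : CompactSpace ((EtOver.bc hr).obj E).obj.left.left) (x : (pm M).obj (op E)) :
    ∃ G₀ : Finset ((pm (resM f hf M)).obj (op (eTop T))),
      x ∈ LinearMap.range (appE (kernel.ι (psi f hf hr M (G₀ : Set _) hM)) E) := by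
  classical
  let B := (EtOver.bc hr).obj E
  let y := bcSec f hf hr M E x
  have key : ∀ p : B.obj.left.left, ∃ U : B.obj.left.left.Opens, IsAffineOpen U ∧ p ∈ U ∧
      ∃ G₀ : Finset ((pm (resM f hf M)).obj (op (eTop T))), ((pm (resM f hf M)).map (etOpenι B U).op).hom y ∈
        Submodule.span ((OEt _).obj.obj (op (etOpen B U)))
          (((pm (resM f hf M)).map (toTop (etOpen B U)).op).hom '' (G₀ : Set _)) := by
    intro p
    obtain ⟨_, ⟨U, hU, rfl⟩, hp, -⟩ :=
      B.obj.left.left.isBasis_affineOpens.exists_subset_of_mem_open (Set.mem_univ p) isOpen_univ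
    refine ⟨U, hU, hp, ?_⟩
    obtain ⟨t, ht⟩ := (hM (toTop (etOpen B U)) hU hT).2
      (toSec (pm (resM f hf M)) (toTop (etOpen B U)) (((pm (resM f hf M)).map (etOpenι B U).op).hom y))
    have hspan : ∀ t, ∃ G₀ : Finset ((pm (resM f hf M)).obj (op (eTop T))),
        ofSec (pm (resM f hf M)) (ext (pm (resM f hf M)) (toTop (etOpen B U)) t) ∈
          Submodule.span ((OEt _).obj.obj (op (etOpen B U)))
            (((pm (resM f hf M)).map (toTop (etOpen B U)).op).hom '' (G₀ : Set _)) := by
      intro t
      induction t with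
      | zero => exact ⟨∅, by rw [map_zero]; exact Submodule.zero_mem _⟩
      | add a b ha hb =>
        obtain ⟨G₁, h₁⟩ := ha
        obtain ⟨G₂, h₂⟩ := hb
        refine ⟨G₁ ∪ G₂, ?_⟩
        rw [map_add, Finset.coe_union, Set.image_union, Submodule.span_union]
        exact Submodule.add_mem_sup h₁ h₂
      | tmul c z =>
        refine ⟨{ofSec (pm (resM f hf M)) z}, ?_⟩
        rw [ext_tmul]
        refine Submodule.smul_mem _ (show (OEt _).obj.obj (op (etOpen B U)) from c)
          (Submodule.subset_span ⟨ofSec (pm (resM f hf M)) z, Finset.mem_singleton_self _, rfl⟩)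
    obtain ⟨G₀, hG₀⟩ := hspan t
    rw [ht] at hG₀
    exact ⟨G₀, hG₀⟩
  choose U hU hpU G₁ hG₁ using key
  obtain ⟨s, hs⟩ := isCompact_univ.elim_finite_subcover (fun p => ((U p : B.obj.left.left.Opens) : Set B.obj.left.left))
    (fun p => (U p).isOpen) fun p _ => Set.mem_iUnion.2 ⟨p, hpU p⟩
  refine ⟨s.biUnion G₁, (mem_range_iff f hf hr M _ hM E x).2 ?_⟩
  let R : Sieve B := Sieve.ofArrows (fun p : s => etOpen B (U p.1)) fun p => etOpenι B (U p.1)
  refine (genSub f hf M _).mem_sub_of_cover hM (R := R) (ofArrows_mem_etTop _ _ fun q => ?_) y fun V g hg => ?_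
  · obtain ⟨p, hp, hq⟩ := Set.mem_iUnion₂.1 (hs (Set.mem_univ q))
    exact ⟨⟨p, hp⟩, ⟨⟨q, hq⟩, rfl⟩⟩
  · obtain ⟨_, l, _, ⟨p⟩, rfl⟩ := hg
    rw [← map_comp_sec]
    refine (genSub f hf M _).sub.map l.op ?_
    refine ((genSub f hf M _).mem_sub_affine (E := etOpen B (U p.1)) (hU p.1) _).2 (Submodule.span_mono (Set.image_mono ?_) (hG₁ p.1))
    exact Finset.coe_subset.2 (Finset.subset_biUnion_of_mem G₁ p.2)

end Chart

variable [QuasiSeparatedSpace S] (X : Space S) (hqc : IsQuasiCompactSp X.obj)
  (hqs : IsQuasiSeparatedSp X.obj) (hN : IsLocNoethSp X.obj) (M : ModEt X.obj) [M.IsQuasicoherent]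

/-- Coherent submodules. -/
abbrev CohSubCat := ObjectProperty.FullSubcategory
  (fun N : MonoOver M => SheafOfModules.IsFinitePresentation N.obj.left)

include hqc hqs hN in
/-- A small directed cofinal family of coherent submodules, jointly surjective on affines. -/
theorem exists_cofinal : ∃ (ι : Type (u + 1)) (_ : SemilatticeSup ι) (_ : Nonempty ι)
    (F : ι ⥤ CohSubCat X M), (∀ N : CohSubCat X M, ∃ i, Nonempty (N ⟶ F.obj i)) ∧
      ∀ (E : EtOver X.obj), IsAffine E.obj.left.left → ∀ x : (pm M).obj (op E),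
        ∃ i, x ∈ LinearMap.range (appE (F.obj i).obj.obj.hom E) := by
  classical
  obtain ⟨T, a, hT, ha, hs⟩ := exists_affine_chart X.property isOpen_univ
    (isCompact_univ_iff.2 ((isQuasiCompactSp_iff X.property).1 hqc))
  haveI := hT
  let f : (AlgSp.ofScheme S).obj T ⟶ X := ObjectProperty.homMk a
  have hf : IsEtaleMor f.hom := isEtaleMor_of_repWith a ha
  have hr : Representable f.hom := ha.1
  have hM : IsBCEt (resM f hf M) := isBC_resM f hf hr M inferInstance
  have hfc : IsQuasiCompactMor f.hom := isQuasiCompactMor_of_qc_qs (IsAlgSpace.yon_obj T) X.property a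
    (isQuasiCompactSp_yon_iff.2 inferInstance) hqs
  have hfs : IsQuasiSeparatedMor f.hom := by
    let hterm : IsTerminal ((yon S).obj (Over.mk (𝟙 S))) :=
      Over.mkIdTerminal.isTerminalObj (yon S) (Over.mk (𝟙 S))
    refine isQuasiSeparatedMor_of_isSeparatedMor (isSeparatedMor_of_comp (g := hterm.from X.obj) ?_)
    rw [hterm.hom_ext (f.hom ≫ hterm.from X.obj) ((yon S).map (Over.homMk T.hom (Category.comp_id _)))]
    haveI : IsSeparated T.hom := IsSeparated.of_comp T.hom (terminal.from S)
    exact isSeparatedMor_of_repWith ((repWith_yon_map_iff _ _).2 ‹IsSeparated T.hom›)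
  let ι := Finset ((pm (resM f hf M)).obj (op (eTop T)))
  let obj : ι → CohSubCat X M := fun G =>
    ⟨MonoOver.mk (kernel.ι (psi f hf hr M (G : Set _) hM)),
      isFinitePresentation_cohSub f hf hr M hM G.finite_toSet hs hN hfc hfs⟩
  have mono : ∀ {G G' : ι}, G ≤ G' →
      kernel.ι (psi f hf hr M (G : Set _) hM) ≫ psi f hf hr M (G' : Set _) hM = 0 := fun {G G'} h => by
    haveI := isQuasicoherent_cohSub f hf hr M (G : Set _) hM hfc hfs
    refine le_of_forall f hf hr M hM _ fun z => ?_
    exact Submodule.span_mono (Finset.coe_subset.2 h) (mem_span_of_mem f hf hr M _ hM hT _ ⟨z, rfl⟩)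
  let F : ι ⥤ CohSubCat X M :=
    { obj := obj
      map := fun {G G'} h => ObjectProperty.homMk
        (MonoOver.homMk (kernel.lift _ _ (mono (leOfHom h))) (kernel.lift_ι _ _ _))
      map_id := fun _ => ObjectProperty.hom_ext _ (Subsingleton.elim _ _)
      map_comp := fun _ _ => ObjectProperty.hom_ext _ (Subsingleton.elim _ _) }
  refine ⟨ι, inferInstance, inferInstance, F, fun N => ?_, fun E hE x => ?_⟩
  · haveI : N.obj.obj.left.IsFinitePresentation := N.property
    haveI : IsAffine (eChart f hf).obj.left.left := hT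
    haveI := finite_sec N.obj.obj.left (eChart f hf)
    obtain ⟨s, hs'⟩ := (Module.finite_def.1 (inferInstance :
      Module.Finite (OSec (eChart f hf)) ((pm N.obj.obj.left).obj (op (eChart f hf)))))
    refine ⟨s.image fun z => (show (pm (resM f hf M)).obj (op (eTop T)) from appE N.obj.obj.hom (eChart f hf) z),
      ⟨ObjectProperty.homMk (MonoOver.homMk (kernel.lift _ N.obj.obj.hom ?_) (kernel.lift_ι _ _ _))⟩⟩
    refine le_of_forall f hf hr M hM _ fun z => ?_
    have hz : z ∈ Submodule.span (OSec (eChart f hf)) (s : Set ((pm N.obj.obj.left).obj (op (eChart f hf)))) :=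
      hs'.ge trivial
    rw [Finset.coe_image]
    have := Submodule.mem_map_of_mem (f := appE N.obj.obj.hom (eChart f hf)) hz
    rw [Submodule.map_span] at this
    exact this
  · haveI : QuasiCompact (hr.snd E.obj.hom).left :=
      (repWith_quasiCompact_of_mor hr hfc).property _ _ _ (hr.isPullback E.obj.hom)
    haveI := hE
    exact exists_finite_mem f hf hr M hM E
      (QuasiCompact.compactSpace_of_compactSpace (hr.snd E.obj.hom).left) x

instance {N N' : CohSubCat X M} : Subsingleton (N ⟶ N') :=
  ⟨fun a b => ObjectProperty.hom_ext _ (Subsingleton.elim _ _)⟩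

set_option maxHeartbeats 800000 in
include hqc hqs hN in
/-- A quasi-coherent module is the filtered colimit of its coherent submodules. -/
theorem isFiltered_and_isColimit :
    IsFiltered (CohSubCat X M) ∧
      Nonempty (IsColimit ((Over.forgetCocone M).whisker
        (ObjectProperty.ι (fun N : MonoOver M => SheafOfModules.IsFinitePresentation N.obj.left) ⋙
          MonoOver.forget M))) := by
  obtain ⟨ι, _, _, F, hcof, hsurj⟩ := exists_cofinal X hqc hqs hN M
  haveI : IsFilteredOrEmpty (CohSubCat X M) := ⟨fun N N' => by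
    obtain ⟨i, ⟨a⟩⟩ := hcof N
    obtain ⟨j, ⟨b⟩⟩ := hcof N'
    exact ⟨F.obj (i ⊔ j), a ≫ F.map (homOfLE le_sup_left), b ≫ F.map (homOfLE le_sup_right), trivial⟩,
    fun _ N' a b => ⟨N', 𝟙 _, Subsingleton.elim _ _⟩⟩
  haveI : IsFiltered (CohSubCat X M) := { nonempty := ⟨F.obj (Classical.arbitrary ι)⟩ }
  haveI : F.Final := Functor.final_of_exists_of_isFiltered F hcof
    fun {N i} a b => ⟨i, 𝟙 i, Subsingleton.elim _ _⟩
  let G := ObjectProperty.ι (fun N : MonoOver M => SheafOfModules.IsFinitePresentation N.obj.left) ⋙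
    MonoOver.forget M
  let c := (Over.forgetCocone M).whisker G
  refine ⟨inferInstance, ⟨(Functor.Final.isColimitWhiskerEquiv F c).toFun ?_⟩⟩
  haveI := H13EtMod.isGrothendieckAbelian_modEt X.obj
  haveI : HasColimitsOfShape ι (ModEt X.obj) := inferInstance
  let D := F ⋙ G ⋙ Over.forget M
  let τ : D ⟶ (Functor.const ι).obj M :=
    { app := fun i => (F.obj i).obj.obj.hom
      naturality := fun i i' h => (Over.w (F.map h).hom.hom).trans (Category.comp_id _).symm }
  haveI : ∀ i, Mono (τ.app i) := fun i => inferInstanceAs (Mono (F.obj i).obj.obj.hom)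
  haveI : Mono τ := NatTrans.mono_of_mono_app _
  haveI : PreservesFiniteLimits (colim (J := ι) (C := ModEt X.obj)) := inferInstance
  haveI : Mono (colimMap τ) := (colim (J := ι) (C := ModEt X.obj)).map_mono τ
  haveI : IsConnected ι := IsFiltered.isConnected ι
  let e : colimit ((Functor.const ι).obj M) ≅ M :=
    (colimit.isColimit _).coconePointUniqueUpToIso (isColimitConstCocone ι M)
  have hd : colimit.desc D (c.whisker F) = colimMap τ ≫ e.hom := colimit.hom_ext fun i => by
    refine (colimit.ι_desc _ i).trans ?_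
    rw [ι_colimMap_assoc]
    exact ((congrArg (τ.app i ≫ ·) ((colimit.isColimit _).comp_coconePointUniqueUpToIso_hom
      (isColimitConstCocone ι M) i)).trans (Category.comp_id _)).symm
  haveI : Mono (colimit.desc D (c.whisker F)) := by
    rw [hd]; infer_instance
  haveI : Epi (colimit.desc D (c.whisker F)) := ⟨fun {P} p q hpq => hom_ext_affine fun E hE x => by
    obtain ⟨i, z, hz⟩ := hsurj E hE x
    have hi : (F.obj i).obj.obj.hom ≫ p = (F.obj i).obj.obj.hom ≫ q := by
      have := congrArg (colimit.ι D i ≫ ·) hpq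
      rw [colimit.ι_desc_assoc, colimit.ι_desc_assoc] at this
      exact this
    change appE p E x = appE q E x
    rw [← hz]
    exact congrArg (fun φ => appE φ E z) hi⟩
  haveI : IsIso (colimit.desc D (c.whisker F)) := isIso_of_mono_of_epi _
  exact @IsColimit.ofPointIso _ _ _ _ _ _ (c.whisker F) (colimit.isColimit D) ‹IsIso (colimit.desc D (c.whisker F))›

end Groth.Agent.H13AlgSp.CohSub
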