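import Groth.Agent.H13AlgSp.InvariantField
import Groth.Agent.H13AlgSp.FpqcIso
import Groth.Agent.H12AlgSp.DescentLQF
import Groth.Agent.H12AlgSp.UnivInj
import Groth.Agent.H12AlgSp.Points
import Groth.Prelude.Def_AlgSpDec
import Mathlib.RingTheory.Etale.Field
import Mathlib.RingTheory.SimpleModule.InjectiveProjective

/-!
A field-valued point with finite etale self-product comes from a monomorphism from the spectrum of a field.
-/

universe u

open CategoryTheory CategoryTheory.Limits AlgebraicGeometry Opposite TensorProduct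
open AlgSp Groth.Agent.H12AlgSp

namespace Groth.Agent.H13AlgSp

noncomputable section

variable {S : Scheme.{u}}

/-- A finite etale algebra over a field: geometric points. -/
theorem exists_geometric_point {κ Ω C : Type u} [Field κ] [Field Ω] [Algebra κ Ω] [IsAlgClosed Ω]
    [CommRing C] [Algebra κ C] [Module.Finite κ C] [Algebra.Etale κ C] (m : PrimeSpectrum C) :
    ∃ g : C →ₐ[κ] Ω, RingHom.ker g = m.asIdeal ∧ g.toRingHom.Flat := by
  have : IsArtinianRing C := IsArtinianRing.of_finite κ C
  have : _root_.IsReduced C := Algebra.FormallyUnramified.isReduced_of_field κ C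
  have : IsSemisimpleRing C := IsArtinianRing.isSemisimpleRing_of_isReduced C
  let i : C ⧸ m.asIdeal →ₐ[κ] Ω := IsAlgClosed.lift
  have : m.asIdeal.IsMaximal := IsArtinianRing.isMaximal_of_isPrime _
  let _ : Field (C ⧸ m.asIdeal) := Ideal.Quotient.field _
  have hinj : Function.Injective i := i.toRingHom.injective
  let g := i.comp (Ideal.Quotient.mkₐ κ m.asIdeal)
  refine ⟨g, ?_, ?_⟩
  · ext x
    rw [RingHom.mem_ker]
    change i (Ideal.Quotient.mk _ x) = 0 ↔ _
    rw [map_eq_zero_iff _ hinj, Ideal.Quotient.eq_zero_iff_mem]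
  · let _ := g.toRingHom.toAlgebra
    have : Module.Projective C Ω := Module.projective_of_isSemisimpleRing C Ω
    exact RingHom.flat_algebraMap_iff.2 (Module.Flat.of_projective : Module.Flat C Ω)

/-- The values of a homomorphism from a finite etale algebra to a field are separable. -/
theorem isSeparable_apply {κ Ω C : Type u} [Field κ] [Field Ω] [Algebra κ Ω] [CommRing C] [Algebra κ C]
    [Module.Finite κ C] [Algebra.Etale κ C] (g : C →ₐ[κ] Ω) (x : C) : IsSeparable κ (g x) := by
  have : IsArtinianRing C := IsArtinianRing.of_finite κ C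
  let I : Ideal C := RingHom.ker g
  have : I.IsPrime := RingHom.ker_isPrime _
  have : I.IsMaximal := IsArtinianRing.isMaximal_of_isPrime _
  let _ : Field (C ⧸ I) := Ideal.Quotient.field I
  have : Algebra.FormallyUnramified κ (C ⧸ I) :=
    Algebra.FormallyUnramified.of_surjective (Ideal.Quotient.mkₐ κ I) Ideal.Quotient.mk_surjective
  have : Algebra.IsSeparable κ (C ⧸ I) := Algebra.FormallyUnramified.isSeparable κ (C ⧸ I)
  let f : C ⧸ I →ₐ[κ] Ω := Ideal.Quotient.liftₐ I g (fun a ha => ha)
  have hs := Algebra.IsSeparable.isSeparable κ (Ideal.Quotient.mk I x)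
  have hf : Function.Injective f := f.toRingHom.injective
  unfold IsSeparable at *
  rw [← minpoly.algHom_eq f hf] at hs
  exact hs

section

variable {κ Ω : Type u} [Field κ] [Field Ω] [Algebra κ Ω]
  (str : Spec (CommRingCat.of κ) ⟶ S)

/-- The geometric point of a field-valued point. -/
abbrev geomPt : Over S := Over.mk (Spec.map (CommRingCat.ofHom (algebraMap κ Ω)) ≫ str)

/-- The structure map of the geometric point. -/
def geomMap : geomPt (Ω := Ω) str ⟶ Over.mk str := Over.homMk (Spec.map (CommRingCat.ofHom (algebraMap κ Ω))) rfl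

variable {str}

/-- Coordinates of a scheme finite over a field. -/
theorem exists_coords {D : Over S} (pr : D ⟶ Over.mk str) [IsFinite pr.left] :
    ∃ (C : Type u) (_ : CommRing C) (_ : Algebra κ C) (ψ : D.left ≅ Spec (CommRingCat.of C)),
      Module.Finite κ C ∧ (Etale pr.left → Algebra.Etale κ C) ∧
        pr.left = ψ.hom ≫ Spec.map (CommRingCat.ofHom (algebraMap κ C)) := by
  have : IsAffine (Over.mk str).left := inferInstanceAs (IsAffine (Spec _))
  have : IsAffine D.left := isAffine_of_isAffineHom pr.left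
  obtain ⟨β, hβ⟩ := Spec.map_surjective (D.left.isoSpec.inv ≫ pr.left)
  let _ : Algebra κ Γ(D.left, ⊤) := β.hom.toAlgebra
  have e : pr.left = D.left.isoSpec.hom ≫ Spec.map β := by rw [hβ, Iso.hom_inv_id_assoc]
  have hfin : β.hom.Finite := (IsFinite.SpecMap_iff β).1 (hβ ▸ inferInstance)
  refine ⟨Γ(D.left, ⊤), inferInstance, inferInstance, D.left.isoSpec,
    RingHom.finite_algebraMap.1 hfin, fun h => ?_, e⟩
  have : Etale (Spec.map β) := hβ ▸ inferInstance
  exact RingHom.etale_algebraMap.1 ((HasRingHomProperty.Spec_iff (P := @Etale)).1 this)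

variable [IsAlgClosed Ω]

set_option maxHeartbeats 800000 in
/-- Morphisms out of a scheme finite etale over a field are determined on geometric points. -/
theorem eq_of_geometric_points {F : Sp S} (hF : Representable (Limits.diag F)) {D : Over S}
    (pr : D ⟶ Over.mk str) [IsFinite pr.left] [Etale pr.left] (a b : (yon S).obj D ⟶ F)
    (h : ∀ l : geomPt (Ω := Ω) str ⟶ D, l ≫ pr = geomMap str → (yon S).map l ≫ a = (yon S).map l ≫ b) :
    a = b := by
  obtain ⟨C, _, _, ψ, hfin, het, hpr⟩ := exists_coords pr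
  have := het ‹_›
  have : IsArtinianRing C := IsArtinianRing.of_finite κ C
  have : IsAffine D.left := IsAffine.of_isIso ψ.hom
  choose g hker hflat using fun m : PrimeSpectrum C => exists_geometric_point (κ := κ) (Ω := Ω) m
  have hle : ∀ m, (Spec.map (CommRingCat.ofHom (g m).toRingHom) ≫ ψ.inv) ≫ pr.left =
      Spec.map (CommRingCat.ofHom (algebraMap κ Ω)) := fun m => by
    rw [Category.assoc, hpr, Iso.inv_hom_id_assoc, ← Spec.map_comp, ← CommRingCat.ofHom_comp]
    exact congrArg (fun t => Spec.map (CommRingCat.ofHom t)) (g m).comp_algebraMap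
  let l : ∀ m, geomPt (Ω := Ω) str ⟶ D := fun m =>
    Over.homMk (Spec.map (CommRingCat.ofHom (g m).toRingHom) ≫ ψ.inv) (by
      change (_ ≫ _) ≫ D.hom = _ ≫ str
      rw [← hle m, Category.assoc _ pr.left str]
      exact congrArg _ (Over.w pr).symm)
  have hl : ∀ m, l m ≫ pr = geomMap str := fun m => Over.OverMorphism.ext (hle m)
  have hlflat : ∀ m, Flat (l m).left := fun m => by
    have : Flat (Spec.map (CommRingCat.ofHom (g m).toRingHom)) := Flat.SpecMap_iff.2 (hflat m)
    exact inferInstanceAs (Flat (Spec.map (CommRingCat.ofHom (g m).toRingHom) ≫ ψ.inv))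
  refine hom_ext_of_fpqc hF a b fun Z j hZ => ?_
  let := Fintype.ofFinite (PrimeSpectrum C)
  let e := Fintype.equivFin (PrimeSpectrum C)
  refine ⟨Fintype.card (PrimeSpectrum C), fun i => pullback j (l (e.symm i)),
    fun i => pullback.fst _ _, fun i => ?_, fun i => ?_, fun z => ?_, fun i => ?_⟩
  · have sq := (IsPullback.of_hasPullback j (l (e.symm i))).map (Over.forget S)
    have : IsAffine (geomPt (Ω := Ω) str).left := inferInstanceAs (IsAffine (Spec _))
    have : IsAffine (pullback j.left (l (e.symm i)).left) := inferInstance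
    exact @IsAffine.of_isIso _ _ sq.isoPullback.hom _ this
  · have sq := (IsPullback.of_hasPullback j (l (e.symm i))).map (Over.forget S)
    exact MorphismProperty.of_isPullback (P := @Flat) sq.flip (hlflat (e.symm i))
  · let m : PrimeSpectrum C := ψ.hom (j.left z)
    have hx : (l m).left (IsLocalRing.closedPoint Ω) = j.left z := by
      have h1 : ψ.hom ((l m).left (IsLocalRing.closedPoint Ω)) = m := by
        change ((Spec.map (CommRingCat.ofHom (g m).toRingHom) ≫ ψ.inv) ≫ ψ.hom) (IsLocalRing.closedPoint Ω) = m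
        rw [Category.assoc, Iso.inv_hom_id, Category.comp_id]
        refine PrimeSpectrum.ext ?_
        change Ideal.comap (g m).toRingHom (IsLocalRing.maximalIdeal Ω) = m.asIdeal
        rw [IsLocalRing.maximalIdeal_eq_bot]
        exact hker m
      exact ψ.hom.homeomorph.injective h1
    refine ⟨e m, ?_⟩
    have sq := (IsPullback.of_hasPullback j (l (e.symm (e m)))).map (Over.forget S)
    obtain ⟨w, hw, -⟩ := Scheme.Pullback.exists_preimage_pullback (f := j.left) (g := (l (e.symm (e m))).left)
      z (IsLocalRing.closedPoint Ω) (by rw [Equiv.symm_apply_apply]; exact hx.symm)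
    refine ⟨sq.isoPullback.inv w, ?_⟩
    change (sq.isoPullback.inv ≫ (pullback.fst j (l (e.symm (e m)))).left) w = z
    rw [show sq.isoPullback.inv ≫ (pullback.fst j (l (e.symm (e m)))).left = pullback.fst _ _ from
      sq.isoPullback_inv_fst]
    exact hw
  · rw [pullback.condition, Functor.map_comp, Category.assoc, Category.assoc, h _ (hl _)]

/-- The algebraic data of a finite etale self-product: related embeddings. -/
def relEmb {X : Sp S} (q : (yon S).obj (Over.mk str) ⟶ X) : Set (κ →+* Ω) :=
  {ι | ∃ a : geomPt (Ω := Ω) str ⟶ Over.mk str, a.left = Spec.map (CommRingCat.ofHom ι) ∧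
    (yon S).map a ≫ q = (yon S).map (geomMap str) ≫ q}

omit [IsAlgClosed Ω] in
theorem relEmb_stable {X : Sp S} (q : (yon S).obj (Over.mk str) ⟶ X) (σ : Ω →+* Ω)
    (hσ : σ.comp (algebraMap κ Ω) ∈ relEmb q) (ι : κ →+* Ω) (hι : ι ∈ relEmb q) :
    σ.comp ι ∈ relEmb q := by
  obtain ⟨a₂, ha₂, he₂⟩ := hσ
  obtain ⟨a, ha, he⟩ := hι
  have hw : Spec.map (CommRingCat.ofHom σ) ≫ (geomPt (Ω := Ω) str).hom = (geomPt (Ω := Ω) str).hom := by
    refine Eq.trans ?_ (Over.w a₂)
    rw [ha₂, CommRingCat.ofHom_comp, Spec.map_comp, Category.assoc]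
    rfl
  let s : geomPt (Ω := Ω) str ⟶ geomPt str := Over.homMk (Spec.map (CommRingCat.ofHom σ)) hw
  have hs : a₂ = s ≫ geomMap str := Over.OverMorphism.ext (by
    rw [ha₂, CommRingCat.ofHom_comp, Spec.map_comp]; rfl)
  refine ⟨s ≫ a, ?_, ?_⟩
  · change Spec.map (CommRingCat.ofHom σ) ≫ a.left = _
    rw [ha, CommRingCat.ofHom_comp, Spec.map_comp]
  · rw [Functor.map_comp, Category.assoc, he, ← Category.assoc, ← Functor.map_comp, ← hs, he₂]

end

set_option maxHeartbeats 800000 in
/-- A field-valued point with finite etale self-product factors through a monomorphism from the spectrum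
of a field by a finite etale morphism. -/
theorem exists_mono_of_finite_etale_self {X : Sp S} (hX : IsAlgSpace X) {κ : Type u} [Field κ]
    {str : Spec (CommRingCat.of κ) ⟶ S} (q : (yon S).obj (Over.mk str) ⟶ X) {P : Over S}
    {e₁ e₂ : P ⟶ Over.mk str} (sqP : IsPullback ((yon S).map e₁) ((yon S).map e₂) q q)
    [IsFinite e₂.left] [Etale e₂.left] :
    ∃ (k : Type u) (_ : Field k) (str' : Spec (CommRingCat.of k) ⟶ S)
      (c : Over.mk str ⟶ Over.mk str') (p : (yon S).obj (Over.mk str') ⟶ X),
      Surjective c.left ∧ (yon S).map c ≫ p = q ∧ Mono p := by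
  let Ω := AlgebraicClosure κ
  -- the embeddings related to the given one
  obtain ⟨C, _, _, ψ, hCfin, hCet, he₂⟩ := exists_coords e₂
  have := hCet ‹_›
  obtain ⟨α, hα⟩ := Spec.map_surjective (ψ.inv ≫ e₁.left)
  have hlift : ∀ ι ∈ relEmb (Ω := Ω) q, ∃ g : C →ₐ[κ] Ω, g.toRingHom.comp α.hom = ι := by
    rintro ι ⟨a, ha, he⟩
    obtain ⟨l, hl⟩ := (yon S).map_surjective (sqP.lift _ _ he)
    have hl₁ : l ≫ e₁ = a := (yon S).map_injective (by rw [Functor.map_comp, hl, sqP.lift_fst])
    have hl₂ : l ≫ e₂ = geomMap str := (yon S).map_injective (by rw [Functor.map_comp, hl, sqP.lift_snd])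
    obtain ⟨g, hg⟩ := Spec.map_surjective (l.left ≫ ψ.hom)
    refine ⟨⟨g.hom, fun r => ?_⟩, ?_⟩
    · have : CommRingCat.ofHom (algebraMap κ C) ≫ g = CommRingCat.ofHom (algebraMap κ Ω) := by
        refine Spec.map_injective ?_
        rw [Spec.map_comp, hg, Category.assoc, ← he₂]
        exact congrArg (fun t => Over.Hom.left t) hl₂
      exact congr($(this).hom r)
    · have : α ≫ g = CommRingCat.ofHom ι := by
        refine Spec.map_injective ?_
        rw [Spec.map_comp, hg, hα, Category.assoc, Iso.hom_inv_id_assoc, ← ha, ← hl₁]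
        rfl
      exact congr($(this).hom)
  have hfin : (relEmb (Ω := Ω) q).Finite := by
    have : Finite (C →ₐ[κ] Ω) := Finite.of_fintype _
    refine (Set.finite_range fun g : C →ₐ[κ] Ω => g.toRingHom.comp α.hom).subset fun ι hι => ?_
    exact hlift ι hι
  have hsep : ∀ ι ∈ relEmb (Ω := Ω) q, ∀ x, IsSeparable κ (ι x) := by
    intro ι hι x
    obtain ⟨g, rfl⟩ := hlift ι hι
    exact isSeparable_apply g (α.hom x)
  obtain ⟨k, hfd, hks, hk, hkE⟩ := exists_invariant_subfield (relEmb (Ω := Ω) q) hfin
    ⟨geomMap str, rfl, rfl⟩ hsep (fun σ h ι hι => relEmb_stable q σ h ι hι)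
  -- the scheme `Spec k`
  obtain ⟨⟨s, φ⟩, hφ⟩ : ∃ d, (Scheme.SpecToEquivOfField κ S).symm d = str :=
    ⟨_, Equiv.symm_apply_apply _ str⟩
  have hφk : ∀ x, φ.hom x ∈ k := fun x => (hk _).2 fun ι ⟨a, ha, _⟩ => by
    have h1 : φ ≫ CommRingCat.ofHom ι = φ ≫ CommRingCat.ofHom (algebraMap κ Ω) := by
      refine Spec.map_injective ((cancel_mono (S.fromSpecResidueField s)).1 ?_)
      rw [Spec.map_comp, Spec.map_comp, Category.assoc, Category.assoc]
      rw [show Spec.map φ ≫ S.fromSpecResidueField s = str from hφ, ← ha]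
      exact Over.w a
    exact congr($(h1).hom x)
  let str' : Spec (CommRingCat.of k) ⟶ S :=
    Spec.map (CommRingCat.ofHom (φ.hom.codRestrict k hφk)) ≫ S.fromSpecResidueField s
  let c : Over.mk str ⟶ Over.mk str' := Over.homMk (Spec.map (CommRingCat.ofHom k.subtype)) (by
    change Spec.map _ ≫ Spec.map _ ≫ _ = str
    rw [← Spec.map_comp_assoc]
    exact hφ)
  have : Algebra.Etale k κ := {
    formallyEtale := Algebra.FormallyEtale.of_isSeparable k κ
    finitePresentation := Algebra.FinitePresentation.of_finiteType.1 inferInstance }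
  have hcs : Surjective c.left :=
    ⟨fun y => ⟨IsLocalRing.closedPoint κ, @Subsingleton.elim (Spec (CommRingCat.of k)) inferInstance _ y⟩⟩
  have hcf : IsFinite c.left := (IsFinite.SpecMap_iff _).2 (RingHom.finite_algebraMap.2 hfd)
  have hce : Etale c.left :=
    (HasRingHomProperty.Spec_iff (P := @Etale)).2 (RingHom.etale_algebraMap.2 ‹_›)
  -- `q` is constant on the fibres of `c`
  let D := pullback c c
  have sqD := (IsPullback.of_hasPullback c c).map (Over.forget S)
  have : IsFinite (pullback.snd c c).left := MorphismProperty.of_isPullback (P := @IsFinite) sqD hcf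
  have : Etale (pullback.snd c c).left := MorphismProperty.of_isPullback (P := @Etale) sqD hce
  have hq : (yon S).map (pullback.fst c c) ≫ q = (yon S).map (pullback.snd c c) ≫ q := by
    refine eq_of_geometric_points (Ω := Ω) hX.diag (pullback.snd c c) _ _ fun l hl => ?_
    obtain ⟨ι, hι⟩ := Spec.map_surjective (l ≫ pullback.fst c c).left
    have hmem : ι.hom ∈ relEmb (Ω := Ω) q := hkE _ fun x hx => by
      have h1 : CommRingCat.ofHom k.subtype ≫ ι = CommRingCat.ofHom k.subtype ≫
          CommRingCat.ofHom (algebraMap κ Ω) := by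
        refine Spec.map_injective ?_
        rw [Spec.map_comp, Spec.map_comp, hι]
        exact congrArg (fun t => Over.Hom.left t)
          (show (l ≫ pullback.fst c c) ≫ c = geomMap str ≫ c by
            rw [Category.assoc, pullback.condition, reassoc_of% hl])
      exact congr($(h1).hom ⟨x, hx⟩)
    obtain ⟨a, ha, he⟩ := hmem
    have : a = l ≫ pullback.fst c c := Over.OverMorphism.ext (ha.trans hι)
    rw [← Functor.map_comp_assoc, ← Functor.map_comp_assoc, ← this, hl, he]
  have : Epi ((yon S).map c) := epi_of_local_lifts _ fun T y => by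
    obtain ⟨g, rfl⟩ := (yon S).map_surjective y
    exact ⟨_, _, _, cover_pullback g c, fun _ => ⟨(yon S).map (pullback.snd g c), by
      rw [← Functor.map_comp, ← Functor.map_comp, pullback.condition]⟩⟩
  have : EffectiveEpi ((yon S).map c) := by
    have := IsRegularEpiCategory.regularEpiOfEpi ((yon S).map c)
    infer_instance
  let p : (yon S).obj (Over.mk str') ⟶ X := EffectiveEpi.desc ((yon S).map c) q fun {A} g₁ g₂ e =>
    hom_ext_yon fun B y => by
      obtain ⟨a₁, ha₁⟩ := (yon S).map_surjective (y ≫ g₁)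
      obtain ⟨a₂, ha₂⟩ := (yon S).map_surjective (y ≫ g₂)
      have hc : a₁ ≫ c = a₂ ≫ c := (yon S).map_injective (by
        rw [Functor.map_comp, Functor.map_comp, ha₁, ha₂, Category.assoc, Category.assoc, e])
      have := (yon S).map (pullback.lift a₁ a₂ hc) ≫= hq
      rw [← Functor.map_comp_assoc, ← Functor.map_comp_assoc, pullback.lift_fst, pullback.lift_snd,
        ha₁, ha₂] at this
      simpa only [Category.assoc] using this
  have hp : (yon S).map c ≫ p = q := EffectiveEpi.fac _ _ _
  -- `p` is a monomorphism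
  have heq : (yon S).map (e₁ ≫ c) = (yon S).map (e₂ ≫ c) := by
    refine eq_of_geometric_points (Ω := Ω) (IsAlgSpace.yon_obj _).diag e₂ _ _ fun l hl => ?_
    rw [← Functor.map_comp, ← Functor.map_comp, reassoc_of% hl]
    refine congrArg _ (Over.OverMorphism.ext ?_)
    obtain ⟨ι, hι⟩ := Spec.map_surjective (l ≫ e₁).left
    have hmem : ι.hom ∈ relEmb (Ω := Ω) q := ⟨l ≫ e₁, hι.symm, by
      rw [Functor.map_comp, Category.assoc, sqP.w, ← Category.assoc, ← Functor.map_comp, hl]⟩
    change (l ≫ e₁).left ≫ Spec.map _ = Spec.map _ ≫ Spec.map _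
    rw [← hι, ← Spec.map_comp, ← Spec.map_comp]
    congr 1
    exact CommRingCat.hom_ext (RingHom.ext fun x => (hk x.1).1 x.2 _ hmem)
  refine ⟨k, inferInstance, str', c, p, hcs, hp, mono_of_yon fun T a b e => ?_⟩
  obtain ⟨a, rfl⟩ := (yon S).map_surjective a
  obtain ⟨b, rfl⟩ := (yon S).map_surjective b
  refine hom_ext_of_cover _ (cover_pullback a c) fun _ => ?_
  refine hom_ext_of_cover _ (cover_pullback (pullback.fst a c ≫ b) c) fun _ => ?_
  let u := pullback.fst (pullback.fst a c ≫ b) c ≫ pullback.snd a c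
  let v := pullback.snd (pullback.fst a c ≫ b) c
  have hu : u ≫ c = pullback.fst (pullback.fst a c ≫ b) c ≫ pullback.fst a c ≫ a := by
    simp only [u, Category.assoc, pullback.condition]
  have hv : v ≫ c = pullback.fst (pullback.fst a c ≫ b) c ≫ pullback.fst a c ≫ b := pullback.condition.symm
  have huv : (yon S).map u ≫ q = (yon S).map v ≫ q := by
    rw [← hp, ← Functor.map_comp_assoc, ← Functor.map_comp_assoc, hu, hv, Functor.map_comp,
      Functor.map_comp, Functor.map_comp, Functor.map_comp, Category.assoc, Category.assoc, Category.assoc,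
      Category.assoc, e]
  have := sqP.lift _ _ huv ≫= heq
  simp only [Functor.map_comp, IsPullback.lift_fst_assoc, IsPullback.lift_snd_assoc] at this
  rw [← Functor.map_comp, ← Functor.map_comp, hu, hv] at this
  simpa only [Functor.map_comp, Category.assoc] using this

end

end Groth.Agent.H13AlgSp
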