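import Groth.Agent.H12AlgSp.ValuativeQS
import Groth.Agent.H13AlgSp.DecentGeneric

/-!
Universally closed decent morphisms satisfy the existence part of the valuative criterion.
-/

set_option linter.unusedVariables false

universe u

open CategoryTheory CategoryTheory.Limits AlgebraicGeometry Opposite Topology IsLocalRing
open AlgSp Groth.Agent.H12AlgSp

namespace Groth.Agent.H13AlgSp

variable {S : Scheme.{u}} {X Y : Sp S}

/-- A decent universally closed morphism satisfies the existence part. -/
theorem existVC_of_isDecentMor_univClosed (hX : IsAlgSpace X) (hY : IsAlgSpace Y) {f : X ⟶ Y}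
    (hdm : IsDecentMor f) (hc : IsUnivClosedMor f) : ExistVC f := by
  intro v
  have hA := IsAlgSpace.yon_obj (S := S) v.ptA
  have hP := isAlgSpace_pullback hY.diag hX hA f v.bot
  let sd := pullback.snd f v.bot
  have hcl : IsClosedMap (Points.map sd) := hc hA v.bot _ sd (IsPullback.of_hasPullback f v.bot)
  obtain ⟨p₀, hp₁, hp₂⟩ := (IsPullback.of_hasPullback f v.bot).exists_lift v.top ((yon S).map v.j) v.comm
  let η : ↥v.ptK.left := (default : ↥(Spec (CommRingCat.of v.K)))
  let x := Points.ofPt p₀ η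
  have hgen : Points.map sd x = Points.schemeHomeo v.ptA (v.j.left η) := by
    rw [Points.map_ofPt, hp₂, ← Category.comp_id ((yon S).map v.j), ofPt_map]
    rfl
  obtain ⟨x', hx', hxc⟩ : Points.schemeHomeo v.ptA (closedPoint v.A : ↥(Spec (CommRingCat.of v.A))) ∈
      Points.map sd '' closure {x} := by
    have hs : Points.schemeHomeo v.ptA (v.j.left η) ⤳
        Points.schemeHomeo v.ptA (closedPoint v.A : ↥(Spec (CommRingCat.of v.A))) :=
      (specializes_closedPoint (R := v.A) (v.j.left η)).map (Points.schemeHomeo v.ptA).continuous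
    exact hs.mem_closed (hcl _ isClosed_closure) ⟨x, subset_closure rfl, hgen⟩
  obtain ⟨ι, T, a, hT, hae, hao, hac⟩ := exists_affine_family hP
  obtain ⟨i, hi⟩ := hac x'
  rw [range_map_yon] at hi
  obtain ⟨z, rfl⟩ := hi
  obtain ⟨m, hm⟩ := (yon S).map_surjective (a i ≫ sd)
  have : IsAffine v.ptA.left := inferInstanceAs (IsAffine (Spec (CommRingCat.of v.A)))
  have := hT i
  have hPd : IsDecent (pullback f v.bot) := hdm v.bot _ _ (IsPullback.of_hasPullback f v.bot)
  obtain ⟨W, w₂, w₁, sqW⟩ := (hP.representable_from_yon (a i)) p₀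
  obtain ⟨w₁, rfl⟩ := (yon S).map_surjective w₁
  obtain ⟨w, hwz⟩ : ∃ w, w₁.left w ⤳ z := by
    obtain ⟨o, ho, hox⟩ := generalizingMap_chart hPd (hae i) (specializes_iff_mem_closure.2 hx')
    have : o ∈ Points.ofPt (a i) ⁻¹' Set.range (Points.map p₀) := by
      rw [Set.mem_preimage, hox]
      exact ofPt_mem_range p₀ η
    rw [preimage_ofPt_range sqW.flip] at this
    obtain ⟨w, rfl⟩ := this
    exact ⟨w, ho⟩
  obtain ⟨A', b, hb, hbw⟩ := exists_valuation_of_specializes w₁.left w hwz
  obtain ⟨φ, hφ⟩ := Spec.map_surjective (R := CommRingCat.of v.A) (S := CommRingCat.of A') (b ≫ m.left)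
  obtain ⟨ψ, hψ⟩ := Spec.map_surjective (R := CommRingCat.of v.K) (S := W.left.residueField w)
    (W.left.fromSpecResidueField w ≫ w₂.left)
  have hwm : w₁ ≫ m = w₂ ≫ v.j := (yon S).map_injective (by
    rw [Functor.map_comp, Functor.map_comp, hm, ← Category.assoc, sqW.w, Category.assoc, hp₂])
  have hcomm : φ ≫ CommRingCat.ofHom (algebraMap A' (W.left.residueField w)) =
      CommRingCat.ofHom (algebraMap v.A v.K) ≫ ψ := by
    apply Spec.map_injective
    rw [Spec.map_comp, Spec.map_comp, hφ, hψ, ← Category.assoc, hbw, Category.assoc, Category.assoc,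
      ← Over.comp_left, hwm, Over.comp_left]
    rfl
  have hloc : IsLocalHom φ.hom := by
    refine isLocalHom_of_closedPoint ?_
    rw [CommRingCat.ofHom_hom, hφ, Scheme.Hom.comp_apply, hb]
    apply (Points.schemeHomeo v.ptA).injective
    rw [← hxc, Points.map_ofPt, ← hm, ← Category.comp_id ((yon S).map m), ofPt_map]
    rfl
  let e : v.DomExt :=
    { A' := A', K' := W.left.residueField w, φ := φ.hom, ψ := ψ.hom
      comm := congrArg CommRingCat.Hom.hom hcomm, isLocalHom := hloc }
  let b' : e.ptA' ⟶ T i := Over.homMk b (by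
    change b ≫ (T i).hom = Spec.map φ ≫ v.str
    rw [hφ, Category.assoc]
    exact congrArg (b ≫ ·) (Over.w m).symm)
  refine ⟨e, (hasLift_iff e).2 ⟨(yon S).map b' ≫ a i ≫ pullback.fst f v.bot, ?_, ?_⟩⟩
  · let k : e.ptK' ⟶ W := Over.homMk (W.left.fromSpecResidueField w) (by
      change _ = Spec.map _ ≫ Spec.map φ ≫ v.str
      rw [← Over.w w₂, ← Category.assoc, ← hψ, ← Spec.map_comp_assoc, hcomm, Spec.map_comp_assoc]
      rfl)
    have q₁ : jHom e ≫ b' = k ≫ w₁ := Over.OverMorphism.ext hbw
    have q₂ : psiHom e = k ≫ w₂ := Over.OverMorphism.ext hψ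
    rw [← hp₁, ← Functor.map_comp_assoc, q₁, q₂, Functor.map_comp, Functor.map_comp]
    simp only [Category.assoc]
    rw [reassoc_of% sqW.w]
  · simp only [Category.assoc, pullback.condition]
    rw [← Category.assoc (a i), ← hm, ← Functor.map_comp_assoc]
    congr 2
    exact Over.OverMorphism.ext hφ.symm

end Groth.Agent.H13AlgSp
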