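import Groth.Agent.H13AlgSp.FibreCard
import Groth.Agent.H13Desc.Flat
import Groth.Agent.H18Descent.Basic
import Mathlib.AlgebraicGeometry.Artinian
import Mathlib.AlgebraicGeometry.Morphisms.FlatRank
import Mathlib.AlgebraicGeometry.Fiber

/-!
Finite schemes of bounded degree over a field.
-/

universe u

open CategoryTheory CategoryTheory.Limits AlgebraicGeometry TopologicalSpace

namespace Groth.Agent.H13AlgSp.DegField

variable {K : Type u} [Field K]

/-- `c` is finite of degree at most `n`. -/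
def DegLE (n : ℕ) {T : Scheme.{u}} (c : T ⟶ Spec (CommRingCat.of K)) : Prop :=
  IsFinite c ∧ ∀ s, c.finrank s ≤ n

/-- The functions of a scheme over a field as an algebra. -/
@[reducible] noncomputable def alg {T : Scheme.{u}} (c : T ⟶ Spec (CommRingCat.of K)) : Algebra K Γ(T, ⊤) :=
  ((Scheme.ΓSpecIso (CommRingCat.of K)).inv ≫ c.appTop).hom.toAlgebra

variable {T : Scheme.{u}}

theorem eq_isoSpec_comp [IsAffine T] (c : T ⟶ Spec (CommRingCat.of K)) :
    c = T.isoSpec.hom ≫ Spec.map ((Scheme.ΓSpecIso (CommRingCat.of K)).inv ≫ c.appTop) := by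
  rw [Scheme.isoSpec_hom, Spec.map_comp, ← Scheme.toSpecΓ_naturality_assoc]
  simp

theorem degLE_iff [IsAffine T] (n : ℕ) (c : T ⟶ Spec (CommRingCat.of K)) :
    DegLE n c ↔ (letI := alg c; Module.Finite K Γ(T, ⊤) ∧ Module.finrank K Γ(T, ⊤) ≤ n) := by
  let φ := (Scheme.ΓSpecIso (CommRingCat.of K)).inv ≫ c.appTop
  let := alg c
  have hc : c = T.isoSpec.hom ≫ Spec.map (CommRingCat.ofHom (algebraMap K Γ(T, ⊤))) := eq_isoSpec_comp c
  have hfin : IsFinite c ↔ Module.Finite K Γ(T, ⊤) := by
    rw [hc, MorphismProperty.cancel_left_of_respectsIso @IsFinite, IsFinite.SpecMap_iff]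
    exact RingHom.finite_algebraMap
  have hrank : ∀ [Module.Finite K Γ(T, ⊤)] (s : Spec (CommRingCat.of K)),
      c.finrank s = Module.finrank K Γ(T, ⊤) := by
    intro _ s
    have : IsFinite (Spec.map (CommRingCat.ofHom (algebraMap K Γ(T, ⊤)))) :=
      (IsFinite.SpecMap_iff _).mpr (RingHom.finite_algebraMap.mpr inferInstance)
    have : Flat (Spec.map (CommRingCat.ofHom (algebraMap K Γ(T, ⊤)))) :=
      Flat.SpecMap_iff.mpr (RingHom.flat_algebraMap_iff.2 inferInstance)
    rw [hc, Scheme.Hom.finrank_comp_left_of_isIso, Scheme.Hom.finrank_SpecMap_algebraMap,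
      Module.rankAtStalk_eq_finrank_of_free]
    rfl
  refine ⟨fun ⟨hf, hn⟩ => ?_, fun ⟨hf, hn⟩ => ⟨hfin.mpr hf, fun s => ?_⟩⟩
  · have := hfin.mp hf
    exact ⟨this, (hrank (IsLocalRing.closedPoint K)) ▸ hn _⟩
  · rw [hrank]; exact hn

theorem DegLE.finite {n : ℕ} {c : T ⟶ Spec (CommRingCat.of K)} (h : DegLE n c) :
    _root_.Finite T ∧ DiscreteTopology T := by
  have := h.1
  have : IsAffine T := isAffine_of_isAffineHom c
  let := alg c
  have := ((degLE_iff n c).mp h).1
  have : IsArtinianRing Γ(T, ⊤) := isArtinian_of_tower K inferInstance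
  let e := T.isoSpec.hom.homeomorph
  have h1 : _root_.Finite (Spec Γ(T, ⊤)) := inferInstanceAs (_root_.Finite (PrimeSpectrum Γ(T, ⊤)))
  have h2 : DiscreteTopology (Spec Γ(T, ⊤)) := inferInstanceAs (DiscreteTopology (PrimeSpectrum Γ(T, ⊤)))
  exact ⟨Finite.of_equiv _ e.toEquiv.symm, e.symm.discreteTopology⟩

theorem DegLE.mono {n m : ℕ} {c : T ⟶ Spec (CommRingCat.of K)} (h : DegLE n c) (hnm : n ≤ m) : DegLE m c :=
  ⟨h.1, fun s => (h.2 s).trans hnm⟩

/-- A finite scheme over a field covered flatly by finite schemes of bounded degree has bounded degree. -/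
theorem degLE_of_flat_cover {ι : Type*} [Fintype ι] {W : ι → Scheme.{u}} (g : ∀ i, W i ⟶ T)
    [∀ i, Flat (g i)] (hg : ∀ t : T, ∃ i w, g i w = t) (c : T ⟶ Spec (CommRingCat.of K))
    (n : ι → ℕ) (h : ∀ i, DegLE (n i) (g i ≫ c)) : DegLE (∑ i, n i) c := by
  have : ∀ i, _root_.Finite (W i) := fun i => (h i).finite.1
  have : ∀ i, DiscreteTopology (W i) := fun i => (h i).finite.2
  have : _root_.Finite T := Finite.of_surjective (fun p : Σ i, W i => g p.1 p.2) fun t => by
    obtain ⟨i, w, hw⟩ := hg t; exact ⟨⟨i, w⟩, hw⟩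
  have : T1Space T := t1Space_iff_specializes_imp_eq.mpr fun a b hab => by
    obtain ⟨i, w, rfl⟩ := hg b
    obtain ⟨p, hp⟩ : a ∈ Set.range (T.fromSpecStalk (g i w)) := by
      rw [Scheme.range_fromSpecStalk]; exact hab
    obtain ⟨q, hq⟩ := ((RingHom.FaithfullyFlat.iff_flat_and_comap_surjective).1
      (H13Desc.faithfullyFlat_stalkMap (g i) w)).2 p
    have h1 : (W i).fromSpecStalk w q ⤳ w := by
      have : (W i).fromSpecStalk w q ∈ Set.range ((W i).fromSpecStalk w) := ⟨q, rfl⟩
      rwa [Scheme.range_fromSpecStalk] at this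
    have h2 : g i ((W i).fromSpecStalk w q) = a := by
      rw [← Scheme.Hom.comp_apply, ← Scheme.SpecMap_stalkMap_fromSpecStalk, Scheme.Hom.comp_apply, ← hp]
      exact congrArg _ hq
    rw [← h2, h1.eq]
  have hT : IsAffine T := inferInstance
  rw [degLE_iff]
  let := alg c
  have haff : ∀ i, IsAffine (W i) := fun i => inferInstance
  letI : ∀ i, Algebra K Γ(W i, ⊤) := fun i => alg (g i ≫ c)
  let F : ∀ i, Γ(T, ⊤) →ₗ[K] Γ(W i, ⊤) := fun i =>
    { toFun := (g i).appTop.hom
      map_add' := map_add _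
      map_smul' := fun k x => by
        simp only [Algebra.smul_def, map_mul, RingHom.algebraMap_toAlgebra, RingHom.id_apply]
        rfl }
  have : ∀ i, Module.Finite K Γ(W i, ⊤) := fun i => ((degLE_iff (n i) (g i ≫ c)).mp (h i)).1
  let G : Γ(T, ⊤) →ₗ[K] ∀ i, Γ(W i, ⊤) := LinearMap.pi F
  have hG : Function.Injective G := by
    refine (injective_iff_map_eq_zero _).mpr fun x hx => ?_
    refine TopCat.Presheaf.section_ext T.sheaf ⊤ x 0 fun t ht => ?_
    obtain ⟨i, w, rfl⟩ := hg t
    have hff := H13Desc.faithfullyFlat_stalkMap (g i) w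
    refine hff.injective ?_
    change (g i).stalkMap w (T.presheaf.germ ⊤ (g i w) ht x) = (g i).stalkMap w (T.presheaf.germ ⊤ (g i w) ht 0)
    rw [Scheme.Hom.germ_stalkMap_apply, map_zero, map_zero]
    have hxi : F i x = 0 := congrFun hx i
    exact (congrArg _ hxi).trans (map_zero _)
  refine ⟨Module.Finite.of_injective G hG, (LinearMap.finrank_le_finrank_of_injective hG).trans ?_⟩
  rw [Module.finrank_pi_fintype]
  exact Finset.sum_le_sum fun i _ => ((degLE_iff (n i) (g i ≫ c)).mp (h i)).2

theorem finrank_le_of_fibres {A B : Type u} [CommRing A] [Algebra K A] [Module.Finite K A]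
    [CommRing B] [Algebra K B] [Algebra A B] [IsScalarTower K A B] (n : ℕ)
    (h : ∀ q : Ideal A, q.IsMaximal → ∃ b : Fin n → B,
      Submodule.span A (Set.range b) ⊔ q • (⊤ : Submodule A B) = ⊤) :
    Module.Finite K B ∧ Module.finrank K B ≤ n * Module.finrank K A := by
  classical
  have : IsArtinianRing A := isArtinian_of_tower K inferInstance
  have := Fintype.ofFinite (MaximalSpectrum A)
  choose b hb using fun q : MaximalSpectrum A => h q.asIdeal q.isMaximal
  have hco : Pairwise fun i j : MaximalSpectrum A => IsCoprime i.asIdeal j.asIdeal :=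
    fun i j hij => Ideal.isCoprime_of_isMaximal fun e => hij (MaximalSpectrum.ext e)
  have he : ∀ q : MaximalSpectrum A, ∃ e : A, e - 1 ∈ q.asIdeal ∧ ∀ q' ≠ q, e ∈ q'.asIdeal := fun q => by
    obtain ⟨e, he⟩ := Ideal.pi_quotient_surjective hco
      (fun q' => if q' = q then 1 else 0)
    refine ⟨e, ?_, fun q' hq' => ?_⟩
    · have := he q
      rw [if_pos rfl] at this
      exact Ideal.Quotient.eq.mp (this.trans (map_one _).symm)
    · have := he q'
      rw [if_neg hq'] at this
      exact Ideal.Quotient.eq_zero_iff_mem.mp this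
  choose e he₁ he₂ using he
  let bb : Fin n → B := fun j => ∑ q, e q • b q j
  let N := Submodule.span A (Set.range bb)
  have hN : ∀ q : MaximalSpectrum A, N ⊔ q.asIdeal • (⊤ : Submodule A B) = ⊤ := fun q => by
    refine top_le_iff.mp ((hb q).ge.trans (sup_le ?_ le_sup_right))
    rw [Submodule.span_le]
    rintro _ ⟨j, rfl⟩
    have h1 : b q j = bb j + (b q j - bb j) := by abel
    rw [h1]
    refine Submodule.add_mem _ (Submodule.mem_sup_left (Submodule.subset_span ⟨j, rfl⟩)) (Submodule.mem_sup_right ?_)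
    have h2 : b q j - bb j = (1 - e q) • b q j - ∑ q' ∈ Finset.univ.erase q, e q' • b q' j := by
      simp only [bb, ← Finset.add_sum_erase _ _ (Finset.mem_univ q), sub_smul, one_smul]
      abel
    rw [h2]
    refine Submodule.sub_mem _ (Submodule.smul_mem_smul ?_ trivial)
      (Submodule.sum_mem _ fun q' hq' => Submodule.smul_mem_smul (he₂ q' q (Finset.ne_of_mem_erase hq').symm) trivial)
    have := Submodule.neg_mem _ (he₁ q)
    rwa [neg_sub] at this
  have hmul : ∀ I J : Ideal A, N ⊔ I • (⊤ : Submodule A B) = ⊤ → N ⊔ J • (⊤ : Submodule A B) = ⊤ →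
      N ⊔ (I * J) • (⊤ : Submodule A B) = ⊤ := fun I J hI hJ => by
    refine top_le_iff.mp (hI.ge.trans (sup_le le_sup_left ?_))
    conv_lhs => rw [← hJ]
    rw [Submodule.smul_sup, ← Submodule.smul_assoc, smul_eq_mul]
    exact sup_le (Submodule.smul_le_right.trans le_sup_left) le_sup_right
  have hJ : N ⊔ (∏ q : MaximalSpectrum A, q.asIdeal) • (⊤ : Submodule A B) = ⊤ := by
    refine Finset.prod_induction _ (fun I => N ⊔ I • (⊤ : Submodule A B) = ⊤) hmul ?_ fun q _ => hN q
    rw [Ideal.one_eq_top, Submodule.top_smul, sup_top_eq]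
  obtain ⟨k, hk⟩ : IsNilpotent (∏ q : MaximalSpectrum A, q.asIdeal) := by
    obtain ⟨k, hk⟩ := IsArtinianRing.isNilpotent_jacobson_bot (R := A)
    refine ⟨k, le_bot_iff.mp ((Ideal.pow_right_mono ?_ k).trans_eq hk)⟩
    refine Ideal.prod_le_inf.trans (le_sInf fun m ⟨_, hm⟩ => ?_)
    exact Finset.inf_le (f := fun q : MaximalSpectrum A => q.asIdeal) (Finset.mem_univ ⟨m, hm⟩)
  have hpow : ∀ j, N ⊔ ((∏ q : MaximalSpectrum A, q.asIdeal) ^ j) • (⊤ : Submodule A B) = ⊤ := fun j => by
    induction j with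
    | zero => rw [pow_zero, Ideal.one_eq_top, Submodule.top_smul, sup_top_eq]
    | succ j ih => rw [pow_succ]; exact hmul _ _ ih hJ
  have htop : N = ⊤ := by
    have := hpow k
    rw [hk] at this
    simpa using this
  let f : (Fin n → A) →ₗ[K] B := (Fintype.linearCombination A bb).restrictScalars K
  have hf : Function.Surjective f := fun x => by
    have hx : x ∈ N := htop ▸ trivial
    obtain ⟨a, ha⟩ := (Submodule.mem_span_range_iff_exists_fun A).mp hx
    exact ⟨a, ha⟩
  refine ⟨Module.Finite.of_surjective f hf, (LinearMap.finrank_le_finrank_of_surjective hf).trans ?_⟩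
  rw [Module.finrank_pi_fintype, Finset.sum_const, Finset.card_univ, Fintype.card_fin, smul_eq_mul]

open TensorProduct in
/-- The fibres of bounded degree of a tower give bounded degree of the composite. -/
theorem degLE_comp {T' : Scheme.{u}} (g : T ⟶ T') (c : T' ⟶ Spec (CommRingCat.of K)) {m n : ℕ}
    (hc : DegLE m c)
    (hg : ∀ (L : Type u) [Field L] (x : Spec (CommRingCat.of L) ⟶ T') (P : Scheme.{u}) (p : P ⟶ T)
      (q : P ⟶ Spec (CommRingCat.of L)), IsPullback p q g x → DegLE n q) : DegLE (n * m) (g ≫ c) := by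
  have hfib : ∀ t : T', _root_.Finite (g ⁻¹' {t}) ∧ DiscreteTopology (g ⁻¹' {t}) := fun t => by
    have h := (hg _ (T'.fromSpecResidueField t) _ _ _ (IsPullback.of_hasPullback g _)).finite
    have : _root_.Finite (g.fiber t) := h.1
    have : DiscreteTopology (g.fiber t) := h.2
    exact ⟨Finite.of_equiv _ (g.fiberHomeo t).toEquiv, (g.fiberHomeo t).discreteTopology⟩
  have : _root_.Finite T' := hc.finite.1
  have : DiscreteTopology T' := hc.finite.2
  have : _root_.Finite T := by
    have := fun t => (hfib t).1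
    exact Finite.of_surjective (fun p : Σ t : T', g ⁻¹' {t} => p.2.1) fun x => ⟨⟨g x, x, rfl⟩, rfl⟩
  have : DiscreteTopology T := discreteTopology_iff_isOpen_singleton.mpr fun x => by
    have := (hfib (g x)).2
    have h1 : IsOpen ({⟨x, rfl⟩} : Set (g ⁻¹' {g x})) := isOpen_discrete _
    have h2 := ((isOpen_discrete ({g x} : Set T')).preimage g.continuous).isOpenMap_subtype_val _ h1
    simpa using h2
  have : IsAffine T := inferInstance
  have : IsAffine T' := inferInstance
  let := alg c
  let := alg (g ≫ c)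
  let := g.appTop.hom.toAlgebra
  have : IsScalarTower K Γ(T', ⊤) Γ(T, ⊤) := IsScalarTower.of_algebraMap_eq fun k => rfl
  obtain ⟨hfin, hm⟩ := (degLE_iff m c).mp hc
  have key := finrank_le_of_fibres (K := K) (A := Γ(T', ⊤)) (B := Γ(T, ⊤)) n fun q hq => by
    let A := Γ(T', ⊤)
    let B := Γ(T, ⊤)
    let L := A ⧸ q
    let : Field L := Ideal.Quotient.field q
    have hpo := CommRingCat.isPushout_tensorProduct A L B
    have hp := (isPullback_SpecMap_of_isPushout _ _ _ _ hpo).flip
    have hT : IsPullback (Spec.map (CommRingCat.ofHom (Algebra.TensorProduct.includeRight.toRingHom : B →+* L ⊗[A] B)) ≫ T.isoSpec.inv)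
        (Spec.map (CommRingCat.ofHom (Algebra.TensorProduct.includeLeftRingHom : L →+* L ⊗[A] B)))
        g (Spec.map (CommRingCat.ofHom (algebraMap A L)) ≫ T'.isoSpec.inv) :=
      hp.of_iso (Iso.refl _) T.isoSpec.symm (Iso.refl _) T'.isoSpec.symm (by simp) (by simp) (by
        simp only [Iso.symm_hom]
        rw [show CommRingCat.ofHom (algebraMap A B) = g.appTop from rfl]
        exact Scheme.isoSpec_inv_naturality g) (by simp)
    obtain ⟨h1, h2⟩ := hg L _ _ _ _ hT
    have : Module.Finite L (L ⊗[A] B) := RingHom.finite_algebraMap.mp ((IsFinite.SpecMap_iff _).mp h1)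
    have h3 : Module.finrank L (L ⊗[A] B) ≤ n := by
      have h4 := h2 (IsLocalRing.closedPoint L)
      have : Module.Free L (L ⊗[A] B) := Module.Free.of_divisionRing L _
      have : Module.Flat L (L ⊗[A] B) := Module.Flat.of_free
      have e : (CommRingCat.ofHom (Algebra.TensorProduct.includeLeftRingHom : L →+* L ⊗[A] B)) =
          CommRingCat.ofHom (algebraMap L (L ⊗[A] B)) := rfl
      rw [e, Scheme.Hom.finrank_SpecMap_algebraMap, Module.rankAtStalk_eq_finrank_of_free] at h4
      exact h4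
    let bL := Module.finBasis L (L ⊗[A] B)
    let v : Fin n → L ⊗[A] B := fun j => if h : (j : ℕ) < Module.finrank L (L ⊗[A] B) then bL ⟨j, h⟩ else 0
    have hv : Submodule.span A (Set.range v) = ⊤ := by
      rw [← Submodule.restrictScalars_span A L Ideal.Quotient.mk_surjective, Submodule.restrictScalars_eq_top_iff,
        eq_top_iff, ← bL.span_eq]
      refine Submodule.span_mono ?_
      rintro _ ⟨i, rfl⟩
      exact ⟨Fin.castLE h3 i, by simp [v, i.2]⟩
    let e := quotTensorEquivQuotSMul B q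
    choose b hb using fun j => Submodule.Quotient.mk_surjective (q • (⊤ : Submodule A B)) (e (v j))
    refine ⟨b, top_le_iff.mp fun x _ => ?_⟩
    have hx : e.symm (Submodule.Quotient.mk x) ∈ Submodule.span A (Set.range v) := hv ▸ trivial
    obtain ⟨a, ha⟩ := (Submodule.mem_span_range_iff_exists_fun A).mp hx
    have h5 : x - ∑ j, a j • b j ∈ q • (⊤ : Submodule A B) := by
      rw [← Submodule.Quotient.mk_eq_zero, Submodule.Quotient.mk_sub, sub_eq_zero,
        ← e.apply_symm_apply (Submodule.Quotient.mk x), ← ha, ← Submodule.mkQ_apply, map_sum, map_sum]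
      simp [hb]
    rw [← sub_add_cancel x (∑ j, a j • b j)]
    exact Submodule.add_mem _ (Submodule.mem_sup_right h5) (Submodule.mem_sup_left
      (Submodule.sum_mem _ fun j _ => Submodule.smul_mem _ _ (Submodule.subset_span ⟨j, rfl⟩)))
  exact (degLE_iff _ _).mpr ⟨key.1, key.2.trans (Nat.mul_le_mul_left n hm)⟩

/-- Bounded degree descends along field extensions. -/
theorem DegLE.descend {L : Type u} [Field L] {P : Scheme.{u}} {e : Spec (CommRingCat.of L) ⟶ Spec (CommRingCat.of K)}
    {p : P ⟶ T} {q : P ⟶ Spec (CommRingCat.of L)} {c : T ⟶ Spec (CommRingCat.of K)}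
    (sq : IsPullback p q c e) {n : ℕ} (h : DegLE n q) : DegLE n c := by
  have : IsFinite q := h.1
  have : Surjective e := ⟨fun x => ⟨IsLocalRing.closedPoint L, Subsingleton.elim _ _⟩⟩
  have : IsFinite c := MorphismProperty.of_isPullback_of_descendsAlong (P := @IsFinite)
    (Q := H18Descent.fpqc) sq.flip ⟨⟨inferInstance, inferInstance⟩, inferInstance⟩ h.1
  refine ⟨this, fun s => ?_⟩
  obtain rfl : s = e (IsLocalRing.closedPoint L) := Subsingleton.elim _ _
  rw [← Scheme.Hom.finrank_of_isPullback p q c e sq]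
  exact h.2 _

/-- Bounded degree is stable under field extensions. -/
theorem DegLE.baseChange {L : Type u} [Field L] {P : Scheme.{u}} {e : Spec (CommRingCat.of L) ⟶ Spec (CommRingCat.of K)}
    {p : P ⟶ T} {q : P ⟶ Spec (CommRingCat.of L)} {c : T ⟶ Spec (CommRingCat.of K)}
    (sq : IsPullback p q c e) {n : ℕ} (h : DegLE n c) : DegLE n q := by
  have := h.1
  refine ⟨MorphismProperty.of_isPullback sq h.1, fun s => ?_⟩
  rw [Scheme.Hom.finrank_of_isPullback p q c e sq]
  exact h.2 _


end Groth.Agent.H13AlgSp.DegField
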