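import Groth.Agent.H13AlgSp.DegreeStrata
import Groth.Agent.H13AlgSp.RedInduced
import Groth.Agent.H13AlgSp.CodimZeroQf
import Groth.Prelude.Def_W4decUnivBdd

/-!
Stratification of an algebraic space by the degree of the fibres of a quasi-finite flat chart.
-/

universe u

open CategoryTheory CategoryTheory.Limits AlgebraicGeometry Opposite Topology
open AlgSp Groth.Agent.H12AlgSp

set_option linter.style.haveILetI false

namespace Groth.Agent.H13AlgSp.Degree

variable {S : Scheme.{u}} {X : Sp S} {W : Over S} {w : (yon S).obj W ⟶ X}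

theorem isPullback_left {T P T' P' : Over S} {fst : (yon S).obj P ⟶ (yon S).obj W} {f : P ⟶ T}
    {g : (yon S).obj T ⟶ X} {fst' : (yon S).obj P' ⟶ (yon S).obj W} {f' : P' ⟶ T'}
    (sq : IsPullback fst ((yon S).map f) w g) (h : T' ⟶ T)
    (sq' : IsPullback fst' ((yon S).map f') w ((yon S).map h ≫ g)) :
    ∃ k : P' ⟶ P, IsPullback k.left f'.left f.left h.left := by
  obtain ⟨k', hk₁, hk₂⟩ := sq.exists_lift fst' ((yon S).map f' ≫ (yon S).map h) (by rw [sq'.w, Category.assoc])
  obtain ⟨k, rfl⟩ := (yon S).map_surjective k'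
  have hsq : IsPullback ((yon S).map k) ((yon S).map f') ((yon S).map f) ((yon S).map h) :=
    IsPullback.of_right (by rw [hk₁]; exact sq') hk₂ sq
  exact ⟨k, (IsPullback.of_map (yon S) ((yon S).map_injective (by
    rw [Functor.map_comp, Functor.map_comp]; exact hk₂)) hsq).map (Over.forget S)⟩

/-- A fibre computed by any cartesian square. -/
theorem deg_eq_of_square {A B : Scheme.{u}} (f : A ⟶ B) (t : B) {C : Scheme.{u}} {k : C ⟶ A}
    (c : C ⟶ Spec (B.residueField t)) (sq : IsPullback k c f (B.fromSpecResidueField t)) (hc : IsFinite c) (hfl : Flat c) :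
    deg f t = c.finrank (IsLocalRing.closedPoint (B.residueField t)) := by
  have e : sq.isoPullback.inv ≫ c = f.fiberToSpecResidueField t := sq.isoPullback_inv_snd
  rw [deg, ← e]
  exact congrFun (@Scheme.Hom.finrank_comp_left_of_isIso _ _ _ _ c _ hfl hc) _

/-- The fibres over field valued points have the prescribed bound. -/
theorem finite_fibre_and_le {n : ℕ} (hb : W4dec.DegFibresLE n w) (hw : RepWith @Flat w) {T P : Over S}
    {fst : (yon S).obj P ⟶ (yon S).obj W} {f : P ⟶ T} {g : (yon S).obj T ⟶ X}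
    (sq : IsPullback fst ((yon S).map f) w g) (t : T.left) :
    IsFinite (f.left.fiberToSpecResidueField t) ∧ (f.left ⁻¹' {t}).Finite ∧ deg f.left t ≤ n := by
  have hr : (FieldPt.ofPt g t).toHom = (yon S).map (resMap t) ≫ g := FieldPt.toHom_ofPt _ _
  let r := FieldPt.ofPt g t
  obtain ⟨T', c, snd, sqT⟩ : ∃ (T' : Over S) (c : T' ⟶ r.pt) (snd : (yon S).obj T' ⟶ (yon S).obj W),
      IsPullback snd ((yon S).map c) w r.toHom := ⟨_, _, _, hw.rep.isPullback r.toHom⟩
  obtain ⟨hc, hn⟩ := hb r T' c snd sqT.flip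
  obtain ⟨k, hk⟩ := isPullback_left sq (resMap t) (f' := c) (fst' := snd) (hr ▸ sqT)
  have hsq : IsPullback k.left c.left f.left (T.left.fromSpecResidueField t) := hk
  have hiso := hsq.isoPullback_inv_snd
  haveI := hc
  have hfib : IsFinite (f.left.fiberToSpecResidueField t) := by
    exact (congrArg (fun φ => IsFinite φ) hiso).mp ((MorphismProperty.cancel_left_of_respectsIso @IsFinite _ _).2 hc)
  haveI : Finite (f.left.fiber t) := by
    haveI := hfib
    haveI : LocallyQuasiFinite (f.left.fiberToSpecResidueField t) := inferInstance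
    haveI : QuasiCompact (f.left.fiberToSpecResidueField t) := inferInstance
    exact Set.finite_univ_iff.1 (((f.left.fiberToSpecResidueField t).finite_preimage_singleton
      (IsLocalRing.closedPoint (T.left.residueField t))).subset fun x _ => Subsingleton.elim _ _)
  refine ⟨hfib, ?_, le_trans (le_of_eq ?_) (hn (IsLocalRing.closedPoint (T.left.residueField t)))⟩
  · rw [← f.left.range_fiberι t]; exact Set.finite_range _
  · haveI : Flat c.left := MorphismProperty.of_isPullback hsq (hw.property _ _ f sq)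
    exact deg_eq_of_square f.left t c.left hsq hc this

theorem deg_eq_of_eq {n : ℕ} (hb : W4dec.DegFibresLE n w) (hX : IsAlgSpace X) (hw : RepWith @Flat w)
    {T P T₂ P₂ : Over S} {fst : (yon S).obj P ⟶ (yon S).obj W} {f : P ⟶ T} {g : (yon S).obj T ⟶ X}
    (sq : IsPullback fst ((yon S).map f) w g) {fst₂ : (yon S).obj P₂ ⟶ (yon S).obj W} {f₂ : P₂ ⟶ T₂}
    {g₂ : (yon S).obj T₂ ⟶ X} (sq₂ : IsPullback fst₂ ((yon S).map f₂) w g₂) {t : T.left} {t₂ : T₂.left}
    (e : Points.ofPt g t = Points.ofPt g₂ t₂) : deg f.left t = deg f₂.left t₂ := by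
  obtain ⟨Q, q₂, q', sqQ⟩ : ∃ (Q : Over S) (q₂ : Q ⟶ T₂) (q : (yon S).obj Q ⟶ (yon S).obj T),
      IsPullback q ((yon S).map q₂) g g₂ := ⟨_, _, _, (hX.representable_from_yon g).isPullback g₂⟩
  obtain ⟨q₁, rfl⟩ := (yon S).map_surjective q'
  obtain ⟨z, hz₁, hz₂⟩ := exists_point_of_isPullback sqQ (Points.ofScheme T t) (Points.ofScheme T₂ t₂)
    (by rw [← Points.ofPt_eq_map_ofScheme, ← Points.ofPt_eq_map_ofScheme, e])
  obtain ⟨z, rfl⟩ : ∃ z', Points.ofScheme Q z' = z := ⟨_, Points.ofScheme_toScheme Q _⟩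
  have h₁ : q₁.left z = t := by
    rw [← Points.ofPt_eq_map_ofScheme, ← Category.comp_id ((yon S).map q₁), ofPt_map] at hz₁
    simpa using congrArg (Points.toScheme T) hz₁
  have h₂ : q₂.left z = t₂ := by
    rw [← Points.ofPt_eq_map_ofScheme, ← Category.comp_id ((yon S).map q₂), ofPt_map] at hz₂
    simpa using congrArg (Points.toScheme T₂) hz₂
  obtain ⟨P', f', fst', sq'⟩ : ∃ (P' : Over S) (f' : P' ⟶ Q) (fst' : (yon S).obj P' ⟶ (yon S).obj W),
      IsPullback fst' ((yon S).map f') w ((yon S).map q₁ ≫ g) := ⟨_, _, _, hw.rep.isPullback _⟩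
  obtain ⟨k₁, hk₁⟩ := isPullback_left sq q₁ sq'
  obtain ⟨k₂, hk₂⟩ := isPullback_left sq₂ q₂ (sqQ.w ▸ sq')
  haveI : Flat f.left := hw.property _ _ f sq
  haveI : Flat f₂.left := hw.property _ _ f₂ sq₂
  rw [← h₁, ← h₂, ← deg_baseChange f.left hk₁ z (finite_fibre_and_le hb hw sq _).1,
    ← deg_baseChange f₂.left hk₂ z (finite_fibre_and_le hb hw sq₂ _).1]

theorem exists_strata (hX : IsAlgSpace X) (hfl : RepWith @Flat w) (hfp : RepWith @LocallyOfFinitePresentation w)
    (hsep : RepWith @IsSeparated w) (hqf : RepWith @LocallyQuasiFinite w) {n : ℕ} (hb : W4dec.DegFibresLE n w) :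
    ∃ D : Points X → ℕ, (∀ x, D x ≤ n) ∧ (∀ r, IsClosed {x | D x < r}) ∧
      ∀ (r : ℕ) {T : Sp S}, IsAlgSpace T → ∀ (g : T ⟶ X) {P : Sp S} {fst : P ⟶ (yon S).obj W} {snd : P ⟶ T},
        IsPullback fst snd w g → (IsFinLocFreeOfDegMor r snd ↔ ∀ z, D (Points.map g z) = r) := by
  obtain ⟨U, a, ha, has⟩ := hX.atlas
  obtain ⟨PU, fU, fstU, sqU⟩ : ∃ (PU : Over S) (fU : PU ⟶ U) (fstU : (yon S).obj PU ⟶ (yon S).obj W),
      IsPullback fstU ((yon S).map fU) w a := ⟨_, _, _, hfl.rep.isPullback _⟩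
  choose pick hpick using surjective_ofPt_of_repWith le_rfl has
  let D : Points X → ℕ := fun x => deg fU.left (pick x)
  have key : ∀ {T P : Over S} {fst : (yon S).obj P ⟶ (yon S).obj W} {f : P ⟶ T} {g : (yon S).obj T ⟶ X}
      (_ : IsPullback fst ((yon S).map f) w g) (t : T.left), D (Points.ofPt g t) = deg f.left t :=
    fun sq t => deg_eq_of_eq hb hX hfl sqU sq (hpick _)
  have hscheme : ∀ {T P : Over S} {fst : (yon S).obj P ⟶ (yon S).obj W} {f : P ⟶ T} {g : (yon S).obj T ⟶ X}
      (_ : IsPullback fst ((yon S).map f) w g) (r : ℕ),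
      Mor2.IsFinLocFreeOfDeg r f.left ↔ ∀ t, deg f.left t = r := fun {T P fst f g} sq r => by
    haveI : Flat f.left := hfl.property _ _ f sq
    haveI : LocallyOfFinitePresentation f.left := hfp.property _ _ f sq
    haveI : IsSeparated f.left := hsep.property _ _ f sq
    haveI : LocallyQuasiFinite f.left := hqf.property _ _ f sq
    exact isFinLocFreeOfDeg_iff f.left (fun t => (finite_fibre_and_le hb hfl sq t).2.1) r
  refine ⟨D, fun x => (finite_fibre_and_le hb hfl sqU _).2.2, fun r => ?_, fun r T hT g P fst snd sq => ?_⟩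
  · rw [← (isQuotientMap_ofPt ha has).isClosed_preimage]
    haveI : Flat fU.left := hfl.property _ _ fU sqU
    haveI : LocallyOfFinitePresentation fU.left := hfp.property _ _ fU sqU
    haveI : IsSeparated fU.left := hsep.property _ _ fU sqU
    haveI : LocallyQuasiFinite fU.left := hqf.property _ _ fU sqU
    have e : Points.ofPt a ⁻¹' {x | D x < r} = {u : U.left | r ≤ deg fU.left u}ᶜ := by
      ext u
      simp only [Set.mem_preimage, Set.mem_setOf_eq, Set.mem_compl_iff, not_le]
      rw [key sqU u]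
    rw [e]
    exact (isOpen_le_deg fU.left (fun t => (finite_fibre_and_le hb hfl sqU t).2.1) r).isClosed_compl
  · have hrep : Representable snd := representable_of_isPullback sq hfl.rep
    constructor
    · intro h z
      obtain ⟨T₀, b, hb₀, hbs⟩ := hT.atlas
      obtain ⟨t, rfl⟩ := surjective_ofPt_of_repWith le_rfl hbs z
      obtain ⟨P₀, i₀, fst₀, sq₀⟩ : ∃ (P₀ : Over S) (i₀ : P₀ ⟶ T₀) (fst₀ : (yon S).obj P₀ ⟶ P),
          IsPullback fst₀ ((yon S).map i₀) snd b := ⟨_, _, _, hrep.isPullback b⟩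
      have big := sq₀.paste_horiz sq
      rw [Points.map_ofPt, key big]
      exact (hscheme big r).1 (h.property _ _ i₀ sq₀) t
    · intro h
      refine ⟨hrep, fun T₀ P₀ b fst₀ i₀ sq₀ => ?_⟩
      have big := sq₀.paste_horiz sq
      exact (hscheme big r).2 fun t => by rw [← key big, ← Points.map_ofPt, h]

end Groth.Agent.H13AlgSp.Degree
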