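import Groth.Agent.H12AlgSp.FinOpen
import Groth.Agent.H12AlgSp.Bootstrap
import Groth.Agent.H7Weight.Weighting
import Groth.Prelude.Def_Mor2
import Mathlib.AlgebraicGeometry.Morphisms.FlatRank
import Mathlib.AlgebraicGeometry.Fiber

/-!
The degree of the fibres of a separated, flat, locally quasi-finite morphism with finite fibres.
-/

universe u

open CategoryTheory CategoryTheory.Limits AlgebraicGeometry TopologicalSpace
open Groth.Agent.H7Weight

set_option linter.style.haveILetI false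

namespace Groth.Agent.H13AlgSp.Degree

variable {W T : Scheme.{u}} (f : W ⟶ T)

/-- The rank of a fibre over its residue field. -/
noncomputable def deg (t : T) : ℕ :=
  (f.fiberToSpecResidueField t).finrank (IsLocalRing.closedPoint (T.residueField t))

theorem deg_eq_finrank [IsFinite f] [Flat f] (t : T) : deg f t = f.finrank t := by
  exact (Scheme.Hom.finrank_pullback_snd f _ _).trans (by rw [Scheme.fromSpecResidueField_apply])

theorem isFinite_fiber [LocallyQuasiFinite f] [LocallyOfFiniteType f] (t : T) (hfin : (f ⁻¹' {t}).Finite) :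
    IsFinite (f.fiberToSpecResidueField t) := by
  haveI : Finite (f.fiber t) := by
    haveI := hfin.to_subtype
    exact Finite.of_equiv _ (f.fiberHomeo t).toEquiv.symm
  haveI : LocallyQuasiFinite (f.fiberToSpecResidueField t) :=
    MorphismProperty.pullback_snd (P := @LocallyQuasiFinite) f (T.fromSpecResidueField t) inferInstance
  haveI : QuasiCompact (f.fiberToSpecResidueField t) := (quasiCompact_iff_compactSpace _).2 inferInstance
  exact .of_locallyQuasiFinite _

theorem deg_baseChange [Flat f] {W' T' : Scheme.{u}} {g' : W' ⟶ W} {f' : W' ⟶ T'} {q : T' ⟶ T}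
    (sq : IsPullback g' f' f q) (t' : T') (hfin : IsFinite (f.fiberToSpecResidueField (q t'))) :
    deg f' t' = deg f (q t') := by
  haveI : Flat (f.fiberToSpecResidueField (q t')) := MorphismProperty.pullback_snd (P := @Flat) f _ inferInstance
  refine (@Scheme.Hom.finrank_of_isPullback _ _ _ _ _ _ _ _ (isPullback_fiberToSpecResidueField_of_isPullback sq t')
    inferInstance hfin _).trans ?_
  exact congrArg _ (Subsingleton.elim _ _)

/-- Ranks of closed subschemes of finite schemes over a field. -/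
theorem finrank_closedSub {A B : Scheme.{u}} {K : Type u} [Field K] (i : A ⟶ B) [IsClosedImmersion i]
    (b : B ⟶ Spec (CommRingCat.of K)) [IsFinite b] (x : Spec (CommRingCat.of K)) :
    (i ≫ b).finrank x ≤ b.finrank x ∧ ((i ≫ b).finrank x = b.finrank x → IsIso i) := by
  wlog hB : ∃ R, B = Spec R
  · haveI hB' : IsAffine B := isAffine_of_isAffineHom b
    haveI hfl : Flat (B.isoSpec.inv ≫ b) := inferInstance
    obtain ⟨h₁, h₂⟩ := this (i ≫ B.isoSpec.hom) (B.isoSpec.inv ≫ b) x ⟨_, rfl⟩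
    rw [Category.assoc, Iso.hom_inv_id_assoc, Scheme.Hom.finrank_comp_left_of_isIso B.isoSpec.inv b] at h₁ h₂
    exact ⟨h₁, fun h => (isIso_comp_right_iff i B.isoSpec.hom).1 (h₂ h)⟩
  obtain ⟨R, rfl⟩ := hB
  wlog hA : ∃ R', A = Spec R'
  · haveI hA' : IsAffine A := isAffine_of_isAffineHom i
    obtain ⟨h₁, h₂⟩ := this x R (A.isoSpec.inv ≫ i) b ⟨_, rfl⟩
    rw [Category.assoc, Scheme.Hom.finrank_comp_left_of_isIso A.isoSpec.inv (i ≫ b)] at h₁ h₂
    exact ⟨h₁, fun h => by haveI hh := h₂ h; exact IsIso.of_isIso_comp_left A.isoSpec.inv i⟩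
  obtain ⟨R', rfl⟩ := hA
  obtain ⟨φ, rfl⟩ := Spec.map_surjective b
  obtain ⟨ψ, rfl⟩ := Spec.map_surjective i
  have hψ : Function.Surjective ψ := fun y => by
    obtain ⟨z, hz⟩ := (IsClosedImmersion.isAffine_surjective_of_isAffine (f := Spec.map ψ)).2 ((Scheme.ΓSpecIso R').inv y)
    refine ⟨(Scheme.ΓSpecIso R).hom z, ?_⟩
    rw [← CommRingCat.comp_apply, ← Scheme.ΓSpecIso_naturality, CommRingCat.comp_apply]
    erw [hz, ← CommRingCat.comp_apply, Iso.inv_hom_id, CommRingCat.id_apply]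
  have hφ : φ.hom.Finite := (IsFinite.SpecMap_iff φ).1 ‹_›
  letI := φ.hom.toAlgebra
  letI := (φ ≫ ψ).hom.toAlgebra
  haveI : Module.Finite K R := hφ
  haveI : Module.Finite K R' := (RingHom.Finite.of_surjective ψ.hom hψ).comp hφ
  let L : R →ₐ[K] R' := { ψ.hom with commutes' := fun _ => rfl }
  have e₁ : (Spec.map φ).finrank x = Module.finrank K R := by
    have : (Spec.map φ) = Spec.map (CommRingCat.ofHom (algebraMap K R)) := rfl
    rw [this, Scheme.Hom.finrank_SpecMap_algebraMap]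
    exact congrFun (Module.rankAtStalk_eq_finrank_of_free (R := K) (M := R)) x
  have e₂ : (Spec.map ψ ≫ Spec.map φ).finrank x = Module.finrank K R' := by
    have : Spec.map ψ ≫ Spec.map φ = Spec.map (CommRingCat.ofHom (algebraMap K R')) := by
      rw [← Spec.map_comp]; rfl
    rw [this, Scheme.Hom.finrank_SpecMap_algebraMap]
    exact congrFun (Module.rankAtStalk_eq_finrank_of_free (R := K) (M := R')) x
  rw [e₁, e₂]
  refine ⟨LinearMap.finrank_le_finrank_of_surjective (f := L.toLinearMap) hψ, fun h => ?_⟩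
  have hbij : Function.Bijective ψ :=
    ⟨(LinearMap.injective_iff_surjective_of_finrank_eq_finrank (f := L.toLinearMap) h.symm).2 hψ, hψ⟩
  haveI : IsIso ψ := (ConcreteCategory.isIso_iff_bijective ψ).2 hbij
  infer_instance

/-- An open finite over the base contributes at most the degree, with equality iff it contains the fibre. -/
theorem finrank_open_le [Flat f] [IsSeparated f] (O : W.Opens) [IsFinite (O.ι ≫ f)] (t : T)
    (hfin : IsFinite (f.fiberToSpecResidueField t)) :
    (O.ι ≫ f).finrank t ≤ deg f t ∧ ((O.ι ≫ f).finrank t = deg f t ↔ ∀ z, f z = t → z ∈ O) := by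
  let i := pullback.snd O.ι (f.fiberι t)
  let b := f.fiberToSpecResidueField t
  have sq : IsPullback (pullback.fst O.ι (f.fiberι t)) (i ≫ b) (O.ι ≫ f) (T.fromSpecResidueField t) :=
    (IsPullback.of_hasPullback O.ι (f.fiberι t)).paste_vert (IsPullback.of_hasPullback f (T.fromSpecResidueField t))
  have hib : IsFinite (i ≫ b) := MorphismProperty.of_isPullback sq (inferInstance : IsFinite (O.ι ≫ f))
  haveI : IsFinite b := hfin
  haveI : IsFinite i := IsFinite.of_comp i b
  haveI : IsOpenImmersion i := MorphismProperty.pullback_snd (P := @IsOpenImmersion) O.ι _ inferInstance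
  haveI : IsClosedImmersion i := (IsClosedImmersion.iff_isFinite_and_mono _).2 ⟨inferInstance, inferInstance⟩
  obtain ⟨h₁, h₂⟩ := @finrank_closedSub _ _ (T.residueField t) _ i inferInstance b hfin
    (IsLocalRing.closedPoint (T.residueField t))
  have e : (i ≫ b).finrank (IsLocalRing.closedPoint (T.residueField t)) = (O.ι ≫ f).finrank t := by
    rw [Scheme.Hom.finrank_of_isPullback _ _ _ _ sq, Scheme.fromSpecResidueField_apply]
  have hrange : Set.range i = f.fiberι t ⁻¹' (O : Set W) := by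
    rw [IsOpenImmersion.range_pullbackSnd]; simp
  refine ⟨e ▸ h₁, fun h z hz => ?_, fun h => ?_⟩
  · haveI := h₂ (e.trans h)
    obtain ⟨w, rfl⟩ : z ∈ Set.range (f.fiberι t) := by rw [f.range_fiberι]; exact hz
    obtain ⟨a, rfl⟩ := i.homeomorph.surjective w
    exact hrange.le ⟨a, rfl⟩
  · haveI : Surjective i := ⟨fun w => hrange.ge (h _ (by
      have : f.fiberι t w ∈ Set.range (f.fiberι t) := ⟨w, rfl⟩
      rw [f.range_fiberι] at this; exact this))⟩
    haveI : IsIso i := (isIso_iff_isOpenImmersion_and_surjective _).2 ⟨inferInstance, inferInstance⟩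
    haveI : Flat b := MorphismProperty.pullback_snd (P := @Flat) f _ inferInstance
    rw [← e, Scheme.Hom.finrank_comp_left_of_isIso]
    rfl

variable [LocallyQuasiFinite f] [IsSeparated f] [Flat f] [LocallyOfFinitePresentation f]

/-- Etale locally, the fibre lies in an open finite over the base. -/
theorem exists_etale_all (t : T) (hfin : (f ⁻¹' {t}).Finite) :
    ∃ (V : Scheme.{u}) (g : V ⟶ T) (_ : Etale g) (v : V) (O : (pullback f g).Opens),
      g v = t ∧ IsFinite (O.ι ≫ pullback.snd f g) ∧ ∀ z, pullback.snd f g z = v → z ∈ O := by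
  by_cases hne : (f ⁻¹' {t}).Nonempty
  · obtain ⟨Ω, _, _, η, rfl⟩ := exists_geomPt' t
    haveI := finite_pts f η hfin
    haveI := Fintype.ofFinite (Pts f η)
    obtain ⟨w, hw⟩ := hne
    obtain ⟨s₀, -⟩ := exists_pts f η w hw
    obtain ⟨V, g, hg, η', hη', O, hO, hOS⟩ :=
      Groth.Agent.H12AlgSp.exists_etale_finOpen f η Finset.univ ⟨s₀, Finset.mem_univ _⟩
    refine ⟨V, g, hg, pt η', O, congr(pt $hη'), hO.1, fun z hz => ?_⟩
    obtain ⟨s', rfl⟩ := exists_pts (pullback.snd f g) η' z hz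
    exact (hOS s').2 ⟨⟨s'.1 ≫ pullback.fst f g, by
      rw [Category.assoc, pullback.condition, ← Category.assoc, s'.2, hη']⟩, Finset.mem_univ _, rfl⟩
  · haveI : IsEmpty ((⊥ : (pullback f (𝟙 T)).Opens) : Scheme.{u}) := ⟨fun x => x.2⟩
    refine ⟨T, 𝟙 T, inferInstance, t, ⊥, rfl, inferInstance, fun z hz => (hne ⟨pullback.fst f (𝟙 T) z, ?_⟩).elim⟩
    show f (pullback.fst f (𝟙 T) z) = t
    rw [← Scheme.Hom.comp_apply, pullback.condition, Category.comp_id]
    exact hz

theorem exists_nhds (hfin : ∀ t : T, (f ⁻¹' {t}).Finite) (t : T) :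
    ∃ (V : Scheme.{u}) (g : V ⟶ T) (_ : Etale g) (v : V) (V₀ : V.Opens) (O : (pullback f g).Opens),
      g v = t ∧ v ∈ V₀ ∧ IsFinite (O.ι ≫ pullback.snd f g) ∧
      ∀ v' ∈ V₀, deg f t ≤ deg f (g v') ∧
        (deg f (g v') = deg f t → ∀ z, pullback.snd f g z = v' → z ∈ O) := by
  obtain ⟨V, g, hg, v, O, hgv, hO, hall⟩ := exists_etale_all f t (hfin t)
  haveI := hO
  have hff : ∀ v' : V, IsFinite ((pullback.snd f g).fiberToSpecResidueField v') := fun v' =>
    MorphismProperty.of_isPullback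
      (isPullback_fiberToSpecResidueField_of_isPullback (IsPullback.of_hasPullback f g) v')
      (isFinite_fiber f _ (hfin _))
  have hbc : ∀ v' : V, deg (pullback.snd f g) v' = deg f (g v') := fun v' =>
    deg_baseChange f (IsPullback.of_hasPullback f g) v' (isFinite_fiber f _ (hfin _))
  have hv : (O.ι ≫ pullback.snd f g).finrank v = deg f t := by
    rw [((finrank_open_le (pullback.snd f g) O v (hff v)).2).2 hall, hbc, hgv]
  refine ⟨V, g, hg, v, ⟨_, (Scheme.Hom.isLocallyConstant_finrank (O.ι ≫ pullback.snd f g)).isOpen_fiber (deg f t)⟩,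
    O, hgv, hv, hO, fun v' hv' => ?_⟩
  obtain ⟨h₁, h₂⟩ := finrank_open_le (pullback.snd f g) O v' (hff v')
  have hv'' : (O.ι ≫ pullback.snd f g).finrank v' = deg f t := hv'
  refine ⟨by rw [← hbc, ← hv'']; exact h₁, fun h => h₂.1 (by rw [hv'', hbc, h])⟩

theorem isOpen_le_deg (hfin : ∀ t : T, (f ⁻¹' {t}).Finite) (r : ℕ) : IsOpen {t : T | r ≤ deg f t} := by
  refine isOpen_iff_forall_mem_open.2 fun t ht => ?_
  obtain ⟨V, g, hg, v, V₀, O, hgv, hv, -, h⟩ := exists_nhds f hfin t
  refine ⟨g '' V₀, ?_, g.isOpenMap _ V₀.2, v, hv, hgv⟩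
  rintro _ ⟨v', hv', rfl⟩
  exact le_trans ht (h v' hv').1

theorem isFinite_of_deg_const (hfin : ∀ t : T, (f ⁻¹' {t}).Finite) (r : ℕ) (h : ∀ t, deg f t = r) :
    IsFinite f := by
  choose V g hg v V₀ O hgv hv hO hprop using exists_nhds f hfin
  refine Groth.Agent.H12AlgSp.of_fppf_family (S := T) (P := @IsFinite) (Over.homMk f (Category.comp_id f) :
      Over.mk f ⟶ Over.mk (𝟙 T)) (κ := T) (C := fun t => Over.mk ((V₀ t).ι ≫ g t))
    (fun t => Over.homMk ((V₀ t).ι ≫ g t) (Category.comp_id _))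
    (fun t => by haveI := hg t; exact inferInstanceAs (Flat ((V₀ t).ι ≫ g t)))
    (fun t => by haveI := hg t; exact inferInstanceAs (LocallyOfFinitePresentation ((V₀ t).ι ≫ g t)))
    (fun t => ⟨t, ⟨v t, hv t⟩, hgv t⟩) fun t => ?_
  show IsFinite (pullback.snd f ((V₀ t).ι ≫ g t))
  let f' := pullback.snd f (g t)
  have sq : IsPullback ((f' ⁻¹ᵁ V₀ t).ι ≫ pullback.fst f (g t)) (f' ∣_ V₀ t) f ((V₀ t).ι ≫ g t) :=
    (isPullback_morphismRestrict f' (V₀ t)).flip.paste_horiz (IsPullback.of_hasPullback f (g t))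
  rw [← sq.isoPullback_inv_snd, MorphismProperty.cancel_left_of_respectsIso @IsFinite]
  haveI := hO t
  have hk : IsFinite ((O t).ι ∣_ (f' ⁻¹ᵁ V₀ t) ≫ f' ∣_ V₀ t) := by
    rw [← morphismRestrict_comp]
    exact IsZariskiLocalAtTarget.restrict (P := @IsFinite) (hO t) (V₀ t)
  haveI : Surjective ((O t).ι ∣_ (f' ⁻¹ᵁ V₀ t)) := ⟨fun ⟨z, hz⟩ =>
    ⟨⟨⟨z, (hprop t (f' z) hz).2 (by rw [h, h]) z rfl⟩, hz⟩, Subtype.ext (morphismRestrict_base_coe _ _ _)⟩⟩
  haveI : IsIso ((O t).ι ∣_ (f' ⁻¹ᵁ V₀ t)) :=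
    (isIso_iff_isOpenImmersion_and_surjective _).2 ⟨inferInstance, inferInstance⟩
  exact (MorphismProperty.cancel_left_of_respectsIso @IsFinite _ _).1 hk

/-- A base change is finite locally free of degree `r` iff the degree is `r` everywhere. -/
theorem isFinLocFreeOfDeg_iff (hfin : ∀ t : T, (f ⁻¹' {t}).Finite) (r : ℕ) :
    Mor2.IsFinLocFreeOfDeg r f ↔ ∀ t, deg f t = r := by
  constructor
  · rintro ⟨⟨hf, -, -⟩, hr⟩ t
    haveI := hf
    rw [deg_eq_finrank, hr]
  · intro h
    haveI := isFinite_of_deg_const f hfin r h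
    exact ⟨⟨inferInstance, inferInstance, inferInstance⟩, fun t => by rw [← deg_eq_finrank, h]⟩

end Groth.Agent.H13AlgSp.Degree
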