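import Groth.Agent.H12AlgSp.RelDim
import Groth.Agent.H12AlgSp.NbhdLoci
import Groth.Agent.H12AlgSp.QC
import Groth.Agent.S1240

/-!
Relative dimension over a dense open subspace.
-/

set_option backward.isDefEq.respectTransparency false

universe u

open CategoryTheory CategoryTheory.Limits AlgebraicGeometry Topology TopologicalSpace
open AlgSp Groth.Agent.H12AlgSp

namespace Groth.Agent.H13AlgSp

variable {S : Scheme.{u}}

/-- An open subspace in a chart. -/
theorem exists_open_in_chart {V Y : Sp S} {j : V ⟶ Y} (hj : RepWith @IsOpenImmersion j) {T : Over S}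
    (b : (yon S).obj T ⟶ Y) :
    ∃ (W : Over S) (w : W ⟶ T) (fst : (yon S).obj W ⟶ V), IsPullback fst ((yon S).map w) j b ∧
      IsOpenImmersion w.left ∧ Set.range w.left = Points.ofPt b ⁻¹' Set.range (Points.map j) := by
  obtain ⟨W, w, fst, sq⟩ := hj.rep b
  obtain ⟨fst', rfl⟩ : ∃ f, f = fst := ⟨fst, rfl⟩
  refine ⟨W, _, _, sq, hj.property b _ _ sq, Set.ext fun t => ⟨?_, ?_⟩⟩
  · rintro ⟨z, rfl⟩
    show Points.ofPt b (w.left z) ∈ Set.range (Points.map j)
    rw [← ofPt_map, ← sq.w, ← Points.map_ofPt]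
    exact ⟨_, rfl⟩
  · rintro ⟨y, hy⟩
    obtain ⟨p, -, hp⟩ := exists_point_of_isPullback sq y (Points.ofScheme T t)
      (by rw [← Points.ofPt_eq_map_ofScheme, hy])
    obtain ⟨z, rfl⟩ := (Points.schemeHomeo W).surjective p
    exact ⟨z, (Points.schemeHomeo T).injective ((Points.map_yon_map_apply _ z).symm.trans hp)⟩

theorem isRetrocompact_chart {V Y : Sp S} {j : V ⟶ Y} (hj : RepWith @IsOpenImmersion j)
    (hq : IsQuasiCompactMor j) {T : Over S} (b : (yon S).obj T ⟶ Y) :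
    IsRetrocompact (Points.ofPt b ⁻¹' Set.range (Points.map j)) := by
  intro O hOc hO
  let T' : Over S := Over.mk (Scheme.Opens.ι ⟨O, hO⟩ ≫ T.hom)
  let i : T' ⟶ T := Over.homMk (Scheme.Opens.ι ⟨O, hO⟩) rfl
  obtain ⟨W, w, fst, sq, -, hr⟩ := exists_open_in_chart hj ((yon S).map i ≫ b)
  have : CompactSpace T'.left := isCompact_iff_compactSpace.1 hOc
  have hZ : IsQuasiCompactSp ((yon S).obj T') :=
    ⟨T', 𝟙 _, repWith_id _ _, repWith_id _ _, inferInstance⟩
  have := compactSpace_points_of_isQuasiCompactSp (hq (IsAlgSpace.yon_obj T') hZ _ _ _ sq)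
  have : CompactSpace W.left := (Points.schemeHomeo W).symm.compactSpace
  have hc := (isCompact_range w.left.continuous).image i.left.continuous
  rw [hr] at hc
  convert hc using 1
  ext t
  simp only [Set.mem_inter_iff, Set.mem_image, Set.mem_preimage]
  constructor
  · rintro ⟨ht, htO⟩
    exact ⟨⟨t, htO⟩, by rw [ofPt_map]; exact ht, rfl⟩
  · rintro ⟨z, hz, rfl⟩
    rw [ofPt_map] at hz
    exact ⟨hz, z.2⟩

theorem fibreDimAt_le_of_dense_open {X Y V P : Sp S} (hX : IsAlgSpace X) (hY : IsAlgSpace Y) {f : X ⟶ Y}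
    {j : V ⟶ Y} (d : ℕ) (hf1 : LocP @Flat f) (hf2 : LocP @LocallyOfFiniteType f)
    (hj1 : RepWith @IsOpenImmersion j) (hj2 : Dense (Set.range (Points.map j)))
    {fst : P ⟶ X} {snd : P ⟶ V} (hP : IsPullback fst snd f j)
    (hV : ∀ x, HasAtMor (fun _ _ h u => FlatMor.fibreDimAt h u ≤ (d : WithBot ℕ∞)) snd x)
    (h : LocP @LocallyOfFinitePresentation f ∨ IsQuasiCompactMor j) (x : Points X) :
    HasAtMor (fun _ _ h u => FlatMor.fibreDimAt h u ≤ (d : WithBot ℕ∞)) f x := by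
  obtain ⟨U, T, a, b, g, u, ha, hb, w, rfl⟩ := exists_chart_at hX hY f x
  have : Flat g.left := hf1 a b g ha hb w
  have : LocallyOfFiniteType g.left := hf2 a b g ha hb w
  obtain ⟨W, w', fst', -, hw', hr⟩ := exists_open_in_chart hj1 b
  let O : T.left.Opens := ⟨Points.ofPt b ⁻¹' Set.range (Points.map j), hr ▸ w'.left.isOpenEmbedding.isOpen_range⟩
  refine ((etInvAt_fibreDimAt (· ≤ (d : WithBot ℕ∞))).hasAtMor_iff hf2 ha hb w u).2
    (S1240.result g.left O (hj2.preimage (isOpenMap_ofPt_of_repWith etale_le_universallyOpen hb)) d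
      (fun v hv => ?_) ?_ u)
  · obtain ⟨y, hy⟩ := hv
    obtain ⟨p, hp, -⟩ := exists_point_of_isPullback hP (Points.ofPt a v) y
      (by rw [Points.map_ofPt, w, ofPt_map]; exact hy.symm)
    obtain ⟨U₁, V₁, a₁, b₁, h₁, u₁, ha₁, hb₁, w₁, e₁, hu₁⟩ := hV p
    have hfst : RepWith @Etale fst := repWith_of_isPullback hP.flip (repWith_etale_of_openImmersion hj1)
    refine ((etInvAt_fibreDimAt (· ≤ (d : WithBot ℕ∞))).hasAtMor_iff hf2 ha hb w v).1
      ⟨U₁, V₁, a₁ ≫ fst, b₁ ≫ j, h₁, u₁, repWith_comp ha₁ hfst,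
        repWith_comp hb₁ (repWith_etale_of_openImmersion hj1), ?_, ?_, hu₁⟩
    · rw [Category.assoc, hP.w, ← Category.assoc, w₁, Category.assoc]
    · rw [← Points.map_ofPt, e₁, hp]
  · rcases h with h | h
    · exact Or.inl (h a b g ha hb w)
    · exact Or.inr (isRetrocompact_chart hj1 h b)

end Groth.Agent.H13AlgSp
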