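import Groth.Agent.H12AlgSp.Codim
import Groth.Agent.H13AlgSp.AffineLocal
import Groth.Agent.H18Et.PropAB
import Groth.Agent.H05EGA4.Topo

/-!
Dimension along integral morphisms.
-/

universe u

open CategoryTheory CategoryTheory.Limits AlgebraicGeometry Opposite Topology
open AlgSp Groth.Agent.H12AlgSp

namespace Groth.Agent.H13AlgSp

variable {S : Scheme.{u}}

theorem dim_le_of_isIntegralMor {X Y : Sp S} (hY : IsAlgSpace Y) {f : X ⟶ Y}
    (hf : IsIntegralMor f) : dim X ≤ dim Y := by
  refine iSup_le fun V => iSup₂_le fun a ha => ?_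
  obtain ⟨U, b, hb, hbs⟩ := hY.atlas
  obtain ⟨W, i, q, sq⟩ := (isIntegralMor_iff.1 hf).1 b
  have hi : IsIntegralHom i.left := (isIntegralMor_iff.1 hf).2 b _ i sq
  have hq : RepWith @Etale q := repWith_of_isPullback sq.flip hb
  have hqs : RepWith @Surjective q := repWith_of_isPullback sq.flip hbs
  obtain ⟨T, c, t', sqT⟩ := hq.1 a
  obtain ⟨t, rfl⟩ := (yon S).map_surjective t'
  have hce : Etale c.left := hq.2 a _ c sqT
  have hcs : Surjective c.left := hqs.2 a _ c sqT
  have hte : Etale t.left := by
    refine etale_of_repWith t hq ?_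
    rw [sqT.w]
    exact repWith_comp ((repWith_yon_map_iff _ c).2 hce) ha
  refine le_trans ?_ (le_iSup_of_le U (le_iSup₂_of_le b hb le_rfl))
  refine le_trans (Groth.Agent.H17.topologicalKrullDim_le_of_generalizingMap c.left
    (Flat.generalizingMap _) c.left.surjective) ?_
  refine le_trans (Groth.Agent.H17.topologicalKrullDim_le_of_noSpecializationsInFibres t.left
    t.left.continuous fun x y h e => ?_)
    (Groth.Agent.H17.topologicalKrullDim_le_of_noSpecializationsInFibres i.left i.left.continuous
      fun x y h e => (Groth.Agent.H18Et.eq_of_specializes_of_isIntegralHom i.left e.symm h).symm)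
  have := lqf_of_etale t.left
  exact Groth.Agent.H05EGA4.eq_of_specializes_of_fibre t.left h e

theorem dim_le_of_isIntegralMor_surjective {X Y : Sp S} {f : X ⟶ Y}
    (hf : IsIntegralMor f) (hs : IsSurjectiveMor f) : dim Y ≤ dim X := by
  refine iSup_le fun V => iSup₂_le fun b hb => ?_
  obtain ⟨W, i, q, sq⟩ := (isIntegralMor_iff.1 hf).1 b
  have hi : IsIntegralHom i.left := (isIntegralMor_iff.1 hf).2 b _ i sq
  have hq : RepWith @Etale q := repWith_of_isPullback sq.flip hb
  have hsurj : Function.Surjective i.left := fun v => by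
    obtain ⟨x, hx⟩ := hs (Points.ofPt b v)
    obtain ⟨w, -, hw⟩ := exists_point_of_isPullback sq x (Points.ofScheme V v)
      (by rw [hx, ← Points.ofPt_eq_map_ofScheme])
    obtain ⟨w, rfl⟩ := (Points.schemeEquiv W).surjective w
    refine ⟨w, (Points.schemeEquiv V).injective (Eq.trans ?_ hw)⟩
    change Points.ofScheme _ _ = Points.map _ (Points.ofScheme _ _)
    rw [← Points.ofPt_eq_map_ofScheme, ← Category.comp_id ((yon S).map i), ofPt_map]
  refine le_trans ?_ (le_iSup_of_le W (le_iSup₂_of_le q hq le_rfl))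
  exact Groth.Agent.H17.topologicalKrullDim_le_of_specializingMap i.left
    i.left.isClosedMap.specializingMap hsurj

end Groth.Agent.H13AlgSp
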