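import Groth.Agent.H13AlgSp.IntegralGenFinite
import Groth.Agent.H12AlgSp.DimFormula

/-!
Dimension of integral spaces which are proper or locally of finite type over a Noetherian one.
-/

set_option backward.isDefEq.respectTransparency false

universe u

open CategoryTheory CategoryTheory.Limits AlgebraicGeometry Opposite Topology
open AlgSp Groth.Agent.H12AlgSp

namespace Groth.Agent.H13AlgSp.DimProper

section Scheme

open Groth.Agent.H8Props.FieldDim Groth.Agent.H17.DimIneq

variable {X S : Scheme.{u}} (f : X ⟶ S)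

/-- A specialisation of a point with big fibre dimension is followed by one with big fibre dimension. -/
theorem exists_specializes_of [LocallyOfFiniteType f] (n : ℕ) {x z : X} {y' : S} (hxz : x ⤳ z)
    (hz : f.base z = y') (hx : (n : WithBot ℕ∞) ≤ cdim (f.asFiber x)) :
    ∃ x', x ⤳ x' ∧ f.base x' = y' ∧ (n : WithBot ℕ∞) ≤ cdim (f.asFiber x') := by
  rcases n with _ | m
  · exact ⟨z, hxz, hz, by
      haveI := locallyOfFiniteType_fiberToSpec f (f z)
      obtain ⟨s, hs⟩ := exists_nat_cdim (k := S.residueField (f z)) (f.fiberToSpecResidueField (f z)) (f.asFiber z)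
      rw [hs]; exact_mod_cast Nat.zero_le s⟩
  let I := Scheme.IdealSheafData.vanishingIdeal (X := X) ⟨closure {x}, isClosed_closure⟩
  let i := I.subschemeι
  have hr : Set.range i.base = closure {x} := by
    show Set.range I.subschemeι = _
    rw [Scheme.IdealSheafData.range_subschemeι, Scheme.IdealSheafData.coe_support_vanishingIdeal]
    rfl
  obtain ⟨a, ha⟩ : x ∈ Set.range i.base := hr ▸ subset_closure rfl
  obtain ⟨b, hb⟩ : z ∈ Set.range i.base := hr ▸ hxz.mem_closure
  have hab : a ⤳ b := i.isEmbedding.isInducing.specializes_iff.1 (by rw [ha, hb]; exact hxz)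
  let g := i ≫ f
  have hcd : ∀ c : I.subscheme, cdim (g.asFiber c) = cdim (f.asFiber (i.base c)) := fun c => by
    rw [cdim_eq_dim_inter, cdim_eq_dim_inter, g.fiberι_asFiber, f.fiberι_asFiber,
      i.isEmbedding.closure_eq_preimage_closure_image, Set.image_singleton]
    rw [show (i.base ⁻¹' closure {i.base c} ∩ g ⁻¹' {g c} : Set I.subscheme) =
      i.base ⁻¹' (closure {i.base c} ∩ f ⁻¹' {f (i.base c)}) from rfl, dim_preimage i.isEmbedding,
      Set.inter_eq_left.2]
    refine Set.inter_subset_left.trans (closure_minimal (Set.singleton_subset_iff.2 ⟨c, rfl⟩) ?_)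
    exact i.isClosedEmbedding.isClosed_range
  haveI := locallyOfFiniteType_fiberToSpec g (g a)
  haveI := locallyOfFiniteType_fiberToSpec g (g b)
  have hga : ¬ FlatMor.fibreDimAt g a ≤ (m : WithBot ℕ∞) := fun hle => by
    have h1 : cdim (g.asFiber a) ≤ FlatMor.fibreDimAt g a := by
      show _ ≤ FlatMor.localDim _ (g.asFiber a)
      rw [localDim_eq (k := S.residueField (g a)) (g.fiberToSpecResidueField (g a))]
      exact le_iSup (fun η : {η // η ⤳ g.asFiber a} => cdim η.1) ⟨_, specializes_rfl⟩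
    rw [hcd a, ha] at h1
    have := hx.trans (h1.trans hle)
    norm_cast at this
    omega
  have hgb : ¬ FlatMor.fibreDimAt g b ≤ (m : WithBot ℕ∞) := fun hle =>
    hga (hab.mem_open (Groth.Agent.H7Flat.isOpen_fibreDimAt_le' g _) hle)
  by_contra hcon
  push Not at hcon
  refine hgb ?_
  show FlatMor.localDim _ (g.asFiber b) ≤ _
  rw [localDim_eq (k := S.residueField (g b)) (g.fiberToSpecResidueField (g b))]
  refine iSup_le fun η => ?_
  obtain ⟨η, hη⟩ := η
  have hηb : g (g.fiberι _ η) = g b := (g.range_fiberι _).subset (Set.mem_range_self η)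
  have e : cdim η = cdim (g.asFiber (g.fiberι _ η)) := by
    rw [cdim_eq_dim_inter, cdim_eq_dim_inter, g.fiberι_asFiber, hηb]
  show cdim η ≤ _
  rw [e, hcd]
  have h2 : x ⤳ i.base (g.fiberι _ η) := by
    refine specializes_iff_mem_closure.mpr ?_
    rw [← hr]; exact ⟨_, rfl⟩
  have h3 : f.base (i.base (g.fiberι _ η)) = y' := by
    rw [← hz, ← hb]; exact hηb
  have h4 := hcon _ h2 h3
  haveI := locallyOfFiniteType_fiberToSpec f (f (i.base (g.fiberι _ η)))
  obtain ⟨s, hs⟩ := exists_nat_cdim (k := S.residueField (f (i.base (g.fiberι _ η))))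
    (f.fiberToSpecResidueField (f (i.base (g.fiberι _ η))))
    (f.asFiber (i.base (g.fiberι _ η)))
  rw [hs] at h4 ⊢
  norm_cast at h4 ⊢
  omega


theorem natCast_le_cdim_iff [LocallyOfFiniteType f] (x : X) (n : ℕ) :
    (n : WithBot ℕ∞) ≤ cdim (f.asFiber x) ↔ (n : Cardinal.{u}) ≤ Dual3.resTrdeg f x := by
  obtain ⟨s, hs, hs'⟩ := exists_trdeg_fiber f (f.asFiber x)
  rw [f.fiberι_asFiber] at hs'
  rw [hs, show Dual3.resTrdeg f x = (s : Cardinal.{u}) from hs', Nat.cast_le]
  exact_mod_cast Iff.rfl

end Scheme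

variable {S : Scheme.{u}}

theorem le_height_lift {P : Sp S} (hP : IsAlgSpace P) (hd : IsDecent P) {V U : Over S}
    {a : (yon S).obj U ⟶ P} (ha : RepWith @Etale a) (has : RepWith @Surjective a)
    {snd : P ⟶ (yon S).obj V} {g : U ⟶ V} (w : a ≫ snd = (yon S).map g)
    (hft : LocP @LocallyOfFiniteType snd) (hcl : IsClosedMap (Points.map snd)) (n : ℕ) (c : LTSeries V.left) :
    ∀ u : U.left, g.left u = c.last → (n : Cardinal.{u}) ≤ Dual3.resTrdeg g.left u →
      ∃ u' : U.left, Points.ofPt a u' = Points.ofPt a u ∧ ((c.length + n : ℕ) : ℕ∞) ≤ Order.height u' := by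
  have hid : RepWith @Etale (𝟙 ((yon S).obj V)) := repWith_of_isIso _
  have w' : a ≫ snd = (yon S).map g ≫ 𝟙 _ := by rw [w, Category.comp_id]
  have : LocallyOfFiniteType g.left := hft a (𝟙 _) g ha hid w'
  have hmap : ∀ t, Points.map snd (Points.ofPt a t) = Points.schemeHomeo V (g.left t) := fun t => by
    rw [Points.map_ofPt, w, ← Category.comp_id ((yon S).map g), ofPt_map, Points.ofPt_eq_map_ofScheme,
      Points.map_id]
    rfl
  induction c using RelSeries.inductionOn' with
  | singleton y =>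
    intro u hu hn
    refine ⟨u, rfl, ?_⟩
    have h := ((natCast_le_cdim_iff g.left u n).2 hn).trans
      (Groth.Agent.H17.DimIneq.cdim_le_height g.left (g.left.asFiber u))
    rw [g.left.fiberι_asFiber] at h
    rw [RelSeries.singleton_length, Nat.zero_add]
    exact WithBot.coe_le_coe.1 h
  | snoc c y hy ih =>
    intro u huy hn
    rw [RelSeries.last_snoc] at huy
    have hsp : g.left u ⤳ c.last := huy ▸ (show c.last ≤ y from le_of_lt hy)
    obtain ⟨q, hq, hqc⟩ : Points.schemeHomeo V c.last ∈ Points.map snd '' closure {Points.ofPt a u} := by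
      refine closure_minimal ?_ (hcl _ isClosed_closure)
        ((hsp.map (Points.schemeHomeo V).continuous).mem_closure)
      rintro _ rfl
      exact ⟨_, subset_closure rfl, hmap u⟩
    obtain ⟨z, rfl⟩ := surjective_ofPt_of_repWith le_rfl has q
    obtain ⟨u₁, hu₁z, hu₁⟩ := generalizingMap_chart hd ha (specializes_iff_mem_closure.2 hq)
    have hg₁ : g.left u₁ = g.left u := (Points.schemeHomeo V).injective (by rw [← hmap, ← hmap, hu₁])
    have hgz : g.left z = c.last := (Points.schemeHomeo V).injective (by rw [← hmap, hqc])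
    have hn₁ : (n : Cardinal.{u}) ≤ Dual3.resTrdeg g.left u₁ :=
      ((etInvAt_resTrdeg fun s => (n : Cardinal.{u}) ≤ s).chart_iff (locP_top snd) ha hid ha hid w' w'
        hu₁).2 hn
    obtain ⟨u₂, h12, hu₂, hn₂⟩ :=
      exists_specializes_of g.left n hu₁z hgz ((natCast_le_cdim_iff g.left u₁ n).2 hn₁)
    obtain ⟨u₂', he₂, hh⟩ := ih u₂ hu₂ ((natCast_le_cdim_iff g.left u₂ n).1 hn₂)
    have hs : Points.ofPt a u ⤳ Points.ofPt a u₂' := by
      rw [he₂, ← hu₁]
      exact h12.map (Points.continuous_ofPt a)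
    obtain ⟨u', hu'₂, hu'⟩ := generalizingMap_chart hd ha hs
    refine ⟨u', hu', ?_⟩
    have hg' : g.left u' = y := ((Points.schemeHomeo V).injective (by rw [← hmap, ← hmap, hu'])).trans huy
    have hg₂ : g.left u₂' = c.last :=
      ((Points.schemeHomeo V).injective (by rw [← hmap, ← hmap, he₂])).trans hu₂
    have hlt : u₂' < u' := lt_of_le_not_ge hu'₂ fun h => (ne_of_lt (show c.last < y from hy))
      (hg₂.symm.trans ((congrArg g.left.base (Specializes.antisymm (show u₂' ⤳ u' from h) hu'₂).eq).trans hg'))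
    refine le_trans ?_ (Order.height_add_one_le hlt)
    rw [RelSeries.snoc_length, Nat.add_right_comm, Nat.cast_add, Nat.cast_one]
    exact add_le_add hh le_rfl

theorem dim_le_dim_add {X Y : Space S} {f : X ⟶ Y} (hY : IsLocNoethSp Y.obj) (hXi : IsIntegralSp X.obj)
    (hft : LocP @LocallyOfFiniteType f.hom) {x : Points X.obj}
    (hx : IsGenericPoint x (Set.univ : Set (Points X.obj))) (r : ℕ)
    (hr : HasAtMor (fun _ _ h u => Dual3.resTrdeg h u = (r : Cardinal.{u})) f.hom x) :
    AlgSp.dim X.obj ≤ AlgSp.dim Y.obj + ((r : ℕ∞) : WithBot ℕ∞) := by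
  refine iSup_le fun U₀ => iSup₂_le fun a₀ ha₀ => topologicalKrullDim_le_of_stalks _ fun u₀ => ?_
  obtain ⟨U, V, a, b, h, u, ha, hb, w, hu⟩ :=
    exists_chart_at X.property Y.property f.hom (Points.ofPt a₀ u₀)
  rw [ringKrullDim_stalk_chart_eq X.property ha₀ ha hu.symm]
  have := stalkDim_add_trdeg_le Y.property hY hft ha hb w u (r : Cardinal.{u}) (fun ξ _ hξ s hs => by
    rw [(GenFinite.codimZero_iff_eq X.property hXi hx ξ).1 hξ] at hs
    obtain ⟨U', V', a', b', h', u', ha', hb', w', rfl⟩ :=
      exists_chart_at X.property Y.property f.hom x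
    have e1 := ((etInvAt_resTrdeg (· = s)).hasAtMor_iff (locP_top _) ha' hb' w' u').1 hs
    have e2 := ((etInvAt_resTrdeg (· = (r : Cardinal.{u}))).hasAtMor_iff (locP_top _) ha' hb' w' u').1 hr
    exact (e1.symm.trans e2).le)
  rw [Cardinal.toENat_nat] at this
  refine ((le_add_of_nonneg_right (WithBot.coe_le_coe.2 bot_le)).trans this).trans ?_
  refine add_le_add ?_ le_rfl
  refine le_trans ?_ (le_iSup_of_le V (le_iSup₂_of_le b hb le_rfl))
  rw [Groth.Agent.H17.topologicalKrullDim_eq_krullDim_specialization, ringKrullDim_stalk_eq_coheight]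
  exact Order.coheight_le_krullDim _

theorem dim_add_le_dim {X Y : Space S} {f : X ⟶ Y} (hXi : IsIntegralSp X.obj) (hYi : IsIntegralSp Y.obj)
    (hp : IsProperMor f.hom) (hd : IsDominantMor f.hom) {x : Points X.obj}
    (hx : IsGenericPoint x (Set.univ : Set (Points X.obj))) (r : ℕ)
    (hr : HasAtMor (fun _ _ h u => Dual3.resTrdeg h u = (r : Cardinal.{u})) f.hom x) :
    AlgSp.dim Y.obj + ((r : ℕ∞) : WithBot ℕ∞) ≤ AlgSp.dim X.obj := by
  have := hYi.2.2
  have := quasiSober_of_isDecent Y.property hYi.2.1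
  let y := genericPoint (Points Y.obj)
  have hy : IsGenericPoint y (Set.univ : Set (Points Y.obj)) := genericPoint_spec _
  have hxy : Points.map f.hom x = y := map_generic Y.property hYi.2.1 hd hx hy
  have key : ∀ (V : Over S) (b : (yon S).obj V ⟶ Y.obj), RepWith @Etale b → ∀ c : LTSeries V.left,
      ((c.length + r : ℕ) : WithBot ℕ∞) ≤ AlgSp.dim X.obj := by
    intro V b hb c
    obtain ⟨η, hη, hηc⟩ := Groth.Agent.H8Props.exists_genericPoints_specializes c.last
    obtain ⟨c', hlen, hc'⟩ : ∃ c' : LTSeries V.left, c.length ≤ c'.length ∧ c'.last = η := by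
      by_cases e : c.last = η
      · exact ⟨c, le_rfl, e⟩
      · refine ⟨c.snoc η (lt_of_le_not_ge hηc fun h =>
          e (Specializes.antisymm (show c.last ⤳ η from h) hηc).eq), ?_, RelSeries.last_snoc _ _ _⟩
        rw [RelSeries.snoc_length]; exact Nat.le_succ _
    have hbη : Points.ofPt b η = y :=
      (GenFinite.codimZero_iff_eq Y.property hYi hy _).1 ((codimZero_iff_mem_genericPoints Y.property hb η).2 hη)
    have sq := IsPullback.of_hasPullback f.hom b
    have hP := isAlgSpace_pullback Y.property.diag X.property (IsAlgSpace.yon_obj V) f.hom b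
    have hfst : RepWith @Etale (pullback.fst f.hom b) := repWith_of_isPullback sq.flip hb
    have hPd : IsDecent (pullback f.hom b) :=
      isDecent_of_isDecentMor _ (isDecentMor_of_representable hfst.1) hXi.2.1
    have hprop := isProperMor_of_isPullback X.property Y.property (IsAlgSpace.yon_obj V) sq hp
    obtain ⟨U, a, ha, has⟩ := hP.atlas
    obtain ⟨g, hg⟩ := (yon S).map_surjective (a ≫ pullback.snd f.hom b)
    obtain ⟨p, hp₁, hp₂⟩ := exists_point_of_isPullback sq x (Points.schemeHomeo V η) (by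
      rw [hxy, ← hbη, Points.ofPt_eq_map_ofScheme]; rfl)
    obtain ⟨u, rfl⟩ := surjective_ofPt_of_repWith le_rfl has p
    have hax : RepWith @Etale (a ≫ pullback.fst f.hom b) := repWith_comp ha hfst
    have wx : (a ≫ pullback.fst f.hom b) ≫ f.hom = (yon S).map g ≫ b := by
      rw [hg, Category.assoc, Category.assoc, pullback.condition]
    have hur : Dual3.resTrdeg g.left u = (r : Cardinal.{u}) :=
      ((etInvAt_resTrdeg (· = (r : Cardinal.{u}))).hasAtMor_iff (locP_top _) hax hb wx u).1 (by
        rw [← Points.map_ofPt, hp₁]; exact hr)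
    have hgu : g.left u = c'.last := by
      refine (Points.schemeHomeo V).injective ?_
      rw [hc', ← hp₂, Points.map_ofPt, ← hg, ← Category.comp_id ((yon S).map g), ofPt_map,
        Points.ofPt_eq_map_ofScheme, Points.map_id]
      rfl
    obtain ⟨u', -, hu'⟩ := le_height_lift hP hPd ha has hg.symm hprop.2.1.1
      (hprop.2.2 (IsAlgSpace.yon_obj V) (𝟙 _) (𝟙 _) _ (IsPullback.of_horiz_isIso ⟨by simp⟩)) r c' u hgu hur.ge
    refine le_trans ?_ (le_iSup_of_le U (le_iSup₂_of_le _ hax le_rfl))
    rw [Groth.Agent.H17.topologicalKrullDim_eq_krullDim_specialization]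
    refine le_trans ?_ (Order.height_le_krullDim u')
    refine le_trans ?_ (WithBot.coe_le_coe.2 hu')
    exact WithBot.coe_le_coe.2 (Nat.cast_le.2 (by omega))
  induction hX : AlgSp.dim X.obj using WithBot.recBotCoe with
  | bot =>
    obtain ⟨V, b, hb, hbs⟩ := Y.property.atlas
    obtain ⟨v, -⟩ := surjective_ofPt_of_repWith le_rfl hbs y
    exact absurd ((key V b hb (RelSeries.singleton _ v)).trans hX.le) (by simp)
  | coe M =>
  induction M using ENat.recTopCoe with
  | top => exact le_top
  | coe m =>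
  have hle : ∀ (V : Over S) (b : (yon S).obj V ⟶ Y.obj), RepWith @Etale b → ∀ c : LTSeries V.left,
      c.length + r ≤ m := fun V b hb c => by
    have := (key V b hb c).trans hX.le
    exact_mod_cast this
  obtain ⟨V₀, b₀, hb₀, hbs₀⟩ := Y.property.atlas
  obtain ⟨v₀, -⟩ := surjective_ofPt_of_repWith le_rfl hbs₀ y
  have hrm : r ≤ m := le_trans (Nat.le_add_left _ _) (hle V₀ b₀ hb₀ (RelSeries.singleton _ v₀))
  have hdimY : AlgSp.dim Y.obj ≤ ((m - r : ℕ) : WithBot ℕ∞) := by
    refine iSup_le fun V => iSup₂_le fun b hb => ?_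
    rw [Groth.Agent.H17.topologicalKrullDim_eq_krullDim_specialization]
    refine iSup_le fun c => ?_
    have := hle V b hb c
    exact_mod_cast (by omega : c.length ≤ m - r)
  refine (add_le_add hdimY le_rfl).trans (le_of_eq ?_)
  have e : (m - r) + r = m := Nat.sub_add_cancel hrm
  change ((((m - r : ℕ) : ℕ∞) : WithBot ℕ∞)) + ((r : ℕ∞) : WithBot ℕ∞) = ((m : ℕ∞) : WithBot ℕ∞)
  rw [← WithBot.coe_add, ← Nat.cast_add, e]

end Groth.Agent.H13AlgSp.DimProper
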