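import Groth.Agent.H13AlgSp.GeomFinrank
import Groth.Agent.H13AlgSp.DegreeSpace
import Groth.Agent.H12AlgSp.HilbQuot
import Groth.Agent.H17.Separated

/-!
Stratification of an algebraic space by the number of geometric points in the fibres of an etale chart.
-/

universe u

open CategoryTheory CategoryTheory.Limits AlgebraicGeometry Opposite Topology TopologicalSpace
open AlgSp Groth.Agent.H7Weight Groth.Agent.H12AlgSp

set_option linter.style.haveILetI false
set_option backward.isDefEq.respectTransparency false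

namespace Groth.Agent.H13AlgSp.SepStrat

variable {S : Scheme.{u}} {X : Sp S} {U : Over S}

/-- Some geometric fibre over `x` has at least `n` points. -/
def Big (p : (yon S).obj U ⟶ X) (n : ℕ) (x : Points X) : Prop :=
  ∃ (T Y : Over S) (ξ : (yon S).obj T ⟶ X) (a : Y ⟶ T) (b : Y ⟶ U)
    (_ : IsPullback ((yon S).map b) ((yon S).map a) p ξ) (Ω : Type u) (_ : Field Ω) (_ : IsAlgClosed Ω)
    (η : Spec (CommRingCat.of Ω) ⟶ T.left) (s : Finset (Pts a.left η)),
      Points.ofPt ξ (pt η) = x ∧ n ≤ s.card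

variable {p : (yon S).obj U ⟶ X}

theorem Big.mono {n m : ℕ} (hnm : n ≤ m) {x : Points X} (h : Big p m x) : Big p n x := by
  obtain ⟨T, Y, ξ, a, b, sq, Ω, _, _, η, s, hx, hs⟩ := h
  exact ⟨T, Y, ξ, a, b, sq, Ω, inferInstance, inferInstance, η, s, hx, hnm.trans hs⟩

theorem big_zero (hp : RepWith @Etale p) (x : Points X) : Big p 0 x := by
  induction x using Points.ind with | h q =>
  obtain ⟨Y, a, b, sq⟩ := Hilb.exists_square hp.1 q.toHom
  obtain ⟨Ω, _, _, η, hη⟩ := exists_geomPt' (V := q.pt.left) (IsLocalRing.closedPoint q.K)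
  exact ⟨q.pt, Y, q.toHom, a, b, sq, Ω, inferInstance, inferInstance, η, ∅,
    (Points.ofPt_toHom q _), Nat.zero_le _⟩

theorem big_one (hp : RepWith @Etale p) (hps : RepWith @Surjective p) (x : Points X) : Big p 1 x := by
  obtain ⟨T, Y, ξ, a, b, sq, Ω, _, _, η, s, hx, -⟩ := big_zero hp x
  obtain ⟨y, hy⟩ := (hps.property ξ _ a sq).surj (pt η)
  haveI : Etale a.left := hp.property _ _ a sq
  haveI := lqf_of_etale a.left
  obtain ⟨t, -⟩ := exists_pts a.left η y hy
  exact ⟨T, Y, ξ, a, b, sq, Ω, inferInstance, inferInstance, η, {t}, hx, le_of_eq (Finset.card_singleton t).symm⟩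

omit X U in
theorem injective_specMap_comp {Ω Ω' : Type u} [Field Ω] [Field Ω'] {Y : Scheme.{u}}
    (τ : Spec (CommRingCat.of Ω') ⟶ Spec (CommRingCat.of Ω)) (s₁ s₂ : Spec (CommRingCat.of Ω) ⟶ Y)
    (e : τ ≫ s₁ = τ ≫ s₂) : s₁ = s₂ := by
  obtain ⟨τ, rfl⟩ := Spec.map_surjective τ
  have hpt : pt s₁ = pt s₂ := by
    have h := congrArg pt e
    rwa [pt_comp, pt_comp, Subsingleton.elim (pt (Spec.map τ)) (IsLocalRing.closedPoint Ω)] at h
  obtain ⟨σ₁, e₁⟩ := exists_residue_hom s₁ rfl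
  obtain ⟨σ₂, e₂⟩ := exists_residue_hom s₂ hpt.symm
  rw [← e₁, ← e₂, ← Category.assoc, ← Category.assoc, ← Spec.map_comp, ← Spec.map_comp, cancel_mono,
    Spec.map_inj] at e
  rw [← e₁, ← e₂, show σ₁ = σ₂ from CommRingCat.hom_ext (RingHom.ext fun x =>
    RingHom.injective τ.hom (congr($e x)))]

/-- A bound on the geometric fibres over one representative bounds all of them. -/
theorem le_of_big (hX : IsAlgSpace X) (hp : RepWith @Etale p) {n d : ℕ} {T Y : Over S}
    {ξ : (yon S).obj T ⟶ X} {a : Y ⟶ T} {b : Y ⟶ U} (sq : IsPullback ((yon S).map b) ((yon S).map a) p ξ)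
    (t : T.left) (hd : ∀ (Ω : Type u) [Field Ω] [IsAlgClosed Ω] (η : Spec (CommRingCat.of Ω) ⟶ T.left),
      pt η = t → ∀ s : Finset (Pts a.left η), s.card ≤ d) (h : Big p n (Points.ofPt ξ t)) : n ≤ d := by
  obtain ⟨T₁, Y₁, ξ₁, a₁, b₁, sq₁, Ω, _, _, η₁, s, hx, hs⟩ := h
  obtain ⟨R, q₂, q₁', sqR⟩ : ∃ (R : Over S) (q₂ : R ⟶ T) (q₁ : (yon S).obj R ⟶ (yon S).obj T₁),
      IsPullback q₁ ((yon S).map q₂) ξ₁ ξ := ⟨_, _, _, (hX.representable_from_yon ξ₁).isPullback ξ⟩
  obtain ⟨q₁, rfl⟩ := (yon S).map_surjective q₁'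
  obtain ⟨r, hr₁, hr₂⟩ := exists_point_of_isPullback sqR (Points.ofScheme T₁ (pt η₁)) (Points.ofScheme T t)
    (by rw [← Points.ofPt_eq_map_ofScheme, ← Points.ofPt_eq_map_ofScheme, hx])
  obtain ⟨r, rfl⟩ : ∃ r', Points.ofScheme R r' = r := ⟨_, Points.ofScheme_toScheme R _⟩
  have h₁ : q₁.left r = pt η₁ := by
    rw [← Points.ofPt_eq_map_ofScheme, ← Category.comp_id ((yon S).map q₁), ofPt_map] at hr₁
    simpa using congrArg (Points.toScheme T₁) hr₁
  have h₂ : q₂.left r = t := by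
    rw [← Points.ofPt_eq_map_ofScheme, ← Category.comp_id ((yon S).map q₂), ofPt_map] at hr₂
    simpa using congrArg (Points.toScheme T) hr₂
  obtain ⟨w, hw₁, -⟩ := Scheme.Pullback.exists_preimage_pullback (f := q₁.left) (g := η₁) r (IsLocalRing.closedPoint Ω) h₁
  obtain ⟨Ω', _, _, ζ, hζ⟩ := exists_geomPt' w
  let ηR := ζ ≫ pullback.fst q₁.left η₁
  let τ := ζ ≫ pullback.snd q₁.left η₁
  have hτ : τ ≫ η₁ = ηR ≫ q₁.left := by
    rw [Category.assoc, Category.assoc, pullback.condition]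
  have hR : pt (ηR ≫ q₂.left) = t := by
    rw [pt_comp, pt_comp, hζ, hw₁, h₂]
  obtain ⟨YR, aR, fR', sR⟩ : ∃ (YR : Over S) (aR : YR ⟶ R) (fR : (yon S).obj YR ⟶ (yon S).obj U),
      IsPullback fR ((yon S).map aR) p ((yon S).map q₁ ≫ ξ₁) := ⟨_, _, _, hp.rep.isPullback _⟩
  obtain ⟨k₁, hk₁⟩ := Degree.isPullback_left sq₁ q₁ sR
  obtain ⟨k₂, hk₂⟩ := Degree.isPullback_left sq q₂ (sqR.w ▸ sR)
  let Φ : Pts a₁.left η₁ → Pts a.left (ηR ≫ q₂.left) := fun s =>
    ptsBaseChange hk₂ ηR ((ptsBaseChange hk₁ ηR).symm ⟨τ ≫ s.1, by rw [Category.assoc, s.2, hτ]⟩)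
  have hΦ : Function.Injective Φ := fun s s' e => by
    have e' := congrArg Subtype.val ((ptsBaseChange hk₁ ηR).symm.injective ((ptsBaseChange hk₂ ηR).injective e))
    exact Subtype.ext (injective_specMap_comp τ _ _ e')
  exact (hs.trans (Finset.card_map ⟨Φ, hΦ⟩).ge).trans (hd Ω' _ hR _)

theorem goodMor_of_etale [IsAffine U.left] (hp : RepWith @Etale p) : RepWith Hilb.goodMor p := by
  refine ⟨hp.1, fun T V g fst snd sqV => ?_⟩
  haveI : Etale snd.left := hp.property g fst snd sqV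
  haveI : IsSeparated U.hom := inferInstance
  obtain ⟨b, rfl⟩ := (yon S).map_surjective fst
  let φ : V.left ⟶ pullback T.hom U.hom := pullback.lift snd.left b.left ((Over.w snd).trans (Over.w b).symm)
  haveI : Mono φ := ⟨fun {Z} x y e => by
    have h₁ : x ≫ snd.left = y ≫ snd.left := by simpa [φ] using e =≫ pullback.fst T.hom U.hom
    have h₂ : x ≫ b.left = y ≫ b.left := by simpa [φ] using e =≫ pullback.snd T.hom U.hom
    have hy : y ≫ V.hom = x ≫ V.hom := by
      rw [← Over.w snd, ← Category.assoc, ← h₁, Category.assoc]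
    exact congrArg (fun f : Over.mk (x ≫ V.hom) ⟶ V => f.left) (Hilb.hom_ext_square sqV
      (l := (Over.homMk x rfl : Over.mk (x ≫ V.hom) ⟶ V)) (l' := Over.homMk y hy)
      (Over.OverMorphism.ext h₁) (Over.OverMorphism.ext h₂))⟩
  refine ⟨⟨⟨inferInstanceAs (Flat snd.left), inferInstanceAs (LocallyOfFinitePresentation snd.left)⟩,
    lqf_of_etale snd.left⟩, ?_⟩
  change IsSeparated snd.left
  rw [← pullback.lift_fst (f := T.hom) (g := U.hom) snd.left b.left ((Over.w snd).trans (Over.w b).symm)]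
  exact MorphismProperty.comp_mem _ φ _ inferInstance inferInstance

/-- The scheme of finite opens in the fibres of a chart, with its universal property. -/
structure Moduli (p : (yon S).obj U ⟶ X) where
  Q : Over S
  π : (yon S).obj Q ⟶ X
  Y : Over S
  a : Y ⟶ Q
  b : Y ⟶ U
  sq : IsPullback ((yon S).map b) ((yon S).map a) p π
  O : Y.left.Opens
  finOpen : IsFinOpen a.left O
  sep : Q.left.IsSeparated
  etale : RepWith @Etale π
  exists_map : ∀ {T Y' : Over S} {ξ : (yon S).obj T ⟶ X} {a' : Y' ⟶ T} {b' : Y' ⟶ U},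
    IsPullback ((yon S).map b') ((yon S).map a') p ξ → ∀ O' : Y'.left.Opens, IsFinOpen a'.left O' →
      ∃ (l : T ⟶ Q) (g : Y' ⟶ Y), (yon S).map l ≫ π = ξ ∧ IsPullback g a' a l ∧ g ≫ b = b' ∧ g.left ⁻¹ᵁ O = O'
  unique : ∀ {T Y' : Over S} {l l' : T ⟶ Q} {a' : Y' ⟶ T} {g g' : Y' ⟶ Y},
    (yon S).map l ≫ π = (yon S).map l' ≫ π → IsPullback g a' a l → IsPullback g' a' a l' →
      g ≫ b = g' ≫ b → g.left ⁻¹ᵁ O = g'.left ⁻¹ᵁ O → l = l'

theorem exists_square_map {Q Y : Over S} {π : (yon S).obj Q ⟶ X} {a : Y ⟶ Q} {b : Y ⟶ U}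
    (sq : IsPullback ((yon S).map b) ((yon S).map a) p π) {T Y' : Over S} (l : T ⟶ Q) {a' : Y' ⟶ T} {b' : Y' ⟶ U}
    (sq' : IsPullback ((yon S).map b') ((yon S).map a') p ((yon S).map l ≫ π)) :
    ∃ g : Y' ⟶ Y, IsPullback g a' a l ∧ g ≫ b = b' := by
  obtain ⟨g', hg₁, hg₂⟩ := sq.exists_lift ((yon S).map b') ((yon S).map a' ≫ (yon S).map l)
    (by rw [sq'.w, Category.assoc])
  obtain ⟨g, rfl⟩ := (yon S).map_surjective g'
  refine ⟨g, IsPullback.of_map (yon S) ((yon S).map_injective (by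
    rw [Functor.map_comp, Functor.map_comp]; exact hg₂)) ?_, (yon S).map_injective (by rw [Functor.map_comp, hg₁])⟩
  exact IsPullback.of_right (by rw [hg₁]; exact sq') hg₂ sq

theorem nonempty_moduli [IsAffine U.left] (hp : RepWith @Etale p) : Nonempty (Moduli p) := by
  classical
  have hg := goodMor_of_etale hp
  obtain ⟨Q, μ, hμ⟩ := Hilb.exists_scheme_H hg
    (fun s _ => ⟨⊤, isAffineOpen_top U.left, fun _ _ => trivial⟩)
  let z := Hilb.point hg.1 μ
  obtain ⟨Y, a, b, sq⟩ := Hilb.exists_square hg.1 z.ξ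
  refine ⟨⟨Q, z.ξ, Y, a, b, sq, z.openIn sq, z.openIn_finOpen sq, ?_, ?_, ?_, ?_⟩⟩
  · obtain ⟨E, γ, e, -, hγs, hef, -, -, hes⟩ := Hilb.exists_universal hg
    obtain ⟨e₀, he₀⟩ := (yon S).map_surjective (e ≫ inv μ)
    haveI : IsFinite e₀.left :=
      (repWith_yon_map_iff @IsFinite e₀).1 (he₀ ▸ repWith_comp hef (repWith_of_isIso _))
    haveI : Surjective e₀.left :=
      (repWith_yon_map_iff @Surjective e₀).1 (he₀ ▸ repWith_comp hes (repWith_of_isIso _))
    haveI := hγs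
    haveI : IsSeparated (e₀.left ≫ terminal.from Q.left) := by
      rw [terminal.comp_from, ← terminal.comp_from γ.left]
      infer_instance
    exact ⟨Groth.Agent.H17.isSeparated_of_surjective_universallyClosed e₀.left (terminal.from Q.left)⟩
  · rw [← Hilb.comp_toBase hg.1 μ]
    exact repWith_comp (repWith_of_isIso μ) (Hilb.repWith_etale_toBase hg)
  · intro T Y' ξ a' b' sq' O' hO'
    obtain ⟨l, hl⟩ := (yon S).map_surjective ((Hilb.point hg.1).symm (Hilb.Pt.mkOpen sq' hO') ≫ inv μ)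
    have hzl : z.map l = Hilb.Pt.mkOpen sq' hO' := by
      rw [← Hilb.point_comp, hl, Category.assoc, IsIso.inv_hom_id, Category.comp_id, Equiv.apply_symm_apply]
    have hlξ : (yon S).map l ≫ z.ξ = ξ := congrArg Hilb.Pt.ξ hzl
    have sql : IsPullback ((yon S).map b') ((yon S).map a') p (z.map l).ξ := by
      show IsPullback _ _ p ((yon S).map l ≫ z.ξ)
      rw [hlξ]; exact sq'
    obtain ⟨g, sqg, hgb⟩ := exists_square_map sq l sql
    refine ⟨l, g, hlξ, sqg, hgb, ?_⟩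
    rw [← z.openIn_map sq sql sqg hgb]
    exact Hilb.Pt.openIn_eq _ sql (by rw [hzl]; rfl)
  · intro T Y' l l' a' g g' hll sqg sqg' hb hO
    have sql : IsPullback ((yon S).map (g ≫ b)) ((yon S).map a') p ((yon S).map l ≫ z.ξ) := by
      rw [Functor.map_comp]; exact (sqg.map (yon S)).paste_horiz sq
    have hz : z.map l = z.map l' := Hilb.Pt.ext_openIn hll sql
      ((z.openIn_map sq sql sqg rfl).trans (hO.trans (z.openIn_map sq (show IsPullback ((yon S).map (g ≫ b))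
        ((yon S).map a') p ((yon S).map l' ≫ z.ξ) by rw [← hll]; exact sql) sqg' hb.symm).symm))
    apply (yon S).map_injective
    rw [← cancel_mono μ]
    apply (Hilb.point hg.1).injective
    rw [Hilb.point_comp, Hilb.point_comp]
    exact hz

namespace Moduli

variable (M : Moduli p)

/-- The degree of the universal finite open. -/
noncomputable def D (v : M.Q.left) : ℕ := (M.O.ι ≫ M.a.left).finrank v

theorem etale_a (hp : RepWith @Etale p) : Etale M.a.left := hp.property _ _ M.a M.sq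

theorem isLocallyConstant_D (hp : RepWith @Etale p) : IsLocallyConstant M.D := by
  haveI := M.finOpen.1
  haveI := M.etale_a hp
  exact Scheme.Hom.isLocallyConstant_finrank (M.O.ι ≫ M.a.left)

theorem D_map (hp : RepWith @Etale p) {T Y' : Over S} {l : T ⟶ M.Q} {a' : Y' ⟶ T} {g : Y' ⟶ M.Y}
    (sqg : IsPullback g a' M.a l) (t : T.left) :
    IsFinite ((g.left ⁻¹ᵁ M.O).ι ≫ a'.left) ∧
      M.D (l.left t) = ((g.left ⁻¹ᵁ M.O).ι ≫ a'.left).finrank t := by
  haveI := M.finOpen.1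
  haveI := M.etale_a hp
  have sqO : IsPullback (g.left ∣_ M.O) ((g.left ⁻¹ᵁ M.O).ι ≫ a'.left) (M.O.ι ≫ M.a.left) l.left :=
    (isPullback_morphismRestrict g.left M.O).paste_vert (sqg.map (Over.forget S))
  exact ⟨MorphismProperty.of_isPullback sqO M.finOpen.1, (Scheme.Hom.finrank_of_isPullback _ _ _ _ sqO t).symm⟩

theorem big (hp : RepWith @Etale p) (v : M.Q.left) : Big p (M.D v) (Points.ofPt M.π v) := by
  classical
  haveI := M.finOpen.1
  haveI := M.etale_a hp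
  obtain ⟨Ω, _, _, η, rfl⟩ := exists_geomPt' v
  haveI := Degree.finite_pts_of_isFinite (M.O.ι ≫ M.a.left) η
  haveI := Fintype.ofFinite (Pts (M.O.ι ≫ M.a.left) η)
  let Φ : Pts (M.O.ι ≫ M.a.left) η → Pts M.a.left η := fun s => ⟨s.1 ≫ M.O.ι, by rw [Category.assoc, s.2]⟩
  have hΦ : Function.Injective Φ := fun s s' e => Subtype.ext ((cancel_mono M.O.ι).1 (congrArg Subtype.val e))
  refine ⟨M.Q, M.Y, M.π, M.a, M.b, M.sq, Ω, inferInstance, inferInstance, η, Finset.univ.map ⟨Φ, hΦ⟩, rfl, ?_⟩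
  rw [Finset.card_map, Finset.card_univ, D, Degree.finrank_eq_natCard_pts, Nat.card_eq_fintype_card]

/-- Finitely many lifts of a geometric point are the points of a finite open over an etale neighbourhood. -/
theorem exists_point (hp : RepWith @Etale p) [IsAffine U.left] {T Y' : Over S} {ξ : (yon S).obj T ⟶ X}
    {a' : Y' ⟶ T} {b' : Y' ⟶ U} (sq' : IsPullback ((yon S).map b') ((yon S).map a') p ξ) {Ω : Type u} [Field Ω]
    [IsAlgClosed Ω] (η : Spec (CommRingCat.of Ω) ⟶ T.left) (s : Finset (Pts a'.left η)) (hs : s.Nonempty) :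
    ∃ (x : Spec (CommRingCat.of Ω) ⟶ M.Q.left) (Vo : Over S) (c : Vo ⟶ T) (l : Vo ⟶ M.Q)
      (η' : Spec (CommRingCat.of Ω) ⟶ Vo.left), η' ≫ c.left = η ∧ η' ≫ l.left = x ∧
      (yon S).map l ≫ M.π = (yon S).map c ≫ ξ ∧ M.D (pt x) = s.card ∧
      Points.ofPt M.π (pt x) = Points.ofPt ξ (pt η) ∧
      Set.range (fun t : Pts (M.O.ι ≫ M.a.left) x => (t.1 ≫ M.O.ι) ≫ M.b.left) =
        (fun s₁ : Pts a'.left η => s₁.1 ≫ b'.left) '' (s : Set (Pts a'.left η)) := by
  classical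
  obtain ⟨hfl, hfp, hqf, hsep⟩ := Hilb.good_of_square (goodMor_of_etale hp) sq'
  obtain ⟨V, g, hge, η', hη', O', hO', hiff⟩ :=
    Groth.Agent.H12AlgSp.exists_etale_finOpen a'.left η s hs
  let Vo : Over S := Over.mk (g ≫ T.hom)
  let c : Vo ⟶ T := Over.homMk g
  let P : Over S := Over.mk (pullback.fst a'.left g ≫ Y'.hom)
  let g₀ : P ⟶ Y' := Over.homMk (pullback.fst a'.left g)
  let a₀ : P ⟶ Vo := Over.homMk (pullback.snd a'.left g) (by
    change pullback.snd a'.left g ≫ g ≫ T.hom = pullback.fst a'.left g ≫ Y'.hom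
    rw [← pullback.condition_assoc, Over.w a'])
  have sq₀ : IsPullback g₀ a₀ a' c :=
    IsPullback.of_map_of_faithful (Over.forget S) (IsPullback.of_hasPullback a'.left g)
  have sqp : IsPullback ((yon S).map (g₀ ≫ b')) ((yon S).map a₀) p ((yon S).map c ≫ ξ) := by
    rw [Functor.map_comp]
    exact (sq₀.map (yon S)).paste_horiz sq'
  obtain ⟨l, g', hlξ, sqg, hgb, hO''⟩ := M.exists_map sqp O' hO'
  haveI := M.finOpen.1
  haveI := M.etale_a hp
  let x := η' ≫ l.left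
  have sqO : IsPullback (g'.left ∣_ M.O) ((g'.left ⁻¹ᵁ M.O).ι ≫ a₀.left) (M.O.ι ≫ M.a.left) l.left :=
    (isPullback_morphismRestrict g'.left M.O).paste_vert (sqg.map (Over.forget S))
  have hb0 : g'.left ≫ M.b.left = pullback.fst a'.left g ≫ b'.left := congrArg (fun f : P ⟶ U => f.left) hgb
  have himg : Set.range (fun t : Pts (M.O.ι ≫ M.a.left) x => (t.1 ≫ M.O.ι) ≫ M.b.left) =
      (fun s₁ : Pts a'.left η => s₁.1 ≫ b'.left) '' (s : Set (Pts a'.left η)) := by
    ext u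
    constructor
    · rintro ⟨t, rfl⟩
      let t₁ := (ptsBaseChange sqO η').symm t
      have ht : t₁.1 ≫ g'.left ∣_ M.O = t.1 :=
        congrArg Subtype.val ((ptsBaseChange sqO η').apply_symm_apply t)
      obtain ⟨s₁, hs₁, e⟩ := (hiff ⟨t₁.1 ≫ (g'.left ⁻¹ᵁ M.O).ι, by rw [Category.assoc]; exact t₁.2⟩).1
        (by rw [pt_comp, ← hO'']; exact (pt t₁.1).2)
      refine ⟨s₁, hs₁, ?_⟩
      show s₁.1 ≫ b'.left = (t.1 ≫ M.O.ι) ≫ M.b.left
      rw [← ht, Category.assoc t₁.1, morphismRestrict_ι, ← e]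
      simp only [Category.assoc]
      rw [hb0]
    · rintro ⟨s₁, hs₁, rfl⟩
      let t : Pts (pullback.snd a'.left g) η' :=
        ⟨pullback.lift s₁.1 η' (by rw [s₁.2, hη']), pullback.lift_snd _ _ _⟩
      obtain ⟨t₀, ht₀⟩ := exists_lift_open' (g'.left ⁻¹ᵁ M.O).ι t.1 (by
        rw [Scheme.Opens.range_ι, hO'']; exact (hiff t).2 ⟨s₁, hs₁, pullback.lift_fst _ _ _⟩)
      let t₁ : Pts ((g'.left ⁻¹ᵁ M.O).ι ≫ a₀.left) η' := ⟨t₀, by rw [← Category.assoc, ht₀]; exact t.2⟩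
      refine ⟨ptsBaseChange sqO η' t₁, ?_⟩
      show ((t₀ ≫ g'.left ∣_ M.O) ≫ M.O.ι) ≫ M.b.left = s₁.1 ≫ b'.left
      rw [Category.assoc t₀, morphismRestrict_ι, ← Category.assoc t₀, ht₀, Category.assoc t.1]
      erw [hb0, ← Category.assoc, pullback.lift_fst]
  refine ⟨x, Vo, c, l, η', hη', rfl, hlξ, ?_, ?_, himg⟩
  · have hinj : ∀ {T₀ Y₀ : Over S} {ξ₀ : (yon S).obj T₀ ⟶ X} {a₁ : Y₀ ⟶ T₀} {b₁ : Y₀ ⟶ U}
        (_ : IsPullback ((yon S).map b₁) ((yon S).map a₁) p ξ₀) (η₀ : Spec (CommRingCat.of Ω) ⟶ T₀.left),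
        Function.Injective fun s₁ : Pts a₁.left η₀ => s₁.1 ≫ b₁.left := by
      intro T₀ Y₀ ξ₀ a₁ b₁ sq₁ η₀ s₁ s₂ e
      have ea : s₁.1 ≫ a₁.left = s₂.1 ≫ a₁.left := s₁.2.trans s₂.2.symm
      let Z : Over S := Over.mk (s₁.1 ≫ Y₀.hom)
      let k₁ : Z ⟶ Y₀ := Over.homMk s₁.1
      let k₂ : Z ⟶ Y₀ := Over.homMk s₂.1 (by
        show s₂.1 ≫ Y₀.hom = s₁.1 ≫ Y₀.hom
        rw [← Over.w a₁, ← Category.assoc, ← ea, Category.assoc])
      exact Subtype.ext (congrArg (fun f : Z ⟶ Y₀ => f.left) (Hilb.hom_ext_square sq₁ (l := k₁) (l' := k₂)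
        (Over.OverMorphism.ext ea) (Over.OverMorphism.ext e)))
    haveI := Degree.finite_pts_of_isFinite (M.O.ι ≫ M.a.left) x
    rw [D, Degree.finrank_eq_natCard_pts]
    have h₁ : Set.ncard (Set.range fun t : Pts (M.O.ι ≫ M.a.left) x => (t.1 ≫ M.O.ι) ≫ M.b.left) =
        Nat.card (Pts (M.O.ι ≫ M.a.left) x) := by
      rw [Set.ncard_range_of_injective]
      intro t t' e
      have := @hinj _ _ _ _ _ M.sq x ⟨t.1 ≫ M.O.ι, by rw [Category.assoc, t.2]⟩
        ⟨t'.1 ≫ M.O.ι, by rw [Category.assoc, t'.2]⟩ e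
      exact Subtype.ext ((cancel_mono M.O.ι).1 (congrArg Subtype.val this))
    rw [← h₁, himg, Set.ncard_image_of_injective _ (hinj sq' η), Set.ncard_coe_finset]
  · refine (ofPt_map l M.π (pt η' : Vo.left)).symm.trans ((congrArg (fun φ => Points.ofPt φ (pt η' : Vo.left))
      hlξ).trans ((ofPt_map c ξ (pt η' : Vo.left)).trans ?_))
    show Points.ofPt ξ (g (pt η')) = _
    rw [← pt_comp, hη']

theorem exists_of_big (hp : RepWith @Etale p) [IsAffine U.left] {n : ℕ} {x : Points X} (hn : 1 ≤ n)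
    (h : Big p n x) : ∃ v, M.D v = n ∧ Points.ofPt M.π v = x := by
  obtain ⟨T, Y', ξ, a', b', sq', Ω, _, _, η, s, hx, hs⟩ := h
  obtain ⟨s', -, hs'⟩ := Finset.exists_subset_card_eq hs
  obtain ⟨q, -, -, -, -, -, -, -, hD, hq, -⟩ := M.exists_point hp sq' η s' (Finset.card_pos.1 (by omega))
  exact ⟨pt q, hD.trans hs', hq.trans hx⟩

theorem eq_of_not_big (hp : RepWith @Etale p) {T : Over S} {l l' : T ⟶ M.Q}
    (hll : (yon S).map l ≫ M.π = (yon S).map l' ≫ M.π)
    (h : ∀ t, ¬ Big p (M.D (l.left t) + 1) (Points.ofPt M.π (l.left t)))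
    (h' : ∀ t, ¬ Big p (M.D (l'.left t) + 1) (Points.ofPt M.π (l'.left t))) : l = l' := by
  classical
  obtain ⟨Y', a', b', sq'⟩ := Hilb.exists_square hp.1 ((yon S).map l ≫ M.π)
  have key : ∀ (l : T ⟶ M.Q) (sq' : IsPullback ((yon S).map b') ((yon S).map a') p ((yon S).map l ≫ M.π))
      (g : Y' ⟶ M.Y), IsPullback g a' M.a l →
      (∀ t, ¬ Big p (M.D (l.left t) + 1) (Points.ofPt M.π (l.left t))) → g.left ⁻¹ᵁ M.O = ⊤ := by
    intro l sq' g sqg h
    refine eq_top_iff.2 fun y _ => ?_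
    obtain ⟨hfin', hr⟩ := M.D_map hp sqg (a'.left y)
    haveI := hfin'
    haveI : Etale a'.left := hp.property _ _ a' sq'
    haveI := lqf_of_etale a'.left
    obtain ⟨Ω, _, _, η, hη⟩ := exists_geomPt' (a'.left y)
    obtain ⟨t, ht⟩ := exists_pts a'.left η y hη.symm
    let f' := (g.left ⁻¹ᵁ M.O).ι ≫ a'.left
    haveI := Degree.finite_pts_of_isFinite f' η
    haveI := Fintype.ofFinite (Pts f' η)
    let Φ : Pts f' η → Pts a'.left η := fun s => ⟨s.1 ≫ (g.left ⁻¹ᵁ M.O).ι, by rw [Category.assoc, s.2]⟩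
    have hΦ : Function.Injective Φ := fun s s' e =>
      Subtype.ext ((cancel_mono (g.left ⁻¹ᵁ M.O).ι).1 (congrArg Subtype.val e))
    by_contra hy
    have hts : t ∉ Finset.univ.map ⟨Φ, hΦ⟩ := fun hm => hy (by
      obtain ⟨s, -, hs⟩ := Finset.mem_map.1 hm
      rw [← ht, ← hs]
      exact (pt s.1).2)
    refine h (a'.left y) ⟨T, Y', _, a', b', sq', Ω, inferInstance, inferInstance, η,
      Finset.cons t _ hts, by rw [hη, ofPt_map], ?_⟩
    rw [Finset.card_cons, Finset.card_map, Finset.card_univ, ← Nat.card_eq_fintype_card,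
      ← Degree.finrank_eq_natCard_pts f' η, hη, ← hr]
  obtain ⟨g, sqg, hgb⟩ := exists_square_map M.sq l sq'
  obtain ⟨g', sqg', hgb'⟩ := exists_square_map M.sq l' (hll ▸ sq')
  exact M.unique hll sqg sqg' (hgb.trans hgb'.symm)
    ((key l sq' g sqg h).trans (key l' (hll ▸ sq') g' sqg' h').symm)

end Moduli

/-- Stratification of a space with an affine chart by the size of the geometric fibres. -/
theorem exists_strata [IsAffine U.left] (hp : RepWith @Etale p) (M : Moduli p) :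
    (∀ n, IsOpen {x | Big p n x}) ∧
    ∀ n, 1 ≤ n → ∀ {Un Tn : Sp S} (j : Un ⟶ X), RepWith @IsOpenImmersion j →
      Set.range (Points.map j) = {x | Big p n x} → ∀ (i : Tn ⟶ Un),
      (∀ z, ¬ Big p (n + 1) (Points.map (i ≫ j) z)) →
      ∃ (V : Over S) (f : (yon S).obj V ⟶ Un), V.left.IsSeparated ∧
        (IsCompact {v | M.D v = n} → CompactSpace V.left) ∧ RepWith @Etale f ∧ RepWith @Surjective f ∧
        ∀ (P : Sp S) (fst : P ⟶ Tn) (snd : P ⟶ (yon S).obj V), IsPullback fst snd i f → IsIso fst := by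
  let Q := M.Q
  let π := M.π
  let D := M.D
  have hQ := M.sep
  have hπ : RepWith @Etale π := M.etale
  have hD : IsLocallyConstant D := M.isLocallyConstant_D hp
  have h1 : ∀ v, Big p (D v) (Points.ofPt π v) := M.big hp
  have h2 : ∀ n x, 1 ≤ n → Big p n x → ∃ v, D v = n ∧ Points.ofPt π v = x := fun n x hn h => M.exists_of_big hp hn h
  have h3 := fun (T : Over S) (l l' : T ⟶ Q) (h : (yon S).map l ≫ π = (yon S).map l' ≫ π) a b =>
    M.eq_of_not_big hp h a b
  refine ⟨fun n => ?_, fun n hn Un Tn j hj hr i hi => ?_⟩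
  · rcases Nat.eq_zero_or_pos n with rfl | hn
    · rw [Set.eq_univ_of_forall (s := {x | Big p 0 x}) fun x => big_zero hp x]
      exact isOpen_univ
    have e : {x | Big p n x} = Points.ofPt π '' {v | D v = n} := by
      ext x
      constructor
      · intro hx
        obtain ⟨v, hv, hvx⟩ := h2 n x hn hx
        exact ⟨v, hv, hvx⟩
      · rintro ⟨v, rfl, rfl⟩
        exact h1 v
    rw [e]
    exact isOpenMap_ofPt_of_repWith etale_le_universallyOpen hπ _ (hD.isOpen_fiber n)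
  let Vn : Q.left.Opens := ⟨_, hD.isOpen_fiber n⟩
  let V := openOver Q Vn
  let ι := openIncl Q Vn
  have hιe : Etale ι.left := inferInstanceAs (Etale Vn.ι)
  have hπV : RepWith @Etale ((yon S).map ι ≫ π) := repWith_comp ((repWith_yon_map_iff _ ι).2 hιe) hπ
  obtain ⟨f, hf⟩ := exists_factor_open hj ((yon S).map ι ≫ π) (by
    rw [hr, range_map_yon]
    rintro _ ⟨v, rfl⟩
    rw [ofPt_map]
    have := h1 (ι.left v)
    rwa [show D (ι.left v) = n from v.2] at this)
  haveI := mono_of_openImmersion hj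
  have hfe : RepWith @Etale f := repWith_etale_of_comp (repWith_le
    (fun _ _ k (_ : IsOpenImmersion k) => inferInstanceAs (Etale k)) hj) (hf.symm ▸ hπV)
  have hfs : RepWith @Surjective f := repWith_surjective_of_map hfe.1 fun w => by
    obtain ⟨v, hv, hvw⟩ := h2 n _ hn (hr.le ⟨w, rfl⟩)
    refine ⟨Points.ofScheme V ⟨v, hv⟩, injective_map_of_mono j ?_⟩
    rw [← Points.map_comp, hf, ← Points.ofPt_eq_map_ofScheme, ofPt_map, ← hvw]
    rfl
  refine ⟨V, f, ?_, fun hc => isCompact_iff_compactSpace.1 (show IsCompact (Vn : Set Q.left) from hc), hfe, hfs,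
    fun P fst snd sq => ?_⟩
  · haveI := hQ
    refine ⟨?_⟩
    show IsSeparated (terminal.from Vn.toScheme)
    rw [← terminal.comp_from Vn.ι]
    infer_instance
  haveI : Mono fst := mono_of_yon fun T a b e => by
    obtain ⟨ka, hka⟩ := (yon S).map_surjective (a ≫ snd)
    obtain ⟨kb, hkb⟩ := (yon S).map_surjective (b ≫ snd)
    have hcond : ∀ (k : T ⟶ V) (c : (yon S).obj T ⟶ P), (yon S).map k = c ≫ snd →
        (yon S).map (k ≫ ι) ≫ π = (c ≫ fst) ≫ i ≫ j ∧
          ∀ t, ¬ Big p (D ((k ≫ ι).left t) + 1) (Points.ofPt π ((k ≫ ι).left t)) := fun k c hk => by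
      have e : (yon S).map (k ≫ ι) ≫ π = (c ≫ fst) ≫ i ≫ j := by
        rw [Functor.map_comp, Category.assoc, ← hf, hk, Category.assoc, Category.assoc,
          reassoc_of% sq.w]
      refine ⟨e, fun t hbig => ?_⟩
      rw [show D ((k ≫ ι).left t) = n from (k.left t).2, ← ofPt_map, e, ← Points.map_ofPt] at hbig
      exact hi _ hbig
    obtain ⟨ea, ha⟩ := hcond ka a hka
    obtain ⟨eb, hb⟩ := hcond kb b hkb
    have hk : ka = kb := by
      have := h3 T (ka ≫ ι) (kb ≫ ι) (by rw [ea, eb, e]) ha hb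
      apply Over.OverMorphism.ext
      rw [← cancel_mono Vn.ι]
      exact congrArg (fun f : T ⟶ Q => f.left) this
    exact sq.hom_ext e (by rw [← hka, ← hkb, hk])
  refine isIso_of_mono_of_local_lifts fst fun T y => ?_
  have he : RepWith @Etale fst := repWith_of_isPullback sq.flip hfe
  have hs : RepWith @Surjective fst := repWith_of_isPullback sq.flip hfs
  obtain ⟨C, c, v, sqC⟩ := he.rep y
  haveI : Etale c.left := he.property _ _ c sqC
  exact ⟨PUnit.{u + 1}, fun _ => C, fun _ => c, ofArrows_mem_J _ (fun _ => inferInstance) (fun _ => inferInstance)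
    (fun t => ⟨⟨⟩, (hs.property _ _ c sqC).surj t⟩), fun _ => ⟨v, sqC.w⟩⟩

end Groth.Agent.H13AlgSp.SepStrat
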