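import Groth.Agent.H13AlgSp.InductionPrinciple
import Groth.Agent.H12AlgSp.AffImm.Dense
import Groth.Agent.H12AlgSp.QC
import Groth.Agent.S10419
import Groth.Agent.H13Inf.Basic
import Groth.Agent.H13AlgSp.InductionApps

/-!
Existence of an elementary distinguished square enlarging a dense open subspace.
-/

set_option autoImplicit false
set_option backward.isDefEq.respectTransparency false
set_option linter.style.haveILetI false

universe u

open CategoryTheory CategoryTheory.Limits AlgebraicGeometry Opposite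
open AlgSp Groth.Agent.H12AlgSp

namespace Groth.Agent.H13AlgSp.DistSqExist

variable {S : Scheme.{u}}

/-- The disjoint union of two affine schemes over the base. -/
theorem exists_pair {A A' : Over S} [IsAffine A.left] [IsAffine A'.left] {X : Sp S} (hX : IsAlgSpace X)
    (a : (yon S).obj A ⟶ X) (a' : (yon S).obj A' ⟶ X) (ha : RepWith @Etale a) (ha' : RepWith @Etale a') :
    ∃ (V : Over S) (φ : (yon S).obj V ⟶ X) (inl : A ⟶ V) (inr : A' ⟶ V), IsAffine V.left ∧
      IsOpenImmersion inl.left ∧ IsOpenImmersion inr.left ∧ (yon S).map inl ≫ φ = a ∧ (yon S).map inr ≫ φ = a' ∧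
      (∀ v : V.left, v ∈ Set.range inl.left ∨ v ∈ Set.range inr.left) ∧
      RepWith @Etale φ := by
  let C : ULift.{u} Bool → Over S := fun b => match b with | ⟨true⟩ => A | ⟨false⟩ => A'
  haveI : ∀ b, IsAffine (C b).left := by rintro ⟨⟨⟩⟩ <;> dsimp only [C] <;> infer_instance
  let V : Over S := Over.mk (Sigma.desc fun b => (C b).hom)
  let inc : ∀ b, C b ⟶ V := fun b => Over.homMk (Sigma.ι (fun b => (C b).left) b) (Sigma.ι_desc _ _)
  have hinc : ∀ b, IsOpenImmersion (inc b).left := fun b =>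
    inferInstanceAs (IsOpenImmersion (Sigma.ι (fun b => (C b).left) b))
  have hcov : ∀ v : V.left, ∃ b, v ∈ Set.range (inc b).left := fun v => by
    obtain ⟨b, y, hy⟩ := (sigmaOpenCover (fun b => (C b).left)).exists_eq v
    exact ⟨b, y, hy⟩
  have hJ : Sieve.ofArrows C inc ∈ J S V :=
    ofArrows_mem_J _ (fun b => have := hinc b; inferInstance) (fun b => have := hinc b; inferInstance) hcov
  let l : ∀ b, (yon S).obj (C b) ⟶ X := fun b => match b with | ⟨true⟩ => a | ⟨false⟩ => a'
  have hl : ∀ b, RepWith @Etale (l b) := by rintro ⟨⟨⟩⟩; exacts [ha', ha]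
  obtain ⟨φ, hφ⟩ := H13Inf.exists_glue inc hJ l fun b b' Z gi gj e => by
    by_cases hbb : b = b'
    · subst hbb
      haveI := hinc b
      have : Mono (inc b) := (Over.forget S).mono_of_mono_map (inferInstanceAs (Mono (inc b).left))
      rw [(cancel_mono (inc b)).1 e]
    · haveI : IsEmpty Z.left := ⟨fun z => (disjoint_opensRange_sigmaι (fun b => (C b).left) b b' hbb).le_bot
        (show (inc b).left (gi.left z) ∈ _ from
          ⟨⟨gi.left z, rfl⟩, ⟨gj.left z, (congrArg (fun q => q.left z) e).symm⟩⟩)⟩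
      exact ext_yon_of_isEmpty _ _
  refine ⟨V, φ, inc ⟨true⟩, inc ⟨false⟩, inferInstanceAs (IsAffine (∐ fun b => (C b).left)), hinc _, hinc _,
    hφ ⟨true⟩, hφ ⟨false⟩, fun v => ?_, ⟨hX.representable_from_yon φ, fun Y Q g fst snd sq => ?_⟩⟩
  · obtain ⟨⟨⟨⟩⟩, hv⟩ := hcov v
    exacts [Or.inr hv, Or.inl hv]
  · obtain ⟨fst, rfl⟩ := (yon S).map_surjective fst
    have hop : ∀ b, IsOpenImmersion (pullback.snd (inc b) fst).left := fun b =>
      MorphismProperty.of_isPullback ((IsPullback.of_hasPullback (inc b) fst).map (Over.forget S)) (hinc b)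
    have hcovQ : ∀ q : Q.left, ∃ b, q ∈ Set.range (pullback.snd (inc b) fst).left := fun q => by
      obtain ⟨b, z, hz⟩ := hcov (fst.left q)
      obtain ⟨w, -, hw⟩ := Scheme.exists_preimage_of_isPullback
        ((IsPullback.of_hasPullback (inc b) fst).map (Over.forget S)) z q hz
      exact ⟨b, w, hw⟩
    have hpr : ∀ b, Etale ((pullback.snd (inc b) fst).left ≫ snd.left) := fun b => by
      refine (hl b).property g ((yon S).map (pullback.fst (inc b) fst)) (pullback.snd (inc b) fst ≫ snd) ?_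
      rw [← hφ b, Functor.map_comp]
      exact ((IsPullback.of_hasPullback (inc b) fst).map (yon S)).paste_vert sq
    exact IsZariskiLocalAtSource.of_openCover (P := @Etale) (Scheme.Cover.mkOfCovers (P := @IsOpenImmersion)
      (ULift.{u} Bool) _ (fun b => (pullback.snd (inc b) fst).left) hcovQ hop) hpr

/-- An elementary distinguished square with affine etale part enlarging a dense open subspace. -/
theorem exists_square [QuasiSeparatedSpace S] {X U : AlgSp.Space S}
    (hqc : IsQuasiCompactSp X.obj) (hqs : IsQuasiSeparatedSp X.obj) (hN : IsLocNoethSp X.obj)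
    (j : U ⟶ X) (hj : RepWith @IsOpenImmersion j.hom)
    (hne : Set.range (Points.map j.hom) ≠ Set.univ) :
    ∃ (V : Over S) (_ : IsAffine V.left) (W : AlgSp.Space S) (jW : W ⟶ X) (jU : U ⟶ W) (φ : (AlgSp.ofScheme S).obj V ⟶ W)
      (P : AlgSp.Space S) (p : P ⟶ U) (q : P ⟶ (AlgSp.ofScheme S).obj V),
      RepWith @Etale (φ ≫ jW).hom ∧ RepWith @IsOpenImmersion jW.hom ∧ jU ≫ jW = j ∧
        Set.range (Points.map jW.hom) =
          Set.range (Points.map j.hom) ∪ Set.range (Points.map (φ ≫ jW).hom) ∧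
        Set.range (Points.map jW.hom) ≠ Set.range (Points.map j.hom) ∧
        IsElemDistSq jU.hom φ.hom ∧ IsPullback p.hom q.hom jU.hom φ.hom ∧ IsDominantMor p.hom := by
  classical
  obtain ⟨n, Uo, jj, kk, T, i, hjj, hjk, hj1, hlast, hi, hV⟩ := Groth.Agent.S10419.result X hqc hqs
  let R : ℕ → Set (Points X.obj) := fun p => Set.range (Points.map (jj p).hom)
  let O : Set (Points X.obj) := Set.range (Points.map j.hom)
  have hR1 : R 1 = Set.univ := Set.eq_univ_of_forall fun x => ⟨Points.map (inv (jj 1)).hom x, by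
    have h : (inv (jj 1)).hom ≫ (jj 1).hom = 𝟙 X.obj :=
      congrArg InducedCategory.Hom.hom (IsIso.inv_hom_id (jj 1))
    rw [← Points.map_comp, h, Points.map_id]⟩
  obtain ⟨p, hp1, hpO, hpO'⟩ : ∃ p, 1 ≤ p ∧ ¬ R p ⊆ O ∧ R (p + 1) ⊆ O := by
    by_contra hc
    push_neg at hc
    have : ∀ p, 1 ≤ p → ¬ R p ⊆ O := fun p hp => by
      induction p, hp using Nat.le_induction with
      | base => rw [hR1]; exact fun h => hne (Set.eq_univ_of_univ_subset h)
      | succ m hm ih => exact hc m hm ih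
    exact this (n + 1) (by omega) (by simp [R, @Set.range_eq_empty _ _ hlast])
  obtain ⟨Vp, f, -, -, hfe, hfs, hiso⟩ := hV p hp1
  obtain ⟨x, hxR, hxO⟩ := Set.not_subset.1 hpO
  obtain ⟨w, rfl⟩ := hxR
  obtain ⟨v, rfl⟩ := surjective_ofPt_of_repWith le_rfl hfs w
  obtain ⟨A₀, hA₀, hv, -⟩ := TopologicalSpace.Opens.isBasis_iff_nbhd.mp Vp.left.isBasis_affineOpens
    (show v ∈ (⊤ : Vp.left.Opens) from trivial)
  let A : Over S := Over.mk (Scheme.Opens.ι A₀ ≫ Vp.hom)
  let ιA : A ⟶ Vp := Over.homMk (Scheme.Opens.ι A₀)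
  haveI : IsAffine A.left := hA₀
  haveI hιA : IsOpenImmersion ιA.left := inferInstanceAs (IsOpenImmersion (Scheme.Opens.ι A₀))
  have hfj : RepWith @Etale (f ≫ (jj p).hom) := repWith_comp hfe
    (repWith_le (fun _ _ k (_ : IsOpenImmersion k) => inferInstanceAs (Etale k)) (hjj p))
  have haX : RepWith @Etale ((yon S).map ιA ≫ f ≫ (jj p).hom) :=
    repWith_comp ((repWith_yon_map_iff _ _).2 (inferInstanceAs (Etale ιA.left))) hfj
  -- an affine atlas of `U`
  have hUc : IsQuasiCompactSp U.obj := by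
    haveI := AffImm.noetherianSpace_points hqc hN
    exact isQuasiCompactSp_of_isCompact_range U.property hj (TopologicalSpace.NoetherianSpace.isCompact _)
  haveI := compactSpace_points_of_isQuasiCompactSp hUc
  obtain ⟨A', a', hA', ha'e, ha's⟩ := H12AlgSp.exists_affine_atlas U.property
  haveI := hA'
  have ha'X : RepWith @Etale (a' ≫ j.hom) := repWith_comp ha'e
    (repWith_le (fun _ _ k (_ : IsOpenImmersion k) => inferInstanceAs (Etale k)) hj)
  obtain ⟨V, φ₀, inl, inr, hVa, hinl, hinr, hl, hr, hcov, hφ₀⟩ :=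
    exists_pair X.property _ (a' ≫ j.hom) haX ha'X
  let WS : Set (Points X.obj) := O ∪ Set.range (Points.map φ₀)
  have hWS : IsOpen WS := (isOpen_range_openImmersion hj).union
    (isOpenMap_map_of_repWith (fun _ _ k (_ : Etale k) => inferInstance) hφ₀).isOpen_range
  let W : AlgSp.Space S := ⟨openSub WS, isAlgSpace_openSub X.property hWS⟩
  let jW : W ⟶ X := ObjectProperty.homMk (openSubι WS)
  have hjW : RepWith @IsOpenImmersion jW.hom := repWith_openSubι hWS
  have hWr : Set.range (Points.map jW.hom) = WS := range_openSubι X.property WS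
  obtain ⟨k, hk⟩ := exists_factor_open hjW j.hom (fun y hy => hWr.ge (Or.inl hy))
  obtain ⟨φ, hφ⟩ := exists_factor_open hjW φ₀ (fun y hy => hWr.ge (Or.inr hy))
  haveI := mono_of_openImmersion hjW
  haveI := mono_of_openImmersion hj
  have hkO : RepWith @IsOpenImmersion k := repWith_openImmersion_of_fac k jW.hom hk hj
  have hφe : RepWith @Etale φ := repWith_etale_of_comp
    (repWith_le (fun _ _ q (_ : IsOpenImmersion q) => inferInstanceAs (Etale q)) hjW) (hφ.symm ▸ hφ₀)
  have hlW : (yon S).map inl ≫ φ ≫ jW.hom = (yon S).map ιA ≫ f ≫ (jj p).hom := by rw [hφ, hl]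
  have hrW : (yon S).map inr ≫ φ ≫ jW.hom = a' ≫ j.hom := by rw [hφ, hr]
  obtain ⟨T', iT, hT', hiT⟩ := exists_redInduced_compl W.property hkO
  have hTO : ∀ t, Points.map (iT ≫ jW.hom) t ∉ O := fun t ht => by
    obtain ⟨y, hy⟩ := ht
    refine (hiT.2.1.le ⟨t, rfl⟩) ⟨y, injective_map_of_mono jW.hom ?_⟩
    rw [← Points.map_comp, hk, hy, Points.map_comp]
  -- a point of `V` over a point outside of `U` lies in the first part
  have hleft : ∀ y : Points ((yon S).obj V), Points.map (φ ≫ jW.hom) y ∉ O →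
      ∃ a : A.left, y = Points.ofScheme V (inl.left a) := fun y hy => by
    obtain ⟨u, rfl⟩ := (Points.schemeHomeo V).surjective y
    rcases hcov u with ⟨a, rfl⟩ | ⟨a, rfl⟩
    · exact ⟨a, rfl⟩
    · refine absurd ?_ hy
      have : Points.map (φ ≫ jW.hom) (Points.ofScheme V (inr.left a)) = Points.map (a' ≫ j.hom) (Points.ofScheme A' a) := by
        rw [← hrW, ← Points.ofPt_eq_map_ofScheme, ← Points.ofPt_eq_map_ofScheme, ofPt_map]
      rw [show (Points.schemeHomeo V) (inr.left a) = Points.ofScheme V (inr.left a) from rfl, this, Points.map_comp]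
      exact ⟨_, rfl⟩
  have himA : ∀ a : A.left, Points.map (φ ≫ jW.hom) (Points.ofScheme V (inl.left a)) =
      Points.map (jj p).hom (Points.ofPt f (ιA.left a)) := fun a => by
    rw [← Points.ofPt_eq_map_ofScheme, ← ofPt_map, hlW, ofPt_map, Points.map_ofPt]
  -- the closed part lands in the stratum
  have hTV : ∀ t, ∃ a : A.left, Points.map (iT ≫ jW.hom) t = Points.map (jj p).hom (Points.ofPt f (ιA.left a)) :=
    fun t => by
      have hmem := hWr.le ⟨Points.map iT t, rfl⟩
      rw [← Points.map_comp] at hmem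
      rcases hmem with hm | ⟨y, hy⟩
      · exact absurd hm (hTO t)
      · obtain ⟨a, rfl⟩ := hleft y (by rw [hφ, hy]; exact hTO t)
        exact ⟨a, by rw [← hy, ← hφ]; exact himA a⟩
  obtain ⟨g₁, hg₁⟩ := exists_factor_open (hjj p) (iT ≫ jW.hom) (by
    rintro _ ⟨t, rfl⟩
    obtain ⟨a, ha⟩ := hTV t
    exact ⟨_, ha.symm⟩)
  obtain ⟨g₂, hg₂⟩ := exists_factor_closed (hi p).1 hiT.2.2 g₁ (by
    rintro _ ⟨t, rfl⟩
    refine (hi p).2.1.ge fun ⟨y, hy⟩ => hTO t (hpO' ⟨y, ?_⟩)
    rw [← hg₁, Points.map_comp, ← hy, ← Points.map_comp]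
    exact congrArg (fun q => Points.map q y) (congrArg InducedCategory.Hom.hom (hjk p)).symm)
  have sqP := IsPullback.of_hasPullback (i p).hom f
  haveI := hiso _ _ _ sqP
  let s₀ : T' ⟶ (yon S).obj Vp := g₂ ≫ inv (pullback.fst (i p).hom f) ≫ pullback.snd (i p).hom f
  have hs₀ : s₀ ≫ f = g₁ := by
    simp only [s₀, Category.assoc, ← pullback.condition, IsIso.inv_hom_id_assoc, hg₂]
  haveI := mono_of_openImmersion (hjj p)
  have hus : ∀ {Z : Sp S} (y : Z ⟶ T') (x : Z ⟶ (yon S).obj Vp), y ≫ g₁ = x ≫ f → x = y ≫ s₀ := fun y x e => by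
    have hl' := pullback.lift_snd (f := (i p).hom) (g := f) (y ≫ g₂) x (by rw [Category.assoc, hg₂, e])
    rw [← hl']
    have : pullback.lift (f := (i p).hom) (g := f) (y ≫ g₂) x (by rw [Category.assoc, hg₂, e]) =
        y ≫ g₂ ≫ inv (pullback.fst (i p).hom f) := by
      rw [← cancel_mono (pullback.fst (i p).hom f), pullback.lift_fst]
      simp
    rw [this]
    simp [s₀]
  have hAo : RepWith @IsOpenImmersion ((yon S).map ιA) := (repWith_yon_map_iff _ _).2 hιA
  obtain ⟨sA, hsA⟩ := exists_factor_open hAo s₀ (by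
    rintro _ ⟨t, rfl⟩
    obtain ⟨a, ha⟩ := hTV t
    obtain ⟨u, hu⟩ := (Points.schemeHomeo Vp).surjective (Points.map s₀ t)
    have e₁ : Points.ofPt f u = Points.ofPt f (ιA.left a) := by
      refine injective_map_of_mono (jj p).hom ?_
      rw [← ha, ← hg₁, Points.map_comp, ← hs₀, Points.map_comp, ← hu]
      exact congrArg _ (Points.ofPt_eq_map_ofScheme _ _)
    -- the fibre of the chart over a point of the stratum is a single point
    obtain ⟨z₁, hz₁, hz₁'⟩ := exists_point_of_isPullback sqP (Points.map g₂ t) (Points.ofScheme Vp (ιA.left a)) (by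
      rw [← Points.ofPt_eq_map_ofScheme, ← e₁, Points.ofPt_eq_map_ofScheme,
        show Points.ofScheme Vp u = Points.map s₀ t from hu, ← Points.map_comp, ← Points.map_comp, hg₂, hs₀])
    obtain ⟨z₂, hz₂, hz₂'⟩ := exists_point_of_isPullback sqP (Points.map g₂ t) (Points.map s₀ t) (by
      rw [← Points.map_comp, ← Points.map_comp, hg₂, hs₀])
    have hz : z₁ = z₂ := injective_map_of_mono (pullback.fst (i p).hom f) (hz₁.trans hz₂.symm)
    refine ⟨Points.ofScheme A a, ?_⟩
    rw [← hz₂', ← hz, hz₁', ← Points.ofPt_eq_map_ofScheme, ← Category.comp_id ((yon S).map ιA), ofPt_map,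
      Points.ofPt_eq_map_ofScheme, Points.map_id])
  have hs : (sA ≫ (yon S).map inl) ≫ φ = iT := by
    rw [← cancel_mono jW.hom, Category.assoc, Category.assoc, hlW, reassoc_of% hsA, reassoc_of% hs₀, hg₁]
  have hinlo : RepWith @IsOpenImmersion ((yon S).map inl) := (repWith_yon_map_iff _ _).2 hinl
  haveI : Mono ((yon S).map ιA) := mono_of_openImmersion hAo
  have hsq : IsElemDistSq k φ := by
    refine isElemDistSq_mk hkO hφe hiT _ hs fun {Z} y x e => ?_
    obtain ⟨x', hx'⟩ := exists_factor_open hinlo x (by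
      rintro _ ⟨z, rfl⟩
      obtain ⟨a, ha⟩ := hleft (Points.map x z) (by
        rw [← Points.map_comp, ← Category.assoc, ← e, Category.assoc, Points.map_comp]
        exact hTO _)
      exact ⟨Points.ofScheme A a, by
        rw [ha, ← Points.ofPt_eq_map_ofScheme, ← Category.comp_id ((yon S).map inl), ofPt_map,
          Points.ofPt_eq_map_ofScheme, Points.map_id]⟩)
    have e2 : y ≫ g₁ = (x' ≫ (yon S).map ιA) ≫ f := by
      rw [← cancel_mono (jj p).hom, Category.assoc, hg₁, ← Category.assoc, e, ← hx', Category.assoc,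
        Category.assoc, hlW, Category.assoc, Category.assoc]
    have e3 : x' = y ≫ sA := by
      rw [← cancel_mono ((yon S).map ιA), hus y _ e2, Category.assoc, hsA]
    rw [← hx', e3, Category.assoc]
  let φW : (AlgSp.ofScheme S).obj V ⟶ W := ObjectProperty.homMk φ
  let jU : U ⟶ W := ObjectProperty.homMk k
  let P : AlgSp.Space S :=
    ⟨pullback k φ, isAlgSpace_pullback W.property.diag U.property (IsAlgSpace.yon_obj V) k φ⟩
  refine ⟨V, hVa, W, jW, jU, φW, P, ObjectProperty.homMk (pullback.fst k φ), ObjectProperty.homMk (pullback.snd k φ),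
    show RepWith @Etale (φ ≫ jW.hom) from hφ.symm ▸ hφ₀, hjW, ObjectProperty.hom_ext _ hk, ?_, ?_, hsq,
    IsPullback.of_hasPullback k φ, ?_⟩
  · rw [hWr, show (φW ≫ jW).hom = φ₀ from hφ]
  · rw [hWr]
    intro hWO
    refine hxO (hWO.le (Or.inr ⟨Points.ofScheme V (inl.left (show A.left from ⟨v, hv⟩)), ?_⟩))
    rw [← hφ]
    exact himA ⟨v, hv⟩
  · refine Function.Surjective.denseRange fun y => ?_
    obtain ⟨a, rfl⟩ := surjective_ofPt_of_repWith le_rfl ha's y
    obtain ⟨z, hz, -⟩ := exists_point_of_isPullback (IsPullback.of_hasPullback k φ) (Points.ofPt a' a)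
      (Points.ofScheme V (inr.left a)) (injective_map_of_mono jW.hom (by
        rw [← Points.map_comp, ← Points.map_comp, hk, ← Points.ofPt_eq_map_ofScheme, ← ofPt_map, hrW,
          Points.map_ofPt]))
    exact ⟨z, hz⟩

end Groth.Agent.H13AlgSp.DistSqExist
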