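import Groth.Prelude.Def_Hensel
import Groth.Agent.S0501
import Groth.Agent.S0507
import Mathlib.RingTheory.Unramified.LocalRing

/-!
Henselization of an etale neighbourhood without residue extension.
-/

set_option autoImplicit false
set_option backward.isDefEq.respectTransparency false

universe u

open IsLocalRing

namespace Groth.Agent.H13AlgSp

theorem map_maximalIdeal_of_etale {R₀ B₀ R A : Type u} [CommRing R₀] [CommRing B₀] [CommRing R] [CommRing A]
    [IsLocalRing R] [IsLocalRing A] [Algebra R₀ B₀] [Algebra.Etale R₀ B₀] [Algebra R₀ R] [Algebra B₀ A]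
    (M : Submonoid B₀) [IsLocalization M A] (φ : R →+* A) [IsLocalHom φ]
    (hφ : φ.comp (algebraMap R₀ R) = (algebraMap B₀ A).comp (algebraMap R₀ B₀)) :
    (maximalIdeal R).map φ = maximalIdeal A := by
  let _ : Algebra R A := φ.toAlgebra
  let _ : Algebra R₀ A := ((algebraMap B₀ A).comp (algebraMap R₀ B₀)).toAlgebra
  have : IsScalarTower R₀ B₀ A := IsScalarTower.of_algebraMap_eq fun _ => rfl
  have : IsScalarTower R₀ R A := IsScalarTower.of_algebraMap_eq' hφ.symm
  have : IsLocalHom (algebraMap R A) := ‹IsLocalHom φ›
  have : Algebra.FormallyUnramified B₀ A := Algebra.FormallyUnramified.of_isLocalization M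
  have : Algebra.FormallyUnramified R₀ A := Algebra.FormallyUnramified.comp R₀ B₀ A
  have : Algebra.FormallyUnramified R A := Algebra.FormallyUnramified.of_restrictScalars R₀ R A
  have : Algebra.EssFiniteType B₀ A := Algebra.EssFiniteType.of_isLocalization A M
  have : Algebra.EssFiniteType R₀ A := Algebra.EssFiniteType.comp R₀ B₀ A
  have : Algebra.EssFiniteType R A := Algebra.EssFiniteType.of_comp R₀ R A
  exact Algebra.FormallyUnramified.map_maximalIdeal

theorem isHenselization_comp {R₀ B₀ R A S : Type u} [CommRing R₀] [CommRing B₀] [CommRing R] [CommRing A] [CommRing S]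
    [IsLocalRing R] [IsLocalRing A] [IsLocalRing S] [Algebra R₀ B₀] [Algebra.Etale R₀ B₀] [Algebra R₀ R] [Algebra B₀ A]
    (p : Ideal R₀) [p.IsPrime] [IsLocalization.AtPrime R p] (q : Ideal B₀) [q.IsPrime] [IsLocalization.AtPrime A q]
    (φ : R →+* A) [IsLocalHom φ]
    (hφ : φ.comp (algebraMap R₀ R) = (algebraMap B₀ A).comp (algebraMap R₀ B₀))
    (hres : Function.Surjective (ResidueField.map φ))
    [Algebra A S] [IsLocalHom (algebraMap A S)] [Hensel.IsHenselization A S] [Algebra R S]
    (halg : algebraMap R S = (algebraMap A S).comp φ) [IsLocalHom (algebraMap R S)] :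
    Hensel.IsHenselization R S where
  henselian := Hensel.IsHenselization.henselian A
  universal T _ _ f hf := by
    have := hf
    let e : ResidueField R ≃+* ResidueField A :=
      RingEquiv.ofBijective _ ⟨(ResidueField.map φ).injective, hres⟩
    let ψ : B₀ →+* ResidueField T :=
      ((ResidueField.map f).comp e.symm.toRingHom).comp ((residue A).comp (algebraMap B₀ A))
    have hψ0 : ∀ b, ψ b = 0 ↔ b ∈ q := fun b => by
      simp only [ψ, RingHom.comp_apply, map_eq_zero_iff _ (ResidueField.map f).injective, RingEquiv.toRingHom_eq_coe,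
        RingHom.coe_coe, map_eq_zero_iff _ e.symm.injective, residue_eq_zero_iff]
      exact IsLocalization.AtPrime.to_map_mem_maximal_iff A q b
    let τ : q.ResidueField →+* ResidueField T := Ideal.ResidueField.lift q ψ (fun b hb => (hψ0 b).2 hb)
      fun b hb => isUnit_iff_ne_zero.2 fun h => hb ((hψ0 b).1 h)
    have hτ : ∀ b, τ (algebraMap B₀ q.ResidueField b) = ψ b := fun b => Ideal.ResidueField.lift_algebraMap _ _ _ _ b
    let _ : Algebra R₀ T := (f.comp (algebraMap R₀ R)).toAlgebra
    have hτR : τ.comp (algebraMap R₀ q.ResidueField) = (residue T).comp (algebraMap R₀ T) := by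
      ext r
      rw [RingHom.comp_apply, IsScalarTower.algebraMap_apply R₀ B₀ q.ResidueField, hτ]
      simp only [ψ, RingHom.comp_apply]
      rw [← RingHom.comp_apply (algebraMap B₀ A), ← hφ, RingHom.comp_apply,
        show residue A (φ (algebraMap R₀ R r)) = e (residue R (algebraMap R₀ R r)) from rfl]
      simp only [RingEquiv.toRingHom_eq_coe, RingHom.coe_coe, RingEquiv.symm_apply_apply]
      rfl
    obtain ⟨h₀, ⟨hh₀, hh₀'⟩, huniq⟩ := Groth.Agent.S0501.result R₀ T B₀ q τ hτR
    have hu : ∀ b : q.primeCompl, IsUnit (h₀.toRingHom b) := fun b => by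
      refine notMem_maximalIdeal.1 fun hb => b.2 ?_
      exact hh₀.le hb
    let h : A →+* T := IsLocalization.lift hu
    have hhb : ∀ b, h (algebraMap B₀ A b) = h₀ b := IsLocalization.lift_eq hu
    have hhφ : h.comp φ = f := by
      refine IsLocalization.ringHom_ext p.primeCompl (RingHom.ext fun r => ?_)
      rw [RingHom.comp_assoc, hφ, ← RingHom.comp_assoc]
      change h (algebraMap B₀ A (algebraMap R₀ B₀ r)) = _
      rw [hhb]
      exact h₀.commutes r
    have hh : IsLocalHom h := by
      refine ((IsLocalRing.local_hom_TFAE h).out 0 2).mpr ?_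
      rw [← map_maximalIdeal_of_etale q.primeCompl φ hφ, Ideal.map_map, hhφ]
      exact ((IsLocalRing.local_hom_TFAE f).out 0 2).mp hf
    obtain ⟨g, hg, hgu⟩ := Hensel.IsHenselization.universal (R := A) (S := S) T h hh
    refine ⟨g, ?_, fun g₂ hg₂ => hgu g₂ ?_⟩
    · change g.comp (algebraMap R S) = f
      rw [halg, ← RingHom.comp_assoc, hg, hhφ]
    · change g₂.comp (algebraMap A S) = h
      have hg₂' : (g₂.comp (algebraMap A S)).comp φ = f := by rw [RingHom.comp_assoc, ← halg]; exact hg₂
      have hloc : IsLocalHom (g₂.comp (algebraMap A S)) := by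
        refine ((IsLocalRing.local_hom_TFAE _).out 0 2).mpr ?_
        rw [← map_maximalIdeal_of_etale q.primeCompl φ hφ, Ideal.map_map, hg₂']
        exact ((IsLocalRing.local_hom_TFAE f).out 0 2).mp hf
      generalize g₂.comp (algebraMap A S) = h₂ at hg₂' hloc
      let h₂₀ : B₀ →ₐ[R₀] T := ⟨h₂.comp (algebraMap B₀ A), fun r => by
        change h₂ ((algebraMap B₀ A).comp (algebraMap R₀ B₀) r) = f (algebraMap R₀ R r)
        rw [← hφ, ← hg₂']; rfl⟩
      have key : h₂₀ = h₀ := by
        refine huniq h₂₀ ⟨?_, fun b => ?_⟩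
        · ext b
          change h₂ (algebraMap B₀ A b) ∈ maximalIdeal T ↔ b ∈ q
          rw [← IsLocalization.AtPrime.to_map_mem_maximal_iff A q b, mem_maximalIdeal, mem_maximalIdeal,
            mem_nonunits_iff, mem_nonunits_iff, not_iff_not]
          exact isUnit_map_iff h₂ _
        · rw [hτ]
          obtain ⟨r, hr⟩ := hres (residue A (algebraMap B₀ A b))
          obtain ⟨r, rfl⟩ := residue_surjective r
          have hψ : ψ b = residue T (f r) := by
            simp only [ψ, RingHom.comp_apply, ← hr]
            rw [show ResidueField.map φ (residue R r) = e (residue R r) from rfl]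
            simp only [RingEquiv.toRingHom_eq_coe, RingHom.coe_coe, RingEquiv.symm_apply_apply]
            rfl
          rw [hψ, ← hg₂']
          change residue T (h₂ (algebraMap B₀ A b)) = residue T (h₂ (φ r))
          change residue A (φ r) = _ at hr
          have := congrArg (ResidueField.map h₂) hr
          simpa [ResidueField.map_residue] using this.symm
      refine IsLocalization.ringHom_ext q.primeCompl (RingHom.ext fun b => ?_)
      change h₂₀ b = h (algebraMap B₀ A b)
      rw [hhb, key]

end Groth.Agent.H13AlgSp
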