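import Groth.Agent.H13AlgSp.ElemNbhd
import Groth.Agent.H9Hens.BranchScheme
import Groth.Agent.S9752
import Groth.Agent.S9237
import Groth.Agent.S10440
import Groth.Prelude.Def_CAlgX

/-!
# Branches of an algebraic space at a point through elementary etale neighbourhoods
-/

set_option autoImplicit false
set_option linter.style.haveILetI false
set_option backward.isDefEq.respectTransparency false

universe u

open CategoryTheory CategoryTheory.Limits AlgebraicGeometry Opposite Topology TopologicalSpace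
open AlgSp Groth.Agent.H12AlgSp

namespace Groth.Agent.H13AlgSp.ElemBranches

variable {S : Scheme.{u}} {X : Space S} {x : Points X.obj}

/-- All elementary etale neighbourhoods have the same number of branches. -/
theorem numBranchesAt_eq (hX : IsDecent X.obj) {U₁ U₂ : Over S} {a₁ : (yon S).obj U₁ ⟶ X.obj}
    {a₂ : (yon S).obj U₂ ⟶ X.obj} {u₁ : U₁.left} {u₂ : U₂.left}
    (h₁ : IsElemEtaleNbhd a₁ u₁ x) (h₂ : IsElemEtaleNbhd a₂ u₂ x) :
    Brnch.numBranchesAt U₁.left u₁ = Brnch.numBranchesAt U₂.left u₂ := by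
  obtain ⟨U, a, v, k₁, k₂, ha, e₁, e₂, rfl, rfl⟩ := exists_elemEtaleNbhd_dominating X.property h₁ h₂
  obtain ⟨H, _, _, _, _, π, hπ, hH⟩ := H9Hens.exists_isHenselization_colim (U.left.presheaf.stalk v)
  have key : ∀ {V : Over S} (b : (yon S).obj V ⟶ X.obj) (k : U ⟶ V), (yon S).map k ≫ b = a →
      IsElemEtaleNbhd b (k.left.base v) x → Brnch.numBranchesAt V.left (k.left.base v) = ENat.card (minimalPrimes H) := by
    intro V b k hk hb
    letI : Algebra ↥(V.left.presheaf.stalk (k.left.base v)) H :=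
      ((algebraMap ↥(U.left.presheaf.stalk v) H).comp (k.left.stalkMap v).hom).toAlgebra
    obtain ⟨hl, hh⟩ := S10440.result X hX x b a k v hk hb ha H
    haveI := hl
    haveI := hh
    exact (S9237.result (V.left.presheaf.stalk (k.left.base v)) H).symm
  exact (key a₁ k₁ e₁ h₁).trans (key a₂ k₂ e₂ h₂).symm

/-- An elementary neighbourhood of a point of an elementary neighbourhood is one of the point. -/
theorem isElemEtaleNbhd_comp {U : Over S} {a : (yon S).obj U ⟶ X.obj} {u : U.left}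
    (h : IsElemEtaleNbhd a u x) {V : Scheme.{u}} (g : V ⟶ U.left) (v : V) (hg : Hens2.IsEtaleNbhd g v u) :
    IsElemEtaleNbhd ((yon S).map (Over.homMk g : Over.mk (g ≫ U.hom) ⟶ U) ≫ a)
      (v : ↥(Over.mk (g ≫ U.hom)).left) x := by
  obtain ⟨het, rfl, hb⟩ := hg
  let W : Over S := Over.mk (g ≫ U.hom)
  let k : W ⟶ U := Over.homMk g
  refine ⟨repWith_comp ((repWith_yon_map_iff _ k).2 het) h.etale, ?_, ?_⟩
  · rw [ofPt_map]
    exact h.ofPt_eq
  · rw [FieldPt.toHom_ofPt]
    let k₀ : resPt (U := W) v ⟶ resPt (U := U) (g v) := Over.homMk (Spec.map (g.residueFieldMap v)) (by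
      show Spec.map (g.residueFieldMap v) ≫ U.left.fromSpecResidueField (g v) ≫ U.hom = _
      rw [Scheme.Hom.SpecMap_residueFieldMap_fromSpecResidueField_assoc]
      rfl)
    haveI : IsIso (g.residueFieldMap v) := (ConcreteCategory.isIso_iff_bijective _).2 hb
    haveI : IsIso k₀.left := inferInstanceAs (IsIso (Spec.map (g.residueFieldMap v)))
    haveI : IsIso k₀ := by
      haveI : IsIso ((Over.forget S).map k₀) := ‹IsIso k₀.left›
      exact isIso_of_reflects_iso k₀ (Over.forget S)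
    have hk : k₀ ≫ resMap (U := U) (g v) = resMap (U := W) v ≫ k :=
      Over.OverMorphism.ext (g.SpecMap_residueFieldMap_fromSpecResidueField v)
    have m := mono_elem h
    change Mono ((yon S).map (resMap (U := W) v) ≫ (yon S).map k ≫ a)
    rw [← Category.assoc, ← Functor.map_comp, ← hk, Functor.map_comp, Category.assoc]
    exact mono_comp _ _

theorem encard_minimalPrimes_le {U : Scheme.{u}} (u : U) :
    {Z : Set ↥U | Z ∈ irreducibleComponents ↥U ∧ u ∈ Z}.encard ≤ Brnch.numBranchesAt U u := by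
  rw [S9752.result]
  refine le_iSup_of_le U (le_iSup_of_le (𝟙 U) (le_iSup_of_le u (le_iSup_of_le ⟨inferInstance, rfl, ?_⟩ le_rfl)))
  exact ConcreteCategory.bijective_of_isIso ((𝟙 U : U ⟶ U).residueFieldMap u)

/-- The branch number of an elementary neighbourhood is the supremum of the numbers of components. -/
theorem exists_components_ge {U₀ : Over S} {a₀ : (yon S).obj U₀ ⟶ X.obj} {u₀ : U₀.left}
    (h₀ : IsElemEtaleNbhd a₀ u₀ x) {m : ℕ} (hm : (m : ℕ∞) ≤ Brnch.numBranchesAt U₀.left u₀) :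
    ∃ (U : Over S) (a : (yon S).obj U ⟶ X.obj) (u : U.left), IsElemEtaleNbhd a u x ∧
      (m : ℕ∞) ≤ {Z : Set ↥U.left | Z ∈ irreducibleComponents ↥U.left ∧ u ∈ Z}.encard := by
  rcases Nat.eq_zero_or_pos m with rfl | hpos
  · exact ⟨U₀, a₀, u₀, h₀, zero_le⟩
  by_contra hc
  push Not at hc
  have h1 : Brnch.numBranchesAt U₀.left u₀ ≤ ((m - 1 : ℕ) : ℕ∞) := by
    rw [S9752.result]
    refine iSup_le fun V => iSup_le fun g => iSup_le fun v => iSup_le fun hg => ?_
    have h2 := hc _ _ _ (isElemEtaleNbhd_comp h₀ g v hg)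
    obtain ⟨j, hj⟩ := ENat.ne_top_iff_exists.1 h2.ne_top
    change {Z : Set ↥V | Z ∈ irreducibleComponents ↥V ∧ v ∈ Z}.encard < (m : ℕ∞) at h2
    change (j : ℕ∞) = {Z : Set ↥V | Z ∈ irreducibleComponents ↥V ∧ v ∈ Z}.encard at hj
    rw [← hj] at h2 ⊢
    have h3 : j < m := by exact_mod_cast h2
    exact_mod_cast (show j ≤ m - 1 by omega)
  have h4 : m ≤ m - 1 := by exact_mod_cast hm.trans h1
  omega

theorem numBranchesAt_eq_encard {U₀ : Over S} (u₀ : U₀.left) (R : Type u) [CommRing R] [IsLocalRing R]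
    [Algebra ↥(U₀.left.presheaf.stalk u₀) R] [IsLocalHom (algebraMap ↥(U₀.left.presheaf.stalk u₀) R)]
    [Hensel.IsHenselization ↥(U₀.left.presheaf.stalk u₀) R] :
    Brnch.numBranchesAt U₀.left u₀ = (minimalPrimes R).encard :=
  (S9237.result (U₀.left.presheaf.stalk u₀) R).symm

theorem hasUniqueMinimalPrime_iff (A : Type u) [CommRing A] :
    CAlgX.HasUniqueMinimalPrime A ↔ (minimalPrimes A).encard = 1 := by
  rw [Set.encard_eq_one]
  exact ⟨fun ⟨P, hP, hu⟩ => ⟨P, Set.eq_singleton_iff_unique_mem.2 ⟨hP, hu⟩⟩,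
    fun ⟨P, h⟩ => ⟨P, (Set.eq_singleton_iff_unique_mem.1 h).1, (Set.eq_singleton_iff_unique_mem.1 h).2⟩⟩

/-- The bounded-and-attained form of the branch number. -/
theorem bounded_attained_iff (hX : IsDecent X.obj) (n : ℕ) {U₀ : Over S} {a₀ : (yon S).obj U₀ ⟶ X.obj}
    {u₀ : U₀.left} (h₀ : IsElemEtaleNbhd a₀ u₀ x) :
    ((∀ (U : Over S) (a : (yon S).obj U ⟶ X.obj) (u : U.left), IsElemEtaleNbhd a u x →
        {Z : Set ↥U.left | Z ∈ irreducibleComponents ↥U.left ∧ u ∈ Z}.encard ≤ n) ∧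
      (∃ (U : Over S) (a : (yon S).obj U ⟶ X.obj) (u : U.left), IsElemEtaleNbhd a u x ∧
        {Z : Set ↥U.left | Z ∈ irreducibleComponents ↥U.left ∧ u ∈ Z}.encard = n)) ↔
      Brnch.numBranchesAt U₀.left u₀ = n := by
  constructor
  · rintro ⟨hle, U, a, u, hu, he⟩
    refine le_antisymm (not_lt.1 fun hlt => ?_) ?_
    · obtain ⟨V, b, v, hv, hge⟩ := exists_components_ge h₀ (m := n + 1) (by exact_mod_cast Order.add_one_le_of_lt hlt)
      have h5 : n + 1 ≤ n := by exact_mod_cast hge.trans (hle V b v hv)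
      omega
    · rw [← he, numBranchesAt_eq hX h₀ hu]
      exact encard_minimalPrimes_le u
  · intro hN
    have hle : ∀ (U : Over S) (a : (yon S).obj U ⟶ X.obj) (u : U.left), IsElemEtaleNbhd a u x →
        {Z : Set ↥U.left | Z ∈ irreducibleComponents ↥U.left ∧ u ∈ Z}.encard ≤ n := fun U a u hu => by
      rw [← hN, numBranchesAt_eq hX h₀ hu]
      exact encard_minimalPrimes_le u
    obtain ⟨U, a, u, hu, hge⟩ := exists_components_ge h₀ (m := n) hN.ge
    exact ⟨hle, U, a, u, hu, le_antisymm (hle U a u hu) hge⟩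

end Groth.Agent.H13AlgSp.ElemBranches
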