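import Groth.Agent.H13AlgSp.MonoPoint
import Groth.Agent.H12AlgSp.DecentField

/-!
Elementary etale neighbourhoods of a point form a cofiltered category.
-/

universe u

open CategoryTheory CategoryTheory.Limits AlgebraicGeometry Opposite Topology
open AlgSp Groth.Agent.H12AlgSp

namespace Groth.Agent.H13AlgSp

variable {S : Scheme.{u}}

theorem mono_elem {X : Sp S} {U : Over S} {a : (yon S).obj U ⟶ X} {u : U.left} {x : Points X}
    (h : IsElemEtaleNbhd a u x) : Mono ((yon S).map (resMap u) ≫ a) := by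
  have := h.mono
  rw [FieldPt.toHom_ofPt] at this
  exact this

theorem mk_elem {X : Sp S} {U : Over S} {a : (yon S).obj U ⟶ X} {u : U.left} {x : Points X}
    (h : IsElemEtaleNbhd a u x) : Points.mk (FieldPt.ofPt a u) = x := h.ofPt_eq

theorem resMap_cancel {U Z : Over S} (u : U.left) {g g' : Z ⟶ resPt u} (h : g ≫ resMap u = g' ≫ resMap u) :
    g = g' := by
  have := mono_resMap_left u
  exact Over.OverMorphism.ext ((cancel_mono (resMap u).left).1 (congrArg CommaMorphism.left h))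

theorem exists_elemEtaleNbhd_dominating {X : Sp S} (hX : IsAlgSpace X) {x : Points X} {U₁ U₂ : Over S}
    {a₁ : (yon S).obj U₁ ⟶ X} {a₂ : (yon S).obj U₂ ⟶ X} {u₁ : U₁.left} {u₂ : U₂.left}
    (h₁ : IsElemEtaleNbhd a₁ u₁ x) (h₂ : IsElemEtaleNbhd a₂ u₂ x) :
    ∃ (U : Over S) (a : (yon S).obj U ⟶ X) (v : U.left) (k₁ : U ⟶ U₁) (k₂ : U ⟶ U₂),
      IsElemEtaleNbhd a v x ∧ (yon S).map k₁ ≫ a₁ = a ∧ (yon S).map k₂ ≫ a₂ = a ∧
        k₁.left v = u₁ ∧ k₂.left v = u₂ := by
  obtain ⟨c, hc, -⟩ := exists_factor_of_mk_eq hX (FieldPt.ofPt a₂ u₂) (FieldPt.ofPt a₁ u₁) h₂.mono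
    ((mk_elem h₂).trans (mk_elem h₁).symm)
  change (yon S).map c ≫ (FieldPt.ofPt a₂ u₂).toHom = (FieldPt.ofPt a₁ u₁).toHom at hc
  rw [FieldPt.toHom_ofPt, FieldPt.toHom_ofPt] at hc
  obtain ⟨c', hc'⟩ : ∃ c' : resPt u₁ ⟶ resPt u₂,
      (yon S).map (c' ≫ resMap u₂) ≫ a₂ = (yon S).map (resMap u₁) ≫ a₁ :=
    ⟨c, by rw [Functor.map_comp, Category.assoc]; exact hc⟩
  obtain ⟨R, s, t', sq⟩ := h₁.etale.1 a₂
  obtain ⟨t, rfl⟩ := (yon S).map_surjective t'
  obtain ⟨l', hl₁, hl₂⟩ := sq.exists_lift ((yon S).map (resMap u₁)) ((yon S).map (c' ≫ resMap u₂)) hc'.symm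
  obtain ⟨l, rfl⟩ := (yon S).map_surjective l'
  rw [← Functor.map_comp] at hl₁ hl₂
  have e₁ : l ≫ t = resMap u₁ := (yon S).map_injective hl₁
  have e₂ : l ≫ s = c' ≫ resMap u₂ := (yon S).map_injective hl₂
  let pt₁ : (resPt u₁).left := IsLocalRing.closedPoint (U₁.left.residueField u₁)
  let v := l.left pt₁
  have hv₁ : t.left v = u₁ := by
    change (l ≫ t).left pt₁ = u₁
    rw [e₁]
    exact Scheme.fromSpecResidueField_apply _ _
  have hv₂ : s.left v = u₂ := by
    change (l ≫ s).left pt₁ = u₂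
    rw [e₂]
    change U₂.left.fromSpecResidueField u₂ (c'.left pt₁) = u₂
    exact Scheme.fromSpecResidueField_apply u₂ _
  have hse : Etale s.left := h₁.etale.2 a₂ _ s sq
  have ha : RepWith @Etale ((yon S).map s ≫ a₂) :=
    repWith_comp ((repWith_yon_map_iff _ _).2 hse) h₂.etale
  refine ⟨R, (yon S).map s ≫ a₂, v, t, s, ⟨ha, ?_, ?_⟩, sq.w, rfl, hv₁, hv₂⟩
  · rw [ofPt_map, hv₂, h₂.ofPt_eq]
  obtain ⟨g, hg⟩ := exists_resLift t v u₁ hv₁
  obtain ⟨g', hg'⟩ := exists_resLift s v u₂ hv₂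
  have m₁ := mono_elem h₁
  have m₂ := mono_elem h₂
  have hgc : g ≫ c' = g' := by
    apply (yon S).map_injective
    rw [← cancel_mono ((yon S).map (resMap u₂) ≫ a₂), ← Category.assoc, ← Category.assoc,
      ← Functor.map_comp, ← Functor.map_comp, Category.assoc, Functor.map_comp, Category.assoc, hc',
      ← Category.assoc, ← Functor.map_comp, hg, hg', Functor.map_comp, Category.assoc, sq.w,
      Functor.map_comp, Category.assoc]
  rw [FieldPt.toHom_ofPt]
  have : Mono ((yon S).map g) := by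
    have h3 : g ≫ l = resMap v := by
      apply (yon S).map_injective
      refine sq.hom_ext ?_ ?_
      · rw [← Functor.map_comp, ← Functor.map_comp, Category.assoc, e₁, hg]
      · rw [← Functor.map_comp, ← Functor.map_comp, Category.assoc, e₂, ← Category.assoc, hgc, hg']
    have : Mono g := ⟨fun {Z} q₁ q₂ e => resMap_cancel v (by
      rw [← h3, ← Category.assoc, e, Category.assoc])⟩
    infer_instance
  have e : (yon S).map (resMap v) ≫ (yon S).map s ≫ a₂ = (yon S).map g ≫ (yon S).map (resMap u₁) ≫ a₁ := by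
    rw [← sq.w, ← Category.assoc, ← Category.assoc, ← Functor.map_comp, ← Functor.map_comp, hg]
  change Mono ((yon S).map (resMap v) ≫ (yon S).map s ≫ a₂)
  rw [e]
  exact mono_comp _ _

theorem exists_elemEtaleNbhd_equalizing {X : Sp S} {x : Points X} {U₁ U₂ : Over S}
    {a₁ : (yon S).obj U₁ ⟶ X} {a₂ : (yon S).obj U₂ ⟶ X} {u₁ : U₁.left} {u₂ : U₂.left} {b c : U₁ ⟶ U₂}
    (h₁ : IsElemEtaleNbhd a₁ u₁ x) (h₂ : IsElemEtaleNbhd a₂ u₂ x) (hb : (yon S).map b ≫ a₂ = a₁)
    (hc : (yon S).map c ≫ a₂ = a₁) (hbu : b.left u₁ = u₂) (hcu : c.left u₁ = u₂) :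
    ∃ (U : Over S) (a : (yon S).obj U ⟶ X) (v : U.left) (h : U ⟶ U₁),
      IsElemEtaleNbhd a v x ∧ (yon S).map h ≫ a₁ = a ∧ h.left v = u₁ ∧ h ≫ b = h ≫ c := by
  obtain ⟨R, s, t', sq⟩ := h₂.etale.1 a₂
  obtain ⟨t, rfl⟩ := (yon S).map_surjective t'
  obtain ⟨d', hd₁, hd₂⟩ := sq.exists_lift (𝟙 _) (𝟙 _) rfl
  obtain ⟨d, rfl⟩ := (yon S).map_surjective d'
  rw [← Functor.map_comp, ← (yon S).map_id] at hd₁ hd₂
  have ed₁ : d ≫ t = 𝟙 _ := (yon S).map_injective hd₁
  have ed₂ : d ≫ s = 𝟙 _ := (yon S).map_injective hd₂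
  obtain ⟨m', hm₁, hm₂⟩ := sq.exists_lift ((yon S).map b) ((yon S).map c) (hb.trans hc.symm)
  obtain ⟨m, rfl⟩ := (yon S).map_surjective m'
  rw [← Functor.map_comp] at hm₁ hm₂
  have em₁ : m ≫ t = b := (yon S).map_injective hm₁
  have em₂ : m ≫ s = c := (yon S).map_injective hm₂
  have : Etale s.left := h₂.etale.2 a₂ _ s sq
  have hds : d.left ≫ s.left = 𝟙 _ := congrArg CommaMorphism.left ed₂
  have : Etale (d.left ≫ s.left) := hds ▸ inferInstance
  have : Etale d.left := Etale.of_comp d.left s.left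
  have : Mono (d.left ≫ s.left) := hds ▸ inferInstance
  have : Mono d.left := mono_of_mono d.left s.left
  have : IsOpenImmersion d.left := IsOpenImmersion.of_flat_of_mono d.left
  obtain ⟨g, hg⟩ := exists_resLift b u₁ u₂ hbu
  obtain ⟨g', hg'⟩ := exists_resLift c u₁ u₂ hcu
  have m₂ := mono_elem h₂
  have hgg : g = g' := (yon S).map_injective (by
    rw [← cancel_mono ((yon S).map (resMap u₂) ≫ a₂), ← Category.assoc, ← Category.assoc,
      ← Functor.map_comp, ← Functor.map_comp, hg, hg', Functor.map_comp, Category.assoc, hb,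
      Functor.map_comp, Category.assoc, hc])
  have hgd : resMap u₁ ≫ m = g ≫ resMap u₂ ≫ d := by
    apply (yon S).map_injective
    refine sq.hom_ext ?_ ?_
    · rw [← Functor.map_comp, ← Functor.map_comp]
      simp only [Category.assoc, em₁, ed₁, Category.comp_id, hg]
    · rw [← Functor.map_comp, ← Functor.map_comp]
      simp only [Category.assoc, em₂, ed₂, Category.comp_id]
      rw [hgg, hg']
  let pt₁ : (resPt u₁).left := IsLocalRing.closedPoint (U₁.left.residueField u₁)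
  have hmem : m.left u₁ ∈ Set.range d.left := by
    refine ⟨(resMap u₂).left (g.left pt₁), ?_⟩
    have e : (resMap u₁).left pt₁ = u₁ := Scheme.fromSpecResidueField_apply _ _
    conv_rhs => rw [← e]
    exact (congrArg (fun k : resPt u₁ ⟶ R => k.left pt₁) hgd).symm
  let O : U₁.left.Opens := ⟨m.left ⁻¹' Set.range d.left, d.left.isOpenEmbedding.isOpen_range.preimage m.left.continuous⟩
  let v : (openOver U₁ O).left := ⟨u₁, hmem⟩
  have hrange : Set.range ((openIncl U₁ O).left ≫ m.left) ⊆ Set.range d.left := by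
    rintro _ ⟨w, rfl⟩
    exact w.2
  let k := IsOpenImmersion.lift d.left ((openIncl U₁ O).left ≫ m.left) hrange
  have hk : k ≫ d.left = (openIncl U₁ O).left ≫ m.left := IsOpenImmersion.lift_fac _ _ _
  refine ⟨openOver U₁ O, _, v, openIncl U₁ O, ⟨repWith_etale_openIncl h₁.etale O, ?_, ?_⟩, rfl, rfl, ?_⟩
  · rw [ofPt_map]
    exact h₁.ofPt_eq
  · obtain ⟨q, hq⟩ := exists_resLift (openIncl U₁ O) v u₁ rfl
    have : Mono (openIncl U₁ O) := by
      have : Mono (openIncl U₁ O).left := inferInstanceAs (Mono O.ι)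
      exact (Over.forget S).mono_of_mono_map this
    have : Mono q := ⟨fun {Z} q₁ q₂ e => resMap_cancel v (by
      rw [← cancel_mono (openIncl U₁ O), Category.assoc, Category.assoc, ← hq, ← Category.assoc, e,
        Category.assoc])⟩
    have hq2 : Mono ((yon S).map q) := inferInstance
    rw [FieldPt.toHom_ofPt]
    change Mono ((yon S).map (resMap v) ≫ (yon S).map (openIncl U₁ O) ≫ a₁)
    rw [← Category.assoc, ← Functor.map_comp, ← hq, Functor.map_comp, Category.assoc]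
    have m₁ := mono_elem h₁
    exact mono_comp _ _
  · refine Over.OverMorphism.ext ?_
    rw [← em₁, ← em₂]
    simp only [Over.comp_left]
    rw [← reassoc_of% hk, ← reassoc_of% hk, ← Over.comp_left, ← Over.comp_left, ed₁, ed₂]

end Groth.Agent.H13AlgSp
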