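import Groth.Agent.H13AlgSp.SepColim
import Groth.Agent.H12AlgSp.QC
import Groth.Agent.H12AlgSp.OpenSub
import Groth.Agent.H13AlgSp.InductionApps

/-!
A criterion for colimits of algebraic spaces over a base via etale descent.
-/

set_option autoImplicit false
set_option backward.isDefEq.respectTransparency false

universe w v u

open CategoryTheory CategoryTheory.Limits AlgebraicGeometry Opposite
open AlgSp Groth.Agent.H12AlgSp

namespace Groth.Agent.H13AlgSp.EtColim

variable {S : Scheme.{u}}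

/-- An etale chart by an affine scheme through a given point. -/
theorem exists_affine_chart_at {X : Sp S} (hX : IsAlgSpace X) (x : Points X) :
    ∃ (C : Over S) (e : (yon S).obj C ⟶ X) (_ : IsAffine C.left) (c : C.left),
      RepWith @Etale e ∧ Points.ofPt e c = x := by
  obtain ⟨U, p, hp, hps⟩ := hX.atlas
  obtain ⟨u, rfl⟩ := surjective_ofPt_of_repWith le_rfl hps x
  obtain ⟨O, hO, hu, -⟩ := TopologicalSpace.Opens.isBasis_iff_nbhd.mp U.left.isBasis_affineOpens
    (show u ∈ (⊤ : U.left.Opens) from trivial)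
  refine ⟨Over.mk (Scheme.Opens.ι O ≫ U.hom), (yon S).map (Over.homMk (Scheme.Opens.ι O)) ≫ p, hO, ⟨u, hu⟩,
    repWith_comp ((repWith_yon_map_iff _ _).2 (show Etale (Scheme.Opens.ι O) from inferInstance)) hp, ?_⟩
  rw [ofPt_map]
  rfl

/-- Maps agreeing on etale charts through all points agree. -/
theorem hom_ext_etale {X Z : Sp S} (hX : IsAlgSpace X) {g g' : X ⟶ Z}
    (h : ∀ x : Points X, ∃ (Q : Sp S) (_ : IsAlgSpace Q) (e : Q ⟶ X),
      IsEtaleMor e ∧ x ∈ Set.range (Points.map e) ∧ e ≫ g = e ≫ g') : g = g' := by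
  refine hom_ext_yon fun T y => ?_
  choose Q hQ e he hx heq using fun t : T.left => h (Points.ofPt y t)
  have hc : ∀ t : T.left, ∃ (C : Over S) (γ : C ⟶ T), Etale γ.left ∧ t ∈ Set.range γ.left ∧
      ∃ k, k ≫ e t = (yon S).map γ ≫ y := fun t => by
    obtain ⟨z, hz⟩ := hx t
    obtain ⟨V, ε, -, v, hε, rfl⟩ := exists_affine_chart_at (hQ t) z
    have hεe : RepWith @Etale (ε ≫ e t) := he t ε hε
    obtain ⟨C, γ, k, sq⟩ := hεe.rep y
    exact ⟨C, γ, hεe.property _ k γ sq, (preimage_ofPt_range sq).le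
      ⟨Points.ofScheme V v, by rw [← Points.ofPt_eq_map_ofScheme, ← Points.map_ofPt, hz]⟩,
      k ≫ ε, by rw [Category.assoc]; exact sq.w⟩
  choose C γ hγ hmem k hk using hc
  refine hom_ext_of_cover γ (ofArrows_mem_J _ (fun t => have := hγ t; inferInstance)
    (fun t => have := hγ t; inferInstance) fun t => ⟨t, hmem t⟩) fun t => ?_
  rw [← Category.assoc, ← Category.assoc, ← hk, Category.assoc, Category.assoc, heq]

/-- Replace two legs of a pullback square by equal ones. -/
theorem isPullback_congr {P X Y Z : Sp S} {fst fst' : P ⟶ X} {snd : P ⟶ Y} {f f' : X ⟶ Z} {g : Y ⟶ Z}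
    (sq : IsPullback fst snd f g) (h₁ : fst = fst') (h₂ : f = f') : IsPullback fst' snd f' g := h₁ ▸ h₂ ▸ sq

variable {B : AlgSp.Space S}

/-- An object over `B` from a map of algebraic spaces. -/
def mkO {T : Sp S} (hT : IsAlgSpace T) (t : T ⟶ B.obj) : Over B :=
  Over.mk (ObjectProperty.homMk t : (⟨T, hT⟩ : AlgSp.Space S) ⟶ B)

/-- A morphism over `B` from an underlying map. -/
def mkH {X Y : Over B} (φ : X.left.obj ⟶ Y.left.obj) (w : φ ≫ Y.hom.hom = X.hom.hom) : X ⟶ Y :=
  Over.homMk (ObjectProperty.homMk φ) (ObjectProperty.hom_ext _ w)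

theorem hom_ext' {X Y : Over B} {f g : X ⟶ Y} (h : f.left.hom = g.left.hom) : f = g :=
  Over.OverMorphism.ext (ObjectProperty.hom_ext _ h)

theorem left_str {X Y : Over B} (f : X ⟶ Y) : f.left.hom ≫ Y.hom.hom = X.hom.hom :=
  congrArg (fun x => x.hom) (Over.w f)

variable {I : Type v} [Category.{w} I] {D : I ⥤ Over B} {c : Cocone D}

theorem ι_map {i j : I} (f : i ⟶ j) : (D.map f).left.hom ≫ (c.ι.app j).left.hom = (c.ι.app i).left.hom :=
  congrArg (fun x => x.left.hom) (c.w f)

/-- The base change system of a space over the colimit candidate. -/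
noncomputable def bcSys {U : Over B} (a : U ⟶ c.pt) : I ⥤ Over B where
  obj i := mkO (isAlgSpace_pullback c.pt.left.property.diag U.left.property (D.obj i).left.property a.left.hom
    (c.ι.app i).left.hom) (pullback.snd a.left.hom (c.ι.app i).left.hom ≫ (D.obj i).hom.hom)
  map {i j} f := mkH (SepColim.pmapR (D.map f).left.hom (ι_map f))
    (show SepColim.pmapR _ _ ≫ pullback.snd _ _ ≫ (D.obj j).hom.hom = pullback.snd _ _ ≫ (D.obj i).hom.hom by
      rw [SepColim.pmapR_snd_assoc, left_str])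
  map_id i := hom_ext' (SepColim.pmapR_id _ (ι_map (𝟙 i)) (congrArg (fun x => x.left.hom) (D.map_id i)))
  map_comp f g := hom_ext' (SepColim.pmapR_comp _ (ι_map f) _ (ι_map g) _ (ι_map (f ≫ g))
    (congrArg (fun x => x.left.hom) (D.map_comp f g)))

/-- The projection of the base change system. -/
noncomputable def bcα {U : Over B} (a : U ⟶ c.pt) : bcSys a ⟶ D where
  app i := mkH (pullback.snd a.left.hom (c.ι.app i).left.hom) rfl
  naturality i j f := hom_ext' (SepColim.pmapR_snd (D.map f).left.hom (ι_map f))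

/-- The cocone of the base change system. -/
noncomputable def bcι {U : Over B} (a : U ⟶ c.pt) : bcSys a ⟶ (Functor.const I).obj U where
  app i := mkH (pullback.fst a.left.hom (c.ι.app i).left.hom)
    (show pullback.fst _ _ ≫ U.hom.hom = pullback.snd _ _ ≫ (D.obj i).hom.hom by
      rw [← left_str a, pullback.condition_assoc]
      exact congrArg (pullback.snd _ _ ≫ ·) (left_str (c.ι.app i)))
  naturality i j f := hom_ext' ((SepColim.pmapR_fst (D.map f).left.hom (ι_map f)).trans (Category.comp_id _).symm)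

/-- Maps agree on the base change system. -/
def Agree {U : Over B} (a : U ⟶ c.pt) {T : Sp S} (g g' : U.left.obj ⟶ T) : Prop :=
  ∀ i, pullback.fst a.left.hom (c.ι.app i).left.hom ≫ g = pullback.fst a.left.hom (c.ι.app i).left.hom ≫ g'

theorem Agree.test {U : Over B} {a : U ⟶ c.pt} {T : Sp S} {g g' : U.left.obj ⟶ T} (h : Agree a g g') {i : I}
    {W : Sp S} (t : W ⟶ U.left.obj) (d : W ⟶ (D.obj i).left.obj)
    (e : t ≫ a.left.hom = d ≫ (c.ι.app i).left.hom) : t ≫ g = t ≫ g' := by
  rw [← pullback.lift_fst t d e, Category.assoc, Category.assoc, h i]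

theorem Agree.precomp {U U' : Over B} {a : U ⟶ c.pt} {a' : U' ⟶ c.pt} {T : Sp S} {g g' : U.left.obj ⟶ T}
    (h : Agree a g g') (e : U'.left.obj ⟶ U.left.obj) (he : e ≫ a.left.hom = a'.left.hom) :
    Agree a' (e ≫ g) (e ≫ g') := fun i => by
  rw [← Category.assoc, ← Category.assoc]
  exact h.test _ (pullback.snd _ _) (by rw [Category.assoc, he]; exact pullback.condition)

variable
    (h₁ : ∀ (D' : I ⥤ Over B) (α : D' ⟶ D),
      (∀ ⦃i j : I⦄ (g : i ⟶ j), IsPullback (D'.map g).left.hom (α.app i).left.hom (α.app j).left.hom (D.map g).left.hom) →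
      (∀ i, AlgSp.IsEtaleMor (α.app i).left.hom) →
        ∃ (c' : Cocone D') (a : c'.pt ⟶ c.pt), AlgSp.IsEtaleMor a.left.hom ∧
          ∀ i, IsPullback (c'.ι.app i).left.hom (α.app i).left.hom a.left.hom (c.ι.app i).left.hom)
    (h₁' : ∀ (U U' : Over B) (u : U ⟶ c.pt) (u' : U' ⟶ c.pt), AlgSp.IsEtaleMor u.left.hom → AlgSp.IsEtaleMor u'.left.hom →
      ∀ (DU DU' : I ⥤ Over B) (αU : DU ⟶ D) (αU' : DU' ⟶ D) (ιU : DU ⟶ (Functor.const I).obj U)
        (ιU' : DU' ⟶ (Functor.const I).obj U'),
        (∀ i, IsPullback (ιU.app i).left.hom (αU.app i).left.hom u.left.hom (c.ι.app i).left.hom) →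
        (∀ i, IsPullback (ιU'.app i).left.hom (αU'.app i).left.hom u'.left.hom (c.ι.app i).left.hom) →
        ∀ (β : DU ⟶ DU'), β ≫ αU' = αU →
          ∃! m : U ⟶ U', m ≫ u' = u ∧ ∀ i, ιU.app i ≫ m = β.app i ≫ ιU'.app i)
    (h₂ : ∀ (B' Zs Us : Over S) (b : (AlgSp.yon S).obj B' ⟶ B.obj) (z : Zs ⟶ B') {XB : AlgSp.Space S}
      (x₁ : XB ⟶ c.pt.left) (x₂ : XB.obj ⟶ (AlgSp.yon S).obj B') (uu : (AlgSp.yon S).obj Us ⟶ XB.obj)
      (DU : I ⥤ AlgSp.Space S) (αU : DU ⟶ D ⋙ Over.forget B)
      (ιU : DU ⟶ (Functor.const I).obj ((AlgSp.ofScheme S).obj Us))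
      (φ : DU ⟶ (Functor.const I).obj ((AlgSp.ofScheme S).obj Zs)),
      IsAffine B'.left → IsAffine Zs.left → IsAffine Us.left → AlgSp.RepWith @Etale b →
      IsPullback x₁.hom x₂ c.pt.hom.hom b → AlgSp.RepWith @Etale uu →
      (∀ i, IsPullback (ιU.app i).hom (αU.app i).hom (uu ≫ x₁.hom) (c.ι.app i).left.hom) →
      (∀ i, (φ.app i).hom ≫ (AlgSp.yon S).map z = (ιU.app i).hom ≫ uu ≫ x₂) →
        ∃! fz : Us ⟶ Zs, (AlgSp.yon S).map fz ≫ (AlgSp.yon S).map z = uu ≫ x₂ ∧
          ∀ i, (ιU.app i).hom ≫ (AlgSp.yon S).map fz = (φ.app i).hom)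

include h₁'

/-- A compatible family of maps on the system descends. -/
theorem exists_map {U U' : Over B} (a : U ⟶ c.pt) (a' : U' ⟶ c.pt) (ha : IsEtaleMor a.left.hom)
    (ha' : IsEtaleMor a'.left.hom)
    (β : ∀ i, pullback a.left.hom (c.ι.app i).left.hom ⟶ U'.left.obj)
    (hβ : ∀ i, β i ≫ a'.left.hom = pullback.snd a.left.hom (c.ι.app i).left.hom ≫ (c.ι.app i).left.hom)
    (hn : ∀ {i j : I} (f : i ⟶ j), SepColim.pmapR (a := a.left.hom) (D.map f).left.hom (ι_map f) ≫ β j = β i) :
    ∃ m : U.left.obj ⟶ U'.left.obj, m ≫ a'.left.hom = a.left.hom ∧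
      ∀ i, pullback.fst a.left.hom (c.ι.app i).left.hom ≫ m = β i := by
  let B' : bcSys a ⟶ bcSys a' :=
    { app := fun i => mkH (pullback.lift (β i) (pullback.snd a.left.hom (c.ι.app i).left.hom) (hβ i))
        (show pullback.lift _ _ _ ≫ pullback.snd _ _ ≫ (D.obj i).hom.hom = pullback.snd _ _ ≫ (D.obj i).hom.hom by
          rw [pullback.lift_snd_assoc])
      naturality := fun i j f => hom_ext' (show SepColim.pmapR (D.map f).left.hom (ι_map f) ≫ pullback.lift _ _ _ =
          pullback.lift _ _ _ ≫ SepColim.pmapR (D.map f).left.hom (ι_map f) by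
        apply pullback.hom_ext
        · simp [hn]
        · simp) }
  obtain ⟨m, ⟨hm, hmi⟩, -⟩ := h₁' U U' a a' ha ha' (bcSys a) (bcSys a') (bcα a) (bcα a') (bcι a) (bcι a')
    (fun i => IsPullback.of_hasPullback a.left.hom (c.ι.app i).left.hom)
    (fun i => IsPullback.of_hasPullback a'.left.hom (c.ι.app i).left.hom) B'
    (NatTrans.ext (funext fun i => hom_ext' (pullback.lift_snd (β i) (pullback.snd a.left.hom (c.ι.app i).left.hom) (hβ i))))
  exact ⟨m.left.hom, congrArg (fun x => x.left.hom) hm, fun i =>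
    (congrArg (fun x => x.left.hom) (hmi i)).trans
      (pullback.lift_fst (β i) (pullback.snd a.left.hom (c.ι.app i).left.hom) (hβ i))⟩

/-- Maps between etale spaces over the candidate are determined on the system. -/
theorem ext_etale {U U' : Over B} (a : U ⟶ c.pt) (a' : U' ⟶ c.pt) (ha : IsEtaleMor a.left.hom)
    (ha' : IsEtaleMor a'.left.hom) {m m' : U.left.obj ⟶ U'.left.obj} (hm : m ≫ a'.left.hom = a.left.hom)
    (hm' : m' ≫ a'.left.hom = a.left.hom) (h : Agree a m m') : m = m' := by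
  let B' : bcSys a ⟶ bcSys a' :=
    { app := fun i => mkH (pullback.lift (pullback.fst a.left.hom (c.ι.app i).left.hom ≫ m)
          (pullback.snd a.left.hom (c.ι.app i).left.hom) (by rw [Category.assoc, hm, pullback.condition]))
        (show pullback.lift _ _ _ ≫ pullback.snd _ _ ≫ (D.obj i).hom.hom = pullback.snd _ _ ≫ (D.obj i).hom.hom by
          rw [pullback.lift_snd_assoc])
      naturality := fun i j f => hom_ext' (show SepColim.pmapR (D.map f).left.hom (ι_map f) ≫ pullback.lift _ _ _ =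
          pullback.lift _ _ _ ≫ SepColim.pmapR (D.map f).left.hom (ι_map f) by
        apply pullback.hom_ext <;> simp) }
  have w : ∀ n : U.left.obj ⟶ U'.left.obj, n ≫ a'.left.hom = a.left.hom → n ≫ U'.hom.hom = U.hom.hom :=
    fun n hn => by rw [← left_str a', ← Category.assoc, hn, left_str]
  have key := (h₁' U U' a a' ha ha' (bcSys a) (bcSys a') (bcα a) (bcα a') (bcι a) (bcι a')
    (fun i => IsPullback.of_hasPullback a.left.hom (c.ι.app i).left.hom)
    (fun i => IsPullback.of_hasPullback a'.left.hom (c.ι.app i).left.hom) B'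
    (NatTrans.ext (funext fun i => hom_ext' (pullback.lift_snd (pullback.fst a.left.hom (c.ι.app i).left.hom ≫ m)
      (pullback.snd a.left.hom (c.ι.app i).left.hom) (by rw [Category.assoc, hm, pullback.condition]))))).unique
    (y₁ := mkH m (w m hm)) (y₂ := mkH m' (w m' hm'))
    ⟨hom_ext' hm, fun i => hom_ext' (pullback.lift_fst (pullback.fst a.left.hom (c.ι.app i).left.hom ≫ m)
      (pullback.snd a.left.hom (c.ι.app i).left.hom) (by rw [Category.assoc, hm, pullback.condition])).symm⟩
    ⟨hom_ext' hm', fun i => hom_ext' ((h i).symm.trans (pullback.lift_fst (pullback.fst a.left.hom (c.ι.app i).left.hom ≫ m)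
      (pullback.snd a.left.hom (c.ι.app i).left.hom) (by rw [Category.assoc, hm, pullback.condition])).symm)⟩
  exact congrArg (fun x => x.left.hom) key

include h₂

/-- The base change of the candidate to a chart of the base. -/
theorem isEtaleMor_toXB {U : Over B} (a : U ⟶ c.pt) (ha : IsEtaleMor a.left.hom) {B' : Over S}
    {b : (yon S).obj B' ⟶ B.obj} (hb : RepWith @Etale b) (x : U.left.obj ⟶ pullback c.pt.hom.hom b)
    (hx : x ≫ pullback.fst c.pt.hom.hom b = a.left.hom) : IsEtaleMor x := by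
  have hXB := isAlgSpace_pullback B.property.diag c.pt.left.property (IsAlgSpace.yon_obj B') c.pt.hom.hom b
  exact EtaleSmooth.isEtaleMor_cancel U.left.property hXB c.pt.left.property
    (EtaleSmooth.isEtaleMor_of_isPullback c.pt.left.property (IsAlgSpace.yon_obj B') B.property hXB
      (IsPullback.of_hasPullback _ _) (fun _ _ hφ => repWith_comp hφ hb)) (by rw [hx]; exact ha)

/-- Maps to a chart agreeing on the system agree. -/
theorem ext_to_chart {U : Over B} (a : U ⟶ c.pt) (ha : IsEtaleMor a.left.hom) {B' Zs : Over S}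
    {b : (yon S).obj B' ⟶ B.obj} (zc : Zs ⟶ B') (hb : RepWith @Etale b) (hB : IsAffine B'.left)
    (hZ : IsAffine Zs.left) {g g' : U.left.obj ⟶ (yon S).obj Zs} (hg : g ≫ (yon S).map zc ≫ b = U.hom.hom)
    (hg' : g' ≫ (yon S).map zc ≫ b = U.hom.hom) (h : Agree a g g') : g = g' := by
  have hXB := isAlgSpace_pullback B.property.diag c.pt.left.property (IsAlgSpace.yon_obj B') c.pt.hom.hom b
  let π := pullback.fst c.pt.hom.hom b
  have hπ : IsEtaleMor π := EtaleSmooth.isEtaleMor_of_isPullback c.pt.left.property (IsAlgSpace.yon_obj B')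
    B.property hXB (IsPullback.of_hasPullback _ _) (fun _ _ hφ => repWith_comp hφ hb)
  let mk : ∀ k : U.left.obj ⟶ (yon S).obj Zs, k ≫ (yon S).map zc ≫ b = U.hom.hom →
      (U.left.obj ⟶ pullback c.pt.hom.hom b) := fun k hk =>
    pullback.lift a.left.hom (k ≫ (yon S).map zc) (by rw [Category.assoc, hk, left_str])
  have hxx : mk g hg = mk g' hg' := ext_etale h₁' a (mkH π rfl : mkO hXB (π ≫ c.pt.hom.hom) ⟶ c.pt) ha hπ
    (pullback.lift_fst _ _ _) (pullback.lift_fst _ _ _) fun i => by
      change pullback.fst _ _ ≫ pullback.lift _ _ _ = pullback.fst _ _ ≫ pullback.lift _ _ _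
      apply pullback.hom_ext
      · simp only [Category.assoc, pullback.lift_fst]
      · simp only [Category.assoc, pullback.lift_snd]
        rw [← Category.assoc, h i, Category.assoc]
  have hex := isEtaleMor_toXB h₁' h₂ a ha hb (mk g hg) (pullback.lift_fst _ _ _)
  refine hom_ext_etale U.left.property fun x => ?_
  obtain ⟨C, e, hC, c₀, he, hc₀⟩ := exists_affine_chart_at U.left.property x
  refine ⟨_, IsAlgSpace.yon_obj C, e, fun _ _ hφ => repWith_comp hφ he,
    ⟨Points.ofScheme C c₀, by rw [← Points.ofPt_eq_map_ofScheme, hc₀]⟩, ?_⟩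
  obtain ⟨f, hf⟩ := (yon S).map_surjective (e ≫ g)
  obtain ⟨f', hf'⟩ := (yon S).map_surjective (e ≫ g')
  rw [← hf, ← hf']
  let eA : mkO (IsAlgSpace.yon_obj C) (e ≫ U.hom.hom) ⟶ c.pt :=
    mkH (e ≫ a.left.hom) (show (e ≫ a.left.hom) ≫ c.pt.hom.hom = e ≫ U.hom.hom by rw [Category.assoc, left_str])
  let DU : I ⥤ AlgSp.Space S := bcSys eA ⋙ Over.forget B
  let φ : DU ⟶ (Functor.const I).obj ((AlgSp.ofScheme S).obj Zs) :=
    { app := fun i => ObjectProperty.homMk (pullback.fst _ _ ≫ e ≫ g)
      naturality := fun i j k => ObjectProperty.hom_ext _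
        ((SepColim.pmapR_fst_assoc (D.map k).left.hom (ι_map k) _).trans (Category.comp_id _).symm) }
  refine congrArg (fun x => (yon S).map x) ((h₂ B' Zs C b zc (XB := ⟨_, hXB⟩) (ObjectProperty.homMk π) (pullback.snd c.pt.hom.hom b)
    (e ≫ mk g hg) DU (Functor.whiskerRight (bcα eA) (Over.forget B))
    (Functor.whiskerRight (bcι eA) (Over.forget B) ≫ (Functor.constComp I _ _).hom) φ hB hZ hC hb
    (IsPullback.of_hasPullback _ _) (hex e he) (fun i => ?_) (fun i => ?_)).unique (y₁ := f) (y₂ := f') ⟨?_, ?_⟩ ⟨?_, ?_⟩)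
  · exact isPullback_congr (IsPullback.of_hasPullback (e ≫ a.left.hom) (c.ι.app i).left.hom)
      (Category.comp_id _).symm ((Category.assoc _ _ _).trans (congrArg (e ≫ ·) (pullback.lift_fst _ _ _))).symm
  · change (pullback.fst _ _ ≫ e ≫ g) ≫ (yon S).map zc = (pullback.fst _ _ ≫ 𝟙 _) ≫ (e ≫ mk g hg) ≫ pullback.snd _ _
    simp only [mk, Category.assoc, pullback.lift_snd, Category.id_comp]
  · rw [hf]
    simp only [mk, Category.assoc, pullback.lift_snd]
  · intro i
    change (pullback.fst _ _ ≫ 𝟙 _) ≫ (yon S).map f = pullback.fst _ _ ≫ e ≫ g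
    rw [hf, Category.comp_id]
  · rw [hf', hxx]
    simp only [mk, Category.assoc, pullback.lift_snd]
  · intro i
    change (pullback.fst _ _ ≫ 𝟙 _) ≫ (yon S).map f' = pullback.fst _ _ ≫ e ≫ g
    rw [hf', Category.comp_id]
    exact ((h.precomp (a' := eA) e rfl) i).symm

/-- Compatible maps on the system to a chart descend. -/
theorem exists_to_chart {U : Over B} (a : U ⟶ c.pt) (ha : IsEtaleMor a.left.hom) {B' Zs : Over S}
    {b : (yon S).obj B' ⟶ B.obj} (zc : Zs ⟶ B') (hb : RepWith @Etale b) (hB : IsAffine B'.left)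
    (hZ : IsAffine Zs.left)
    (β : ∀ i, pullback a.left.hom (c.ι.app i).left.hom ⟶ (yon S).obj Zs)
    (hβ : ∀ i, β i ≫ (yon S).map zc ≫ b = pullback.snd a.left.hom (c.ι.app i).left.hom ≫ (D.obj i).hom.hom)
    (hn : ∀ {i j : I} (f : i ⟶ j), SepColim.pmapR (a := a.left.hom) (D.map f).left.hom (ι_map f) ≫ β j = β i) :
    ∃ g : U.left.obj ⟶ (yon S).obj Zs, g ≫ (yon S).map zc ≫ b = U.hom.hom ∧
      ∀ i, pullback.fst a.left.hom (c.ι.app i).left.hom ≫ g = β i := by
  have hXB := isAlgSpace_pullback B.property.diag c.pt.left.property (IsAlgSpace.yon_obj B') c.pt.hom.hom b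
  let π := pullback.fst c.pt.hom.hom b
  have hπ : IsEtaleMor π := EtaleSmooth.isEtaleMor_of_isPullback c.pt.left.property (IsAlgSpace.yon_obj B')
    B.property hXB (IsPullback.of_hasPullback _ _) (fun _ _ hφ => repWith_comp hφ hb)
  obtain ⟨x, hxπ, hxi⟩ := exists_map h₁' a (mkH π rfl : mkO hXB (π ≫ c.pt.hom.hom) ⟶ c.pt) ha hπ
    (fun i => pullback.lift (pullback.snd _ _ ≫ (c.ι.app i).left.hom) (β i ≫ (yon S).map zc) (by
      rw [Category.assoc, Category.assoc, hβ]; exact congrArg (pullback.snd _ _ ≫ ·) (left_str (c.ι.app i))))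
    (fun i => pullback.lift_fst _ _ _)
    (fun {i j} f => pullback.hom_ext
      (by rw [Category.assoc, pullback.lift_fst, pullback.lift_fst, SepColim.pmapR_snd_assoc, ι_map f])
      (by rw [Category.assoc, pullback.lift_snd, pullback.lift_snd, reassoc_of% (hn f)]))
  have hxπ' : x ≫ π = a.left.hom := hxπ
  have hex := isEtaleMor_toXB h₁' h₂ a ha hb x hxπ'
  have hxb : (x ≫ pullback.snd c.pt.hom.hom b) ≫ b = U.hom.hom := by
    rw [Category.assoc, ← pullback.condition, ← Category.assoc, hxπ', left_str]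
  -- on affine charts
  have loc : ∀ (C : Over S) (e : (yon S).obj C ⟶ U.left.obj), IsAffine C.left → RepWith @Etale e →
      ∃ f : C ⟶ Zs, (yon S).map f ≫ (yon S).map zc ≫ b = e ≫ U.hom.hom ∧
        ∀ (i : I) (W : Sp S) (t : W ⟶ (yon S).obj C) (d : W ⟶ (D.obj i).left.obj)
          (h : (t ≫ e) ≫ a.left.hom = d ≫ (c.ι.app i).left.hom),
          t ≫ (yon S).map f = pullback.lift (t ≫ e) d h ≫ β i := fun C e hC he => by
    let eA : mkO (IsAlgSpace.yon_obj C) (e ≫ U.hom.hom) ⟶ c.pt :=
      mkH (e ≫ a.left.hom) (show (e ≫ a.left.hom) ≫ c.pt.hom.hom = e ≫ U.hom.hom by rw [Category.assoc, left_str])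
    let q : ∀ i, pullback (e ≫ a.left.hom) (c.ι.app i).left.hom ⟶ pullback a.left.hom (c.ι.app i).left.hom :=
      fun i => pullback.lift (pullback.fst _ _ ≫ e) (pullback.snd _ _) (by rw [Category.assoc, pullback.condition])
    let φ : bcSys eA ⋙ Over.forget B ⟶ (Functor.const I).obj ((AlgSp.ofScheme S).obj Zs) :=
      { app := fun i => ObjectProperty.homMk (q i ≫ β i)
        naturality := fun i j k => ObjectProperty.hom_ext _
          (show SepColim.pmapR (a := e ≫ a.left.hom) (D.map k).left.hom (ι_map k) ≫ q j ≫ β j = (q i ≫ β i) ≫ 𝟙 _ by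
            rw [Category.comp_id, ← hn k, ← Category.assoc, ← Category.assoc]
            congr 1
            apply pullback.hom_ext <;> simp [q]) }
    obtain ⟨f, ⟨hf₁, hf₂⟩, -⟩ := h₂ B' Zs C b zc (XB := ⟨_, hXB⟩) (ObjectProperty.homMk π)
      (pullback.snd c.pt.hom.hom b)
      (e ≫ x) (bcSys eA ⋙ Over.forget B) (Functor.whiskerRight (bcα eA) (Over.forget B))
      (Functor.whiskerRight (bcι eA) (Over.forget B) ≫ (Functor.constComp I _ _).hom) φ hB hZ hC hb
      (IsPullback.of_hasPullback _ _) (hex e he)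
      (fun i => isPullback_congr (IsPullback.of_hasPullback (e ≫ a.left.hom) (c.ι.app i).left.hom)
        (Category.comp_id _).symm ((Category.assoc _ _ _).trans (congrArg (e ≫ ·) hxπ')).symm)
      (fun i => by
        change (q i ≫ β i) ≫ (yon S).map zc = (pullback.fst _ _ ≫ 𝟙 _) ≫ (e ≫ x) ≫ pullback.snd _ _
        have := congrArg (q i ≫ · ≫ pullback.snd c.pt.hom.hom b) (hxi i)
        simp only [Category.assoc, pullback.lift_snd] at this
        rw [Category.assoc, ← this, Category.comp_id, Category.assoc]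
        simp [q])
    refine ⟨f, by rw [← Category.assoc, hf₁, Category.assoc, Category.assoc, ← Category.assoc x, hxb],
      fun i W t d h => ?_⟩
    have := congrArg (pullback.lift t d ((Category.assoc _ _ _).symm.trans h) ≫ ·) (hf₂ i)
    change pullback.lift _ _ _ ≫ (pullback.fst _ _ ≫ 𝟙 _) ≫ (yon S).map f = pullback.lift _ _ _ ≫ q i ≫ β i at this
    rw [Category.comp_id, pullback.lift_fst_assoc] at this
    rw [this, ← Category.assoc]
    congr 1
    apply pullback.hom_ext <;> simp [q]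
  -- overlaps
  have ovl : ∀ (Q : Sp S) (hQ : IsAlgSpace Q) (e : Q ⟶ U.left.obj), IsEtaleMor e → ∀ g g' : Q ⟶ (yon S).obj Zs,
      g ≫ (yon S).map zc ≫ b = e ≫ U.hom.hom → g' ≫ (yon S).map zc ≫ b = e ≫ U.hom.hom →
      (∀ (i : I) (W : Sp S) (t : W ⟶ Q) (d : W ⟶ (D.obj i).left.obj),
        (t ≫ e) ≫ a.left.hom = d ≫ (c.ι.app i).left.hom → t ≫ g = t ≫ g') → g = g' := fun Q hQ e he g g' hg hg' h =>
    ext_to_chart h₁' h₂ (U := mkO hQ (e ≫ U.hom.hom))
      (mkH (e ≫ a.left.hom) (show (e ≫ a.left.hom) ≫ c.pt.hom.hom = e ≫ U.hom.hom by rw [Category.assoc, left_str]))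
      (LocalST.isEtaleMor_comp he ha) zc hb hB hZ hg hg'
      (fun i => h i _ _ _ ((Category.assoc _ _ _).trans pullback.condition))
  obtain ⟨T, e, he, hes⟩ := U.left.property.atlas
  have hκ : ∀ t : T.left, ∃ (C : Over S) (γ : C ⟶ T), IsAffine C.left ∧ Etale γ.left ∧ t ∈ Set.range γ.left := fun t => by
    obtain ⟨O, hO, hu, -⟩ := TopologicalSpace.Opens.isBasis_iff_nbhd.mp T.left.isBasis_affineOpens
      (show t ∈ (⊤ : T.left.Opens) from trivial)
    exact ⟨Over.mk (Scheme.Opens.ι O ≫ T.hom), Over.homMk (Scheme.Opens.ι O), hO, (show Etale (Scheme.Opens.ι O) from inferInstance), ⟨t, hu⟩, rfl⟩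
  choose C γ hC hγ hγt using hκ
  choose f hfb hfs using fun t => loc (C t) ((yon S).map (γ t) ≫ e) (hC t)
    (repWith_comp ((repWith_yon_map_iff _ _).2 (hγ t)) he)
  have hcov : Sieve.ofArrows C γ ∈ J S T := ofArrows_mem_J _ (fun t => have := hγ t; inferInstance)
    (fun t => have := hγ t; inferInstance) fun t => ⟨t, hγt t⟩
  obtain ⟨gT, hgT⟩ := H13Inf.exists_glue γ hcov (fun t => (yon S).map (f t)) fun t t' Z gi gj hij => by
    rw [← pullback.lift_fst gi gj hij, Functor.map_comp, Category.assoc]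
    conv_rhs => rw [← pullback.lift_snd gi gj hij, Functor.map_comp, Category.assoc]
    congr 1
    have := hγ t
    have := hγ t'
    have hsnd : Etale (pullback.fst (γ t) (γ t')).left :=
      MorphismProperty.of_isPullback ((IsPullback.of_hasPullback (γ t) (γ t')).map (Over.forget S)).flip (hγ t')
    let e' := (yon S).map (pullback.fst (γ t) (γ t') ≫ γ t) ≫ e
    have he' : RepWith @Etale e' := repWith_comp ((repWith_yon_map_iff _ _).2
      (inferInstanceAs (Etale ((pullback.fst (γ t) (γ t')).left ≫ (γ t).left)))) he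
    refine ovl _ (IsAlgSpace.yon_obj _) e' (fun _ _ hφ => repWith_comp hφ he') _ _ ?_ ?_ fun i W s d h => ?_
    · rw [Category.assoc, hfb]; simp [e']
    · rw [Category.assoc, hfb]; simp [e', pullback.condition]
    · rw [← Category.assoc, ← Category.assoc]
      rw [hfs t i W _ d (by simpa [e'] using h),
        hfs t' i W _ d (by simpa [e', pullback.condition] using h)]
      congr 1
      apply pullback.hom_ext
      · simp only [pullback.lift_fst, Category.assoc, ← Functor.map_comp_assoc, pullback.condition]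
      · simp
  have hTb : gT ≫ (yon S).map zc ≫ b = e ≫ U.hom.hom := hom_ext_of_cover γ hcov fun t => by
    rw [← Category.assoc, hgT, hfb, Category.assoc]
  have hTs : ∀ (i : I) (W : Sp S) (s : W ⟶ (yon S).obj T) (d : W ⟶ (D.obj i).left.obj)
      (h : (s ≫ e) ≫ a.left.hom = d ≫ (c.ι.app i).left.hom), s ≫ gT = pullback.lift (s ≫ e) d h ≫ β i := by
    intro i W s d h
    refine hom_ext_yon fun Y y => ?_
    obtain ⟨y', hy'⟩ := (yon S).map_surjective (y ≫ s)
    choose W' δ k' sq using fun t => ((repWith_yon_map_iff _ _).2 (hγ t) : RepWith @Etale ((yon S).map (γ t))).rep (y ≫ s)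
    have hδ : ∀ t, Etale (δ t).left := fun t =>
      ((repWith_yon_map_iff _ _).2 (hγ t) : RepWith @Etale ((yon S).map (γ t))).property _ _ _ (sq t)
    refine hom_ext_of_cover δ (ofArrows_mem_J _ (fun t => have := hδ t; inferInstance)
      (fun t => have := hδ t; inferInstance) fun z => ⟨y'.left z, (preimage_ofPt_range (sq _)).le
        ⟨Points.ofScheme _ (hγt (y'.left z)).choose, by
          rw [← hy', ← Category.comp_id ((yon S).map y'), ofPt_map, ← Points.ofPt_eq_map_ofScheme,
            ← Category.comp_id ((yon S).map (γ _)), ofPt_map, (hγt (y'.left z)).choose_spec]⟩⟩) fun t => ?_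
    rw [← Category.assoc y, ← Category.assoc ((yon S).map (δ t)) (y ≫ s), ← (sq t).w, Category.assoc, hgT,
      hfs t i _ (k' t) ((yon S).map (δ t) ≫ y ≫ d) (by
        simp only [Category.assoc]
        rw [reassoc_of% (sq t).w]
        simpa [Category.assoc] using congrArg (((yon S).map (δ t) ≫ y) ≫ ·) h),
      ]
    calc _ = ((yon S).map (δ t) ≫ y ≫ pullback.lift (s ≫ e) d h) ≫ β i := congrArg (· ≫ β i) (pullback.hom_ext
          (by simp only [Category.assoc, pullback.lift_fst]; rw [reassoc_of% (sq t).w]) (by simp))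
      _ = _ := by simp only [Category.assoc]
  have := epi_of_etale_surjective he hes
  have := IsRegularEpiCategory.regularEpiOfEpi e
  have hdesc : ∀ {Y : Sp S} (g₁ g₂ : Y ⟶ (yon S).obj T), g₁ ≫ e = g₂ ≫ e → g₁ ≫ gT = g₂ ≫ gT := fun g₁ g₂ h12 => by
    have hee : IsEtaleMor (pullback.fst e e ≫ e) := LocalST.isEtaleMor_comp
      (EtaleSmooth.isEtaleMor_of_isPullback (IsAlgSpace.yon_obj T) (IsAlgSpace.yon_obj T) U.left.property
        (isAlgSpace_pullback U.left.property.diag (IsAlgSpace.yon_obj T) (IsAlgSpace.yon_obj T) e e)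
        (IsPullback.of_hasPullback e e) (fun _ _ hφ => repWith_comp hφ he)) (fun _ _ hφ => repWith_comp hφ he)
    have k := ovl _ (isAlgSpace_pullback U.left.property.diag (IsAlgSpace.yon_obj T) (IsAlgSpace.yon_obj T) e e)
      _ hee (pullback.fst e e ≫ gT) (pullback.snd e e ≫ gT)
      (by rw [Category.assoc, hTb, Category.assoc])
      (by rw [Category.assoc, hTb, ← pullback.condition_assoc, Category.assoc])
      (fun i W s d h => by
        rw [← Category.assoc, ← Category.assoc, hTs i W _ d (by rw [Category.assoc s]; exact h),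
          hTs i W _ d (by rw [Category.assoc s, ← pullback.condition]; exact h)]
        congr 1
        apply pullback.hom_ext <;> simp [pullback.condition])
    simpa using congrArg (pullback.lift g₁ g₂ h12 ≫ ·) k
  obtain ⟨g, hg⟩ : ∃ g, e ≫ g = gT := ⟨_, EffectiveEpi.fac e gT hdesc⟩
  refine ⟨g, by rw [← cancel_epi e, ← Category.assoc, hg, hTb], fun i => ?_⟩
  have hfst : Epi (pullback.fst (pullback.fst a.left.hom (c.ι.app i).left.hom) e) :=
    epi_of_etale_surjective (repWith_of_isPullback (IsPullback.of_hasPullback _ e).flip he)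
      (repWith_of_isPullback (IsPullback.of_hasPullback _ e).flip hes)
  rw [← cancel_epi (pullback.fst (pullback.fst a.left.hom (c.ι.app i).left.hom) e), pullback.condition_assoc, hg,
    hTs i _ _ (pullback.fst _ e ≫ pullback.snd a.left.hom (c.ι.app i).left.hom) (by
      rw [← pullback.condition, Category.assoc, Category.assoc, pullback.condition])]
  congr 1
  apply pullback.hom_ext <;> simp [pullback.condition]

variable {Z : AlgSp.Space S} {z : Z.obj ⟶ B.obj}

omit h₁' h₂ in
/-- A chart of the target over an affine chart of the base. -/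
theorem exists_chart (x : Points Z.obj) :
    ∃ (B' Zs : Over S) (b : (yon S).obj B' ⟶ B.obj) (zc : Zs ⟶ B') (p : (yon S).obj Zs ⟶ Z.obj),
      IsAffine B'.left ∧ IsAffine Zs.left ∧ RepWith @Etale b ∧ RepWith @Etale p ∧
        p ≫ z = (yon S).map zc ≫ b ∧ x ∈ Set.range (Points.map p) := by
  obtain ⟨B', b, hB, b₀, hb, hb₀⟩ := exists_affine_chart_at B.property (Points.map z x)
  obtain ⟨w, hw, -⟩ := exists_point_of_isPullback (IsPullback.of_hasPullback z b) x (Points.ofScheme B' b₀)
    (by rw [← Points.ofPt_eq_map_ofScheme, hb₀])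
  obtain ⟨Zs, q, hZ, q₀, hq, hq₀⟩ := exists_affine_chart_at
    (isAlgSpace_pullback B.property.diag Z.property (IsAlgSpace.yon_obj B') z b) w
  obtain ⟨zc, hzc⟩ := (yon S).map_surjective (q ≫ pullback.snd z b)
  refine ⟨B', Zs, b, zc, q ≫ pullback.fst z b, hB, hZ, hb,
    repWith_comp hq (repWith_of_isPullback (IsPullback.of_hasPullback z b).flip hb), ?_,
    Points.ofScheme Zs q₀, ?_⟩
  · rw [hzc, Category.assoc, Category.assoc, pullback.condition]
  · rw [← Points.ofPt_eq_map_ofScheme, ← Points.map_ofPt, hq₀, hw]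

/-- Maps to a target are determined on the system. -/
theorem agree_target {U : Over B} (a : U ⟶ c.pt) (ha : IsEtaleMor a.left.hom) {g g' : U.left.obj ⟶ Z.obj}
    (hg : g ≫ z = U.hom.hom) (hg' : g' ≫ z = U.hom.hom) (h : Agree a g g') : g = g' := by
  refine hom_ext_etale U.left.property fun x => ?_
  obtain ⟨B', Zs, b, zc, p, hB, hZs, hb, hp, hpz, hmem⟩ := exists_chart (z := z) (Points.map g x)
  obtain ⟨y, hy⟩ := hmem
  have hA := fun (V : Over B) (k : V.left.obj ⟶ Z.obj) =>
    isAlgSpace_pullback Z.property.diag V.left.property (IsAlgSpace.yon_obj Zs) k p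
  have hE := fun (V : Over B) (k : V.left.obj ⟶ Z.obj) => EtaleSmooth.isEtaleMor_of_isPullback V.left.property
    (IsAlgSpace.yon_obj Zs) Z.property (hA V k) (IsPullback.of_hasPullback k p) (fun _ _ hφ => repWith_comp hφ hp)
  obtain ⟨w, hw, -⟩ := exists_point_of_isPullback (IsPullback.of_hasPullback g p) x y hy.symm
  let V : Over B := mkO (hA U g) (pullback.fst g p ≫ U.hom.hom)
  let aV : V ⟶ c.pt := mkH (pullback.fst g p ≫ a.left.hom)
    (show (pullback.fst g p ≫ a.left.hom) ≫ c.pt.hom.hom = pullback.fst g p ≫ U.hom.hom by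
      rw [Category.assoc, left_str])
  have haV : IsEtaleMor aV.left.hom := LocalST.isEtaleMor_comp (hE U g) ha
  have hV : Agree aV (pullback.fst g p ≫ g) (pullback.fst g p ≫ g') := h.precomp _ rfl
  refine ⟨_, hA U g, pullback.fst g p, hE U g, ⟨w, hw⟩, ?_⟩
  let k := pullback.fst g p ≫ g'
  have hk : k ≫ z = V.hom.hom := by
    show (pullback.fst g p ≫ g') ≫ z = pullback.fst g p ≫ U.hom.hom
    rw [Category.assoc, hg']
  let Q : Over B := mkO (hA V k) (pullback.fst k p ≫ V.hom.hom)
  let aQ : Q ⟶ c.pt := mkH (pullback.fst k p ≫ aV.left.hom)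
    (show (pullback.fst k p ≫ aV.left.hom) ≫ c.pt.hom.hom = pullback.fst k p ≫ V.hom.hom by
      rw [Category.assoc, left_str])
  have hsec : ∀ i, pullback.fst aV.left.hom (c.ι.app i).left.hom ≫ k =
      (pullback.fst aV.left.hom (c.ι.app i).left.hom ≫ pullback.snd g p) ≫ p := fun i => by
    rw [Category.assoc, ← pullback.condition]; exact (hV i).symm
  obtain ⟨σ, hσa, hσi⟩ := exists_map h₁' aV aQ haV (LocalST.isEtaleMor_comp (hE V k) haV)
    (fun i => pullback.lift (pullback.fst _ _) (pullback.fst _ _ ≫ pullback.snd g p) (hsec i))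
    (fun i => by
      change pullback.lift _ _ _ ≫ pullback.fst k p ≫ aV.left.hom = _
      rw [pullback.lift_fst_assoc, pullback.condition])
    (fun {i j} f => pullback.hom_ext (by simp) (by simp))
  have hid : σ ≫ pullback.fst k p = 𝟙 V.left.obj := ext_etale h₁' aV aV haV haV
    ((Category.assoc _ _ _).trans hσa) (Category.id_comp _) fun i => by
      rw [← Category.assoc, hσi, pullback.lift_fst, Category.comp_id]
  have hgZ : (σ ≫ pullback.snd k p) ≫ (yon S).map zc ≫ b = V.hom.hom := by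
    rw [← hpz, Category.assoc, ← pullback.condition_assoc, reassoc_of% hid, hk]
  have hgg : σ ≫ pullback.snd k p = pullback.snd g p := ext_to_chart h₁' h₂ aV haV zc hb hB hZs hgZ
    (show pullback.snd g p ≫ (yon S).map zc ≫ b = pullback.fst g p ≫ U.hom.hom by
      rw [← hpz, ← pullback.condition_assoc, hg])
    fun i => by rw [← Category.assoc, hσi, pullback.lift_snd]
  calc pullback.fst g p ≫ g = pullback.snd g p ≫ p := pullback.condition
    _ = (σ ≫ pullback.snd k p) ≫ p := by rw [hgg]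
    _ = k := by rw [Category.assoc, ← pullback.condition, reassoc_of% hid]

include h₁

/-- Existence of the descended map. -/
theorem exists_desc (φ : ∀ i, (D.obj i).left.obj ⟶ Z.obj) (hφz : ∀ i, φ i ≫ z = (D.obj i).hom.hom)
    (hφ : ∀ {i j : I} (f : i ⟶ j), (D.map f).left.hom ≫ φ j = φ i) :
    ∃ m : c.pt.left.obj ⟶ Z.obj, m ≫ z = c.pt.hom.hom ∧ ∀ i, (c.ι.app i).left.hom ≫ m = φ i := by
  let Loc : (Q : Sp S) → (Q ⟶ c.pt.left.obj) → (Q ⟶ Z.obj) → Prop := fun Q e g =>
    g ≫ z = e ≫ c.pt.hom.hom ∧ ∀ (i : I) (W : Sp S) (t : W ⟶ Q) (d : W ⟶ (D.obj i).left.obj),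
      t ≫ e = d ≫ (c.ι.app i).left.hom → t ≫ g = d ≫ φ i
  -- charts of the candidate with maps to the target
  let M : Set (Points c.pt.left.obj) := {x | ∃ (Q : Sp S) (_ : IsAlgSpace Q) (e : Q ⟶ c.pt.left.obj) (g : Q ⟶ Z.obj),
    IsEtaleMor e ∧ Loc Q e g ∧ x ∈ Set.range (Points.map e)}
  have hMo : IsOpen M := isOpen_iff_forall_mem_open.2 fun x ⟨Q, hQ, e, g, he, hl, hx⟩ =>
    ⟨Set.range (Points.map e), fun y hy => ⟨Q, hQ, e, g, he, hl, hy⟩,
      (isOpenMap_map_of_isEtaleMor hQ he).isOpen_range, hx⟩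
  have hMD : ∀ (i : I) (y : Points (D.obj i).left.obj), Points.map (c.ι.app i).left.hom y ∈ M := fun i₀ y => by
    obtain ⟨B', Zs, b, zc, p, hB, hZs, hb, hp, hpz, y', hy'⟩ := exists_chart (z := z) (Points.map (φ i₀) y)
    have hW : ∀ i, IsAlgSpace (pullback (φ i) p) := fun i =>
      isAlgSpace_pullback Z.property.diag (D.obj i).left.property (IsAlgSpace.yon_obj Zs) (φ i) p
    let D' : I ⥤ Over B :=
      { obj := fun i => mkO (hW i) (pullback.fst (φ i) p ≫ (D.obj i).hom.hom)
        map := fun {i j} f => mkH (SepColim.pmapL (D.map f).left.hom (hφ f))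
          (show SepColim.pmapL _ _ ≫ pullback.fst _ _ ≫ (D.obj j).hom.hom = pullback.fst _ _ ≫ (D.obj i).hom.hom by
            rw [SepColim.pmapL_fst_assoc, left_str])
        map_id := fun i => hom_ext' (SepColim.pmapL_id _ (hφ (𝟙 i)) (congrArg (fun x => x.left.hom) (D.map_id i)))
        map_comp := fun {i j k} f g => hom_ext' (SepColim.pmapL_comp _ (hφ f) _ (hφ g) _ (hφ (f ≫ g))
          (congrArg (fun x => x.left.hom) (D.map_comp f g))) }
    let α : D' ⟶ D :=
      { app := fun i => mkH (pullback.fst (φ i) p) rfl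
        naturality := fun i j f => hom_ext' (SepColim.pmapL_fst (D.map f).left.hom (hφ f)) }
    obtain ⟨c', a, ha, hsq⟩ := h₁ D' α
      (fun i j f => by
        refine IsPullback.of_right ?_ (SepColim.pmapL_fst (D.map f).left.hom (hφ f)) (IsPullback.of_hasPullback (φ j) p).flip
        rw [show (D'.map f).left.hom ≫ pullback.snd (φ j) p = pullback.snd (φ i) p from SepColim.pmapL_snd (D.map f).left.hom (hφ f),
          hφ f]
        exact (IsPullback.of_hasPullback (φ i) p).flip)
      (fun i => EtaleSmooth.isEtaleMor_of_isPullback (D.obj i).left.property (IsAlgSpace.yon_obj Zs) Z.property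
        (hW i) (IsPullback.of_hasPullback _ _) (fun _ _ hφ => repWith_comp hφ hp))
    let ε : ∀ i, pullback a.left.hom (c.ι.app i).left.hom ⟶ pullback (φ i) p := fun i =>
      (hsq i).lift (pullback.fst _ _) (pullback.snd _ _) pullback.condition
    have hε₁ : ∀ i, ε i ≫ (c'.ι.app i).left.hom = pullback.fst _ _ := fun i => (hsq i).lift_fst _ _ _
    have hε₂ : ∀ i, ε i ≫ pullback.fst (φ i) p = pullback.snd _ _ := fun i => (hsq i).lift_snd _ _ _
    obtain ⟨g, hgb, hgi⟩ := exists_to_chart h₁' h₂ a ha zc hb hB hZs (fun i => ε i ≫ pullback.snd (φ i) p)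
      (fun i => by rw [← hpz, Category.assoc, ← pullback.condition_assoc, hφz, reassoc_of% (hε₂ i)])
      (fun {i j} f => by
        have : SepColim.pmapR (a := a.left.hom) (D.map f).left.hom (ι_map f) ≫ ε j =
            ε i ≫ SepColim.pmapL (D.map f).left.hom (hφ f) := by
          apply (hsq j).hom_ext
          · rw [Category.assoc, hε₁, SepColim.pmapR_fst, ← hε₁ i, Category.assoc]
            exact congrArg (ε i ≫ ·) (congrArg (fun x => x.left.hom) (c'.w f)).symm
          · change (_ ≫ ε j) ≫ pullback.fst (φ j) p = (_ ≫ _) ≫ pullback.fst (φ j) p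
            rw [Category.assoc, hε₂, SepColim.pmapR_snd, Category.assoc, SepColim.pmapL_fst, reassoc_of% (hε₂ i)]
        rw [← Category.assoc, this, Category.assoc, SepColim.pmapL_snd])
    obtain ⟨w, hw, -⟩ := exists_point_of_isPullback (IsPullback.of_hasPullback (φ i₀) p) y y' hy'.symm
    refine ⟨_, c'.pt.left.property, a.left.hom, g ≫ p, ha, ⟨?_, fun i W t d h => ?_⟩,
      Points.map (c'.ι.app i₀).left.hom w, ?_⟩
    · rw [Category.assoc, hpz, hgb, left_str]
    · rw [← pullback.lift_fst t d h, Category.assoc, reassoc_of% (hgi i), ← pullback.condition,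
        reassoc_of% (hε₂ i), pullback.lift_snd_assoc]
    · rw [← Points.map_comp, (hsq i₀).w, Points.map_comp]
      exact congrArg _ hw
  -- these charts cover the candidate
  have hMall : ∀ x, x ∈ M := fun x => by
    let V : Over B := mkO (isAlgSpace_of_representable _ (repWith_openSubι hMo).1 c.pt.left.property) (openSubι M ≫ c.pt.hom.hom)
    let aV : V ⟶ c.pt := mkH (openSubι M) rfl
    have haV : IsEtaleMor aV.left.hom := isEtaleMor_of_openImm (repWith_openSubι hMo)
    let a₀ : c.pt ⟶ c.pt := 𝟙 _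
    have hl : ∀ i, ∃ l, l ≫ openSubι M =
        pullback.snd a₀.left.hom (c.ι.app i).left.hom ≫ (c.ι.app i).left.hom := fun i =>
      exists_factor_open (repWith_openSubι hMo) _ (by
        rintro _ ⟨w, rfl⟩
        rw [range_openSubι c.pt.left.property, Points.map_comp]
        exact hMD i _)
    choose l hl using hl
    have := mono_openSubι M
    obtain ⟨σ, hσ, -⟩ := exists_map h₁' a₀ aV (LocalST.isEtaleMor_id _) haV l hl (fun {i j} f => by
      rw [← cancel_mono (openSubι M), Category.assoc, hl, hl, SepColim.pmapR_snd_assoc, ι_map f])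
    rw [← range_openSubι c.pt.left.property M]
    exact ⟨Points.map σ x, by
      rw [← Points.map_comp]
      exact (congrArg (fun k => Points.map k x) hσ).trans (Points.map_id x)⟩
  -- glue along an atlas
  obtain ⟨T, e, he, hes⟩ := c.pt.left.property.atlas
  have hloc : ∀ t : T.left, ∃ (C : Over S) (γ : C ⟶ T) (g : (yon S).obj C ⟶ Z.obj), Etale γ.left ∧
      t ∈ Set.range γ.left ∧ Loc _ ((yon S).map γ ≫ e) g := fun t => by
    obtain ⟨Q, hQ, q, g, hq, ⟨hl₁, hl₂⟩, w, hw⟩ := hMall (Points.ofPt e t)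
    obtain ⟨V, ε, -, v, hε, rfl⟩ := exists_affine_chart_at hQ w
    have hεq : RepWith @Etale (ε ≫ q) := hq ε hε
    obtain ⟨C, γ, k, sq⟩ := hεq.rep e
    refine ⟨C, γ, k ≫ ε ≫ g, hεq.property _ k γ sq, (preimage_ofPt_range sq).le
      ⟨Points.ofScheme V v, by rw [← Points.ofPt_eq_map_ofScheme, ← Points.map_ofPt, hw]⟩, ?_, fun i W s d h => ?_⟩
    · rw [Category.assoc, Category.assoc, hl₁, ← sq.w, Category.assoc, Category.assoc]
    · rw [← Category.assoc k, ← Category.assoc]
      exact hl₂ i W _ d (by rw [Category.assoc, Category.assoc, sq.w]; exact h)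
  choose C γ g hγ hγt hg₁ hg₂ using hloc
  have ovl : ∀ (Q : Sp S) (hQ : IsAlgSpace Q) (q : Q ⟶ c.pt.left.obj), IsEtaleMor q → ∀ g g' : Q ⟶ Z.obj,
      Loc Q q g → Loc Q q g' → g = g' := fun Q hQ q hq g g' h h' =>
    agree_target h₁' h₂ (U := mkO hQ (q ≫ c.pt.hom.hom)) (mkH q rfl) hq h.1 h'.1
      (fun i => (h.2 i _ _ _ pullback.condition).trans (h'.2 i _ _ _ pullback.condition).symm)
  have hcov : Sieve.ofArrows C γ ∈ J S T := ofArrows_mem_J _ (fun t => have := hγ t; inferInstance)
    (fun t => have := hγ t; inferInstance) fun t => ⟨t, hγt t⟩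
  obtain ⟨mT, hmT⟩ := H13Inf.exists_glue γ hcov g fun t t' Y gi gj hij => by
    rw [← pullback.lift_fst gi gj hij, Functor.map_comp, Category.assoc]
    conv_rhs => rw [← pullback.lift_snd gi gj hij, Functor.map_comp, Category.assoc]
    congr 1
    have := hγ t
    have : Etale (pullback.fst (γ t) (γ t')).left :=
      MorphismProperty.of_isPullback ((IsPullback.of_hasPullback (γ t) (γ t')).map (Over.forget S)).flip (hγ t')
    let e' := (yon S).map (pullback.fst (γ t) (γ t') ≫ γ t) ≫ e
    have he' : RepWith @Etale e' := repWith_comp ((repWith_yon_map_iff _ _).2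
      (inferInstanceAs (Etale ((pullback.fst (γ t) (γ t')).left ≫ (γ t).left)))) he
    refine ovl _ (IsAlgSpace.yon_obj _) e' (fun _ _ hφ => repWith_comp hφ he') _ _
      ⟨by rw [Category.assoc, hg₁]; simp [e'], fun i W s d h => ?_⟩
      ⟨by rw [Category.assoc, hg₁]; simp [e', pullback.condition], fun i W s d h => ?_⟩
    · rw [← Category.assoc]; exact hg₂ t i W _ d (by simpa [e'] using h)
    · rw [← Category.assoc]; exact hg₂ t' i W _ d (by simpa [e', pullback.condition] using h)
  have hT : Loc _ e mT := by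
    refine ⟨hom_ext_of_cover γ hcov fun t => by rw [← Category.assoc, hmT, hg₁, Category.assoc],
      fun i W s d h => hom_ext_yon fun Y y => ?_⟩
    obtain ⟨y', hy'⟩ := (yon S).map_surjective (y ≫ s)
    choose W' δ k sq using fun t => ((repWith_yon_map_iff _ _).2 (hγ t) : RepWith @Etale ((yon S).map (γ t))).rep (y ≫ s)
    have hδ : ∀ t, Etale (δ t).left := fun t =>
      ((repWith_yon_map_iff _ _).2 (hγ t) : RepWith @Etale ((yon S).map (γ t))).property _ _ _ (sq t)
    refine hom_ext_of_cover δ (ofArrows_mem_J _ (fun t => have := hδ t; inferInstance)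
      (fun t => have := hδ t; inferInstance) fun u => ⟨y'.left u, (preimage_ofPt_range (sq _)).le
        ⟨Points.ofScheme _ (hγt (y'.left u)).choose, by
          rw [← hy', ← Category.comp_id ((yon S).map y'), ofPt_map, ← Points.ofPt_eq_map_ofScheme,
            ← Category.comp_id ((yon S).map (γ _)), ofPt_map, (hγt (y'.left u)).choose_spec]⟩⟩) fun t => ?_
    rw [← Category.assoc y, ← Category.assoc ((yon S).map (δ t)) (y ≫ s), ← (sq t).w, Category.assoc, hmT,
      ← Category.assoc y, ← Category.assoc ((yon S).map (δ t)) (y ≫ d)]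
    exact hg₂ t i _ _ _ (by
      simp only [Category.assoc]
      rw [reassoc_of% (sq t).w]
      simpa [Category.assoc] using congrArg (((yon S).map (δ t) ≫ y) ≫ ·) h)
  have := epi_of_etale_surjective he hes
  have := IsRegularEpiCategory.regularEpiOfEpi e
  have hdesc : ∀ {Y : Sp S} (g₁ g₂ : Y ⟶ (yon S).obj T), g₁ ≫ e = g₂ ≫ e → g₁ ≫ mT = g₂ ≫ mT := fun g₁ g₂ h12 => by
    have hee : IsEtaleMor (pullback.fst e e ≫ e) := LocalST.isEtaleMor_comp
      (EtaleSmooth.isEtaleMor_of_isPullback (IsAlgSpace.yon_obj T) (IsAlgSpace.yon_obj T) c.pt.left.property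
        (isAlgSpace_pullback c.pt.left.property.diag (IsAlgSpace.yon_obj T) (IsAlgSpace.yon_obj T) e e)
        (IsPullback.of_hasPullback e e) (fun _ _ hφ => repWith_comp hφ he)) (fun _ _ hφ => repWith_comp hφ he)
    have k := ovl _ (isAlgSpace_pullback c.pt.left.property.diag (IsAlgSpace.yon_obj T) (IsAlgSpace.yon_obj T) e e)
      _ hee (pullback.fst e e ≫ mT) (pullback.snd e e ≫ mT)
      ⟨by rw [Category.assoc, hT.1, Category.assoc],
        fun i W s d h => by rw [← Category.assoc]; exact hT.2 i W _ d ((Category.assoc _ _ _).trans h)⟩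
      ⟨by rw [Category.assoc, hT.1, ← pullback.condition_assoc, Category.assoc],
        fun i W s d h => by
          rw [← Category.assoc]
          exact hT.2 i W _ d (by rw [Category.assoc, ← pullback.condition]; exact h)⟩
    simpa using congrArg (pullback.lift g₁ g₂ h12 ≫ ·) k
  obtain ⟨m, hm⟩ : ∃ m, e ≫ m = mT := ⟨_, EffectiveEpi.fac e mT hdesc⟩
  refine ⟨m, by rw [← cancel_epi e, ← Category.assoc, hm, hT.1], fun i => ?_⟩
  have hfst : Epi (pullback.fst (c.ι.app i).left.hom e) :=
    epi_of_etale_surjective (repWith_of_isPullback (IsPullback.of_hasPullback _ e).flip he)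
      (repWith_of_isPullback (IsPullback.of_hasPullback _ e).flip hes)
  rw [← cancel_epi (pullback.fst (c.ι.app i).left.hom e), pullback.condition_assoc, hm]
  exact hT.2 i _ _ _ pullback.condition.symm

end Groth.Agent.H13AlgSp.EtColim
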