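import Groth.Agent.S10338
import Groth.Agent.S10339
import Groth.Agent.S10350
import Groth.Agent.H12AlgSp.QSPullback
import Groth.Agent.H12AlgSp.QC
import Groth.Agent.H12AlgSp.PointsTop
import Groth.Agent.H28Top.Spectral

/-!
# Etale-locally constructible sets of points
-/

set_option autoImplicit false
set_option backward.isDefEq.respectTransparency false
set_option linter.style.haveILetI false

universe u v

open CategoryTheory CategoryTheory.Limits AlgebraicGeometry Topology TopologicalSpace AlgSp

noncomputable section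

namespace Groth.Agent.H13AlgSp.EtConstr

open Groth.Agent

variable {S : Scheme.{u}} [QuasiSeparatedSpace ↥S]

/-- Constructibility descends along surjective spectral maps. -/
theorem isConstructible_of_preimage {X : Type u} {Y : Type v} [TopologicalSpace X] [CompactSpace X] [QuasiSober X]
    [PrespectralSpace X] [QuasiSeparatedSpace X] [TopologicalSpace Y] [CompactSpace Y] [QuasiSober Y] [T0Space Y]
    [PrespectralSpace Y] [QuasiSeparatedSpace Y] {f : X → Y} (hf : IsSpectralMap f) (hs : Function.Surjective f)
    {E : Set Y} (hE : IsConstructible (f ⁻¹' E)) : IsConstructible E := by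
  have h := H28Top.isClopen_constr_of_isConstructible hE
  have hcl : ∀ F : Set Y, IsClosed[constructibleTopology X] (f ⁻¹' F) → IsClosed[constructibleTopology Y] F :=
    fun F hF => by
      rw [← Set.image_preimage_eq F hs]
      exact @IsCompact.isClosed Y (constructibleTopology Y) (H28Top.t2Space_constr Y) _
        (@IsCompact.image X Y (constructibleTopology X) (constructibleTopology Y) _ f
          (@IsClosed.isCompact X (constructibleTopology X) _ (H28Top.compactSpace_constr X) hF)
          (H28Top.continuous_constr_of_isSpectralMap hf))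
  refine H28Top.isConstructible_iff_isClopen_constr.2 ⟨hcl E h.1, ?_⟩
  refine (@isClosed_compl_iff Y (constructibleTopology Y) E).1 ?_
  exact hcl Eᶜ (@IsOpen.isClosed_compl X (constructibleTopology X) _ h.2)

theorem prespectralSpace {X : Sp S} (hX : IsAlgSpace X) : PrespectralSpace (Points X) := by
  have hb : IsTopologicalBasis {A : Set (Points X) | IsOpen A ∧ IsCompact A} := by
    refine isTopologicalBasis_of_isOpen_of_nhds (fun A hA => hA.1) fun x A hx hA => ?_
    obtain ⟨V, h1, h2, h3, h4⟩ := H12AlgSp.exists_compact_open_nhd hX x hA hx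
    exact ⟨V, ⟨h1, h2⟩, h3, h4⟩
  exact ⟨hb⟩

/-- The preimage of a compact open set in a chart with compact source is compact. -/
theorem isCompact_preimage {X : Sp S} (hX : IsAlgSpace X) (hqs : IsQuasiSeparatedSp X) {V : Over S}
    [CompactSpace V.left] (b : (yon S).obj V ⟶ X) {A : Set (Points X)} (hA : IsOpen A) (hAc : IsCompact A) :
    IsCompact (Points.ofPt b ⁻¹' A) := by
  obtain ⟨U, a, hU, ha, rfl⟩ := H12AlgSp.exists_affine_chart hX hA hAc
  obtain ⟨W, t, k', sq⟩ := ha.1 b
  obtain ⟨k, rfl⟩ := (yon S).map_surjective k'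
  haveI : QuasiCompact U.hom := quasiCompact_of_compactSpace _
  haveI : QuasiCompact (pullback.snd U.hom V.hom) := MorphismProperty.pullback_snd _ _ inferInstance
  haveI : CompactSpace ↥(pullback U.hom V.hom) :=
    QuasiCompact.compactSpace_of_compactSpace (pullback.snd U.hom V.hom)
  haveI := H12AlgSp.compactSpace_of_isPullback hqs sq
  rw [show Points.ofPt b ⁻¹' Set.range (Points.ofPt a) = Set.range t.left from ?_]
  · exact isCompact_range t.left.continuous
  ext v
  constructor
  · rintro ⟨u, hu⟩
    obtain ⟨p, hp₁, hp₂⟩ := H12AlgSp.exists_point_of_isPullback sq (Points.ofScheme U u) (Points.ofScheme V v)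
      (by rw [← Points.ofPt_eq_map_ofScheme, ← Points.ofPt_eq_map_ofScheme, hu])
    obtain ⟨w, rfl⟩ := (Points.schemeHomeo W).surjective p
    refine ⟨w, (Points.schemeHomeo V).injective ?_⟩
    refine (show Points.ofScheme V (t.left w) = Points.ofScheme V v from ?_)
    rw [← hp₂]
    change Points.ofScheme V (t.left w) = Points.map ((yon S).map t) (Points.ofScheme W w)
    rw [← Points.ofPt_eq_map_ofScheme]
    apply (Points.schemeEquiv V).symm.injective
    exact (Points.toScheme_ofScheme V _).trans (Points.toScheme_ofPt t w).symm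
  · rintro ⟨w, rfl⟩
    refine ⟨k.left w, ?_⟩
    show Points.ofPt a (k.left w) = Points.ofPt b (t.left w)
    rw [← H12AlgSp.ofPt_map, ← H12AlgSp.ofPt_map, sq.w]

theorem quasiSeparatedSpace {X : Sp S} (hX : IsAlgSpace X) (hqs : IsQuasiSeparatedSp X) :
    QuasiSeparatedSpace (Points X) := by
  refine ⟨fun A A' hA hAc hA' hAc' => ?_⟩
  obtain ⟨U, a, hU, ha, rfl⟩ := H12AlgSp.exists_affine_chart hX hA hAc
  rw [← Set.image_preimage_eq_range_inter (f := Points.ofPt a)]
  exact (isCompact_preimage hX hqs a hA' hAc').image (Points.continuous_ofPt a)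

/-- A subset is etale locally constructible iff it is locally constructible. -/
theorem etale_locallyConstructible_iff (X : AlgSp.Space S) (hqs : IsQuasiSeparatedSp X.obj)
    (E : Set (Points X.obj)) :
    (∀ (U : Over S) (a : (yon S).obj U ⟶ X.obj), RepWith @Etale a →
        IsLocallyConstructible (Points.ofPt a ⁻¹' E)) ↔ IsLocallyConstructible E := by
  have hd : IsDecent X.obj := S10350.result X hqs
  haveI := S10338.result X hd
  haveI := S10339.result X hd
  haveI := prespectralSpace X.property
  haveI := quasiSeparatedSpace X.property hqs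
  constructor
  · intro h x
    obtain ⟨V, hVo, hVc, hxV, -⟩ := H12AlgSp.exists_compact_open_nhd X.property x isOpen_univ (Set.mem_univ x)
    obtain ⟨U, a, hU, ha, hr⟩ := H12AlgSp.exists_affine_chart X.property hVo hVc
    haveI := hVo.isOpenEmbedding_subtypeVal.quasiSober
    haveI := hVo.isOpenEmbedding_subtypeVal.quasiSeparatedSpace
    haveI : PrespectralSpace V := hVo.isOpenEmbedding_subtypeVal.prespectralSpace
    haveI : CompactSpace V := isCompact_iff_compactSpace.mp hVc
    haveI : T0Space V := hVo.isOpenEmbedding_subtypeVal.toIsEmbedding.t0Space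
    haveI : IsAffine U.left := hU
    haveI : CompactSpace U.left := inferInstance
    let aV : U.left → V := fun u => ⟨Points.ofPt a u, hr ▸ Set.mem_range_self u⟩
    have hsurj : Function.Surjective aV := fun v => by
      obtain ⟨u, hu⟩ : (v : Points X.obj) ∈ Set.range (Points.ofPt a) := by rw [hr]; exact v.2
      exact ⟨u, Subtype.ext hu⟩
    have haV : IsSpectralMap aV := by
      refine ⟨(Points.continuous_ofPt a).subtype_mk _, fun A hAo hAc => ?_⟩
      have h' := isCompact_preimage X.property hqs a (hVo.isOpenMap_subtype_val A hAo)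
        (hAc.image continuous_subtype_val)
      convert h' using 1
      ext u
      refine ⟨fun hu => ⟨_, hu, rfl⟩, ?_⟩
      rintro ⟨v, hv, e⟩
      obtain rfl : v = aV u := Subtype.ext e
      exact hv
    have hcons : IsConstructible (aV ⁻¹' ((Subtype.val : V → Points X.obj) ⁻¹' E)) := (h U a ha).isConstructible
    exact ⟨V, hVo.mem_nhds hxV, hVo, isConstructible_of_preimage haV hsurj hcons⟩
  · intro hE U a ha u
    obtain ⟨W, hW, huW⟩ : ∃ W : U.left.Opens, IsAffineOpen W ∧ u ∈ W := by
      obtain ⟨W, hW, huW, -⟩ := Opens.isBasis_iff_nbhd.mp U.left.isBasis_affineOpens (Opens.mem_top u)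
      exact ⟨W, hW, huW⟩
    haveI : IsAffine W.toScheme := hW
    let b : (yon S).obj (Over.mk ((W : U.left.Opens).ι ≫ U.hom)) ⟶ X.obj :=
      (yon S).map (Over.homMk W.ι : Over.mk ((W : U.left.Opens).ι ≫ U.hom) ⟶ U) ≫ a
    have hb : ∀ w : ↥W.toScheme, Points.ofPt b w = Points.ofPt a (W.ι w) := fun w =>
      H12AlgSp.ofPt_map _ _ _
    refine ⟨W, W.2.mem_nhds huW, W.2, ?_⟩
    haveI : CompactSpace ↥(W : Set U.left) := isCompact_iff_compactSpace.mp hW.isCompact
    haveI : QuasiSeparatedSpace ↥(W : Set U.left) := (inferInstance : QuasiSeparatedSpace ↥W.toScheme)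
    have hsc : IsCompact (Set.range fun w : ↥(W : Set U.left) => Points.ofPt a w) :=
      isCompact_range ((Points.continuous_ofPt a).comp continuous_subtype_val)
    obtain ⟨V, ⟨hVo, hVc⟩, hsub, -⟩ := (show ∃ V : Set (Points X.obj), (IsOpen V ∧ IsCompact V) ∧
        (Set.range fun w : ↥(W : Set U.left) => Points.ofPt a w) ⊆ V ∧ True by
      have hn : ∀ x : Points X.obj, ∃ V : Set (Points X.obj), IsOpen V ∧ IsCompact V ∧ x ∈ V := fun x => by
        obtain ⟨V, h1, h2, h3, -⟩ := H12AlgSp.exists_compact_open_nhd X.property x isOpen_univ (Set.mem_univ x)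
        exact ⟨V, h1, h2, h3⟩
      choose V h1 h2 h3 using hn
      obtain ⟨t, -, ht⟩ := hsc.elim_nhds_subcover V fun x _ => (h1 x).mem_nhds (h3 x)
      exact ⟨⋃ x ∈ t, V x, ⟨isOpen_biUnion fun x _ => h1 x, t.finite_toSet.isCompact_biUnion fun x _ => h2 x⟩,
        ht, trivial⟩)
    have hc : IsConstructible (E ∩ V) := hE.inter_of_isOpen_isCompact hVo hVc
    have h := hc.preimage (f := fun w : ↥(W : Set U.left) => Points.ofPt a w)
      ((Points.continuous_ofPt a).comp continuous_subtype_val) ?_
    · convert h using 1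
      ext w
      exact ⟨fun hw => ⟨hw, hsub ⟨w, rfl⟩⟩, fun hw => hw.1⟩
    · intro A hAo hA
      refine IsCompact.isRetrocompact ?_ (hAo.preimage ((Points.continuous_ofPt a).comp continuous_subtype_val))
      haveI : CompactSpace ↥(Over.mk ((W : U.left.Opens).ι ≫ U.hom)).left :=
        (inferInstance : CompactSpace ↥W.toScheme)
      have hAV := isCompact_preimage X.property hqs b (hAo.inter hVo)
        (hA hVc hVo)
      refine (?_ : IsCompact ((fun w : ↥W.toScheme => Points.ofPt a (W.ι w)) ⁻¹' A))
      have e : ((fun w : ↥W.toScheme => Points.ofPt a (W.ι w)) ⁻¹' A) = Points.ofPt b ⁻¹' (A ∩ V) :=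
        Set.ext fun w => by
          show Points.ofPt a (W.ι w) ∈ A ↔ Points.ofPt b w ∈ A ∩ V
          rw [hb]
          exact ⟨fun hw => ⟨hw, hsub ⟨w, rfl⟩⟩, fun hw => hw.1⟩
      rw [e]
      exact hAV

end Groth.Agent.H13AlgSp.EtConstr
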