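import Groth.Agent.H18Cech.InjectiveVanish
import Mathlib.Algebra.Category.ModuleCat.Presheaf.Abelian
import Mathlib.Algebra.Category.ModuleCat.Presheaf.Free

/-!
Cech cohomology of injective presheaves of modules vanishes.
-/

set_option autoImplicit false
set_option backward.isDefEq.respectTransparency false
set_option linter.style.haveILetI false

universe w v u

open CategoryTheory CategoryTheory.Limits Opposite
open Groth.Agent.H18Cech

namespace Groth.Agent.H13AlgSp.ModCech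

variable {C : Type u} [Category.{v} C] [LocallySmall.{w} C] {U : C} [HasFiniteProducts (Over U)]
  {ι : Type w} (Y : ι → Over U) (R : Cᵒᵖ ⥤ RingCat.{w})

/-- The generators as a presheaf of sets. -/
noncomputable def genSets (n : ℕ) : Cᵒᵖ ⥤ Type w where
  obj V := Gen Y n V.unop
  map b := ↾fun σ => mkGen Y σ.1 (b.unop ≫ σ.hom)
  map_id V := by
    refine ConcreteCategory.hom_ext _ _ fun σ => ?_
    change mkGen Y σ.1 ((𝟙 V.unop) ≫ σ.hom) = σ
    simp [mkGen, Gen.hom]
  map_comp {A B D} b b' := by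
    refine ConcreteCategory.hom_ext _ _ fun σ => ?_
    change mkGen Y σ.1 ((b'.unop ≫ b.unop) ≫ σ.hom) =
      mkGen Y σ.1 (b'.unop ≫ (mkGen Y σ.1 (b.unop ≫ σ.hom)).hom)
    simp [mkGen, Gen.hom]

/-- The free module in degree `n`. -/
noncomputable abbrev Fm (n : ℕ) : PresheafOfModules.{w} R := PresheafOfModules.freeObj (genSets Y n)

/-- A morphism of free presheaves of groups from one of modules. -/
noncomputable def restrictGen {n : ℕ} {M : PresheafOfModules.{w} R} (Φ : Fm Y R n ⟶ M) :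
    F Y n ⟶ M.presheaf where
  app V := AddCommGrpCat.ofHom (FreeAbelianGroup.lift fun σ : Gen Y n V.unop =>
    (Φ.app V).hom (ModuleCat.freeMk (R := R.obj V) σ))
  naturality {V W} b := by
    ext1
    refine FreeAbelianGroup.lift_ext _ _ fun σ => ?_
    change FreeAbelianGroup.lift _ (FreeAbelianGroup.map _ (FreeAbelianGroup.of σ)) =
      (M.map b).hom (FreeAbelianGroup.lift _ (FreeAbelianGroup.of σ))
    refine (congrArg _ (FreeAbelianGroup.map_of_apply σ)).trans ?_
    refine (FreeAbelianGroup.lift_apply_of _ _).trans ?_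
    refine Eq.trans ?_ (congrArg (M.map b).hom (FreeAbelianGroup.lift_apply_of _ _)).symm
    refine Eq.trans (congrArg (Φ.app W).hom ?_) (PresheafOfModules.naturality_apply Φ b _)
    exact (ModuleCat.freeDesc_apply (R := R.obj V) (M := (ModuleCat.restrictScalars (R.map b).hom).obj ((Fm Y R n).obj W)) (↾fun x => ModuleCat.freeMk ((genSets Y n).map b x)) σ).symm

theorem restrictGen_of {n : ℕ} {M : PresheafOfModules.{w} R} (Φ : Fm Y R n ⟶ M) {V : Cᵒᵖ}
    (σ : Gen Y n V.unop) :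
    ((restrictGen Y R Φ).app V).hom (FreeAbelianGroup.of σ) = (Φ.app V).hom (ModuleCat.freeMk (R := R.obj V) σ) :=
  FreeAbelianGroup.lift_apply_of _ _

/-- A morphism of modules from one of free presheaves of groups. -/
noncomputable def extendGen {n : ℕ} {M : PresheafOfModules.{w} R} (φ : F Y n ⟶ M.presheaf) : Fm Y R n ⟶ M :=
  PresheafOfModules.freeHomEquiv.symm
    { app := fun V => ↾fun σ : Gen Y n V.unop => (φ.app V).hom (FreeAbelianGroup.of σ)
      naturality := fun V W b => by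
        ext σ
        refine Eq.trans (congrArg (φ.app W).hom ?_) (ConcreteCategory.congr_hom (φ.naturality b) _)
        exact (FreeAbelianGroup.map_of_apply _).symm }

theorem extendGen_freeMk {n : ℕ} {M : PresheafOfModules.{w} R} (φ : F Y n ⟶ M.presheaf) {V : Cᵒᵖ}
    (σ : Gen Y n V.unop) :
    ((extendGen Y R φ).app V).hom (ModuleCat.freeMk (R := R.obj V) σ) = (φ.app V).hom (FreeAbelianGroup.of σ) :=
  ModuleCat.freeDesc_apply _ _

theorem restrictGen_extendGen {n : ℕ} {M : PresheafOfModules.{w} R} (φ : F Y n ⟶ M.presheaf) :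
    restrictGen Y R (extendGen Y R φ) = φ := by
  ext V : 3
  exact FreeAbelianGroup.lift_ext _ _ fun σ =>
    (restrictGen_of Y R _ σ).trans (extendGen_freeMk Y R φ σ)

theorem hom_ext_gen {n : ℕ} {M : PresheafOfModules.{w} R} {Φ Φ' : Fm Y R n ⟶ M}
    (h : ∀ (V : Cᵒᵖ) (σ : Gen Y n V.unop),
      (Φ.app V).hom (ModuleCat.freeMk (R := R.obj V) σ) = (Φ'.app V).hom (ModuleCat.freeMk (R := R.obj V) σ)) :
    Φ = Φ' :=
  PresheafOfModules.hom_ext fun V => ModuleCat.free_hom_ext (h V)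

/-- The unit of the free construction, additively. -/
noncomputable def toFm (n : ℕ) : F Y n ⟶ (Fm Y R n).presheaf := restrictGen Y R (𝟙 _)

/-- The linearised boundary. -/
noncomputable def bdm (n : ℕ) : Fm Y R (n + 1) ⟶ Fm Y R n := extendGen Y R (bd Y n ≫ toFm Y R n)

theorem bdm_comp_freeMk {n : ℕ} {M : PresheafOfModules.{w} R} (Φ : Fm Y R n ⟶ M) {V : Cᵒᵖ}
    (σ : Gen Y (n + 1) V.unop) :
    ((bdm Y R n ≫ Φ).app V).hom (ModuleCat.freeMk (R := R.obj V) σ) =
      ((bd Y n ≫ restrictGen Y R Φ).app V).hom (FreeAbelianGroup.of σ) := by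
  change (Φ.app V).hom (((bdm Y R n).app V).hom _) = _
  rw [show ((bdm Y R n).app V).hom (ModuleCat.freeMk (R := R.obj V) σ) = _ from extendGen_freeMk Y R _ σ]
  refine Eq.trans ?_ (congrArg (fun f : (F Y n).obj V →+ M.presheaf.obj V => f (((bd Y n).app V).hom (FreeAbelianGroup.of σ)))
    (show (AddMonoidHom.comp (Φ.app V).hom.toAddMonoidHom ((toFm Y R n).app V).hom) = ((restrictGen Y R Φ).app V).hom from ?_))
  · rfl
  · refine FreeAbelianGroup.lift_ext _ _ fun τ => ?_
    exact (congrArg (Φ.app V).hom (restrictGen_of Y R (𝟙 _) τ)).trans (restrictGen_of Y R Φ τ).symm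

variable (P : PresheafOfModules.{w} R)

set_option maxHeartbeats 800000 in
/-- A pointwise primitive factors the linearised cochain. -/
theorem app_factor {n : ℕ} (x : C' Y P.presheaf (n + 1)) (V : Cᵒᵖ)
    (φ : (F Y n).obj V ⟶ P.presheaf.obj V) (hφ : (bd Y n).app V ≫ φ = (toP Y P.presheaf x).app V) :
    ∃ φ' : (Fm Y R n).obj V ⟶ P.obj V,
      (extendGen Y R (toP Y P.presheaf x)).app V = (bdm Y R n).app V ≫ φ' := by
  let φ' : (Fm Y R n).obj V ⟶ P.obj V :=
    ModuleCat.freeDesc (↾fun σ : Gen Y n V.unop => φ.hom (FreeAbelianGroup.of σ))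
  have hφτ : ∀ τ : Gen Y n V.unop, φ.hom (FreeAbelianGroup.of τ) =
      φ'.hom (ModuleCat.freeMk (R := R.obj V) τ) := fun τ =>
    (ModuleCat.freeDesc_apply (R := R.obj V)
      (↾fun σ : Gen Y n V.unop => φ.hom (FreeAbelianGroup.of σ)) τ).symm
  have hfun : φ.hom = AddMonoidHom.comp φ'.hom.toAddMonoidHom ((toFm Y R n).app V).hom := by
    refine FreeAbelianGroup.lift_ext _ _ fun τ => (hφτ τ).trans ?_
    exact (congrArg φ'.hom (restrictGen_of Y R (𝟙 _) τ)).symm
  refine ⟨φ', ModuleCat.free_hom_ext fun σ => ?_⟩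
  refine (extendGen_freeMk Y R _ σ).trans ?_
  rw [← hφ]
  refine Eq.trans ?_ (congrArg φ'.hom (extendGen_freeMk Y R (bd Y n ≫ toFm Y R n) σ)).symm
  exact congrArg (fun f : (F Y n).obj V →+ P.presheaf.obj V =>
    f (((bd Y n).app V).hom (FreeAbelianGroup.of σ))) hfun

set_option maxHeartbeats 800000 in
theorem isZero_cechH_of_injective [Injective P] (n : ℕ) : IsZero (EtCech.cechH Y P.presheaf (n + 1)) := by
  refine isZero_cechH_succ Y P.presheaf fun x hx => ?_
  let e := Abelian.factorThruImage (bdm Y R n)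
  let Tx : Fm Y R (n + 1) ⟶ P := extendGen Y R (toP Y P.presheaf x)
  have hk : kernel.ι e ≫ Tx = 0 := by
    refine PresheafOfModules.hom_ext fun V => ?_
    obtain ⟨φ, hφ⟩ := ker_bd_le Y P.presheaf x hx V
    obtain ⟨φ', hφ'⟩ := app_factor Y R P x V φ hφ
    refine (congrArg ((kernel.ι e).app V ≫ ·) hφ').trans ((Category.assoc _ _ _).symm.trans ?_)
    have h0 : kernel.ι e ≫ bdm Y R n = 0 := (congrArg (kernel.ι e ≫ ·) (Abelian.image.fac (bdm Y R n))).symm.trans
      ((Category.assoc _ _ _).symm.trans ((congrArg (· ≫ _) (kernel.condition e)).trans zero_comp))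
    have h1 : (kernel.ι e ≫ bdm Y R n).app V = 0 := (congrArg (fun m : kernel e ⟶ Fm Y R n => m.app V) h0).trans rfl
    exact (congrArg (· ≫ φ') h1).trans zero_comp
  let ψ₀ := Abelian.epiDesc e Tx hk
  let Ψ : Fm Y R n ⟶ P := Injective.factorThru ψ₀ (Abelian.image.ι (bdm Y R n))
  have hΨ : bdm Y R n ≫ Ψ = Tx := by
    conv_lhs => rw [← Abelian.image.fac (bdm Y R n)]
    rw [Category.assoc, Injective.comp_factorThru]
    exact Abelian.comp_epiDesc _ _ _
  obtain ⟨y, hy⟩ := exists_toP_eq Y P.presheaf (restrictGen Y R Ψ)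
  have h : ∀ (V : Cᵒᵖ) (σ : Gen Y (n + 1) V.unop), ((bd Y n ≫ toP Y P.presheaf y).app V).hom (FreeAbelianGroup.of σ) =
      ((toP Y P.presheaf x).app V).hom (FreeAbelianGroup.of σ) := fun V σ => by
    rw [hy, ← bdm_comp_freeMk, hΨ]
    exact extendGen_freeMk Y R _ σ
  refine ⟨y, hom_ext Y P.presheaf fun V g τ => ?_⟩
  let σ : Gen Y (n + 1) V := mkGen Y (idx τ) (liftT τ).left
  have hs : ∀ k, (σ.tuple k).1 = (τ k).1 := fun k => by
    refine Sigma.ext rfl (heq_of_eq ?_)
    show σ.hom ≫ _ = _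
    rw [show σ.hom = (liftT τ).left from Equiv.symm_apply_apply _ _]
    exact congrArg (fun m : Over.mk g ⟶ (Y ∘ idx τ) k => m.left) (liftT_π τ k)
  rw [← ev_congr Y P.presheaf hs, ← ev_congr Y P.presheaf hs, ← toP_of Y P.presheaf x, ← h, ev_d]
  simp only [NatTrans.comp_app, AddCommGrpCat.hom_comp, AddMonoidHom.comp_apply, bd,
    AddCommGrpCat.hom_ofHom]
  refine Eq.trans ?_ ((congrArg _ (FreeAbelianGroup.lift_apply_of _ _)).trans (map_sum _ _ _)).symm
  refine Finset.sum_congr rfl fun j _ => ?_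
  refine Eq.trans ?_ ((map_zsmul _ _ _).trans (congrArg _ (toP_of Y P.presheaf y _))).symm
  refine congrArg (_ • ·) ?_
  refine ev_congr Y P.presheaf (fun k => ?_) y
  let σ' : Gen Y n V := mkGen Y (σ.1 ∘ j.succAbove) (σ.hom ≫ (faceOver Y j σ.1).left)
  show (σ.tuple (j.succAbove k)).1 = (σ'.tuple k).1
  refine Sigma.ext rfl (heq_of_eq ?_)
  show σ.hom ≫ _ = σ'.hom ≫ _
  rw [show σ'.hom = σ.hom ≫ (faceOver Y j σ.1).left from Equiv.symm_apply_apply _ _, Category.assoc]
  exact (congrArg (σ.hom ≫ ·) (congrArg (fun m : ∏ᶜ (Y ∘ σ.1) ⟶ (Y ∘ σ.1) (j.succAbove k) => m.left)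
    (Pi.lift_π (fun i => Pi.π (Y ∘ σ.1) (j.succAbove i)) k))).symm

end Groth.Agent.H13AlgSp.ModCech
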