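import Groth.Agent.H18Cech.Lift

/-!
Cech cohomology of inverse limits of towers with surjective transition maps.
-/

set_option autoImplicit false
set_option backward.isDefEq.respectTransparency false
set_option linter.style.haveILetI false

universe w v u

open CategoryTheory CategoryTheory.Limits Opposite
open Groth.Agent.H18Cech

namespace Groth.Agent.H13AlgSp.TowerCech

variable {C : Type u} [Category.{v} C] {U : C} [HasFiniteProducts (Over U)] {ι : Type w} (Y : ι → Over U)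

theorem d_mapC {P P' : Cᵒᵖ ⥤ AddCommGrpCat.{w}} (α : P ⟶ P') {n : ℕ} (x : C' Y P n) :
    (d Y P' n).hom ((mapC Y α n).hom x) = (mapC Y α (n + 1)).hom ((d Y P n).hom x) :=
  ConcreteCategory.congr_hom
    (((cechComplexFunctor Y).map (Functor.whiskerLeft (Over.forget U).op α)).comm n (n + 1)) x

theorem surjective_mapC {P P' : Cᵒᵖ ⥤ AddCommGrpCat.{w}} (α : P ⟶ P') (n : ℕ)
    (hs : ∀ a : Fin (n + 1) → ι, Function.Surjective (α.app (op (∏ᶜ (Y ∘ a)).left))) :
    Function.Surjective (mapC Y α n).hom := fun (x : C' Y P' n) => by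
  choose y hy using fun a => hs a ((Pi.π (val Y P' n) a).hom x)
  refine ⟨(Concrete.productEquiv (val Y P n)).symm y, ?_⟩
  apply (Concrete.productEquiv (val Y P' n)).injective
  funext a
  rw [Concrete.productEquiv_apply_apply, Concrete.productEquiv_apply_apply]
  refine (π_mapC Y α _ a).trans (Eq.trans ?_ (hy a))
  exact congrArg (α.app _).hom (Concrete.productEquiv_symm_apply_π (val Y P n) y a)

/-- A cocycle in degree zero comes from a section. -/
theorem exists_section (P : Cᵒᵖ ⥤ AddCommGrpCat.{w})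
    (hP : Presieve.IsSheafFor (P ⋙ forget AddCommGrpCat.{w})
      (Presieve.ofArrows (fun i => (Y i).left) (fun i => (Y i).hom)))
    (x : C' Y P 0) (hx : (d Y P 0).hom x = 0) :
    ∃ s : P.obj (op U), ∀ (V : C) (g : V ⟶ U) (τ : Fin 1 → T Y g), ev Y P τ x = (P.map g.op).hom s := by
  have hx' : ∀ (V : C) (g : V ⟶ U) (τ : Fin 2 → T Y g),
      ev Y P (τ ∘ (0 : Fin 2).succAbove) x = ev Y P (τ ∘ (1 : Fin 2).succAbove) x := by
    intro V g τ
    have h : ev Y P τ ((d Y P 0).hom x) = 0 := by rw [hx, map_zero]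
    rw [ev_d, Fin.sum_univ_two, Fin.val_zero, pow_zero, one_smul, Fin.val_one, pow_one, neg_smul, one_smul,
      add_neg_eq_zero] at h
    exact h
  let single : ∀ (i : ι) (V : C) (a : V ⟶ (Y i).left), Fin 1 → T Y (a ≫ (Y i).hom) :=
    fun i V a _ => ⟨⟨i, a⟩, rfl⟩
  let s : ∀ i, P.obj (op (Y i).left) := fun i => ev Y P (single i _ (𝟙 _)) x
  have hs : ∀ (i : ι) (V : C) (a : V ⟶ (Y i).left), P.map a.op (s i) = ev Y P (single i V a) x := by
    intro i V a
    refine (ev_natural Y P a rfl (single i _ (𝟙 _)) x).symm.trans (ev_congr Y P (fun k => ?_) x)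
    exact Sigma.ext rfl (heq_of_eq (Category.comp_id a))
  obtain ⟨t, ht, -⟩ := (Presieve.isSheafFor_arrows_iff _ _).1 hP s (fun i k V a b hab => by
    refine (hs i V a).trans (Eq.trans ?_ (hs k V b).symm)
    let τ : Fin 2 → T Y (a ≫ (Y i).hom) :=
      Fin.cons ⟨⟨k, b⟩, hab.symm⟩ (fun _ => ⟨⟨i, a⟩, rfl⟩)
    refine (ev_congr Y P (fun l => ?_) x).trans ((hx' _ _ τ).trans (ev_congr Y P (fun l => ?_) x))
    · obtain rfl := Subsingleton.elim (α := Fin 1) l 0; rfl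
    · obtain rfl := Subsingleton.elim (α := Fin 1) l 0; rfl)
  refine ⟨t, fun V g τ => ?_⟩
  have h := (hs (τ 0).1.1 V (τ 0).1.2).symm
  have h' : ev Y P τ x = ev Y P (single (τ 0).1.1 V (τ 0).1.2) x := ev_congr Y P (fun k => by
    obtain rfl := Subsingleton.elim (α := Fin 1) k 0; rfl) x
  refine h'.trans (h.trans ?_)
  refine (congrArg (P.map (τ 0).1.2.op) (ht (τ 0).1.1).symm).trans ?_
  change P.map (τ 0).1.2.op (P.map (Y _).hom.op t) = _
  rw [← ConcreteCategory.comp_apply, ← Functor.map_comp, ← op_comp, (τ 0).2]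

/-- The degree zero cocycle of a section. -/
theorem exists_cochain (P : Cᵒᵖ ⥤ AddCommGrpCat.{w}) (s : P.obj (op U)) :
    ∃ x : C' Y P 0, (∀ (V : C) (g : V ⟶ U) (τ : Fin 1 → T Y g), ev Y P τ x = (P.map g.op).hom s) ∧
      (d Y P 0).hom x = 0 := by
  obtain ⟨x, hx⟩ := exists_ev_eq Y P (n := 0) (fun V g _ => (P.map g.op).hom s) (fun V W g b τ => by
    change P.map (b ≫ g).op s = P.map b.op (P.map g.op s)
    rw [op_comp, Functor.map_comp]
    rfl)
  refine ⟨x, hx, hom_ext Y P fun V g τ => ?_⟩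
  rw [map_zero, ev_d, Fin.sum_univ_two, hx, hx, Fin.val_zero, pow_zero, one_smul, Fin.val_one, pow_one,
    neg_smul, one_smul, add_neg_cancel]

variable {P : ℕ → (Cᵒᵖ ⥤ AddCommGrpCat.{w})} (t : ∀ n, P (n + 1) ⟶ P n)

theorem exists_cocycle_lift (hz : ∀ n p, IsZero (EtCech.cechH Y (P n) (p + 1)))
    (hs : ∀ n p (a : Fin (p + 1) → ι), Function.Surjective ((t n).app (op (∏ᶜ (Y ∘ a)).left)))
    (hsU : ∀ n, Function.Surjective ((t n).app (op U)))
    (hsh : ∀ n, Presieve.IsSheafFor (P n ⋙ forget AddCommGrpCat.{w})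
      (Presieve.ofArrows (fun i => (Y i).left) (fun i => (Y i).hom)))
    (n : ℕ) : ∀ (p : ℕ) (δ : C' Y (P n) p), (d Y (P n) p).hom δ = 0 →
      ∃ δ' : C' Y (P (n + 1)) p, (d Y (P (n + 1)) p).hom δ' = 0 ∧ (mapC Y (t n) p).hom δ' = δ := by
  intro p δ hδ
  cases p with
  | zero =>
    obtain ⟨s, hs'⟩ := exists_section Y (P n) (hsh n) δ hδ
    obtain ⟨s', rfl⟩ := hsU n s
    obtain ⟨δ', hδ', hd⟩ := exists_cochain Y (P (n + 1)) s'
    refine ⟨δ', hd, hom_ext Y _ fun V g τ => ?_⟩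
    rw [ev_mapC, hδ', hs']
    exact ConcreteCategory.congr_hom ((t n).naturality g.op) s'
  | succ q =>
    obtain ⟨z, rfl⟩ := exists_of_isZero_cechH_succ Y (P n) (hz n q) δ hδ
    obtain ⟨z', rfl⟩ := surjective_mapC Y (t n) q (hs n q) z
    exact ⟨_, d_d Y (P (n + 1)) z', (d_mapC Y (t n) z').symm⟩

theorem isZero_cechH_lim {L : Cᵒᵖ ⥤ AddCommGrpCat.{w}} (π : ∀ n, L ⟶ P n)
    (hπ : ∀ n, π (n + 1) ≫ t n = π n)
    (hlim : ∀ (V : C) (x : ∀ n, (P n).obj (op V)), (∀ n, (t n).app (op V) (x (n + 1)) = x n) →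
      ∃! y : L.obj (op V), ∀ n, (π n).app (op V) y = x n)
    (hz : ∀ n p, IsZero (EtCech.cechH Y (P n) (p + 1)))
    (hs : ∀ n p (a : Fin (p + 1) → ι), Function.Surjective ((t n).app (op (∏ᶜ (Y ∘ a)).left)))
    (hsU : ∀ n, Function.Surjective ((t n).app (op U)))
    (hsh : ∀ n, Presieve.IsSheafFor (P n ⋙ forget AddCommGrpCat.{w})
      (Presieve.ofArrows (fun i => (Y i).left) (fun i => (Y i).hom)))
    (p : ℕ) : IsZero (EtCech.cechH Y L (p + 1)) := by
  refine isZero_cechH_succ Y L fun x hx => ?_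
  let xn : ∀ n, C' Y (P n) (p + 1) := fun n => (mapC Y (π n) (p + 1)).hom x
  have hxn : ∀ n, (d Y (P n) (p + 1)).hom (xn n) = 0 := fun n => by rw [d_mapC, hx, map_zero]
  have htx : ∀ n, (mapC Y (t n) (p + 1)).hom (xn (n + 1)) = xn n := fun n => hom_ext Y _ fun V g τ => by
    rw [ev_mapC, ev_mapC, ev_mapC, ← hπ n]
    rfl
  have step : ∀ n (y : {y // (d Y (P n) p).hom y = xn n}),
      ∃ y' : {y // (d Y (P (n + 1)) p).hom y = xn (n + 1)}, (mapC Y (t n) p).hom y'.1 = y.1 := by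
    rintro n ⟨y, hy⟩
    obtain ⟨y₁, hy₁⟩ := exists_of_isZero_cechH_succ Y _ (hz (n + 1) p) _ (hxn (n + 1))
    obtain ⟨δ, hδ, hδ'⟩ := exists_cocycle_lift Y t hz hs hsU hsh n p (y - (mapC Y (t n) p).hom y₁) (by
      rw [map_sub, hy, d_mapC, hy₁, htx, sub_self])
    refine ⟨⟨y₁ + δ, by rw [map_add, hy₁, hδ, add_zero]⟩, ?_⟩
    change (mapC Y (t n) p).hom (y₁ + δ) = y
    rw [map_add, hδ', add_sub_cancel]
  choose f hf using step
  let y₀ : {y // (d Y (P 0) p).hom y = xn 0} :=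
    ⟨_, (exists_of_isZero_cechH_succ Y _ (hz 0 p) _ (hxn 0)).choose_spec⟩
  let y : ∀ n, {y // (d Y (P n) p).hom y = xn n} := fun n => Nat.rec y₀ f n
  have hy : ∀ n (V : C) (g : V ⟶ U) (τ : Fin (p + 1) → T Y g),
      (t n).app (op V) (ev Y (P (n + 1)) τ (y (n + 1)).1) = ev Y (P n) τ (y n).1 := fun n V g τ =>
    (ev_mapC Y (t n) _ τ).symm.trans (congrArg (ev Y (P n) τ) (hf n (y n)))
  choose v hv hv' using fun (V : C) (g : V ⟶ U) (τ : Fin (p + 1) → T Y g) =>
    hlim V (fun n => ev Y (P n) τ (y n).1) fun n => hy n V g τ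
  obtain ⟨z, hz'⟩ := exists_ev_eq Y L v fun V W g b τ => (hv' W _ (pullT b rfl τ) _ fun n => by
    refine (ConcreteCategory.congr_hom ((π n).naturality b.op) _).trans ?_
    exact (congrArg ((P n).map b.op) (hv V g τ n)).trans (ev_natural Y (P n) b rfl τ _).symm).symm
  refine ⟨z, hom_ext Y L fun V g τ => ?_⟩
  refine (hlim V (fun n => ev Y (P n) τ (xn n)) fun n =>
    (ev_mapC Y (t n) _ τ).symm.trans (congrArg (ev Y (P n) τ) (htx n))).unique (fun n => ?_)
    fun n => (ev_mapC Y (π n) x τ).symm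
  refine (ev_mapC Y (π n) _ τ).symm.trans (congrArg (ev Y (P n) τ) ?_)
  rw [← d_mapC, ← (y n).2]
  refine congrArg (d Y (P n) p).hom (hom_ext Y _ fun V' g' τ' => ?_)
  rw [ev_mapC, hz']
  exact hv V' g' τ' n

end Groth.Agent.H13AlgSp.TowerCech
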