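import Groth.Agent.H13AlgSp.AffVanish
import Groth.Agent.H13AlgSp.ModCech
import Groth.Agent.H13AlgSp.TowerCech
import Groth.Agent.H13EtMod.FiniteSec
import Groth.Agent.H10Coh.ModGroth
import Mathlib.Algebra.Category.ModuleCat.Sheaf.Limits
import Mathlib.CategoryTheory.Functor.OfSequence

/-!
Modules acyclic on the affine objects of a ringed site.
-/

set_option autoImplicit false
set_option backward.isDefEq.respectTransparency false
set_option linter.style.haveILetI false
set_option linter.unusedSectionVars false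

universe w v₁ u₁

open CategoryTheory CategoryTheory.Limits Opposite CategoryTheory.Abelian
open Groth.Agent.H12AlgSp.BCMod Groth.Agent.H13AlgSp.AffVanish Groth.Agent.H13EtMod

namespace Groth.Agent.H13AlgSp.ModAcyc

section Acyclic

variable {C : Type u₁} [Category.{v₁} C] [LocallySmall.{w} C] [HasPullbacks C] {J : GrothendieckTopology C}
  {Rsh : Sheaf J CommRingCat.{w}} [J.HasSheafCompose (forget₂ CommRingCat.{w} RingCat.{w})]
  [HasSheafify J AddCommGrpCat.{w}] [J.WEqualsLocallyBijective AddCommGrpCat.{w}]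
  [Balanced (Sheaf J AddCommGrpCat.{w})] {A : AffSite J Rsh.obj}

/-- The underlying abelian sheaf. -/
noncomputable abbrev toSh : SheafOfModules.{w} (ringS Rsh) ⥤ Sheaf J AddCommGrpCat.{w} :=
  SheafOfModules.toSheaf (ringS Rsh)

omit [LocallySmall.{w} C] [HasPullbacks C] [Balanced (Sheaf J AddCommGrpCat.{w})] in
theorem preservesColimitsOfShape_toSh (K : Type*) [Category K]
    [HasColimitsOfShape K AddCommGrpCat.{w}] :
    PreservesColimitsOfShape K (toSh (Rsh := Rsh)) := by
  refine ⟨fun {D} => ?_⟩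
  let R := ringS Rsh
  let L := PresheafOfModules.sheafification.{w} (R := R) (𝟙 R.obj)
  let adj := PresheafOfModules.sheafificationAdjunction.{w} (R := R) (𝟙 R.obj)
  let P := D ⋙ SheafOfModules.forget.{w} R ⋙ PresheafOfModules.restrictScalars (𝟙 R.obj)
  haveI : PreservesColimit P L := adj.leftAdjoint_preservesColimits.preservesColimitsOfShape.preservesColimit
  have hS : PreservesColimit P (L ⋙ SheafOfModules.toSheaf.{w} R) := by
    have : PreservesColimit P (PresheafOfModules.toPresheaf R.obj ⋙ presheafToSheaf J AddCommGrpCat.{w}) :=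
      inferInstance
    exact preservesColimit_of_natIso _ (PresheafOfModules.sheafificationCompToSheaf (R := R) (𝟙 R.obj)).symm
  haveI : HasColimit P := inferInstance
  have : PreservesColimit (P ⋙ L) (SheafOfModules.toSheaf.{w} R) :=
    preservesColimit_of_preserves_colimit_cocone (isColimitOfPreserves L (colimit.isColimit P))
      (isColimitOfPreserves (L ⋙ SheafOfModules.toSheaf.{w} R) (colimit.isColimit P))
  exact preservesColimit_of_iso_diagram _
    (Functor.isoWhiskerLeft D (asIso adj.counit) ≪≫ D.rightUnitor : P ⋙ L ≅ D)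

theorem shortExact_toSh {S : ShortComplex (SheafOfModules.{w} (ringS Rsh))} (hS : S.ShortExact) :
    (S.map (toSh (Rsh := Rsh))).ShortExact := by
  haveI : PreservesFiniteColimits (toSh (Rsh := Rsh)) := ⟨fun K _ _ => preservesColimitsOfShape_toSh (Rsh := Rsh) K⟩
  haveI : PreservesFiniteLimits (toSh (Rsh := Rsh)) := inferInstance
  exact hS.map_of_exact _

theorem isAffAcyclic_of_injective_mod (I : SheafOfModules.{w} (ringS Rsh)) [Injective I] :
    IsAffAcyclic A ((toSh (Rsh := Rsh)).obj I).obj := by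
  intro U _ ι _ Y _ _ _ _ p
  haveI : Injective I.val :=
    Injective.injective_of_adjoint (PresheafOfModules.sheafificationAdjunction.{w} (R := ringS Rsh) (𝟙 (ringS Rsh).obj)) I
  exact ModCech.isZero_cechH_of_injective Y (ringS Rsh).obj I.val p

variable (hiso : ∀ {E E' : C}, (E ≅ E') → A.aff E → A.aff E')

include hiso in
theorem isAffAcyclic_of_isBC {M : SheafOfModules.{w} (ringS Rsh)} (hM : IsBCMod A M) :
    IsAffAcyclic A ((toSh (Rsh := Rsh)).obj M).obj :=
  isAffAcyclic_of_allBC (P := toPM M) hiso hM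

set_option maxHeartbeats 1600000 in
include hiso in
/-- Higher `Ext` of an object representing sections over an affine object into acyclic modules vanishes. -/
theorem subsingleton_ext_mod [EnoughInjectives (SheafOfModules.{w} (ringS Rsh))]
    [HasExt.{w} (SheafOfModules.{w} (ringS Rsh))] {U : C} (hU : A.aff U) {Z : SheafOfModules.{w} (ringS Rsh)}
    (ev : ∀ F : SheafOfModules.{w} (ringS Rsh), (Z ⟶ F) ≃ ((toSh (Rsh := Rsh)).obj F).obj.obj (op U))
    (hev : ∀ {F G : SheafOfModules.{w} (ringS Rsh)} (φ : Z ⟶ F) (g : F ⟶ G),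
      ev G (φ ≫ g) = ((toSh (Rsh := Rsh)).map g).hom.app (op U) (ev F φ)) :
    ∀ (p : ℕ) (G : SheafOfModules.{w} (ringS Rsh)), IsAffAcyclic A ((toSh (Rsh := Rsh)).obj G).obj →
      Subsingleton (Ext.{w} Z G (p + 1)) := by
  intro p
  induction p with
  | zero =>
    intro G hG
    let S := ShortComplex.mk (Injective.ι G) (cokernel.π (Injective.ι G)) (cokernel.condition _)
    have hS : S.ShortExact := { exact := ShortComplex.exact_of_g_is_cokernel _ (cokernelIsCokernel _) }
    refine subsingleton_of_forall_eq 0 fun x => ?_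
    obtain ⟨y, rfl⟩ := Ext.covariant_sequence_exact₁ _ hS x (Ext.eq_zero_of_injective _) rfl
    obtain ⟨φ, rfl⟩ := (Ext.mk₀_bijective _ _).surjective y
    obtain ⟨s, hs⟩ := surjective_sections (shortExact_toSh hS) hG hU (ev _ φ)
    have h2 : (ev S.X₂).symm s ≫ S.g = φ := (ev _).injective (by
      rw [hev, Equiv.apply_symm_apply]
      exact hs)
    rw [← h2, ← Ext.mk₀_comp_mk₀, Ext.comp_assoc_of_second_deg_zero, hS.comp_extClass, Ext.comp_zero]
  | succ p ih =>
    intro G hG
    let S := ShortComplex.mk (Injective.ι G) (cokernel.π (Injective.ι G)) (cokernel.condition _)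
    have hS : S.ShortExact := { exact := ShortComplex.exact_of_g_is_cokernel _ (cokernelIsCokernel _) }
    refine subsingleton_of_forall_eq 0 fun x => ?_
    obtain ⟨y, rfl⟩ := Ext.covariant_sequence_exact₁ _ hS x (Ext.eq_zero_of_injective _) rfl
    have h₂ : IsAffAcyclic A (S.map (toSh (Rsh := Rsh))).X₂.obj :=
      isAffAcyclic_of_injective_mod (A := A) (Injective.under G)
    have h₁ : IsAffAcyclic A (S.map (toSh (Rsh := Rsh))).X₁.obj := hG
    have h₃ : IsAffAcyclic A ((toSh (Rsh := Rsh)).obj S.X₃).obj :=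
      isAffAcyclic_X₃ hiso (S := S.map (toSh (Rsh := Rsh))) (shortExact_toSh hS) h₁ h₂
    rw [(ih S.X₃ h₃).elim y 0, Ext.zero_comp]

section Tower

variable {M : ℕ → SheafOfModules.{w} (ringS Rsh)} (t : ∀ n, M (n + 1) ⟶ M n)
  [HasLimit (Functor.ofOpSequence t)]
  [PreservesLimit (Functor.ofOpSequence t) (SheafOfModules.forget.{w} (ringS Rsh))]

theorem existsUnique_limit_section (V : C)
    [PreservesLimit (Functor.ofOpSequence t) (SheafOfModules.forget.{w} (ringS Rsh) ⋙
      PresheafOfModules.evaluation _ (op V) ⋙ CategoryTheory.forget (ModuleCat.{w} ((ringS Rsh).obj.obj (op V))))]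
    (x : ∀ n, (toPM (M n)).obj (op V)) (hx : ∀ n, appL (t n) V (x (n + 1)) = x n) :
    ∃! y : (toPM (limit (Functor.ofOpSequence t))).obj (op V),
      ∀ n, appL (limit.π (Functor.ofOpSequence t) (op n)) V y = x n := by
  let G := SheafOfModules.forget.{w} (ringS Rsh) ⋙
      PresheafOfModules.evaluation _ (op V) ⋙ CategoryTheory.forget (ModuleCat.{w} ((ringS Rsh).obj.obj (op V)))
  let hc := isLimitOfPreserves G (limit.isLimit (Functor.ofOpSequence t))
  let c : Cone (Functor.ofOpSequence t ⋙ G) :=
    { pt := PUnit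
      π := NatTrans.ofOpSequence (fun n => ↾fun _ : PUnit => x n) fun n => by
        refine ConcreteCategory.hom_ext _ _ fun _ => ?_
        change x n = (G.map ((Functor.ofOpSequence t).map (homOfLE (Nat.le_add_right n 1)).op)) (x (n + 1))
        rw [Functor.ofOpSequence_map_homOfLE_succ]
        exact (hx n).symm }
  refine ⟨hc.lift c PUnit.unit, fun n => ConcreteCategory.congr_hom (hc.fac c (op n)) PUnit.unit, fun y hy => ?_⟩
  have : (↾fun _ : PUnit.{w + 1} => y : PUnit ⟶ (G.mapCone (limit.cone (Functor.ofOpSequence t))).pt) = hc.lift c :=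
    hc.uniq c _ fun n => ConcreteCategory.hom_ext _ _ fun _ => hy n.unop
  exact ConcreteCategory.congr_hom this PUnit.unit

end Tower

include hiso in
/-- A limit of a tower of quasi-coherent modules with epimorphic transition maps is acyclic on affines. -/
theorem isAffAcyclic_of_tower {M : ℕ → SheafOfModules.{w} (ringS Rsh)} (t : ∀ n, M (n + 1) ⟶ M n)
    (hM : ∀ n, IsBCMod A (M n)) (ht : ∀ n, Epi (t n)) {L : SheafOfModules.{w} (ringS Rsh)}
    (π : ∀ n, L ⟶ M n) (hπ : ∀ n, π (n + 1) ≫ t n = π n)
    (hlim : ∀ (V : C) (x : ∀ n, (toPM (M n)).obj (op V)), (∀ n, appL (t n) V (x (n + 1)) = x n) →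
      ∃! y : (toPM L).obj (op V), ∀ n, appL (π n) V y = x n) :
    IsAffAcyclic A ((toSh (Rsh := Rsh)).obj L).obj := by
  intro U _ ι _ Y hU hY hmem hsur p
  have hsh : ∀ n, Presieve.IsSheafFor ((toPM (M n)).presheaf ⋙ CategoryTheory.forget AddCommGrpCat.{w})
      (Presieve.ofArrows (fun i => (Y i).left) (fun i => (Y i).hom)) := fun n => by
    rw [Presieve.isSheafFor_iff_generate]
    exact isSheaf_types (P := toPM (M n)) (M n).isSheaf _ hmem
  refine TowerCech.isZero_cechH_lim Y (P := fun n => ((toSh (Rsh := Rsh)).obj (M n)).obj) (L := ((toSh (Rsh := Rsh)).obj L).obj)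
    (fun n => ((toSh (Rsh := Rsh)).map (t n)).hom)
    (fun n => ((toSh (Rsh := Rsh)).map (π n)).hom)
    (fun n => by exact congrArg (fun m => ((toSh (Rsh := Rsh)).map m).hom) (hπ n))
    hlim (fun n p => isAffAcyclic_of_isBC hiso (hM n) U ι Y hU hY hmem hsur p)
    (fun n p a => ?_) (fun n => ?_) hsh p
  · haveI := ht n
    exact surjective_of_epi (A := A) (t n) (hM (n + 1)) (hM n) (aff_prod Y hiso hU hY p a)
  · haveI := ht n
    exact surjective_of_epi (A := A) (t n) (hM (n + 1)) (hM n) hU

section Limit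

variable {M : ℕ → SheafOfModules.{w} (ringS Rsh)} (t : ∀ n, M (n + 1) ⟶ M n)
  [HasLimit (Functor.ofOpSequence t)]

theorem limit_π_succ (n : ℕ) :
    limit.π (Functor.ofOpSequence t) (op (n + 1)) ≫ t n = limit.π (Functor.ofOpSequence t) (op n) := by
  rw [← Functor.ofOpSequence_map_homOfLE_succ t n]
  exact limit.w (Functor.ofOpSequence t) (homOfLE (Nat.le_add_right n 1)).op

include hiso in
theorem isAffAcyclic_limit (hM : ∀ n, IsBCMod A (M n)) (ht : ∀ n, Epi (t n))
    [PreservesLimit (Functor.ofOpSequence t) (SheafOfModules.forget.{w} (ringS Rsh))]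
    [∀ V : C, PreservesLimit (Functor.ofOpSequence t) (SheafOfModules.forget.{w} (ringS Rsh) ⋙
      PresheafOfModules.evaluation _ (op V) ⋙ CategoryTheory.forget (ModuleCat.{w} ((ringS Rsh).obj.obj (op V))))] :
    IsAffAcyclic A ((toSh (Rsh := Rsh)).obj (limit (Functor.ofOpSequence t))).obj :=
  isAffAcyclic_of_tower hiso t hM ht (fun n => limit.π (Functor.ofOpSequence t) (op n)) (limit_π_succ t)
    fun V x hx => existsUnique_limit_section t V x hx

end Limit

end Acyclic

section Groth

variable {C : Type w} [Category.{v₁} C] [LocallySmall.{w} C] {J : GrothendieckTopology C}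
  {Rsh : Sheaf J CommRingCat.{w}} [J.HasSheafCompose (forget₂ CommRingCat.{w} RingCat.{w})]
  [HasSheafify J AddCommGrpCat.{w}] [J.WEqualsLocallyBijective AddCommGrpCat.{w}]

theorem isGrothendieckAbelian_mod [UnivLE.{v₁, w}] :
    IsGrothendieckAbelian.{w} (SheafOfModules.{w} (ringS Rsh)) := by
  let R := ringS Rsh
  have hfree : ObjectProperty.IsSeparating (.ofObj fun E : C =>
      (PresheafOfModules.free R.obj).obj (shrinkYoneda.{w}.obj E)) := by
    intro M N f g h
    ext ⟨E⟩ m
    let e := fun P : PresheafOfModules.{w} R.obj =>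
      (PresheafOfModules.freeHomEquiv (F := shrinkYoneda.{w}.obj E) (G := P)).trans
        (shrinkYonedaEquiv (X := E) (P := P.presheaf ⋙ CategoryTheory.forget AddCommGrpCat.{w}))
    obtain ⟨a, ha⟩ := (e M).surjective m
    subst ha
    exact congrArg (e N) (h _ (ObjectProperty.ofObj_apply _ E) a)
  have hsep : HasSeparator (SheafOfModules.{w} (ringS Rsh)) := by
    have h := H10Coh.isSeparating_image
      (PresheafOfModules.sheafificationAdjunction.{w} (R := R) (𝟙 R.obj)) hfree
    exact ⟨_, h.isSeparator_coproduct⟩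
  refine { hasSeparator := hsep, ab5OfSize := ⟨fun K _ _ => ?_⟩ }
  haveI := preservesColimitsOfShape_toSh (Rsh := Rsh) K
  have : PreservesFiniteLimits (toSh (Rsh := Rsh)) := inferInstance
  have : ReflectsFiniteLimits (toSh (Rsh := Rsh)) :=
    ⟨fun _ _ _ => reflectsLimitsOfShape_of_reflectsIsomorphisms⟩
  exact HasExactColimitsOfShape.domain_of_functor K (toSh (Rsh := Rsh))

end Groth

end Groth.Agent.H13AlgSp.ModAcyc
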