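import Groth.Agent.H13AlgSp.SiteGenU
import Groth.Agent.H13AlgSp.ModAcyc
import Groth.Agent.H13AlgSp.EtVanish
import Groth.Agent.H13EtMod.ModEtGroth

/-!
Generators of the category of modules on a small etale site, and vanishing on affine objects.
-/

set_option autoImplicit false
set_option backward.isDefEq.respectTransparency false
set_option linter.style.haveILetI false

universe w' u

open CategoryTheory CategoryTheory.Limits AlgebraicGeometry Opposite CategoryTheory.Abelian
open AlgSp Groth.Agent.H12AlgSp Groth.Agent.H12AlgSp.BCMod Groth.Agent.H13AlgSp.SiteGenU Groth.Agent.H13AlgSp.AffVanish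

namespace Groth.Agent.H13AlgSp.EtGen

variable {S : Scheme.{u}} (X : Sp S)

/-- The free module on an object. -/
noncomputable abbrev freeF : EtOver X ⥤ ModEt X :=
  uliftYoneda.{u + 1} ⋙ PresheafOfModules.free (OEtRing X).obj ⋙
    PresheafOfModules.sheafification (R := OEtRing X) (𝟙 (OEtRing X).obj)

/-- The adjunction defining the free module. -/
noncomputable abbrev freeAdj :=
  (PresheafOfModules.freeAdjunction (OEtRing X).obj).comp
    (PresheafOfModules.sheafificationAdjunction (R := OEtRing X) (𝟙 (OEtRing X).obj))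

/-- Sections. -/
noncomputable def eEt (E : EtOver X) (M : ModEt X) :
    ((freeF X).obj E ⟶ M) ≃ ((toAbEt X).obj M).obj.obj (op E) :=
  ((freeAdj X).homEquiv (uliftYoneda.{u + 1}.obj E) M).trans uliftYonedaEquiv

theorem eEt_naturality_left {E V : EtOver X} (g : V ⟶ E) {M : ModEt X} (φ : (freeF X).obj E ⟶ M) :
    eEt X V M ((freeF X).map g ≫ φ) = (((toAbEt X).obj M).obj.map g.op).hom (eEt X E M φ) :=
  (congrArg uliftYonedaEquiv ((freeAdj X).homEquiv_naturality_left (uliftYoneda.{u + 1}.map g) φ)).trans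
    (uliftYonedaEquiv_naturality (X := op E) (Y := op V)
      ((freeAdj X).homEquiv (uliftYoneda.{u + 1}.obj E) M φ) g.op).symm

theorem eEt_naturality_right {E : EtOver X} {M N : ModEt X} (φ : (freeF X).obj E ⟶ M) (f : M ⟶ N) :
    eEt X E N (φ ≫ f) = (((toAbEt X).map f).hom.app (op E)).hom (eEt X E M φ) :=
  (congrArg uliftYonedaEquiv ((freeAdj X).homEquiv_naturality_right φ f)).trans rfl

instance preservesFiniteColimits_toAbEt : PreservesFiniteColimits (toAbEt X) :=
  ⟨fun K _ _ => H13EtMod.preservesColimitsOfShape_toSheaf_modEt X K⟩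

/-- The free modules on the objects of the site. -/
noncomputable def genEt : SiteGenU.Gen (etTop X) (ModEt X) :=
  ofSections (freeF X) (toAbEt X) (eEt X) (fun g _ φ => eEt_naturality_left X g φ)
    (fun φ f => eEt_naturality_right X φ f)

/-- The affine objects. -/
abbrev affSet : Set (EtOver X) := {E | IsAffine E.obj.left.left}

theorem exists_aff_cover (E : EtOver X) : ∃ (ι : Type (u + 1)) (Y : ι → EtOver X) (f : ∀ i, Y i ⟶ E),
    Sieve.ofArrows Y f ∈ etTop X E ∧ ∀ i, Y i ∈ affSet X := by
  refine ⟨ULift.{u + 1} E.obj.left.left.affineOpens, fun V => etOpen E V.down.1,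
    fun V => etOpenι E V.down.1, ofArrows_mem_etTop _ _ fun x => ?_, fun V => V.down.2⟩
  obtain ⟨_, ⟨V, hV, rfl⟩, hxV, -⟩ :=
    E.obj.left.left.isBasis_affineOpens.exists_subset_of_mem_open (Set.mem_univ x) isOpen_univ
  exact ⟨⟨⟨V, hV⟩⟩, ⟨x, hxV⟩, rfl⟩

theorem enoughInjectives_modEt : EnoughInjectives (ModEt X) :=
  haveI := H13EtMod.isGrothendieckAbelian_modEt X
  IsGrothendieckAbelian.enoughInjectives.{u + 1}

theorem subsingleton_ext_free (E : EtOver X) (hE : IsAffine E.obj.left.left) (M : ModEt X)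
    [HasExt.{u + 1} (ModEt X)]
    (hM : IsAffAcyclic (etAff X) ((toAbEt X).obj M).obj) (p : ℕ) :
    Subsingleton (Ext.{u + 1} ((freeF X).obj E) M (p + 1)) :=
  haveI := enoughInjectives_modEt X
  ModAcyc.subsingleton_ext_mod (Rsh := OEt X) (A := etAff X) aff_iso hE (eEt X E)
    (fun φ g => eEt_naturality_right X φ g) p M hM

theorem van [HasDerivedCategory.{w'} (ModEt X)] (E : EtOver X) (hE : IsAffine E.obj.left.left) (M : ModEt X)
    (hM : IsAffAcyclic (etAff X) ((toAbEt X).obj M).obj) {k : ℕ} (hk : 0 < k) :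
    SiteGenU.Van (genEt X) k E M := by
  haveI := enoughInjectives_modEt X
  haveI : HasExt.{u + 1} (ModEt X) := hasExt_of_enoughInjectives _
  obtain ⟨p, rfl⟩ : ∃ p, k = p + 1 := ⟨k - 1, by omega⟩
  exact (Ext.homEquiv (X := (freeF X).obj E) (Y := M) (n := p + 1)).subsingleton_congr.1
    (subsingleton_ext_free X E hE M hM p)

theorem van_qcoh [HasDerivedCategory.{w'} (ModEt X)] (E : EtOver X) (hE : IsAffine E.obj.left.left) (M : ModEt X)
    [M.IsQuasicoherent] {k : ℕ} (hk : 0 < k) : SiteGenU.Van (genEt X) k E M :=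
  van X E hE M (isAffAcyclic_toAbEt M) hk

end Groth.Agent.H13AlgSp.EtGen
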