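import Groth.Agent.H13AlgSp.EtGen
import Groth.Agent.H12AlgSp.BCMod.Over
import Groth.Agent.H12AlgSp.BCMod.SubSheaf

/-!
Limits of towers of quasi-coherent modules on small etale sites, and their cohomology on affine objects.
-/

set_option autoImplicit false
set_option backward.isDefEq.respectTransparency false
set_option linter.style.haveILetI false
set_option linter.unusedSectionVars false

universe u

open CategoryTheory CategoryTheory.Limits AlgebraicGeometry Opposite CategoryTheory.Abelian
open AlgSp Groth.Agent.H12AlgSp.BCMod Groth.Agent.H13AlgSp.AffVanish Groth.Agent.H13EtMod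

namespace Groth.Agent.H13AlgSp.EtLim

variable {S : Scheme.{u}} {X : Sp S} {M : ℕ → ModEt X} (t : ∀ n, M (n + 1) ⟶ M n)

theorem existsUnique_limit_sec (V : EtOver X) (x : ∀ n, (pm (M n)).obj (op V))
    (hx : ∀ n, appL (Rsh := OEt X) (t n) V (x (n + 1)) = x n) :
    ∃! y : (pm (limit (Functor.ofOpSequence t))).obj (op V),
      ∀ n, appL (Rsh := OEt X) (limit.π (Functor.ofOpSequence t) (op n)) V y = x n :=
  ModAcyc.existsUnique_limit_section (Rsh := OEt X) t V x hx

theorem isAffAcyclic_limit (hM : ∀ n, (M n).IsQuasicoherent) (ht : ∀ n, Epi (t n)) :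
    IsAffAcyclic (etAff X) ((toAbEt X).obj (limit (Functor.ofOpSequence t))).obj :=
  ModAcyc.isAffAcyclic_of_tower (Rsh := OEt X) (A := etAff X) aff_iso t
    (fun n => (isQuasicoherent_iff_isBCEt (M n)).1 (hM n)) ht
    (fun n => limit.π (Functor.ofOpSequence t) (op n)) (ModAcyc.limit_π_succ (Rsh := OEt X) t)
    fun V x hx => existsUnique_limit_sec t V x hx

variable (U : EtOver X)

/-- The affine objects of the slice. -/
noncomputable abbrev sliceAff : AffSite ((etTop X).over U) ((OEt X).over U).obj := AffSite.over (etAff X) U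

theorem slice_iso {E E' : Over U} (e : E ≅ E') (h : (sliceAff U).aff E) : (sliceAff U).aff E' :=
  aff_iso ((Over.forget U).mapIso e) h

theorem isAffAcyclic_slice_limit (hM : ∀ n, (M n).IsQuasicoherent) (ht : ∀ n, Epi (t n)) :
    IsAffAcyclic (sliceAff U)
      ((SheafOfModules.toSheaf (OEtOn U)).obj ((resModEt U).obj (limit (Functor.ofOpSequence t)))).obj := by
  haveI := ht
  refine ModAcyc.isAffAcyclic_of_tower (Rsh := (OEt X).over U) (A := sliceAff U) (slice_iso U)
    (fun n => (resModEt U).map (t n)) (fun n => ?_) (fun n => ?_)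
    (fun n => (resModEt U).map (limit.π (Functor.ofOpSequence t) (op n))) (fun n => ?_)
    (fun V x hx => existsUnique_limit_sec t V.left x hx)
  · exact fun Z E g hZ hE => (isBC_over_iff (OEt X) (M n) U g).2
      ((isQuasicoherent_iff_isBCEt (M n)).1 (hM n) g.left hZ hE)
  · exact inferInstanceAs (Epi ((resModEt U).map (t n)))
  · refine Eq.trans ((resModEt U).map_comp _ _).symm ?_
    exact congrArg (resModEt U).map (ModAcyc.limit_π_succ (Rsh := OEt X) t n)

/-- Maps out of the unit are sections over the terminal object of the slice. -/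
noncomputable def evUnit (F : ModEtOn U) :
    (SheafOfModules.unit (OEtOn U) ⟶ F) ≃
      ((SheafOfModules.toSheaf (OEtOn U)).obj F).obj.obj (op (Over.mk (𝟙 U))) :=
  F.unitHomEquiv.trans
    { toFun := fun s => s.val (op (Over.mk (𝟙 U)))
      invFun := fun y => PresheafOfModules.sectionsMk
        (fun V => ((SheafOfModules.toSheaf (OEtOn U)).obj F).obj.map (Over.mkIdTerminal.from V.unop).op y)
        (fun V W g => by
          refine Eq.trans (ConcreteCategory.congr_hom
            (((SheafOfModules.toSheaf (OEtOn U)).obj F).obj.map_comp (Over.mkIdTerminal.from V.unop).op g) y).symm ?_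
          exact congrArg (fun m => ((SheafOfModules.toSheaf (OEtOn U)).obj F).obj.map m y)
            (Quiver.Hom.unop_inj (Over.mkIdTerminal.hom_ext _ _)))
      left_inv := fun s => PresheafOfModules.sections_ext _ _ fun V =>
        s.property (Over.mkIdTerminal.from V.unop).op
      right_inv := fun y => (congrArg (fun m => ((SheafOfModules.toSheaf (OEtOn U)).obj F).obj.map m y)
        (Quiver.Hom.unop_inj (Over.mkIdTerminal.hom_ext _ _) :
          (Over.mkIdTerminal.from (Over.mk (𝟙 U))).op = 𝟙 _)).trans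
        (ConcreteCategory.congr_hom (((SheafOfModules.toSheaf (OEtOn U)).obj F).obj.map_id _) y) }

theorem evUnit_comp {F G : ModEtOn U} (φ : SheafOfModules.unit (OEtOn U) ⟶ F) (g : F ⟶ G) :
    evUnit U G (φ ≫ g) =
      ((SheafOfModules.toSheaf (OEtOn U)).map g).hom.app (op (Over.mk (𝟙 U))) (evUnit U F φ) := rfl

theorem isGrothendieckAbelian_modEtOn : IsGrothendieckAbelian.{u + 1} (ModEtOn U) :=
  ModAcyc.isGrothendieckAbelian_mod (Rsh := (OEt X).over U)

theorem subsingleton_ext_unit [HasExt.{u + 1} (ModEtOn U)] (hU : IsAffine U.obj.left.left)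
    (hM : ∀ n, (M n).IsQuasicoherent) (ht : ∀ n, Epi (t n)) (p : ℕ) :
    Subsingleton (Ext.{u + 1} (SheafOfModules.unit (OEtOn U))
      ((resModEt U).obj (limit (Functor.ofOpSequence t))) (p + 1)) := by
  haveI := isGrothendieckAbelian_modEtOn U
  haveI : EnoughInjectives (ModEtOn U) := IsGrothendieckAbelian.enoughInjectives.{u + 1}
  have hA := isAffAcyclic_slice_limit t U hM ht
  have hi : EnoughInjectives (SheafOfModules.{u + 1} (ringS ((OEt X).over U))) := this
  have hx : HasExt.{u + 1} (SheafOfModules.{u + 1} (ringS ((OEt X).over U))) := inferInstanceAs (HasExt.{u + 1} (ModEtOn U))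
  have h1 := @ModAcyc.subsingleton_ext_mod _ _ _ _ _ ((OEt X).over U) _ _ _ _ (sliceAff U) (slice_iso U)
  have h2 := @h1 hi hx (Over.mk (𝟙 U)) hU (SheafOfModules.unit (OEtOn U)) (evUnit U) (fun φ g => evUnit_comp U φ g) p _ hA
  exact h2

attribute [local instance] HasDerivedCategory.standard

theorem subsingleton_HEtDOn (hU : IsAffine U.obj.left.left) (hM : ∀ n, (M n).IsQuasicoherent)
    (ht : ∀ n, Epi (t n)) (p : ℤ) (hp : 0 < p) :
    Subsingleton (AlgSp.HEtDOn U (DCoh.inDMod (OEtRing X) (limit (Functor.ofOpSequence t))) p) := by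
  haveI := isGrothendieckAbelian_modEtOn U
  haveI : EnoughInjectives (ModEtOn U) := IsGrothendieckAbelian.enoughInjectives.{u + 1}
  haveI : HasExt.{u + 1} (ModEtOn U) := hasExt_of_enoughInjectives _
  obtain ⟨q, rfl⟩ : ∃ q : ℕ, p = ((q + 1 : ℕ) : ℤ) := ⟨(p - 1).toNat, by omega⟩
  let L := limit (Functor.ofOpSequence t)
  have h := (Ext.homEquiv (X := SheafOfModules.unit (OEtOn U)) (Y := (resModEt U).obj L)
    (n := q + 1)).subsingleton_congr.1 (subsingleton_ext_unit t U hU hM ht q)
  exact (Iso.homToEquiv ((shiftFunctor (DCoh.DMod (OEtOn U)) ((q + 1 : ℕ) : ℤ)).mapIso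
    (((resModEt U).mapDerivedCategorySingleFunctor 0).app L))).subsingleton_congr.2 h

end Groth.Agent.H13AlgSp.EtLim
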