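import Groth.Agent.H13AlgSp.EtRlim

/-!
The derived limit of a tower of quasi-coherent modules with epimorphisms as transition maps.
-/

set_option autoImplicit false
set_option backward.isDefEq.respectTransparency false
set_option linter.style.haveILetI false
set_option linter.unusedSectionVars false

universe w u

open CategoryTheory CategoryTheory.Limits AlgebraicGeometry Opposite DerivedCategory DerivedCategory.TStructure
open AlgSp Groth.Agent.H13AlgSp.SiteGenU Groth.Agent.H13AlgSp.EtGen

namespace Groth.Agent.H13AlgSp.EtRlimSingle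

theorem isIso_of_lim {A : Type*} [Category A] {N M : ℕ → A} (r : ∀ n, N (n + 1) ⟶ N n) (t : ∀ n, M (n + 1) ⟶ M n)
    [HasLimit (Functor.ofOpSequence r)] [HasLimit (Functor.ofOpSequence t)] (c : ∀ n, N n ≅ M n)
    (hc : ∀ n, r n ≫ (c n).hom = (c (n + 1)).hom ≫ t n) {P P' : A} (h : P ⟶ P')
    (g : P' ⟶ limit (Functor.ofOpSequence r)) [IsIso g] (ι : P ≅ limit (Functor.ofOpSequence t))
    (hk : ∀ n, h ≫ g ≫ limit.π (Functor.ofOpSequence r) (op n) ≫ (c n).hom =
      ι.hom ≫ limit.π (Functor.ofOpSequence t) (op n)) : IsIso h := by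
  let eD : Functor.ofOpSequence r ≅ Functor.ofOpSequence t :=
    NatIso.ofComponents (fun n => c n.unop) (fun {n m} j =>
      (NatTrans.ofOpSequence (F := Functor.ofOpSequence r) (G := Functor.ofOpSequence t) (fun n => (c n).hom) fun n => by
        simp only [Functor.ofOpSequence_map_homOfLE_succ]
        exact hc n).naturality j)
  have key : h ≫ g ≫ (HasLimit.isoOfNatIso eD).hom = ι.hom := by
    refine limit.hom_ext fun n => ?_
    obtain ⟨n⟩ := n
    rw [Category.assoc, Category.assoc, HasLimit.isoOfNatIso_hom_π]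
    exact hk n
  haveI : IsIso (h ≫ g ≫ (HasLimit.isoOfNatIso eD).hom) := by
    rw [key]; infer_instance
  exact IsIso.of_isIso_comp_right _ (g ≫ (HasLimit.isoOfNatIso eD).hom)

variable {S : Scheme.{u}} {X : Sp S} [HasDerivedCategory.{w} (ModEt X)]

theorem isZero_single (M : ModEt X) (q : ℤ) (hq : q ≠ 0) :
    IsZero ((homologyFunctor (ModEt X) q).obj ((singleFunctor _ 0).obj M)) := by
  rcases lt_or_gt_of_ne hq with h | h
  · exact isZero_of_isGE _ 0 q h
  · exact isZero_of_isLE _ 0 q h

theorem vanAll_single (M : ModEt X) (hM : M.IsQuasicoherent) :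
    EtRlim.VanAll ((singleFunctor (ModEt X) 0).obj M) := fun V hV k q hk => by
  rcases eq_or_ne q 0 with rfl | hq
  · haveI := hM
    exact van_of_iso (genEt X) ((singleFunctorCompHomologyFunctorIso (ModEt X) 0).app M) (van_qcoh X V hV M hk)
  · exact van_of_isZero (genEt X) (isZero_single M q hq)

variable (M : ℕ → ModEt X) (t : ∀ n, M (n + 1) ⟶ M n) (hM : ∀ n, (M n).IsQuasicoherent) (ht : ∀ n, Epi (t n))

include hM ht in
theorem surjective_homology {V : EtOver X} (hV : IsAffine V.obj.left.left) (q : ℤ) (n : ℕ) :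
    Function.Surjective fun φ : (freeF X).obj V ⟶ (homologyFunctor (ModEt X) q).obj ((singleFunctor _ 0).obj (M (n + 1))) =>
      φ ≫ (homologyFunctor (ModEt X) q).map ((singleFunctor (ModEt X) 0).map (t n)) := fun ψ => by
  rcases eq_or_ne q 0 with rfl | hq
  · let ι := singleFunctorCompHomologyFunctorIso (ModEt X) 0
    haveI := ht n
    obtain ⟨φ, hφ⟩ := EtRlim.surjective_comp_of_epi (t n) (hM _) (hM n) hV (ψ ≫ ι.hom.app (M n))
    refine ⟨φ ≫ ι.inv.app (M (n + 1)), (cancel_mono (ι.hom.app (M n))).1 ?_⟩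
    simp only at hφ
    exact (Category.assoc _ _ _).trans ((congrArg (_ ≫ ·) (ι.hom.naturality (t n))).trans
      ((Category.assoc _ _ _).trans ((congrArg (φ ≫ ·) (Iso.inv_hom_id_app_assoc ι _ _)).trans hφ)))
  · exact ⟨0, (isZero_single (M n) q hq).eq_of_tgt _ _⟩

set_option maxHeartbeats 1600000 in
include hM ht in
theorem isRlimVia_single [HasProduct fun n => (singleFunctor (ModEt X) 0).obj (M n)] :
    CohCx.IsRlimVia (fun n => (singleFunctor (ModEt X) 0).obj (M n)) (fun n => (singleFunctor (ModEt X) 0).map (t n))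
      ((singleFunctor (ModEt X) 0).obj (limit (Functor.ofOpSequence t)))
      (fun n => (singleFunctor (ModEt X) 0).map (limit.π (Functor.ofOpSequence t) (op n))) := by
  let A := ModEt X
  obtain ⟨L, a, hL⟩ := H15Site.RlimTriang.exists_isRlimVia (fun n => (singleFunctor A 0).obj (M n))
    (fun n => (singleFunctor A 0).map (t n))
  have hg := fun q => EtRlim.exists_iso hL (fun n => vanAll_single (M n) (hM n))
    (fun V hV q n => surjective_homology M t hM ht hV q n) q
  obtain ⟨f, hf⟩ := H15Site.RlimTriang.exists_lift₀ hL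
    (fun n => (singleFunctor A 0).map (limit.π (Functor.ofOpSequence t) (op n)))
    (fun n => by rw [← Functor.map_comp, ModAcyc.limit_π_succ (Rsh := OEt X)])
  suffices IsIso f from H15Site.RlimTriang.isRlimVia_of_iso hL (asIso f) _ hf
  rw [DerivedCategory.isIso_iff]
  intro q
  obtain ⟨g, hgi, hga⟩ := hg q
  rcases eq_or_ne q 0 with rfl | hq
  · refine isIso_of_lim _ t (fun n => (singleFunctorCompHomologyFunctorIso A 0).app (M n))
      (fun n => (singleFunctorCompHomologyFunctorIso A 0).hom.naturality (t n)) _ g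
      ((singleFunctorCompHomologyFunctorIso A 0).app (limit (Functor.ofOpSequence t))) fun n => ?_
    refine Eq.trans ?_ ((singleFunctorCompHomologyFunctorIso A 0).hom.naturality (limit.π (Functor.ofOpSequence t) (op n)))
    refine Eq.trans ?_ (congrArg (· ≫ _) ((congrArg (homologyFunctor A 0).map (hf n))))
    refine Eq.trans ?_ (congrArg (· ≫ _) ((Functor.map_comp _ _ _).symm))
    refine Eq.trans ?_ (Category.assoc _ _ _).symm
    exact congrArg (_ ≫ ·) ((Category.assoc _ _ _).symm.trans (congrArg (· ≫ _) (hga n)))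
  · refine ⟨0, (isZero_single _ q hq).eq_of_src _ _, ?_⟩
    refine (cancel_mono g).1 (limit.hom_ext fun n => ?_)
    exact (isZero_single (M n.unop) q hq).eq_of_tgt _ _

end Groth.Agent.H13AlgSp.EtRlimSingle
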