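import Groth.Agent.H13AlgSp.DegField
import Groth.Agent.H13AlgSp.RelRep
import Groth.Agent.H12AlgSp.OpenSub
import Groth.Agent.H7Lim.QuasiFiniteFactor
import Groth.Prelude.Def_W4decUnivBdd
import Groth.Prelude.Def_AlgSpCov
import Mathlib.AlgebraicGeometry.Morphisms.Etale

/-!
Universally bounded fibres: composition, flat covers, etale morphisms from affine schemes.
-/

universe u

open CategoryTheory CategoryTheory.Limits AlgebraicGeometry Opposite
open AlgSp Groth.Agent.H12AlgSp
open Groth.Agent.H13AlgSp.DegField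

namespace Groth.Agent.H13AlgSp

/-- All fibres of a morphism of schemes over field-valued points are finite of degree at most `n`. -/
def DegFib (n : ℕ) {W P : Scheme.{u}} (f : W ⟶ P) : Prop :=
  ∀ (L : Type u) [Field L] (x : Spec (CommRingCat.of L) ⟶ P) (Q : Scheme.{u}) (p : Q ⟶ W)
    (q : Q ⟶ Spec (CommRingCat.of L)), IsPullback p q f x → DegLE n q

theorem isPullback_of_comp_mono {C : Type*} [Category C] {P X Y Z W : C} {fst : P ⟶ X} {snd : P ⟶ Y}
    {f : X ⟶ Z} {g : Y ⟶ Z} (j : Z ⟶ W) [Mono j] (sq : IsPullback fst snd (f ≫ j) (g ≫ j)) :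
    IsPullback fst snd f g :=
  ⟨⟨(cancel_mono j).mp (by simpa using sq.w)⟩,
    ⟨PullbackCone.IsLimit.mk _ (fun s => sq.lift s.fst s.snd (by rw [reassoc_of% s.condition]))
      (fun s => sq.lift_fst _ _ _) (fun s => sq.lift_snd _ _ _)
      fun s m h1 h2 => sq.hom_ext (by simp [h1]) (by simp [h2])⟩⟩

theorem degLE_of_isEmpty {K : Type u} [Field K] {T : Scheme.{u}} [IsEmpty T]
    (c : T ⟶ Spec (CommRingCat.of K)) (n : ℕ) : DegLE n c :=
  (degLE_of_flat_cover (W := fun i : Empty => i.elim) (fun i => i.elim) (fun t => isEmptyElim t) c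
    (fun i => i.elim) fun i => i.elim).mono (by simp)

theorem degLE_one_of_isIso {K : Type u} [Field K] {T : Scheme.{u}}
    (c : T ⟶ Spec (CommRingCat.of K)) [IsIso c] : DegLE 1 c :=
  ⟨inferInstance, fun s => le_of_eq (congrFun (Scheme.Hom.finrank_eq_one_of_isIso c) s)⟩

/-- An open part of a scheme of bounded degree over a field has bounded degree. -/
theorem DegLE.of_isOpenImmersion {K : Type u} [Field K] {T T' : Scheme.{u}} (j : T' ⟶ T) [IsOpenImmersion j]
    {c : T ⟶ Spec (CommRingCat.of K)} {n : ℕ} (h : DegLE n c) : DegLE n (j ≫ c) := by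
  have := h.finite.1
  have := h.finite.2
  have : IsClosedImmersion j :=
    IsClosedImmersion.of_isPreimmersion j (isClosed_discrete _)
  have : IsAffine T := inferInstance
  have : IsAffine T' := isAffine_of_isAffineHom j
  let := alg c
  let := alg (j ≫ c)
  obtain ⟨hf, hn⟩ := (degLE_iff n c).mp h
  let F : Γ(T, ⊤) →ₗ[K] Γ(T', ⊤) :=
    { toFun := j.appTop.hom
      map_add' := map_add _
      map_smul' := fun k x => by
        simp only [Algebra.smul_def, map_mul, RingHom.algebraMap_toAlgebra, RingHom.id_apply]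
        rfl }
  have hF : Function.Surjective F := Scheme.Hom.app_surjective j ⊤ (isAffineOpen_top _)
  exact (degLE_iff n _).mpr
    ⟨Module.Finite.of_surjective F hF, (LinearMap.finrank_le_finrank_of_surjective hF).trans hn⟩

/-- Finite morphisms to affine schemes have fibres of bounded degree. -/
theorem exists_degFib_of_isFinite {Y P : Scheme.{u}} [IsAffine P] (f : Y ⟶ P) [IsFinite f] :
    ∃ n, DegFib n f := by
  have : IsAffine Y := isAffine_of_isAffineHom f
  let A := Γ(P, ⊤)
  let C := Γ(Y, ⊤)
  algebraize [f.appTop.hom]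
  have : Module.Finite A C := f.finite_appTop
  obtain ⟨n, c, hc⟩ := Module.Finite.exists_fin (R := A) (M := C)
  refine ⟨n, fun L _ x Q p q sq => ?_⟩
  obtain ⟨φ, hφ⟩ := Spec.map_surjective (x ≫ P.isoSpec.hom)
  algebraize [φ.hom]
  have hp := (isPullback_SpecMap_of_isPushout _ _ _ _ (CommRingCat.isPushout_tensorProduct A L C)).flip
  have hT : IsPullback
      (Spec.map (CommRingCat.ofHom (Algebra.TensorProduct.includeRight.toRingHom : C →+* TensorProduct A L C)) ≫ Y.isoSpec.inv)
      (Spec.map (CommRingCat.ofHom (Algebra.TensorProduct.includeLeftRingHom : L →+* TensorProduct A L C)))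
      f x :=
    hp.of_iso (Iso.refl _) Y.isoSpec.symm (Iso.refl _) P.isoSpec.symm (by simp) (by simp)
      (Scheme.isoSpec_inv_naturality f) (by
        simp only [Iso.refl_hom, Category.id_comp, Iso.symm_hom]
        rw [show CommRingCat.ofHom (algebraMap A L) = φ from rfl, hφ, Category.assoc, Iso.hom_inv_id, Category.comp_id])
  let e := sq.isoIsPullback _ _ hT
  have he : e.hom ≫ Spec.map (CommRingCat.ofHom (algebraMap L (TensorProduct A L C))) = q :=
    sq.isoIsPullback_hom_snd _ _ hT
  let v : Fin n → TensorProduct A L C := fun i => (1 : L) ⊗ₜ[A] c i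
  have hv : ⊤ ≤ Submodule.span L (Set.range v) := fun z _ => by
    induction z using TensorProduct.induction_on with
    | zero => exact Submodule.zero_mem _
    | add a b ha hb => exact Submodule.add_mem _ (ha trivial) (hb trivial)
    | tmul l y =>
      obtain ⟨a, rfl⟩ := (Submodule.mem_span_range_iff_exists_fun A).mp
        (show y ∈ Submodule.span A (Set.range c) from hc.symm ▸ Submodule.mem_top)
      rw [TensorProduct.tmul_sum]
      refine Submodule.sum_mem _ fun i _ => ?_
      have : l ⊗ₜ[A] (a i • c i) = (a i • l) • v i := by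
        rw [← TensorProduct.smul_tmul, TensorProduct.smul_tmul', smul_eq_mul, mul_one]
      rw [this]
      exact Submodule.smul_mem _ _ (Submodule.subset_span ⟨i, rfl⟩)
  let g := Fintype.linearCombination L v
  have hg : Function.Surjective g := fun z => by
    obtain ⟨a, ha⟩ := (Submodule.mem_span_range_iff_exists_fun L).mp (hv (trivial : z ∈ ⊤))
    exact ⟨a, ha⟩
  have hfin : Module.Finite L (TensorProduct A L C) := Module.Finite.of_surjective g hg
  have hn : Module.finrank L (TensorProduct A L C) ≤ n := by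
    simpa using LinearMap.finrank_le_finrank_of_surjective hg
  have : IsFinite (Spec.map (CommRingCat.ofHom (algebraMap L (TensorProduct A L C)))) :=
    (IsFinite.SpecMap_iff _).mpr (RingHom.finite_algebraMap.mpr hfin)
  have : Module.Free L (TensorProduct A L C) := Module.Free.of_divisionRing L _
  have : Module.Flat L (TensorProduct A L C) := Module.Flat.of_free
  have : Flat (Spec.map (CommRingCat.ofHom (algebraMap L (TensorProduct A L C)))) :=
    Flat.SpecMap_iff.mpr (RingHom.flat_algebraMap_iff.2 inferInstance)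
  refine ⟨by rw [← he]; infer_instance, fun s => ?_⟩
  rw [← he, Scheme.Hom.finrank_comp_left_of_isIso, Scheme.Hom.finrank_SpecMap_algebraMap,
    Module.rankAtStalk_eq_finrank_of_free]
  exact hn

/-- Quasi-finite separated morphisms from quasi-compact schemes to affine schemes have fibres of bounded degree. -/
theorem exists_degFib_of_quasiFinite {W P : Scheme.{u}} [IsAffine P] (f : W ⟶ P) [LocallyQuasiFinite f]
    [LocallyOfFiniteType f] [QuasiCompact f] [IsSeparated f] : ∃ n, DegFib n f := by
  obtain ⟨Y, j, π, hj, -, hπ, rfl⟩ := H7Lim.exists_openImmersion_finite f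
  obtain ⟨n, hn⟩ := exists_degFib_of_isFinite π
  refine ⟨n, fun L _ x Q p q sq => ?_⟩
  let k : Q ⟶ pullback π x := pullback.lift (p ≫ j) q (by rw [Category.assoc]; exact sq.w)
  have hk : k ≫ pullback.snd π x = q := pullback.lift_snd _ _ _
  have sqk : IsPullback p k j (pullback.fst π x) := by
    refine IsPullback.of_bot ?_ (pullback.lift_fst _ _ _).symm (IsPullback.of_hasPullback π x)
    rw [hk]; exact sq
  have : IsOpenImmersion k := MorphismProperty.of_isPullback sqk hj
  rw [← hk]
  exact DegLE.of_isOpenImmersion k (hn L x _ _ _ (IsPullback.of_hasPullback π x))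

/-- Following a morphism with bounded fibres by an open immersion. -/
theorem DegFib.comp_openImmersion {W A U : Scheme.{u}} {g : W ⟶ A} {n : ℕ} (hg : DegFib n g) (j : A ⟶ U)
    [IsOpenImmersion j] : DegFib n (g ≫ j) := by
  intro L _ x Q p q sq
  by_cases hQ : IsEmpty Q
  · exact degLE_of_isEmpty q n
  obtain ⟨z⟩ := not_isEmpty_iff.mp hQ
  have hx : Set.range x ⊆ Set.range j := by
    rintro _ ⟨s, rfl⟩
    obtain rfl : s = q z := Subsingleton.elim _ _
    exact ⟨g (p z), by rw [← Scheme.Hom.comp_apply, ← Scheme.Hom.comp_apply, ← Scheme.Hom.comp_apply, sq.w]⟩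
  have hl : IsOpenImmersion.lift j x hx ≫ j = x := IsOpenImmersion.lift_fac _ _ _
  exact hg L _ Q p q (isPullback_of_comp_mono j (by rw [hl]; exact sq))

variable {S : Scheme.{u}}

/-- From bounded fibres as sheaves to bounded fibres as schemes. -/
theorem degFib_of_degFibresLE {n : ℕ} {V U : Over S} {f : V ⟶ U}
    (h : W4dec.DegFibresLE n ((yon S).map f)) : DegFib n f.left := by
  intro L _ x Q p q sq
  let str := x ≫ U.hom
  let Q' : Over S := Over.mk (q ≫ str)
  let c : Q' ⟶ Over.mk str := Over.homMk q rfl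
  let p' : Q' ⟶ V := Over.homMk p (by
    change p ≫ V.hom = q ≫ x ≫ U.hom
    rw [← Over.w f, reassoc_of% sq.w])
  let x' : Over.mk str ⟶ U := Over.homMk x rfl
  have hs : IsPullback p' c f x' :=
    IsPullback.of_map (Over.forget S) (Over.OverMorphism.ext sq.w) sq
  refine h (fieldPtOfHom ((yon S).map x')) Q' c ((yon S).map p') ?_
  rw [toHom_fieldPtOfHom]
  exact (hs.map (yon S)).flip

/-- Composition with a morphism with bounded fibres. -/
theorem degFibresLE_comp {F : Sp S} {n m : ℕ} {V U : Over S} {f : V ⟶ U} (hf : DegFib n f.left)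
    {g : (yon S).obj U ⟶ F} (hrep : Representable g) (hg : W4dec.DegFibresLE m g) :
    W4dec.DegFibresLE (n * m) ((yon S).map f ≫ g) := by
  intro q T c snd sq
  obtain ⟨s, rfl⟩ := (yon S).map_surjective snd
  have sq' := hrep.isPullback q.toHom
  obtain ⟨a, ha⟩ := (yon S).map_surjective (hrep.fst q.toHom)
  rw [← ha] at sq'
  obtain ⟨k, hk⟩ := (yon S).map_surjective
    (sq'.lift ((yon S).map s ≫ (yon S).map f) ((yon S).map c) (by rw [Category.assoc]; exact sq.w.symm))
  have hkc : k ≫ hrep.snd q.toHom = c := (yon S).map_injective (by rw [Functor.map_comp, hk, sq'.lift_snd])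
  have hka : k ≫ a = s ≫ f := (yon S).map_injective (by
    rw [Functor.map_comp, hk, sq'.lift_fst, Functor.map_comp])
  have hpk : IsPullback ((yon S).map s) ((yon S).map k) ((yon S).map f) ((yon S).map a) := by
    refine IsPullback.of_bot ?_ (by rw [← Functor.map_comp, ← Functor.map_comp, hka]) sq'
    rw [hk, sq'.lift_snd]
    exact sq.flip
  have hs : IsPullback s.left k.left f.left a.left :=
    (IsPullback.of_map (yon S) hka.symm hpk).map (Over.forget S)
  rw [← hkc]
  exact degLE_comp k.left (hrep.snd q.toHom).left (hg q _ _ _ sq'.flip)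
    fun L _ x P p r hP => hf L (x ≫ a.left) P (p ≫ s.left) r (hP.paste_horiz hs)

/-- Following a morphism with bounded fibres by an open immersion of sheaves. -/
theorem degFibresLE_comp_open {F G : Sp S} {n : ℕ} {U : Over S} {g : (yon S).obj U ⟶ F}
    (hg : W4dec.DegFibresLE n g) {j : F ⟶ G} (hj : RepWith @IsOpenImmersion j) :
    W4dec.DegFibresLE n (g ≫ j) := by
  intro q T c snd sq
  have := mono_of_openImmersion hj
  by_cases hT : IsEmpty T.left
  · exact degLE_of_isEmpty c.left n
  obtain ⟨z⟩ := not_isEmpty_iff.mp hT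
  have hq : Set.range (Points.map q.toHom) ⊆ Set.range (Points.map j) := by
    rw [range_map_yon]
    rintro _ ⟨s, rfl⟩
    obtain rfl : s = c.left z := @Subsingleton.elim (Spec (CommRingCat.of q.K)) inferInstance _ _
    refine ⟨Points.map g (Points.ofPt snd z), ?_⟩
    rw [← Points.map_comp, Points.map_ofPt, ← sq.w]
    exact ofPt_map c q.toHom z
  obtain ⟨l, hl⟩ := exists_factor_open hj q.toHom hq
  have hm : (fieldPtOfHom (K := q.K) (str := q.str) l).toHom = l := toHom_fieldPtOfHom l
  refine hg (fieldPtOfHom (K := q.K) (str := q.str) l) T c snd ?_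
  rw [hm]
  exact isPullback_of_comp_mono j (hl.symm ▸ sq)

/-- Bounded fibres descend along flat jointly surjective finite families. -/
theorem degFibresLE_of_flat_cover {F : Sp S} {ι : Type*} [Fintype ι] {W : ι → Over S} {U : Over S}
    (f : ∀ i, W i ⟶ U) [∀ i, Flat (f i).left] (hf : ∀ u : U.left, ∃ i w, (f i).left w = u)
    (g : (yon S).obj U ⟶ F) (n : ι → ℕ) (h : ∀ i, W4dec.DegFibresLE (n i) ((yon S).map (f i) ≫ g)) :
    W4dec.DegFibresLE (∑ i, n i) g := by
  intro q T c snd sq
  obtain ⟨s, rfl⟩ := (yon S).map_surjective snd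
  have sqi : ∀ i, IsPullback (pullback.fst s (f i)).left (pullback.snd s (f i)).left s.left (f i).left :=
    fun i => (IsPullback.of_hasPullback s (f i)).map (Over.forget S)
  have : ∀ i, Flat (pullback.fst s (f i)).left := fun i => MorphismProperty.of_isPullback (sqi i).flip inferInstance
  refine degLE_of_flat_cover (fun i => (pullback.fst s (f i)).left) (fun t => ?_) c.left n fun i => ?_
  · obtain ⟨i, w, hw⟩ := hf (s.left t)
    obtain ⟨z, hz, -⟩ := Scheme.exists_preimage_of_isPullback (sqi i) t w hw.symm
    exact ⟨i, z, hz⟩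
  · have h1 : IsPullback ((yon S).map (pullback.fst s (f i)) ≫ (yon S).map c)
        ((yon S).map (pullback.snd s (f i))) q.toHom ((yon S).map (f i) ≫ g) :=
      (((IsPullback.of_hasPullback s (f i)).map (yon S)).flip.paste_vert sq.flip).flip
    rw [← Functor.map_comp] at h1
    exact h i q _ _ _ h1

end Groth.Agent.H13AlgSp
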