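import Groth.Agent.H13AlgSp.LocalST
import Groth.Agent.H13AlgSp.TopInv
import Groth.Agent.H13AlgSp.UnivBdd

/-!
A property etale local on the source and smooth local on the base, stable under composition with open
immersions, is stable under composition with etale morphisms of affine schemes.
-/

universe u

open CategoryTheory CategoryTheory.Limits AlgebraicGeometry Opposite
open AlgSp Groth.Agent.H12AlgSp Groth.Agent.H13AlgSp.DegField

namespace Groth.Agent.H13AlgSp.EtaleSmooth

variable {S : Scheme.{u}} {P : MorphismProperty (Sp S)}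

theorem isEtaleMor_yon {U V : Over S} (k : U ⟶ V) [Etale k.left] : IsEtaleMor ((yon S).map k) :=
  H13AlgSp.isEtaleMor_of_locP (IsAlgSpace.yon_obj _) (IsAlgSpace.yon_obj _)
    (locP_of_repWith etLocal_etale ((repWith_yon_map_iff _ _).2 inferInstance))

theorem isEtaleMor_cancel {A B C : Sp S} (hA : IsAlgSpace A) (hB : IsAlgSpace B) (hC : IsAlgSpace C)
    {f : A ⟶ B} {g : B ⟶ C}
    (hg : IsEtaleMor g) (h : IsEtaleMor (f ≫ g)) : IsEtaleMor f :=
  H13AlgSp.isEtaleMor_of_locP hA hB (locP_of_postcomp (g := g) etLocal_etale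
    (fun _ _ _ f g (h : Etale (f ≫ g)) (_ : Etale g) => Etale.of_comp f g) hC
    (H13AlgSp.locP_etale_of_isEtaleMor h) (H13AlgSp.locP_etale_of_isEtaleMor hg))

theorem isAlgSpace_pb {A B C : Sp S} (hA : IsAlgSpace A) (hB : IsAlgSpace B) (hC : IsAlgSpace C)
    (f : A ⟶ C) (g : B ⟶ C) : IsAlgSpace (pullback f g) :=
  isAlgSpace_of_isPullback hC.diag hA hB (IsPullback.of_hasPullback f g)

/-- The hypotheses. -/
structure Hyp (P : MorphismProperty (Sp S)) : Prop where
  src : IsLocalOnSource (IsEtCover (S := S)) P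
  base : IsLocalOnBase (IsSmCover (S := S)) P
  postOpen : ∀ {X Y Z : Sp S}, IsAlgSpace X → IsAlgSpace Y → IsAlgSpace Z → ∀ (f : X ⟶ Y) (j : Y ⟶ Z),
    P f → RepWith @IsOpenImmersion j → P (f ≫ j)

variable (hP : Hyp P)
include hP

theorem Hyp.precomp {X Y Z : Sp S} (hX : IsAlgSpace X) (hY : IsAlgSpace Y) (hZ : IsAlgSpace Z)
    (f : X ⟶ Y) (g : Y ⟶ Z) (hf : IsEtaleMor f) (hg : P g) : P (f ≫ g) := by
  refine (hP.src (ι := ULift.{u} Bool) (fun b => bif b.down then Y else X)
    (fun b => match b with | ⟨true⟩ => 𝟙 Y | ⟨false⟩ => f) hY ?_ ⟨?_, ?_⟩ g hZ).1 hg ⟨false⟩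
  · rintro ⟨_ | _⟩ <;> assumption
  · rintro ⟨_ | _⟩
    exacts [hf, LocalST.isEtaleMor_id Y]
  · exact fun y => ⟨⟨true⟩, y, Points.map_id y⟩

theorem Hyp.baseChange {X Y X' Y' : Sp S} (hX : IsAlgSpace X) (hY : IsAlgSpace Y) (hX' : IsAlgSpace X')
    (hY' : IsAlgSpace Y') (f : X ⟶ Y) (g : Y' ⟶ Y) (f' : X' ⟶ Y') (g' : X' ⟶ X)
    (sq : IsPullback g' f' f g) (hg : LocP @Smooth g) (hf : P f) : P f' := by
  refine (hP.base (ι := ULift.{u} Bool) (fun b => bif b.down then Y else Y')
    (fun b => match b with | ⟨true⟩ => 𝟙 Y | ⟨false⟩ => g) hY ?_ ⟨?_, ?_⟩ f hX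
    (fun b => bif b.down then X else X')
    (fun b => match b with | ⟨true⟩ => f | ⟨false⟩ => f')
    (fun b => match b with | ⟨true⟩ => 𝟙 X | ⟨false⟩ => g') ?_ ?_).1 hf ⟨false⟩
  · rintro ⟨_ | _⟩ <;> assumption
  · rintro ⟨_ | _⟩
    exacts [hg, LocalST.locP_smooth_id Y]
  · exact fun y => ⟨⟨true⟩, y, Points.map_id y⟩
  · rintro ⟨_ | _⟩ <;> assumption
  · rintro ⟨_ | _⟩
    exacts [sq, IsPullback.id_horiz f]

theorem Hyp.of_points {X Y : Sp S} (hX : IsAlgSpace X) (hY : IsAlgSpace Y) (f : X ⟶ Y)
    (h : ∀ x : Points X, ∃ (U : Sp S) (e : U ⟶ X), IsAlgSpace U ∧ IsEtaleMor e ∧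
      x ∈ Set.range (Points.map e) ∧ P (e ≫ f)) : P f := by
  obtain ⟨ι, x, hx⟩ := LocalST.exists_small_surjection hX
  choose U e hU he hmem hPe using fun i => h (x i)
  refine (hP.src U e hX hU ⟨he, fun y => ?_⟩ f hY).2 hPe
  obtain ⟨i, rfl⟩ := hx y
  exact ⟨i, hmem i⟩

theorem Hyp.of_base_single {X Y Y' X' : Sp S} (hX : IsAlgSpace X) (hY : IsAlgSpace Y)
    (hX' : IsAlgSpace X') (hY' : IsAlgSpace Y') {f : X ⟶ Y} {g : Y' ⟶ Y} {f' : X' ⟶ Y'} {g' : X' ⟶ X}
    (sq : IsPullback g' f' f g) (hg : LocP @Smooth g) (hs : IsSurjectiveMor g) (h : P f') : P f :=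
  (hP.base (ι := PUnit.{u + 1}) (fun _ => Y') (fun _ => g) hY (fun _ => hY')
    (LocalST.isCover_single hg hs) f hX (fun _ => X') (fun _ => f') (fun _ => g') (fun _ => hX')
    (fun _ => sq)).2 fun _ => h

omit hP in
/-- At most `n` geometric points in each fibre. -/
def GeomLE (n : ℕ) {V T : Scheme.{u}} (π : V ⟶ T) : Prop :=
  ∀ (K : Type u) [Field K] (p : Spec (CommRingCat.of K) ⟶ T) (e : Fin (n + 1) → (Spec (CommRingCat.of K) ⟶ V)),
    (∀ i, e i ≫ π = p) → ¬ Function.Injective e

omit hP in
theorem exists_geomLE {V T : Scheme.{u}} [IsAffine V] [IsAffine T] (π : V ⟶ T) [Etale π] :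
    ∃ n, GeomLE n π := by
  have := H13AlgSp.locallyQuasiFinite_of_etale π
  obtain ⟨n, hn⟩ := exists_degFib_of_quasiFinite π
  refine ⟨n, fun K _ p e he hinj => ?_⟩
  have hd := hn K p _ _ _ (IsPullback.of_hasPullback π p)
  have := hd.finite.1
  have : IsAffine (pullback π p) := isAffine_of_isAffineHom (pullback.snd π p)
  let c := pullback.snd π p
  let := alg c
  obtain ⟨hfin, hrk⟩ := (degLE_iff n c).1 hd
  let l : Fin (n + 1) → (Spec (CommRingCat.of K) ⟶ pullback π p) := fun i =>
    pullback.lift (e i) (𝟙 _) (by rw [he, Category.id_comp])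
  let a : Fin (n + 1) → (Γ(pullback π p, ⊤) →ₐ[K] K) := fun i =>
    { ((Scheme.Hom.appTop (l i)) ≫ (Scheme.ΓSpecIso (CommRingCat.of K)).hom).hom with
      commutes' := fun k => by
        show ((Scheme.ΓSpecIso (CommRingCat.of K)).inv ≫ c.appTop ≫ (l i).appTop ≫
          (Scheme.ΓSpecIso (CommRingCat.of K)).hom).hom k = k
        rw [← Category.assoc c.appTop, ← Scheme.Hom.comp_appTop, pullback.lift_snd, Scheme.Hom.id_appTop,
          Category.id_comp, Iso.inv_hom_id]
        rfl }
  have hainj : Function.Injective a := fun i j h => hinj (by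
    have h' : (l i).appTop = (l j).appTop := (cancel_mono (Scheme.ΓSpecIso (CommRingCat.of K)).hom).1
      (CommRingCat.hom_ext (congrArg AlgHom.toRingHom h))
    have := congrArg (· ≫ pullback.fst π p) (ext_of_isAffine h')
    exact (pullback.lift_fst _ _ _).symm.trans (this.trans (pullback.lift_fst _ _ _)))
  have h1 := Nat.card_le_card_of_injective a hainj
  have h2 := card_algHom_le_finrank K Γ(pullback π p, ⊤) K
  rw [Nat.card_fin] at h1
  omega

omit hP in
theorem range_subset_of_field {K : Type u} [Field K] {Z : Scheme.{u}} {W : Z.Opens}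
    (p : Spec (CommRingCat.of K) ⟶ Z) (h : p (IsLocalRing.closedPoint K) ∈ W) :
    Set.range p ⊆ Set.range W.ι := by
  rintro _ ⟨t, rfl⟩
  rw [Scheme.Opens.range_ι, @Subsingleton.elim (Spec (CommRingCat.of K)) inferInstance t (IsLocalRing.closedPoint K)]
  exact h

set_option maxHeartbeats 1000000 in
theorem Hyp.postcomp_affine (n : ℕ) : ∀ {V T : Over S} (π : V ⟶ T), IsAffine V.left → IsAffine T.left →
    Etale π.left → GeomLE n π.left → ∀ {U : Sp S}, IsAlgSpace U → ∀ g : U ⟶ (yon S).obj V,
    P g → P (g ≫ (yon S).map π) := by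
  induction n with
  | zero =>
    intro V T π _ _ _ hn U hU g _
    have hV : IsEmpty V.left := ⟨fun v => hn (V.left.residueField v) (V.left.fromSpecResidueField v ≫ π.left)
      (fun _ => V.left.fromSpecResidueField v) (fun _ => rfl) (Function.injective_of_subsingleton (α := Fin 1) _)⟩
    exact (hP.src (ι := PEmpty.{u + 1}) PEmpty.elim (fun i => i.elim) hU (fun i => i.elim)
      ⟨fun i => i.elim, fun x => hV.elim (Points.toScheme V (Points.map g x))⟩ _
      (IsAlgSpace.yon_obj T)).2 fun i => i.elim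
  | succ n ih =>
    intro V T π _ _ het hn U hU g hg
    -- the image
    let O : T.left.Opens := ⟨Set.range π.left, π.left.isOpenMap.isOpen_range⟩
    let T' : Over S := Over.mk (O.ι ≫ T.hom)
    let j : T' ⟶ T := Over.homMk O.ι rfl
    let π₀ : V ⟶ T' := Over.homMk (IsOpenImmersion.lift O.ι π.left (by rw [Scheme.Opens.range_ι]; rfl)) (by
      simp [T'])
    have hπ₀ : π₀ ≫ j = π := Over.OverMorphism.ext (IsOpenImmersion.lift_fac _ _ _)
    have : IsOpenImmersion j.left := inferInstanceAs (IsOpenImmersion O.ι)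
    have : Etale (π₀.left ≫ j.left) := by rw [← Over.comp_left, hπ₀]; infer_instance
    have : Etale π₀.left := Etale.of_comp π₀.left j.left
    have hπ₀s : IsSurjectiveMor ((yon S).map π₀) := by
      intro x
      obtain ⟨⟨_, v, rfl⟩, rfl⟩ := (Points.schemeEquiv T').surjective x
      refine ⟨Points.ofScheme V v, ?_⟩
      rw [Points.map_ofPt, Category.id_comp]
      refine (congrArg (fun k => Points.ofPt k v) (Category.comp_id _).symm).trans ((ofPt_map π₀ (𝟙 _) v).trans ?_)
      exact congrArg (Points.ofScheme T') (Subtype.ext (congrArg (fun k => k v) (IsOpenImmersion.lift_fac O.ι π.left _)))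
    -- the pair scheme minus the diagonal
    let VV : Scheme.{u} := pullback π.left π.left
    let δ : V.left ⟶ VV := pullback.diagonal π.left
    have : IsOpenImmersion δ := inferInstanceAs (IsOpenImmersion (pullback.diagonal π.left))
    let D₀ : VV.Opens := ⟨(Set.range δ)ᶜ, δ.isClosedEmbedding.isClosed_range.isOpen_compl⟩
    have : IsClosedImmersion D₀.ι := IsClosedImmersion.of_isPreimmersion D₀.ι (by
      rw [Scheme.Opens.range_ι]; exact δ.isOpenEmbedding.isOpen_range.isClosed_compl)
    have : IsAffine D₀.toScheme := isAffine_of_isAffineHom D₀.ι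
    let D : Over S := Over.mk (D₀.ι ≫ pullback.fst π.left π.left ≫ V.hom)
    let pr₁ : D ⟶ V := Over.homMk (D₀.ι ≫ pullback.fst π.left π.left) (by simp [D])
    let pr₂ : D ⟶ V := Over.homMk (D₀.ι ≫ pullback.snd π.left π.left) (by
      simp only [D, Over.mk_hom, Category.assoc]
      rw [← Over.w π, pullback.condition_assoc])
    have : Etale pr₁.left := inferInstanceAs (Etale (D₀.ι ≫ pullback.fst π.left π.left))
    have : Etale pr₂.left := inferInstanceAs (Etale (D₀.ι ≫ pullback.snd π.left π.left))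
    have hprw : pr₁ ≫ π₀ = pr₂ ≫ π₀ := by
      apply Over.OverMorphism.ext
      rw [← cancel_mono j.left, Over.comp_left, Over.comp_left, Category.assoc, Category.assoc,
        show π₀.left ≫ j.left = π.left from congrArg (fun k => k.left) hπ₀]
      simp only [pr₁, pr₂, Over.homMk_left, Category.assoc, pullback.condition]
    have hDn : GeomLE n pr₂.left := by
      intro K _ p e he hinj
      refine hn K (p ≫ π.left) (Fin.snoc (fun i => e i ≫ pr₁.left) p) (fun i => ?_) ?_
      · refine Fin.lastCases ?_ (fun i => ?_) i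
        · simp only [Fin.snoc_last]
        · simp only [Fin.snoc_castSucc, Category.assoc, ← he i, pr₁, pr₂, Over.homMk_left, pullback.condition]
      have hne : ∀ i, e i ≫ pr₁.left ≠ p := fun i hi => by
        have h' : e i ≫ D₀.ι = p ≫ δ := pullback.hom_ext
          (by simp only [Category.assoc, δ, pullback.diagonal_fst, Category.comp_id]; exact hi)
          (by simp only [Category.assoc, δ, pullback.diagonal_snd, Category.comp_id]; exact he i)
        have hm : (e i ≫ D₀.ι) (IsLocalRing.closedPoint K) ∈ (D₀ : Set VV) := (e i (IsLocalRing.closedPoint K)).2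
        rw [h', Scheme.Hom.comp_apply] at hm
        exact hm ⟨_, rfl⟩
      intro i
      refine Fin.lastCases ?_ (fun i => ?_) i
      · intro k
        refine Fin.lastCases (fun _ => rfl) (fun k h => ?_) k
        simp only [Fin.snoc_last, Fin.snoc_castSucc] at h
        exact absurd h.symm (hne k)
      · intro k
        refine Fin.lastCases (fun h => ?_) (fun k h => ?_) k
        · simp only [Fin.snoc_last, Fin.snoc_castSucc] at h
          exact absurd h (hne i)
        · simp only [Fin.snoc_castSucc] at h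
          refine congrArg Fin.castSucc (hinj ((cancel_mono D₀.ι).1 (pullback.hom_ext ?_ ?_)))
          · simpa [pr₁] using h
          · have h2 := (he i).trans (he k).symm
            simpa [pr₂] using h2
    -- descend along the cover of the image
    have hY := IsAlgSpace.yon_obj (S := S)
    have hπ₀e := isEtaleMor_yon π₀
    let p := g ≫ (yon S).map π₀
    have hQ := isAlgSpace_pb hU (hY V) (hY T') p ((yon S).map π₀)
    have sqQ := IsPullback.of_hasPullback p ((yon S).map π₀)
    have key : P (pullback.snd p ((yon S).map π₀)) := by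
      have sqR := IsPullback.of_hasPullback g ((yon S).map pr₁)
      have hR := isAlgSpace_pb hU (hY D) (hY V) g ((yon S).map pr₁)
      have hPR := hP.baseChange hU (hY V) hR (hY D) _ _ _ _ sqR
        (LocalST.locP_smooth_of_isEtaleMor (isEtaleMor_yon pr₁)) hg
      have hPR₂ := ih pr₂ (inferInstanceAs (IsAffine D₀.toScheme)) ‹_› ‹_› hDn hR _ hPR
      let σ : U ⟶ pullback p ((yon S).map π₀) := sqQ.lift (𝟙 U) g (Category.id_comp _)
      let ρ : pullback g ((yon S).map pr₁) ⟶ pullback p ((yon S).map π₀) :=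
        sqQ.lift (pullback.fst _ _) (pullback.snd _ _ ≫ (yon S).map pr₂) (by
          show pullback.fst g ((yon S).map pr₁) ≫ g ≫ (yon S).map π₀ = _
          rw [pullback.condition_assoc, ← Functor.map_comp, hprw, Functor.map_comp, Category.assoc])
      have hfst : IsEtaleMor (pullback.fst p ((yon S).map π₀)) :=
        TopInv.isEtaleMor_snd (hY V) (hY T') hU hQ sqQ.flip hπ₀e
      have hσ : IsEtaleMor σ := isEtaleMor_cancel hU hQ hU hfst (by
        rw [sqQ.lift_fst]; exact LocalST.isEtaleMor_id U)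
      have hρ : IsEtaleMor ρ := isEtaleMor_cancel hR hQ hU hfst (by
        rw [sqQ.lift_fst]; exact TopInv.isEtaleMor_snd (hY D) (hY V) hU hR sqR.flip (isEtaleMor_yon pr₁))
      refine hP.of_points hQ (hY V) _ fun x => ?_
      induction x using Points.ind with | h q =>
      let u := q.toHom ≫ pullback.fst p ((yon S).map π₀)
      obtain ⟨v₁, hv₁⟩ := (yon S).map_surjective (u ≫ g)
      obtain ⟨v₂, hv₂⟩ := (yon S).map_surjective (q.toHom ≫ pullback.snd p ((yon S).map π₀))
      have hv : v₁ ≫ π₀ = v₂ ≫ π₀ := (yon S).map_injective (by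
        rw [Functor.map_comp, Functor.map_comp, hv₁, hv₂, Category.assoc, Category.assoc, Category.assoc]
        exact congrArg (q.toHom ≫ ·) sqQ.w)
      let z : q.pt.left ⟶ VV := pullback.lift v₁.left v₂.left (by
        have := congrArg (fun k => k.left ≫ j.left) hv
        simpa only [Over.comp_left, Category.assoc,
          show π₀.left ≫ j.left = π.left from congrArg (fun k => k.left) hπ₀] using this)
      by_cases hz : z (IsLocalRing.closedPoint q.K) ∈ Set.range δ
      · refine ⟨U, σ, hU, hσ, ⟨Points.ofPt u (IsLocalRing.closedPoint q.K : q.pt.left), ?_⟩, by rwa [sqQ.lift_snd]⟩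
        have hr : Set.range z ⊆ Set.range δ := by
          rintro _ ⟨t, rfl⟩
          rwa [@Subsingleton.elim (Spec (CommRingCat.of q.K)) inferInstance t (IsLocalRing.closedPoint q.K)]
        have hl : IsOpenImmersion.lift δ z hr ≫ δ = z := IsOpenImmersion.lift_fac _ _ _
        have e₁ := congrArg (· ≫ pullback.fst π.left π.left) hl
        have e₂ := congrArg (· ≫ pullback.snd π.left π.left) hl
        simp only [Category.assoc, δ, pullback.diagonal_fst, pullback.diagonal_snd, Category.comp_id,
          z, pullback.lift_fst, pullback.lift_snd] at e₁ e₂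
        have he : v₁ = v₂ := Over.OverMorphism.ext (e₁.symm.trans e₂)
        rw [Points.map_ofPt, show u ≫ σ = q.toHom from sqQ.hom_ext
          (by rw [Category.assoc, sqQ.lift_fst, Category.comp_id])
          (by rw [Category.assoc, sqQ.lift_snd, ← hv₁, ← hv₂, he])]
        exact Points.ofPt_toHom q _
      · let d : q.pt.left ⟶ D₀.toScheme := IsOpenImmersion.lift D₀.ι z (range_subset_of_field z hz)
        have hd : d ≫ D₀.ι = z := IsOpenImmersion.lift_fac _ _ _
        let dO : q.pt ⟶ D := Over.homMk d (by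
          simp only [D, Over.mk_hom]
          rw [reassoc_of% hd, pullback.lift_fst_assoc]
          exact Over.w v₁)
        have hd₁ : dO ≫ pr₁ = v₁ := Over.OverMorphism.ext (by
          simp only [Over.comp_left, dO, pr₁, Over.homMk_left, reassoc_of% hd]
          exact pullback.lift_fst _ _ _)
        have hd₂ : dO ≫ pr₂ = v₂ := Over.OverMorphism.ext (by
          simp only [Over.comp_left, dO, pr₂, Over.homMk_left, reassoc_of% hd]
          exact pullback.lift_snd _ _ _)
        let r := sqR.lift u ((yon S).map dO) (by rw [← Functor.map_comp, hd₁, hv₁])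
        refine ⟨_, ρ, hR, hρ, ⟨Points.ofPt r (IsLocalRing.closedPoint q.K : q.pt.left), ?_⟩,
          by rwa [sqQ.lift_snd]⟩
        rw [Points.map_ofPt, show r ≫ ρ = q.toHom from sqQ.hom_ext
          (by rw [Category.assoc, sqQ.lift_fst, sqR.lift_fst])
          (by rw [Category.assoc, sqQ.lift_snd, sqR.lift_snd_assoc, ← Functor.map_comp, hd₂, hv₂])]
        exact Points.ofPt_toHom q _
    have := hP.postOpen hU (hY T') (hY T) p ((yon S).map j)
      (hP.of_base_single hU (hY T') hQ (hY V) sqQ (LocalST.locP_smooth_of_isEtaleMor hπ₀e) hπ₀s key)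
      ((repWith_yon_map_iff _ j).2 inferInstance)
    rwa [Category.assoc, ← Functor.map_comp, hπ₀] at this

end Groth.Agent.H13AlgSp.EtaleSmooth
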