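import Groth.Agent.H13AlgSp.EtalePostcomp
import Mathlib.RingTheory.Etale.StandardEtale
import Mathlib.RingTheory.TensorProduct.MvPolynomial
import Mathlib.RingTheory.RootsOfUnity.AlgebraicallyClosed
import Mathlib.Combinatorics.Nullstellensatz
import Mathlib.RingTheory.RingHom.Etale
import Mathlib.RingTheory.Smooth.StandardSmooth

/-!
Etale translations of affine space moving a given point into a given open set.
-/

universe u

open CategoryTheory CategoryTheory.Limits AlgebraicGeometry Opposite

namespace Groth.Agent.H13AlgSp.EtaleSmooth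

/-- A point of affine space over an algebraically closed field can be moved off the zeros of a nonzero
polynomial by a translation with coordinates in an etale algebra. -/
theorem exists_shift {A : Type u} [CommRing A] {L : Type u} [Field L] [IsAlgClosed L] (ξ : A →+* L)
    {n : ℕ} (t₀ : Fin n → L) {g : MvPolynomial (Fin n) L} (hg : g ≠ 0) :
    ∃ (A' : Type u) (_ : CommRing A') (φ : A →+* A') (ξ' : A' →+* L) (a : Fin n → A'),
      φ.Etale ∧ ξ'.comp φ = ξ ∧ MvPolynomial.eval (fun i => t₀ i + ξ' (a i)) g ≠ 0 := by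
  classical
  obtain ⟨N, hN, hNp⟩ := Nat.exists_infinite_primes (max g.totalDegree (ringChar L) + 1)
  have hNL : (N : L) ≠ 0 := fun h => by
    have hd := (ringChar.spec L N).1 h
    rcases (Nat.dvd_prime hNp).1 hd with h1 | h1
    · exact CharP.ringChar_ne_one h1
    · omega
  have : NeZero (N : L) := ⟨hNL⟩
  obtain ⟨ζ, hζ⟩ := HasEnoughRootsOfUnity.exists_primitiveRoot L N
  let S : Fin n → Finset L := fun i => (Finset.range N).image fun k => t₀ i + ζ ^ k
  have hcard : ∀ i, (S i).card = N := fun i => by
    rw [Finset.card_image_of_injOn, Finset.card_range]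
    intro k hk l hl e
    exact hζ.pow_inj (by simpa using hk) (by simpa using hl) (add_left_cancel e)
  obtain ⟨x, hx, hxg⟩ : ∃ x : Fin n → L, (∀ i, x i ∈ S i) ∧ MvPolynomial.eval x g ≠ 0 := by
    by_contra h
    push Not at h
    refine hg (MvPolynomial.eq_zero_of_eval_zero_at_prod_finset g S (fun i => ?_) h)
    have := MvPolynomial.degreeOf_le_totalDegree g i
    rw [hcard]
    omega
  choose k hk hkx using fun i => Finset.mem_image.1 (hx i)
  let pr : StandardEtalePair A :=
    ⟨Polynomial.X ^ N - 1, Polynomial.monic_X_pow_sub_C 1 hNp.ne_zero,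
      Polynomial.derivative (Polynomial.X ^ N - 1), 1, 0, 1, by simp⟩
  let := ξ.toAlgebra
  have hmap : pr.HasMap ζ := by
    refine ⟨by simp [pr, hζ.pow_eq_one], ?_⟩
    rw [isUnit_iff_ne_zero]
    simp [pr, Polynomial.derivative_X_pow, hNL, hζ.ne_zero hNp.ne_zero]
  refine ⟨pr.Ring, inferInstance, algebraMap A pr.Ring, (pr.lift ζ hmap).toRingHom, fun i => pr.X ^ k i,
    RingHom.etale_algebraMap.2 inferInstance, RingHom.ext fun r => (pr.lift ζ hmap).commutes r, ?_⟩
  convert hxg using 3
  funext i
  simp [hkx]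

/-- Translations of affine space over an algebra. -/
noncomputable def shiftEquiv {A' : Type u} [CommRing A'] {n : ℕ} (a : Fin n → A') :
    MvPolynomial (Fin n) A' ≃ₐ[A'] MvPolynomial (Fin n) A' :=
  AlgEquiv.ofAlgHom (MvPolynomial.aeval fun i => MvPolynomial.X i + MvPolynomial.C (a i))
    (MvPolynomial.aeval fun i => MvPolynomial.X i - MvPolynomial.C (a i))
    (by ext i; simp) (by ext i; simp)

/-- The translated inclusion of affine spaces. -/
noncomputable def shiftMap {A A' : Type u} [CommRing A] [CommRing A'] {n : ℕ} (φ : A →+* A') (a : Fin n → A') :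
    MvPolynomial (Fin n) A →+* MvPolynomial (Fin n) A' :=
  ((shiftEquiv a).toRingEquiv.toRingHom).comp (MvPolynomial.map φ)

theorem shiftMap_C {A A' : Type u} [CommRing A] [CommRing A'] {n : ℕ} (φ : A →+* A') (a : Fin n → A') (r : A) :
    shiftMap φ a (MvPolynomial.C r) = MvPolynomial.C (φ r) := by
  show shiftEquiv a (MvPolynomial.map φ (MvPolynomial.C r)) = _
  simp [shiftEquiv]

theorem shiftMap_X {A A' : Type u} [CommRing A] [CommRing A'] {n : ℕ} (φ : A →+* A') (a : Fin n → A') (i : Fin n) :
    shiftMap φ a (MvPolynomial.X i) = MvPolynomial.X i + MvPolynomial.C (a i) := by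
  show shiftEquiv a (MvPolynomial.map φ (MvPolynomial.X i)) = _
  simp [shiftEquiv]

attribute [local instance] MvPolynomial.algebraMvPolynomial in
theorem etale_map {A A' : Type u} [CommRing A] [CommRing A'] {n : ℕ} {φ : A →+* A'} (hφ : φ.Etale) :
    (MvPolynomial.map φ : MvPolynomial (Fin n) A →+* MvPolynomial (Fin n) A').Etale := by
  let := φ.toAlgebra
  have : Algebra.Etale A A' := hφ
  have h : Algebra.Etale (MvPolynomial (Fin n) A) (MvPolynomial (Fin n) A') :=
    Algebra.Etale.of_equiv (Algebra.IsPushout.equiv A (MvPolynomial (Fin n) A) A' (MvPolynomial (Fin n) A'))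
  exact RingHom.etale_algebraMap.2 h

theorem etale_shiftMap {A A' : Type u} [CommRing A] [CommRing A'] {n : ℕ} {φ : A →+* A'} (hφ : φ.Etale)
    (a : Fin n → A') : Etale (Spec.map (CommRingCat.ofHom (shiftMap φ a))) := by
  have h1 : Etale (Spec.map (CommRingCat.ofHom (MvPolynomial.map φ : MvPolynomial (Fin n) A →+* _))) :=
    (HasRingHomProperty.Spec_iff (P := @Etale)).2 (etale_map hφ)
  rw [show CommRingCat.ofHom (shiftMap φ a) = CommRingCat.ofHom (MvPolynomial.map φ) ≫
    (shiftEquiv a).toRingEquiv.toCommRingCatIso.hom from rfl, Spec.map_comp]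
  infer_instance

end Groth.Agent.H13AlgSp.EtaleSmooth
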