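import Groth.Agent.H13AlgSp.EtaleSmoothMk

/-!
Properties etale local on the source and smooth local on the base, stable under composition with open
immersions, are etale-smooth local on source-and-target.
-/

universe u

open CategoryTheory CategoryTheory.Limits AlgebraicGeometry Opposite
open AlgSp Groth.Agent.H12AlgSp

namespace Groth.Agent.H13AlgSp.EtaleSmooth

variable {S : Scheme.{u}} {P : MorphismProperty (Sp S)} (hP : Hyp P)
include hP

/-- An affine target. -/
theorem exists_good_of_affine {R : Type u} [CommRing R] {s : Spec (CommRingCat.of R) ⟶ S} {X V W U : Sp S}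
    (hX : IsAlgSpace X) (hV : IsAlgSpace V) (hW : IsAlgSpace W) (hU : IsAlgSpace U)
    (f : X ⟶ (yon S).obj (Over.mk s)) {b : V ⟶ (yon S).obj (Over.mk s)} (hb : LocP @Smooth b)
    {p : W ⟶ X} {q : W ⟶ V} (sqW : IsPullback p q f b) {e : U ⟶ W} (he : IsEtaleMor e) (v : Points U)
    (hPe : P (e ≫ q)) :
    ∃ (X₀ : Sp S) (i : X₀ ⟶ X), IsAlgSpace X₀ ∧ IsEtaleMor i ∧
      Points.map (e ≫ p) v ∈ Set.range (Points.map i) ∧ P (i ≫ f) := by
  have hY := IsAlgSpace.yon_obj (S := S)
  obtain ⟨V', c, hce, hcs⟩ := hV.atlas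
  obtain ⟨v', hv'⟩ := surjective_ofPt_of_repWith le_rfl hcs (Points.map (e ≫ q) v)
  obtain ⟨κ, B, str, ι, hι, -, hcov⟩ := H13Inf.exists_affine_pieces V'
  obtain ⟨i, z, hz⟩ := hcov v'
  obtain ⟨β, hβ⟩ := (yon S).map_surjective ((yon S).map (ι i) ≫ c ≫ b)
  have : IsOpenImmersion (ι i).left := hι i
  have hce' : RepWith @Etale ((yon S).map (ι i) ≫ c) :=
    repWith_comp ((repWith_yon_map_iff _ _).2 (inferInstanceAs (Etale (ι i).left))) hce
  have hβs : Smooth β.left := hb ((yon S).map (ι i) ≫ c) (𝟙 _) β hce' (repWith_id _ _)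
    (by rw [hβ, Category.comp_id, Category.assoc])
  obtain ⟨φ, hφ⟩ : ∃ φ : R →+* B i, β.left = Spec.map (CommRingCat.ofHom φ) :=
    ⟨(Spec.preimage β.left).hom, (Spec.map_preimage _).symm⟩
  have hφs : φ.Smooth := by
    rw [hφ] at hβs
    exact (HasRingHomProperty.Spec_iff (P := @Smooth)).1 hβs
  obtain ⟨T, hT, hTs⟩ := RingHom.smooth_iff_locally_isStandardSmooth.1 hφs
  obtain ⟨r, hrT, hr⟩ : ∃ r ∈ T, r ∉ (show PrimeSpectrum (B i) from z).asIdeal := by
    by_contra h
    push Not at h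
    exact (show PrimeSpectrum (B i) from z).2.ne_top (eq_top_iff.2 (hT.ge.trans (Ideal.span_le.2 h)))
  obtain ⟨n, γ, hγ, hγe⟩ := RingHom.IsStandardSmooth.exists_etale_mvPolynomial (hTs r hrT)
  let loc : Spec (CommRingCat.of (Localization.Away r)) ⟶ Spec (B i) :=
    Spec.map (CommRingCat.ofHom (algebraMap (B i) (Localization.Away r)))
  have hloc : IsOpenImmersion loc := IsOpenImmersion.of_isLocalization r
  let V₂ : Over S := Over.mk (loc ≫ str i)
  let lO : V₂ ⟶ Over.mk (str i) := Over.homMk loc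
  have : IsOpenImmersion lO.left := hloc
  let c₂ := (yon S).map lO ≫ (yon S).map (ι i) ≫ c
  have hc₂ : RepWith @Etale c₂ :=
    repWith_comp ((repWith_yon_map_iff _ _).2 (inferInstanceAs (Etale lO.left))) hce'
  have hc₂e : IsEtaleMor c₂ := H13AlgSp.isEtaleMor_of_locP (hY _) hV (locP_of_repWith etLocal_etale hc₂)
  let π : V₂ ⟶ affSpace s n := Over.homMk (Spec.map (CommRingCat.ofHom γ)) (by
    simp only [V₂, Over.mk_hom, ← Category.assoc, ← Spec.map_comp, ← CommRingCat.ofHom_comp, hγ]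
    rw [show str i = β.left ≫ s from (Over.w β).symm, hφ, CommRingCat.ofHom_comp, Spec.map_comp]
    simp only [loc, Category.assoc])
  have hπ : π ≫ affProj s n = lO ≫ β := Over.OverMorphism.ext (by
    simp only [Over.comp_left, π, lO, Over.homMk_left, hφ, loc, ← Spec.map_comp, ← CommRingCat.ofHom_comp, hγ])
  have hcb : c₂ ≫ b = (yon S).map π ≫ (yon S).map (affProj s n) := by
    rw [← Functor.map_comp, hπ, Functor.map_comp, hβ]
    simp only [c₂, Category.assoc]
  have : Etale π.left := (HasRingHomProperty.Spec_iff (P := @Etale)).2 hγe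
  have : IsAffine V₂.left := inferInstanceAs (IsAffine (Spec _))
  have : IsAffine (affSpace s n).left := inferInstanceAs (IsAffine (Spec _))
  obtain ⟨m, hm⟩ := exists_geomLE π.left
  -- pull back the data
  have hU₂ := isAlgSpace_pb hU (hY V₂) hV (e ≫ q) c₂
  have sqU := IsPullback.of_hasPullback (e ≫ q) c₂
  have hPU := hP.baseChange hU hV hU₂ (hY V₂) _ _ _ _ sqU (LocalST.locP_smooth_of_isEtaleMor hc₂e) hPe
  have hPπ := hP.postcomp_affine m π ‹_› ‹_› ‹_› hm hU₂ _ hPU
  -- the etale morphism to the affine space over the source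
  let pY := (yon S).map (affProj s n)
  obtain ⟨gX, hgf, hgs, hge⟩ := exists_etale_pullbackMap hX (hY _) (hY V₂) (hY (affSpace s n)) f pY
    ((yon S).map π) (isEtaleMor_yon π)
  have sqπ := IsPullback.of_hasPullback f ((yon S).map π ≫ pY)
  let ε := sqπ.lift (pullback.fst (e ≫ q) c₂ ≫ e ≫ p) (pullback.snd (e ≫ q) c₂) (by
    simp only [Category.assoc, sqW.w]
    rw [← hcb]
    simpa only [Category.assoc] using congrArg (· ≫ b) sqU.w)
  let χ := sqW.lift (pullback.fst f ((yon S).map π ≫ pY)) (pullback.snd f ((yon S).map π ≫ pY) ≫ c₂) (by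
    rw [Category.assoc, hcb]; exact sqπ.w)
  have hW₂ := isAlgSpace_pb hX (hY V₂) (hY _) f ((yon S).map π ≫ pY)
  have hχ : IsEtaleMor χ := by
    refine isEtaleMor_of_isPullback hW (hY V₂) hV hW₂ (IsPullback.of_right (h₁₁ := χ)
      (v₁₁ := pullback.snd f ((yon S).map π ≫ pY)) (v₁₂ := q) (h₂₁ := c₂) ?_ (sqW.lift_snd _ _ _) sqW) hc₂e
    rw [sqW.lift_fst, hcb]
    exact sqπ
  have hεχ : ε ≫ χ = pullback.fst (e ≫ q) c₂ ≫ e := sqW.hom_ext
    (by rw [Category.assoc, sqW.lift_fst, sqπ.lift_fst, Category.assoc])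
    (by rw [Category.assoc, sqW.lift_snd, sqπ.lift_snd_assoc, Category.assoc]; exact sqU.w.symm)
  have hε : IsEtaleMor ε := isEtaleMor_cancel hU₂ hW₂ hW hχ (by
    rw [hεχ]
    exact LocalST.isEtaleMor_comp (isEtaleMor_of_isPullback hU (hY V₂) hV hU₂ sqU hc₂e) he)
  let ρ := ε ≫ gX
  have hρ : IsEtaleMor ρ := LocalST.isEtaleMor_comp hε hge
  have hAX := isAlgSpace_pb hX (hY (affSpace s n)) (hY _) f pY
  obtain ⟨O, j, hO, hj, hjr⟩ := exists_open_subspace hAX (covClass_etale.open_range hU₂ hAX ρ hρ)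
  obtain ⟨ρ₀, hρ₀⟩ := exists_factor_open hj ρ hjr.ge
  have := H12AlgSp.mono_of_openImmersion hj
  have hρ₀e : IsEtaleMor ρ₀ := isEtaleMor_cancel hU₂ hO hAX (TopInv.isEtaleMor_of_openImmersion hj)
    (by rw [hρ₀]; exact hρ)
  have hPj : P (j ≫ pullback.snd f pY) := by
    refine (hP.src (ι := PUnit.{u + 1}) (fun _ => pullback (e ≫ q) c₂) (fun _ => ρ₀) hO (fun _ => hU₂)
      (LocalST.isCover_single hρ₀e fun o => ?_) _ (hY _)).2 fun _ => ?_
    · obtain ⟨u, hu⟩ := hjr.le ⟨o, rfl⟩
      exact ⟨u, H12AlgSp.injective_map_of_mono j (by rw [← Points.map_comp, hρ₀, hu])⟩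
    · rw [reassoc_of% hρ₀, Category.assoc, hgs, sqπ.lift_snd_assoc]
      exact hPπ
  obtain ⟨X₀, i₀, hX₀, hi₀, hir, hPi⟩ := exists_open_of_affineSpace hP hX f hO j hj hPj
  refine ⟨X₀, i₀, hX₀, hi₀, hir.ge ?_, hPi⟩
  -- the point
  obtain ⟨y, hy⟩ : (show PrimeSpectrum (B i) from z) ∈
      Set.range (PrimeSpectrum.comap (algebraMap (B i) (Localization.Away r))) := by
    rw [PrimeSpectrum.localization_away_comap_range (Localization.Away r) r]; exact hr
  obtain ⟨u, hu₁, -⟩ := exists_point_of_isPullback sqU v (Points.ofScheme V₂ y) (by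
    rw [Points.map_ofPt, Category.id_comp, ← hv', ← hz, ← ofPt_map, ofPt_map lO]
    exact congrArg _ hy.symm)
  refine ⟨Points.map ρ₀ u, ?_⟩
  rw [← Points.map_comp, reassoc_of% hρ₀, Category.assoc, hgf, sqπ.lift_fst, Points.map_comp, hu₁]

theorem isEtaleSmoothLocalST : IsEtaleSmoothLocalST P where
  precomp _ _ _ hX hY hZ f g hf hg := hP.precomp hX hY hZ f g hf hg
  baseChange _ _ _ _ hX hY hX' hY' f g f' g' sq hg hf := hP.baseChange hX hY hX' hY' f g f' g' sq hg hf
  locality := by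
    intro X Y hX hY f
    refine ⟨fun h x => ⟨Y, X, X, 𝟙 Y, 𝟙 X, f, 𝟙 X, x, hY, hX, hX, LocalST.locP_smooth_id Y,
      IsPullback.id_horiz f, LocalST.isEtaleMor_id X, by rw [Category.id_comp, Points.map_id],
      by rwa [Category.id_comp]⟩, fun h => ?_⟩
    obtain ⟨Y₀, c, hce, hcs⟩ := hY.atlas
    obtain ⟨κ, B, str, ι, hι, -, hcov⟩ := H13Inf.exists_affine_pieces Y₀
    let g : ∀ i, (yon S).obj (Over.mk (str i)) ⟶ Y := fun i => (yon S).map (ι i) ≫ c
    have hge : ∀ i, IsEtaleMor (g i) := fun i => by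
      have : IsOpenImmersion (ι i).left := hι i
      exact H13AlgSp.isEtaleMor_of_locP (IsAlgSpace.yon_obj _) hY (locP_of_repWith etLocal_etale
        (repWith_comp ((repWith_yon_map_iff _ _).2 (inferInstanceAs (Etale (ι i).left))) hce))
    have hcover : IsCover (LocP @Smooth) (fun i => (yon S).obj (Over.mk (str i))) g := by
      refine ⟨fun i => LocalST.locP_smooth_of_isEtaleMor (hge i), fun y => ?_⟩
      obtain ⟨t, rfl⟩ := surjective_ofPt_of_repWith le_rfl hcs y
      obtain ⟨i, z, rfl⟩ := hcov t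
      refine ⟨i, Points.ofScheme _ z, ?_⟩
      rw [Points.map_ofPt, Category.id_comp, ofPt_map]
    refine (hP.base _ g hY (fun i => IsAlgSpace.yon_obj _) hcover f hX (fun i => pullback f (g i))
      (fun i => pullback.snd f (g i)) (fun i => pullback.fst f (g i))
      (fun i => isAlgSpace_pb hX (IsAlgSpace.yon_obj _) hY f (g i))
      fun i => IsPullback.of_hasPullback f (g i)).2 fun i => ?_
    have hXi := isAlgSpace_pb hX (IsAlgSpace.yon_obj (Over.mk (str i))) hY f (g i)
    have sqX := IsPullback.of_hasPullback f (g i)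
    refine hP.of_points hXi (IsAlgSpace.yon_obj _) _ fun x' => ?_
    obtain ⟨V, W, U, b, p, q, e, v, hV, hW, hU, hb, sqW, he, hv, hPe⟩ :=
      h (Points.map (pullback.fst f (g i)) x')
    have sqV := IsPullback.of_hasPullback b (g i)
    have sqW' := IsPullback.of_hasPullback p (pullback.fst f (g i))
    have sqU' := IsPullback.of_hasPullback (e ≫ p) (pullback.fst f (g i))
    have hV' := isAlgSpace_pb hV (IsAlgSpace.yon_obj (Over.mk (str i))) hY b (g i)
    have hW' := isAlgSpace_pb hW hXi hX p (pullback.fst f (g i))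
    have hU' := isAlgSpace_pb hU hXi hX (e ≫ p) (pullback.fst f (g i))
    have hb' : LocP @Smooth (pullback.snd b (g i)) :=
      H12AlgSp.locP_of_isPullback etLocal_smooth sqV hV hY (IsAlgSpace.yon_obj _) hb
    let q' := sqV.lift (pullback.fst p (pullback.fst f (g i)) ≫ q)
      (pullback.snd p (pullback.fst f (g i)) ≫ pullback.snd f (g i))
      (by rw [Category.assoc, ← sqW.w, pullback.condition_assoc, Category.assoc, sqX.w])
    have sqq : IsPullback (pullback.fst p (pullback.fst f (g i))) q' q (pullback.fst b (g i)) := by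
      refine IsPullback.of_bot ?_ (sqV.lift_fst _ _ _).symm sqV
      rw [sqV.lift_snd]
      convert sqW'.paste_vert sqX using 1
      exact sqW.w.symm
    have sqW'' : IsPullback (pullback.snd p (pullback.fst f (g i))) q' (pullback.snd f (g i))
        (pullback.snd b (g i)) := by
      refine IsPullback.of_right ?_ (sqV.lift_snd _ _ _).symm sqX
      convert sqq.paste_horiz sqW using 1
      · exact pullback.condition.symm
      · exact sqV.w.symm
    let e' := sqW'.lift (pullback.fst (e ≫ p) (pullback.fst f (g i)) ≫ e)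
      (pullback.snd (e ≫ p) (pullback.fst f (g i))) (by rw [Category.assoc]; exact sqU'.w)
    have sqe : IsPullback (pullback.fst (e ≫ p) (pullback.fst f (g i))) e' e
        (pullback.fst p (pullback.fst f (g i))) := by
      refine IsPullback.of_bot ?_ (sqW'.lift_fst _ _ _).symm sqW'
      rw [sqW'.lift_snd]
      exact sqU'
    have he' : IsEtaleMor e' := TopInv.isEtaleMor_snd hU hW hW' hU' sqe he
    have hvb : IsEtaleMor (pullback.fst b (g i)) :=
      isEtaleMor_of_isPullback hV (IsAlgSpace.yon_obj _) hY hV' sqV (hge i)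
    have hPe' : P (e' ≫ q') := hP.baseChange hU hV hU' hV' (e ≫ q) (pullback.fst b (g i)) (e' ≫ q')
      (pullback.fst (e ≫ p) (pullback.fst f (g i))) (sqe.paste_vert sqq)
      (LocalST.locP_smooth_of_isEtaleMor hvb) hPe
    obtain ⟨v', -, hv'⟩ := exists_point_of_isPullback sqU' v x' hv
    obtain ⟨X₀, i₀, hX₀, hi₀, hmem, hPi⟩ := exists_good_of_affine hP hXi hV' hW' hU' _ hb' sqW'' he' v' hPe'
    refine ⟨X₀, i₀, hX₀, hi₀, ?_, hPi⟩
    rwa [sqW'.lift_snd, hv'] at hmem

end Groth.Agent.H13AlgSp.EtaleSmooth
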