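import Groth.Agent.H13AlgSp.GorAt
import Groth.Agent.S3624
import Groth.Agent.H25Gor.BaseChange

/-!
Charts of fibres of morphisms of algebraic spaces; Gorenstein fibres.
-/

set_option backward.isDefEq.respectTransparency false

universe u

open CategoryTheory CategoryTheory.Limits AlgebraicGeometry Topology IsLocalRing
open AlgSp Groth.Agent.H12AlgSp

namespace Groth.Agent.H13AlgSp

variable {S : Scheme.{u}} {X Y : Sp S}

/-- A chart of a base change to a scheme over a chart of the target. -/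
theorem exists_fibre_chart (hX : IsAlgSpace X) (hY : IsAlgSpace Y) {f : X ⟶ Y} {U T : Over S}
    {a : (yon S).obj U ⟶ X} {b : (yon S).obj T ⟶ Y} {h : U ⟶ T} (ha : RepWith @Etale a) (hb : RepWith @Etale b)
    (w : a ≫ f = (yon S).map h ≫ b) {Z : Over S} (i : Z ⟶ T) {Q : Sp S} {q₁ : Q ⟶ X} {q₂ : Q ⟶ (yon S).obj Z}
    (hQ : IsPullback q₁ q₂ f ((yon S).map i ≫ b)) :
    ∃ (F : Over S) (p : F ⟶ U) (q : F ⟶ Z) (c : (yon S).obj F ⟶ Q),
      RepWith @Etale c ∧ IsPullback p.left q.left h.left i.left ∧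
        c ≫ q₁ = (yon S).map p ≫ a ∧ c ≫ q₂ = (yon S).map q ∧
        (∀ {P : Sp S} {p₁ : P ⟶ X} {p₂ : P ⟶ (yon S).obj T} (_ : IsPullback p₁ p₂ f b)
          (l : (yon S).obj U ⟶ P), l ≫ p₁ = a → l ≫ p₂ = (yon S).map h → RepWith @Surjective l →
            RepWith @Surjective c) := by
  have sqT := IsPullback.of_hasPullback f b
  let l := sqT.lift a ((yon S).map h) w
  have hT := isAlgSpace_pullback hY.diag hX (IsAlgSpace.yon_obj T) f b
  have hl : RepWith @Etale l := repWith_of_locP etLocal_etale hT (hT.representable_from_yon l)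
    (locP_of_postcomp (g := pullback.fst f b) etLocal_etale
      (fun _ _ _ f g (h : Etale (f ≫ g)) (_ : Etale g) => Etale.of_comp f g) hX
      (by rw [sqT.lift_fst]; exact locP_of_repWith etLocal_etale ha)
      (locP_of_repWith etLocal_etale (repWith_of_isPullback sqT.flip hb)))
  obtain ⟨m, hm⟩ : ∃ m : Q ⟶ pullback f b, m = sqT.lift q₁
      (q₂ ≫ (yon S).map i) (by rw [Category.assoc]; exact hQ.w) :=
    ⟨_, rfl⟩
  have sqm : IsPullback m q₂ (pullback.snd f b) ((yon S).map i) := by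
    refine IsPullback.of_right ?_ (hm ▸ sqT.lift_snd _ _ _) sqT
    rw [hm, sqT.lift_fst]
    exact hQ
  have sqF := (IsPullback.of_hasPullback h i).map (yon S)
  obtain ⟨χ, hχ₁, hχ₂⟩ := sqm.exists_lift ((yon S).map (pullback.fst h i) ≫ l) ((yon S).map (pullback.snd h i))
    (by rw [Category.assoc, sqT.lift_snd]; exact sqF.w)
  have sqχ : IsPullback ((yon S).map (pullback.fst h i)) χ l m := by
    refine IsPullback.of_bot ?_ hχ₁.symm sqm
    rw [hχ₂, sqT.lift_snd]
    exact sqF
  refine ⟨pullback h i, pullback.fst h i, pullback.snd h i, χ, repWith_of_isPullback sqχ hl,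
    (IsPullback.of_hasPullback h i).map (Over.forget S), ?_, hχ₂, fun {P p₁ p₂} sqP l' h₁ h₂ hs => ?_⟩
  · have : m ≫ pullback.fst f b = q₁ := by rw [hm, sqT.lift_fst]
    rw [← this, ← Category.assoc, hχ₁, Category.assoc, sqT.lift_fst]
  · have e : l' ≫ sqT.lift p₁ p₂ sqP.w = l := by
      refine sqT.hom_ext ?_ ?_ <;> simp [l, h₁, h₂]
    have : IsIso (sqT.lift p₁ p₂ sqP.w) := ⟨sqP.lift _ _ sqT.w, sqP.hom_ext (by simp) (by simp), sqT.hom_ext (by simp) (by simp)⟩
    refine repWith_of_isPullback sqχ ?_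
    rw [← e]
    exact repWith_comp hs (repWith_of_isIso _)

theorem gor_fiber_iff {U T : Scheme.{u}} (h : U ⟶ T) (v : T) :
    Dual3.IsGorenstein (h.fiber v) ↔ IsLocallyNoetherian (h.fiber v) ∧
      ∀ u, h u = v → LocCoh.IsGorensteinLocalRing ((h.fiber (h u)).presheaf.stalk (h.asFiber u)) := by
  refine and_congr_right fun _ => ⟨fun H u hu => ?_, fun H z => ?_⟩
  · subst hu
    exact H (h.asFiber u)
  · have hv : h (h.fiberι v z) = v := (h.range_fiberι v).subset (Set.mem_range_self z)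
    obtain ⟨y, hy⟩ : ∃ y, y = h.fiberι v z := ⟨_, rfl⟩
    obtain rfl : h y = v := hy ▸ hv
    obtain rfl : z = h.asFiber y :=
      (h.fiberι _).isEmbedding.injective (hy.symm.trans (h.fiberι_asFiber y).symm)
    exact H y rfl

theorem gorenstein_of_iso {A B : Scheme.{u}} (e : A ≅ B) (hB : Dual3.IsGorenstein B) : Dual3.IsGorenstein A :=
  haveI := hB.1
  ⟨isLocallyNoetherian_of_isOpenImmersion e.hom, fun x => (H25Gor.gor_stalk_of_iso e x (hB.2 _))⟩

theorem gorenstein_chart {Q : Sp S} (hQ : IsAlgSpace Q) (hG : EtaleLocally Dual3.IsGorenstein Q) {U : Over S}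
    {a : (yon S).obj U ⟶ Q} (ha : RepWith @Etale a) : Dual3.IsGorenstein U.left := by
  have hn : IsLocNoethSp Q := let ⟨U₀, p, hp, hps, hG⟩ := hG; ⟨U₀, p, hp, hps, hG.1⟩
  obtain ⟨U₀, p, hp, hps, hG⟩ := hG
  obtain ⟨W, s, t', sq⟩ := hp.rep a
  obtain ⟨t, rfl⟩ := (yon S).map_surjective t'
  have hs : Etale s.left := hp.property _ _ _ sq
  have hss : Surjective s.left := hps.property _ _ _ sq
  have ht : Etale t.left := ha.property p ((yon S).map s) t sq.flip
  have := hG.1
  have := isLocallyNoetherian_chart hQ hn ha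
  have hW : Dual3.IsGorenstein W.left := by
    refine ⟨LocallyOfFiniteType.isLocallyNoetherian t.left, fun w => ?_⟩
    have := LocallyOfFiniteType.isLocallyNoetherian t.left
    have h := (H25Gor.isGorensteinAt_iff t.left w).1 (isGorensteinAt_of_etale t.left w)
    let _ := (t.left.stalkMap w).hom.toAlgebra
    have : Module.Flat (U₀.left.presheaf.stalk (t.left w)) (W.left.presheaf.stalk w) := h.1
    have : IsLocalHom (algebraMap (U₀.left.presheaf.stalk (t.left w)) (W.left.presheaf.stalk w)) :=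
      inferInstanceAs (IsLocalHom (t.left.stalkMap w).hom)
    exact (H02CA.GorFlat.gor_iff_of_flat_local (U₀.left.presheaf.stalk (t.left w)) (W.left.presheaf.stalk w)).mpr
      ⟨hG.2 _, h.2⟩
  refine ⟨inferInstance, fun x => ?_⟩
  obtain ⟨w, rfl⟩ := s.left.surjective x
  exact (S3624.result _ _ s.left hW).2 w

theorem gorenstein_tfae (hX : IsAlgSpace X) (hY : IsAlgSpace Y) {f : X ⟶ Y}
    (hf : ∀ (k : FieldPt Y) (Xk : Sp S) (a : Xk ⟶ X) (b : Xk ⟶ (yon S).obj k.pt),
      IsPullback a b f k.toHom → IsLocNoethSp Xk) :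
    [∀ x : Points X, LocPAt (fun h u => Dual3.IsGorensteinAt h u) f x,
      LocP @Flat f ∧ ∃ (V : Over S) (b : (yon S).obj V ⟶ Y), RepWith @Etale b ∧ RepWith @Surjective b ∧
          ∀ (v : ↥V.left) (Xv : Sp S) (a : Xv ⟶ X)
            (c : Xv ⟶ (yon S).obj (Over.mk (V.left.fromSpecResidueField v ≫ V.hom))),
            IsPullback a c f ((yon S).map (Over.homMk (V.left.fromSpecResidueField v) rfl :
              Over.mk (V.left.fromSpecResidueField v ≫ V.hom) ⟶ V) ≫ b) →
            EtaleLocally Dual3.IsGorenstein Xv,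
      LocP @Flat f ∧ ∀ (V : Over S) (b : (yon S).obj V ⟶ Y), RepWith @Etale b →
          ∀ (v : ↥V.left) (Xv : Sp S) (a : Xv ⟶ X)
            (c : Xv ⟶ (yon S).obj (Over.mk (V.left.fromSpecResidueField v ≫ V.hom))),
            IsPullback a c f ((yon S).map (Over.homMk (V.left.fromSpecResidueField v) rfl :
              Over.mk (V.left.fromSpecResidueField v ≫ V.hom) ⟶ V) ≫ b) →
            EtaleLocally Dual3.IsGorenstein Xv].TFAE := by
  have hf' := locP_noethFib hX hY hf
  tfae_have 1 → 3 := fun H => by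
    refine ⟨fun U T a b h ha hb w => Flat.of_stalkMap h.left fun u => (H _ a b h u ha hb w rfl).1,
      fun V b hb v Xv a c hsq => ?_⟩
    obtain ⟨U, p, hp, hps⟩ := (isAlgSpace_pullback hY.diag hX (IsAlgSpace.yon_obj V) f b).atlas
    obtain ⟨h, hh⟩ := (yon S).map_surjective (p ≫ pullback.snd f b)
    have ha := repWith_comp hp (repWith_of_isPullback (IsPullback.of_hasPullback f b).flip hb)
    have w : (p ≫ pullback.fst f b) ≫ f = (yon S).map h ≫ b := by simp [hh, pullback.condition]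
    obtain ⟨F, p', q', e, he, sqF, -, -, hs⟩ := exists_fibre_chart hX hY ha hb w _ hsq
    refine ⟨F, e, he, hs (IsPullback.of_hasPullback f b) p rfl hh.symm hps,
      gorenstein_of_iso sqF.isoPullback ((gor_fiber_iff h.left v).2 ⟨hf' _ b h ha hb w v, fun u _ => ?_⟩)⟩
    exact (H _ _ b h u ha hb w rfl).2
  tfae_have 3 → 2 := fun ⟨h1, h2⟩ => by
    obtain ⟨V, b, hb, hbs⟩ := hY.atlas
    exact ⟨h1, V, b, hb, hbs, h2 V b hb⟩
  tfae_have 2 → 1 := fun ⟨h1, V, b, hb, hbs, H⟩ x => by
    obtain ⟨v', hv'⟩ := surjective_ofPt_of_repWith le_rfl hbs (Points.map f x)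
    obtain ⟨z, hz₁, -⟩ := exists_point_of_isPullback (IsPullback.of_hasPullback f b) x (Points.ofScheme V v')
      (by rw [← Points.ofPt_eq_map_ofScheme, hv'])
    obtain ⟨U, p, hp, hps⟩ := (isAlgSpace_pullback hY.diag hX (IsAlgSpace.yon_obj V) f b).atlas
    obtain ⟨h, hh⟩ := (yon S).map_surjective (p ≫ pullback.snd f b)
    have ha := repWith_comp hp (repWith_of_isPullback (IsPullback.of_hasPullback f b).flip hb)
    have w : (p ≫ pullback.fst f b) ≫ f = (yon S).map h ≫ b := by simp [hh, pullback.condition]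
    obtain ⟨u, rfl⟩ := surjective_ofPt_of_repWith le_rfl hps z
    rw [Points.map_ofPt] at hz₁
    subst hz₁
    refine (gorAt_iff hX hY hf' ha hb w u).2 ⟨?_, ?_⟩
    · have : Flat h.left := h1 _ b h ha hb w
      exact Flat.stalkMap h.left u
    · let i : Over.mk (V.left.fromSpecResidueField (h.left u) ≫ V.hom) ⟶ V :=
        Over.homMk (V.left.fromSpecResidueField (h.left u)) rfl
      have sq := IsPullback.of_hasPullback f ((yon S).map i ≫ b)
      obtain ⟨F, p', q', e, he, sqF, -, -, -⟩ := exists_fibre_chart hX hY ha hb w i sq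
      have hF := gorenstein_chart (isAlgSpace_pullback hY.diag hX (IsAlgSpace.yon_obj _) _ _)
        (H (h.left u) _ _ _ sq) he
      exact ((gor_fiber_iff h.left (h.left u)).1 (gorenstein_of_iso sqF.isoPullback.symm hF)).2 u rfl
  tfae_finish

end Groth.Agent.H13AlgSp
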