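import Groth.Agent.H13AlgSp.MonoPoint
import Groth.Agent.H12AlgSp.PointsTop

/-!
Fibres over points with quasi-compact monomorphic representatives.
-/

universe u

open CategoryTheory CategoryTheory.Limits AlgebraicGeometry Opposite Topology MorphismProperty
open AlgSp Groth.Agent.H12AlgSp

namespace Groth.Agent.H13AlgSp

variable {S : Scheme.{u}}

/-- A monomorphism of spaces whose base change to an atlas is a topological embedding is an embedding. -/
theorem isEmbedding_of_chart {X Z : Sp S} (i : Z ⟶ X) [Mono i] {U V : Over S} {p : (yon S).obj U ⟶ X}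
    (hp : RepWith @Etale p) (hps : RepWith @Surjective p) {fst : (yon S).obj V ⟶ Z} {snd : V ⟶ U}
    (sq : IsPullback fst ((yon S).map snd) i p) (hse : IsEmbedding snd.left) :
    IsEmbedding (Points.map i) := by
  have hq := isQuotientMap_ofPt hp hps
  have hopen := isOpenMap_ofPt_of_repWith etale_le_universallyOpen hp
  refine ⟨⟨le_antisymm (continuous_iff_le_induced.1 (Points.continuous_map i)) fun W hW => ?_⟩,
    injective_map_of_mono i⟩
  obtain ⟨O, hO, hOW⟩ := hse.isInducing.isOpen_iff.1 (hW.preimage (Points.continuous_ofPt fst))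
  refine isOpen_induced_iff.2 ⟨Points.ofPt p '' O, hopen _ hO, ?_⟩
  ext z
  constructor
  · rintro ⟨o, ho, e⟩
    obtain ⟨v, rfl⟩ : o ∈ Set.range snd.left := (preimage_ofPt_range sq).le ⟨z, e.symm⟩
    have : Points.map i (Points.ofPt fst v) = Points.map i z := by
      rw [Points.map_ofPt, sq.w, ofPt_map, e]
    rw [← injective_map_of_mono i this]
    exact hOW.le ho
  · intro hz
    obtain ⟨o, ho⟩ := hq.surjective (Points.map i z)
    obtain ⟨v, rfl⟩ : o ∈ Set.range snd.left := (preimage_ofPt_range sq).le ⟨z, ho.symm⟩
    have e : Points.map i (Points.ofPt fst v) = Points.map i z := by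
      rw [Points.map_ofPt, sq.w, ofPt_map, ho]
    refine ⟨snd.left v, hOW.ge (?_ : Points.ofPt fst v ∈ W), ho⟩
    rw [injective_map_of_mono i e]
    exact hz

/-- A field stalk: the residue map is bijective. -/
theorem bijective_residue_of_etale_field {κ : Type u} [Field κ] {W : Scheme.{u}}
    (w : W ⟶ Spec (CommRingCat.of κ)) [Etale w] (x : W) : Function.Bijective (W.residue x).hom := by
  have : LocallyQuasiFinite w := lqf_of_etale w
  have : DiscreteTopology W := discreteTopology_of_lqf_to_field w
  have : IsReduced W := isReduced_of_smooth_mor w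
  have hg : x ∈ genericPoints W :=
    Groth.Agent.H8Props.mem_genericPoints_iff.2 fun y hy =>
      hy.mem_open (isOpen_discrete {x}) rfl
  have hd := (ringKrullDim_stalk_eq_zero_iff x).2 hg
  have : Ring.KrullDimLE 0 (W.presheaf.stalk x) := Ring.krullDimLE_iff.2 hd.le
  refine ⟨?_, IsLocalRing.residue_surjective⟩
  have hf : IsField (W.presheaf.stalk x) := Ring.KrullDimLE.isField_of_isReduced
  let _ := hf.toField
  exact (W.residue x).hom.injective

/-- The fibre of an etale chart over a point with a quasi-compact monomorphic representative is a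
preimmersion. -/
theorem isPreimmersion_fibre {X : Sp S} (r : FieldPt X) [Mono r.toHom] (hq : RepWith @QuasiCompact r.toHom)
    {V : Over S} {b : (yon S).obj V ⟶ X} (hb : RepWith @Etale b) {Vk : Over S} {j : Vk ⟶ V}
    {k : Vk ⟶ r.pt} (sq : IsPullback ((yon S).map k) ((yon S).map j) r.toHom b) :
    IsPreimmersion j.left := by
  have hke : Etale k.left := hb.2 _ _ _ sq.flip
  let kK : Vk.left ⟶ Spec (CommRingCat.of r.K) := k.left
  have : Etale kK := hke
  have : DiscreteTopology Vk.left := by
    have : LocallyQuasiFinite kK := lqf_of_etale kK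
    exact discreteTopology_of_lqf_to_field kK
  have : Mono ((yon S).map j) := mono_of_sq sq.flip
  have hjm : Mono j := (yon S).mono_of_mono_map ‹_›
  have : Mono j.left := Over.mono_left_of_mono j
  have hinj : Function.Injective j.left := j.left.injective
  have hmem : ∀ w, Points.ofPt b (j.left w) = Points.mk r := fun w => by
    rw [← ofPt_map, ← sq.w, ofPt_map, ← Points.ofPt_toHom r (k.left w)]
  have hemb : IsEmbedding j.left := by
    refine ⟨⟨le_antisymm (continuous_iff_le_induced.1 j.left.continuous) fun W _ => ?_⟩, hinj⟩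
    have hpt : ∀ w : Vk.left, ∃ O : Set V.left, IsOpen O ∧ j.left w ∈ O ∧ j.left ⁻¹' O = {w} := fun w => by
      obtain ⟨A, hA, hwA, -⟩ := exists_isAffineOpen_mem_and_subset (U := (⊤ : V.left.Opens)) (x := j.left w) trivial
      let fib : Set V.left := (A : Set V.left) ∩ Points.ofPt b ⁻¹' {Points.mk r}
      have hfin : fib.Finite := by
        have : IsAffine (openOver V A).left := hA
        refine ((finite_fibre_affine r hq (repWith_etale_openIncl hb A)).image
          fun z => (openIncl V A).left z).subset ?_
        rintro z ⟨hzA, hz⟩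
        exact ⟨⟨z, hzA⟩, (ofPt_map (openIncl V A) b _).trans hz, rfl⟩
      obtain ⟨O, hO, hwO, hsub⟩ := exists_open_inter_eq hfin
        (fun a ha a' ha' h => (eq_of_specializes_of_qc r hq hb ha'.2 ha.2 h).symm)
        (show j.left w ∈ fib from ⟨hwA, hmem w⟩)
      refine ⟨O ∩ A, hO.inter A.2, ⟨hwO, hwA⟩, Set.eq_singleton_iff_unique_mem.2 ⟨⟨hwO, hwA⟩, fun z hz => ?_⟩⟩
      exact hinj (hsub (j.left z) ⟨hz.2, hmem z⟩ hz.1)
    choose O hO hwO hOe using hpt
    refine isOpen_induced_iff.2 ⟨⋃ w ∈ W, O w, isOpen_biUnion fun w _ => hO w, ?_⟩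
    rw [Set.preimage_iUnion₂]
    simp only [hOe, Set.biUnion_of_singleton]
  refine { stalkMap_surjective := fun w => ?_, isEmbedding := hemb }
  let v := j.left w
  let m : Spec (Vk.left.residueField w) ⟶ Spec (V.left.residueField v) := Spec.map (j.left.residueFieldMap w)
  have hm : m ≫ V.left.fromSpecResidueField v = Vk.left.fromSpecResidueField w ≫ j.left :=
    j.left.SpecMap_residueFieldMap_fromSpecResidueField w
  have : Mono (m ≫ V.left.fromSpecResidueField v) := by rw [hm]; exact mono_comp _ _
  have : Mono m := mono_of_mono m (V.left.fromSpecResidueField v)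
  have : Nonempty (Spec (Vk.left.residueField w)) := ⟨IsLocalRing.closedPoint _⟩
  have : IsIso m := isIso_of_mono_nonempty (K := V.left.residueField v) m
  have : IsIso (j.left.residueFieldMap w) := by
    have : IsIso (Spec.map (j.left.residueFieldMap w)) := ‹IsIso m›
    have : IsIso (Scheme.Spec.map (j.left.residueFieldMap w).op) := this
    have := isIso_of_reflects_iso (j.left.residueFieldMap w).op Scheme.Spec
    exact (isIso_op_iff _).1 this
  intro c
  obtain ⟨b', hb'⟩ := (ConcreteCategory.bijective_of_isIso (j.left.residueFieldMap w)).2 ((Vk.left.residue w).hom c)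
  obtain ⟨a, ha⟩ := IsLocalRing.residue_surjective b'
  refine ⟨a, (bijective_residue_of_etale_field kK w).1 ?_⟩
  have h := congr($(Scheme.residue_residueFieldMap j.left w).hom a)
  simp only [CommRingCat.hom_comp, RingHom.comp_apply] at h
  rw [← h, show (V.left.residue (j.left w)).hom a = b' from ha, ← hb']

end Groth.Agent.H13AlgSp
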