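import Groth.Agent.H13AlgSp.QfFibre
import Groth.Agent.H13AlgSp.DecentJacobson
import Groth.Agent.H12AlgSp.DecentField
import Groth.Agent.S10390
import Mathlib.AlgebraicGeometry.ZariskisMainTheorem

/-!
Quasi-finiteness at a point in terms of field-valued fibres and of the topological fibre.
-/

universe u

open CategoryTheory CategoryTheory.Limits AlgebraicGeometry Opposite Topology
open AlgSp Groth.Agent.H12AlgSp

namespace Groth.Agent.H13AlgSp

/-- A point isolated in a base change to a discrete scheme is a point of quasi-finiteness. -/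
theorem quasiFiniteAt_of_isolated {U V Q T : Scheme.{u}} {h : U ⟶ V} [LocallyOfFiniteType h] {k : T ⟶ V}
    {fst : Q ⟶ U} {snd : Q ⟶ T} (sq : IsPullback fst snd h k) (q : Q) (hq : IsOpen ({q} : Set Q)) :
    h.QuasiFiniteAt (fst q) := by
  rw [Scheme.Hom.quasiFiniteAt_iff_isOpen_singleton_asFiber]
  let w := snd q
  let c := T.fromSpecResidueField w ≫ k
  have hc : ∀ z, c z = h (fst q) := fun z => by
    rw [Scheme.Hom.comp_apply, Scheme.fromSpecResidueField_apply]
    exact congr($(sq.w.symm) q) |> fun e => by simpa [w] using e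
  obtain ⟨l, hl⟩ := exists_factor_fromSpecResidueField c (h (fst q)) hc
  have sqP := IsPullback.of_hasPullback (h.fiberToSpecResidueField (h (fst q))) l
  have big := sqP.paste_horiz (IsPullback.of_hasPullback h (V.fromSpecResidueField (h (fst q))))
  rw [hl] at big
  let φ := pullback.fst (h.fiberToSpecResidueField (h (fst q))) l
  have : UniversallyOpen φ := MorphismProperty.of_isPullback (P := @UniversallyOpen) sqP.flip
    (inferInstanceAs (UniversallyOpen l))
  let μ := sq.lift (φ ≫ h.fiberι _) (pullback.snd _ l ≫ T.fromSpecResidueField w)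
    (by rw [Category.assoc (f := pullback.snd _ l)]; exact big.w)
  have hμfst : μ ≫ fst = φ ≫ h.fiberι _ := sq.lift_fst _ _ _
  have hμ : IsPullback μ (pullback.snd _ l) snd (T.fromSpecResidueField w) :=
    IsPullback.of_right (by rw [sq.lift_fst]; exact big) (sq.lift_snd _ _ _) sq
  obtain ⟨z, hz, -⟩ := Scheme.exists_preimage_of_isPullback hμ q (IsLocalRing.closedPoint _)
    (Scheme.fromSpecResidueField_apply w _).symm
  have hinj : Function.Injective μ := by
    have : Mono μ := MorphismProperty.of_isPullback (P := MorphismProperty.monomorphisms Scheme.{u}) hμ.flip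
      (inferInstanceAs (Mono (T.fromSpecResidueField w)))
    exact μ.injective
  have hzo : IsOpen ({z} : Set _) := by
    rw [← hinj.preimage_image {z}, Set.image_singleton, hz]
    exact hq.preimage μ.continuous
  have ho := φ.isOpenMap _ hzo
  rw [Set.image_singleton] at ho
  have e : φ z = h.asFiber (fst q) := by
    apply (h.fiberι (h (fst q))).isEmbedding.injective
    rw [Scheme.Hom.fiberι_asFiber, ← Scheme.Hom.comp_apply, ← hμfst, Scheme.Hom.comp_apply, hz]
  rwa [e] at ho

variable {S : Scheme.{u}}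

/-- The condition of quasi-finiteness at a point. -/
abbrev QfAt {X Y : Sp S} (f : X ⟶ Y) (x : Points X) : Prop :=
  HasAtMor (fun U _ h u => ∃ W : U.Opens, u ∈ W ∧ LocallyQuasiFinite (W.ι ≫ h) ∧
    LocallyOfFiniteType (W.ι ≫ h)) f x

theorem qfAt_of_isOpen_singleton {X Y : Sp S} (hX : IsAlgSpace X) (hY : IsAlgSpace Y) {f : X ⟶ Y}
    (hf : LocP @LocallyOfFiniteType f) (r : FieldPt Y) {Xk : Sp S} {fst : Xk ⟶ X}
    {snd : Xk ⟶ (yon S).obj r.pt} (hsq : IsPullback fst snd f r.toHom) (xt : Points Xk)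
    (ho : IsOpen ({xt} : Set (Points Xk))) : QfAt f (Points.map fst xt) := by
  obtain ⟨U, V, a, b, h, ha, has, hb, -, w⟩ := exists_chart hX hY f
  have : LocallyOfFiniteType h.left := hf a b h ha hb w
  obtain ⟨u₀, hu₀⟩ := surjective_ofPt_of_repWith le_rfl has (Points.map fst xt)
  obtain ⟨Rk, v, k', sqV⟩ := hb.1 r.toHom
  obtain ⟨k, rfl⟩ := (yon S).map_surjective k'
  have sqQ := (IsPullback.of_hasPullback h k).map (yon S)
  have big : IsPullback ((yon S).map (pullback.fst h k)) ((yon S).map (pullback.snd h k) ≫ (yon S).map v)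
      (a ≫ f) r.toHom := by
    have := sqQ.paste_vert sqV
    rwa [← w] at this
  have e : ((yon S).map (pullback.fst h k) ≫ a) ≫ f =
      ((yon S).map (pullback.snd h k) ≫ (yon S).map v) ≫ r.toHom := by rw [Category.assoc]; exact big.w
  let m := hsq.lift _ _ e
  have sqm : IsPullback ((yon S).map (pullback.fst h k)) m a fst :=
    IsPullback.of_bot (by rw [hsq.lift_snd]; exact big) (hsq.lift_fst _ _ e).symm hsq
  have hm : RepWith @Etale m := repWith_of_isPullback sqm ha
  have hXk := isAlgSpace_of_isPullback hY.diag hX (IsAlgSpace.yon_obj r.pt) hsq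
  have hXN : IsLocNoethSp Xk :=
    isLocNoethSp_of_lft hXk (Groth.Agent.H12AlgSp.locP_of_isPullback etLocal_lft hsq hX hY
      (IsAlgSpace.yon_obj r.pt) hf)
  have : IsLocallyNoetherian (pullback h k).left := etaleLocally_chart
    (fun g hg hB => @isLocallyNoetherian_of_etale _ _ g hg hB)
    (fun g hg hs hA => @isLocallyNoetherian_of_flat_lfp_surjective _ _ g
      inferInstance inferInstance hs hA) hXk hXN hm
  obtain ⟨y, hy1, hy2⟩ := exists_point_of_isPullback sqm (Points.ofScheme U u₀) xt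
    (by rw [← Points.ofPt_eq_map_ofScheme, hu₀])
  obtain ⟨q, rfl⟩ := (Points.schemeEquiv _).surjective y
  have hq' : Points.ofPt m q = xt := by rw [Points.ofPt_eq_map_ofScheme]; exact hy2
  have hqu : (pullback.fst h k).left q = u₀ := (Points.schemeEquiv U).injective (by
    refine Eq.trans ?_ hy1
    change Points.ofScheme _ _ = Points.map _ (Points.ofScheme _ _)
    rw [← Points.ofPt_eq_map_ofScheme, ← Category.comp_id ((yon S).map _), ofPt_map])
  have hiso : IsOpen ({q} : Set (pullback h k).left) := by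
    let O : (pullback h k).left.Opens := ⟨Points.ofPt m ⁻¹' {xt}, ho.preimage (Points.continuous_ofPt m)⟩
    have : QuasiSober ↥(O : Set (pullback h k).left) := inferInstanceAs (QuasiSober O.toScheme)
    refine isOpen_singleton_of_dim_zero O (topologicalKrullDim_le_zero_of_no_spec
      (α := ↥(O : Set (pullback h k).left)) fun v₁ v₂ hs => ?_) hq'
    exact Subtype.ext (eq_of_specializes_of_locNoeth hXk hXN hm ((v₂.2 : _ = _).trans (v₁.2 : _ = _).symm)
      ((subtype_specializes_iff _ _).1 hs)).symm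
  have sqF : IsPullback (pullback.fst h k).left (pullback.snd h k).left h.left k.left :=
    (IsPullback.of_hasPullback h k).map (Over.forget S)
  have hqf := quasiFiniteAt_of_isolated sqF q hiso
  rw [hqu] at hqf
  refine ⟨U, V, a, b, h, u₀, ha, hb, w, hu₀, h.left.quasiFiniteLocus, hqf, ?_, inferInstance⟩
  rw [← Scheme.Hom.quasiFiniteLocus_eq_top_iff]
  refine top_le_iff.1 fun z _ => ?_
  exact Scheme.Hom.quasiFiniteAt_comp_iff_of_isOpenImmersion.2 z.2

theorem isOpen_singleton_fibre_iff {X Y : Sp S} (hX : IsAlgSpace X) (hY : IsAlgSpace Y) {f : X ⟶ Y}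
    (hf : LocP @LocallyOfFiniteType f) (r : FieldPt Y) {Xk : Sp S} {fst : Xk ⟶ X}
    {snd : Xk ⟶ (yon S).obj r.pt} (hsq : IsPullback fst snd f r.toHom) (xt : Points Xk) :
    IsOpen ({xt} : Set (Points Xk)) ↔ QfAt f (Points.map fst xt) :=
  ⟨qfAt_of_isOpen_singleton hX hY hf r hsq xt, isOpen_singleton_fibre_of_qfAt r hsq xt⟩

theorem exists_fibre_point {X Y : Sp S} {f : X ⟶ Y} (r : FieldPt Y) {Xk : Sp S} {fst : Xk ⟶ X}
    {snd : Xk ⟶ (yon S).obj r.pt} (hsq : IsPullback fst snd f r.toHom) {x : Points X}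
    (hx : Points.map f x = Points.mk r) : ∃ xt, Points.map fst xt = x := by
  obtain ⟨y, hy, -⟩ := exists_point_of_isPullback hsq x (Points.ofScheme r.pt (IsLocalRing.closedPoint r.K))
    (by rw [hx, ← Points.ofPt_eq_map_ofScheme, Points.ofPt_toHom])
  exact ⟨y, hy⟩

theorem map_fst_mem_fibre {X Y : Sp S} {f : X ⟶ Y} (r : FieldPt Y) {Xk : Sp S} {fst : Xk ⟶ X}
    {snd : Xk ⟶ (yon S).obj r.pt} (hsq : IsPullback fst snd f r.toHom) (xt : Points Xk) :
    Points.map f (Points.map fst xt) = Points.mk r := by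
  rw [← Points.map_comp, hsq.w, Points.map_comp]
  obtain ⟨z, hz⟩ := (Points.schemeEquiv r.pt).surjective (Points.map snd xt)
  rw [← hz]
  change Points.map _ (Points.ofScheme _ _) = _
  rw [← Points.ofPt_eq_map_ofScheme, Points.ofPt_toHom]

/-- Over a decent space the topological fibre is the space of points of the fibre over a monomorphic
representative. -/
theorem exists_fibre_homeo {X Y : Sp S} (hX : IsAlgSpace X) (hY : IsAlgSpace Y) {f : X ⟶ Y}
    (hf : LocP @LocallyOfFiniteType f) (hd : IsDecent Y) (y : Points Y) :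
    ∃ (r₀ : FieldPt Y) (X₀ : Sp S) (fst : X₀ ⟶ X) (snd : X₀ ⟶ (yon S).obj r₀.pt)
      (φ : Points X₀ ≃ₜ ↥(Points.map f ⁻¹' {y})),
      IsPullback fst snd f r₀.toHom ∧ Points.mk r₀ = y ∧ IsAlgSpace X₀ ∧ LocP @LocallyOfFiniteType snd ∧
        (IsDecent X → IsDecent X₀) ∧ ∀ z, ((φ z : ↥(Points.map f ⁻¹' {y})) : Points X) = Points.map fst z := by
  obtain ⟨r₀, rfl, hm, hqc⟩ := hd y
  have sq := IsPullback.of_hasPullback f r₀.toHom
  have hX₀ := isAlgSpace_pullback hY.diag hX (IsAlgSpace.yon_obj r₀.pt) f r₀.toHom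
  obtain ⟨hemb, hr⟩ := Groth.Agent.S10390.result (X := ⟨X, hX⟩) (Y := ⟨Y, hY⟩) ⟨f⟩ r₀ hm hqc
    ⟨_, hX₀⟩ ⟨pullback.fst f r₀.toHom⟩ (pullback.snd f r₀.toHom) sq
  refine ⟨r₀, _, _, _, hemb.toHomeomorph.trans (Homeomorph.setCongr hr), sq, rfl, hX₀,
    Groth.Agent.H12AlgSp.locP_of_isPullback etLocal_lft sq hX hY (IsAlgSpace.yon_obj r₀.pt) hf,
    fun hdX => isDecent_of_representable_mor (repWith_of_isPullback sq.flip hqc).1 hdX, fun z => rfl⟩

/-- Over a decent target a point is isolated in its topological fibre iff the morphism is quasi-finite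
at it, iff it is closed in its fibre without proper generizations. -/
theorem fibre_singleton_iff {X Y : Sp S} (hX : IsAlgSpace X) (hY : IsAlgSpace Y) {f : X ⟶ Y}
    (hf : LocP @LocallyOfFiniteType f) (hd : IsDecent Y) {y : Points Y} (p : ↥(Points.map f ⁻¹' {y})) :
    (IsOpen ({p} : Set ↥(Points.map f ⁻¹' {y})) ↔ QfAt f p.1) ∧
    ((IsClosed ({p} : Set ↥(Points.map f ⁻¹' {y})) ∧ ∀ p', p' ⤳ p → p' = p) ↔ QfAt f p.1) ∧
    (IsDecent X → (FlatMor.localDim ↥(Points.map f ⁻¹' {y}) p = 0 ↔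
      IsOpen ({p} : Set ↥(Points.map f ⁻¹' {y})))) := by
  obtain ⟨r₀, X₀, fst, snd, φ, sq, rfl, hX₀, hl, hdX₀, hφ⟩ := exists_fibre_homeo hX hY hf hd y
  obtain ⟨z, rfl⟩ := φ.surjective p
  have h1 : IsOpen ({φ z} : Set ↥(Points.map f ⁻¹' {Points.mk r₀})) ↔ IsOpen ({z} : Set (Points X₀)) := by
    rw [← φ.isOpen_image, Set.image_singleton]
  have h2 : (IsClosed ({φ z} : Set ↥(Points.map f ⁻¹' {Points.mk r₀})) ∧ ∀ p', p' ⤳ φ z → p' = φ z) ↔
      IsClosed ({z} : Set (Points X₀)) ∧ ∀ z', z' ⤳ z → z' = z := by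
    rw [← φ.isClosed_image (s := {z}), Set.image_singleton]
    refine and_congr_right fun _ => ⟨fun h z' hz' => φ.injective (h _ (hz'.map φ.continuous)), fun h p' hp' => ?_⟩
    obtain ⟨z', rfl⟩ := φ.surjective p'
    rw [h z' (φ.isEmbedding.isInducing.specializes_iff.1 hp')]
  have hq := isOpen_singleton_fibre_iff hX hY hf r₀ sq z
  rw [← hφ] at hq
  refine ⟨h1.trans hq, h2.trans ((isOpen_singleton_iff_closed_maximal hX₀ hl z).symm.trans hq), fun hdX => ⟨fun h => ?_,
    fun h => localDim_eq_zero_of_isOpen h⟩⟩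
  refine h1.2 (isOpen_singleton_of_localDim_points hX₀ hl (hdX₀ hdX) ?_)
  rw [← h]
  refine le_antisymm ?_ ?_
  · refine le_iInf fun ⟨W, hW⟩ => (Groth.Agent.H28Top.localDim_le z
      (U := ⟨φ ⁻¹' W, W.2.preimage φ.continuous⟩) hW).trans_eq ?_
    exact (φ.sets (Set.ext fun _ => Iff.rfl)).isHomeomorph.topologicalKrullDim_eq
  · refine le_iInf fun ⟨W, hW⟩ => (Groth.Agent.H28Top.localDim_le (φ z)
      (U := ⟨φ '' W, φ.isOpen_image.2 W.2⟩) ⟨z, hW, rfl⟩).trans_eq ?_
    exact (φ.image W).symm.isHomeomorph.topologicalKrullDim_eq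

end Groth.Agent.H13AlgSp
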