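import Groth.Agent.H13AlgSp.ProdConn

/-!
Connected components and extensions of separably closed base fields.
-/

set_option autoImplicit false
set_option backward.isDefEq.respectTransparency false

universe u

open CategoryTheory CategoryTheory.Limits AlgebraicGeometry Opposite Topology
open AlgSp Groth.Agent.H12AlgSp

namespace Groth.Agent.H13AlgSp

variable {S : Scheme.{u}} {K E : Type u} [Field K] [Field E] [IsSepClosed K]
  {sK : Spec (CommRingCat.of K) ⟶ S} {sE : Spec (CommRingCat.of E) ⟶ S}
  {c : Over.mk sE ⟶ Over.mk sK} {Q Q' : Sp S} {fst : Q' ⟶ Q} {p' : Q' ⟶ (yon S).obj (Over.mk sE)}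
  {p : Q ⟶ (yon S).obj (Over.mk sK)}

theorem isConnected_preimage_fieldExt (sq : IsPullback fst p' p ((yon S).map c)) (y : Points Q) :
    IsConnected (Points.map fst ⁻¹' {y}) := by
  obtain ⟨r, rfl⟩ := Quotient.exists_rep y
  obtain ⟨cr, hc⟩ := (yon S).map_surjective (r.toHom ≫ p)
  obtain ⟨φ, hφ⟩ := Spec.map_surjective
    (show Spec (CommRingCat.of r.K) ⟶ Spec (CommRingCat.of K) from cr.left)
  obtain ⟨ψ, hψ⟩ := Spec.map_surjective
    (show Spec (CommRingCat.of E) ⟶ Spec (CommRingCat.of K) from c.left)
  letI : Algebra K r.K := φ.hom.toAlgebra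
  letI : Algebra K E := ψ.hom.toAlgebra
  have sqc := (IsPullback.of_hasPullback c cr).map (yon S)
  have e : ((yon S).map (pullback.snd c cr) ≫ r.toHom) ≫ p =
      (yon S).map (pullback.fst c cr) ≫ (yon S).map c := by
    rw [Category.assoc, ← hc, sqc.w]
  let m := sq.lift _ _ e
  have sqr : IsPullback ((yon S).map (pullback.snd c cr)) m r.toHom fst :=
    IsPullback.of_bot (by rw [sq.lift_snd, ← hc]; exact sqc.flip) (sq.lift_fst _ _ e).symm sq
  have hW : ConnectedSpace (pullback c cr).left := by
    have := Groth.Agent.H02CA.GeomIrred.connectedSpace_of_isSepClosed (k := K) r.K E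
    have sqF : IsPullback (pullback.fst c cr).left (pullback.snd c cr).left
        (Spec.map (CommRingCat.ofHom (algebraMap K E))) (Spec.map (CommRingCat.ofHom (algebraMap K r.K))) := by
      have := (IsPullback.of_hasPullback c cr).map (Over.forget _)
      rw [show (Over.forget S).map c = Spec.map ψ from hψ.symm,
        show (Over.forget S).map cr = Spec.map φ from hφ.symm] at this
      exact this
    exact (sqF.isoPullback ≪≫ pullbackSpecIso K E r.K).hom.homeomorph.connectedSpace_iff.mpr this
  have : ConnectedSpace (Points ((yon S).obj (pullback c cr))) :=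
    (Points.schemeHomeo _).connectedSpace_iff.mp hW
  convert isConnected_range (Points.continuous_map m) using 1
  ext w
  constructor
  · intro hw
    obtain ⟨z, -, hz⟩ := exists_point_of_isPullback sqr (Points.ofScheme r.pt (IsLocalRing.closedPoint r.K)) w
      (by rw [← Points.ofPt_eq_map_ofScheme, Points.ofPt_toHom]; exact (hw : _ = _).symm)
    exact ⟨z, hz⟩
  · rintro ⟨z, rfl⟩
    rw [Set.mem_preimage, ← Points.map_comp, ← sqr.w, Points.map_comp]
    obtain ⟨t, ht⟩ := (Points.schemeEquiv r.pt).surjective (Points.map ((yon S).map (pullback.snd c cr)) z)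
    rw [← ht]
    change Points.map r.toHom (Points.ofScheme r.pt t) = _
    rw [← Points.ofPt_eq_map_ofScheme, Points.ofPt_toHom]
    rfl

/-- Extending a separably closed base field does not change the number of connected components. -/
theorem card_connectedComponents_fieldExt (sq : IsPullback fst p' p ((yon S).map c)) :
    ENat.card (_root_.ConnectedComponents (Points Q')) = ENat.card (_root_.ConnectedComponents (Points Q)) := by
  have hd : DiscreteTopology (Over.mk sK).left := inferInstanceAs (DiscreteTopology (PrimeSpectrum K))
  have ho : IsOpenMap (Points.map fst) := isOpenMap_map_of_repWith le_rfl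
    (repWith_of_isPullback (P := @UniversallyOpen) sq.flip ((repWith_yon_map_iff _ c).2
      (Groth.Agent.H06Desc.universallyOpen_of_discreteTopology _)))
  have hs : Function.Surjective (Points.map fst) := fun y =>
    (isConnected_preimage_fieldExt sq y).nonempty
  have hq := (ho.isQuotientMap (Points.continuous_map _) hs).isCoinducing
  exact ENat.card_congr (Equiv.ofBijective _
    (hq.connectedComponentsMap_bijective fun y => isConnected_preimage_fieldExt sq y))

end Groth.Agent.H13AlgSp
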