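import Groth.Agent.H13AlgSp.DecentCriteria
import Mathlib.AlgebraicGeometry.Morphisms.FlatDescent
import Mathlib.LinearAlgebra.FreeModule.Finite.Matrix

/-!
Counting geometric points in the fibres of separated etale morphisms.
-/

universe u

open CategoryTheory CategoryTheory.Limits AlgebraicGeometry MorphismProperty
open Groth.Agent.H12AlgSp

namespace Groth.Agent.H13AlgSp

noncomputable section

variable {R U : Scheme.{u}} (s : R ⟶ U)

/-- The fibre over `v` has at least `m` geometric points. -/
def AtLeast (m : ℕ) (v : U) : Prop :=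
  ∃ (K : Type u) (_ : Field K) (p : Spec (CommRingCat.of K) ⟶ U) (e : Fin m → (Spec (CommRingCat.of K) ⟶ R)),
    p (IsLocalRing.closedPoint K) = v ∧ Function.Injective e ∧ ∀ i, e i ≫ s = p

theorem atLeast_zero (v : U) : AtLeast s 0 v :=
  ⟨U.residueField v, inferInstance, U.fromSpecResidueField v, Fin.elim0, Scheme.fromSpecResidueField_apply _ _,
    fun i => i.elim0, fun i => i.elim0⟩

theorem atLeast_of_le {m n : ℕ} (h : m ≤ n) {v : U} (hv : AtLeast s n v) : AtLeast s m v := by
  obtain ⟨K, _, p, e, hp, he, hs⟩ := hv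
  exact ⟨K, inferInstance, p, fun i => e (Fin.castLE h i), hp,
    he.comp (Fin.castLE_injective h), fun i => hs _⟩

/-- The scheme of tuples of distinct points in the fibres. -/
theorem exists_distinct [Etale s] [IsSeparated s] (m : ℕ) :
    ∃ (G : Scheme.{u}) (g : G ⟶ U) (_ : Etale g) (p : Fin m → (G ⟶ R)),
      (∀ i, p i ≫ s = g) ∧
      (∀ (K : Type u) [Field K] (l : Spec (CommRingCat.of K) ⟶ G), Function.Injective fun i => l ≫ p i) ∧
      ∀ (K : Type u) [Field K] (v : Spec (CommRingCat.of K) ⟶ U) (e : Fin m → (Spec (CommRingCat.of K) ⟶ R)),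
        Function.Injective e → (∀ i, e i ≫ s = v) → ∃ l, l ≫ g = v ∧ ∀ i, l ≫ p i = e i := by
  induction m with
  | zero =>
    exact ⟨U, 𝟙 U, inferInstance, Fin.elim0, fun i => i.elim0, fun K _ l i => i.elim0,
      fun K _ v e _ _ => ⟨v, Category.comp_id v, fun i => i.elim0⟩⟩
  | succ m ih =>
    obtain ⟨G, g, hg, p, hps, hinj, hlift⟩ := ih
    let σ : Fin m → (G ⟶ pullback g s) := fun i => pullback.lift (𝟙 G) (p i) (by rw [Category.id_comp, hps])
    have hσ : ∀ i, σ i ≫ pullback.fst g s = 𝟙 G := fun i => pullback.lift_fst _ _ _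
    have hcl : ∀ i, IsClosedImmersion (σ i) := fun i => by
      have : IsSeparated (pullback.fst g s) := MorphismProperty.pullback_fst (P := @IsSeparated) _ _ ‹_›
      have : IsClosedImmersion (σ i ≫ pullback.fst g s) := by rw [hσ]; infer_instance
      exact IsClosedImmersion.of_comp (σ i) (pullback.fst g s)
    let O : (pullback g s).Opens := ⟨(⋃ i, Set.range (σ i))ᶜ, (isClosed_iUnion_of_finite fun i =>
      (σ i).isClosedEmbedding.isClosed_range).isOpen_compl⟩
    let g' : O.toScheme ⟶ U := O.ι ≫ pullback.fst g s ≫ g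
    let p' : Fin (m + 1) → (O.toScheme ⟶ R) :=
      Fin.snoc (fun i => O.ι ≫ pullback.fst g s ≫ p i) (O.ι ≫ pullback.snd g s)
    refine ⟨O.toScheme, g', inferInstanceAs (Etale (O.ι ≫ pullback.fst g s ≫ g)), p', ?_, ?_, ?_⟩
    · intro i
      refine Fin.lastCases ?_ (fun i => ?_) i
      · simp only [p', Fin.snoc_last, g', Category.assoc, pullback.condition]
      · simp only [p', Fin.snoc_castSucc, g', Category.assoc, hps]
    · intro K _ l
      have hne : ∀ i : Fin m, l ≫ O.ι ≫ pullback.fst g s ≫ p i ≠ l ≫ O.ι ≫ pullback.snd g s := by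
        intro i e
        have e' : l ≫ O.ι = (l ≫ O.ι ≫ pullback.fst g s) ≫ σ i := by
          apply pullback.hom_ext
          · simp only [Category.assoc, hσ, Category.comp_id]
          · simp only [σ, Category.assoc, pullback.lift_snd, e]
        have hmem : (l ≫ O.ι) (IsLocalRing.closedPoint K) ∈ (O : Set ↥(pullback g s)) :=
          (l (IsLocalRing.closedPoint K)).2
        refine hmem (Set.mem_iUnion.2 ⟨i, (l ≫ O.ι ≫ pullback.fst g s) (IsLocalRing.closedPoint K), ?_⟩)
        rw [e']
        rfl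
      intro i
      refine Fin.lastCases ?_ (fun i => ?_) i
      · intro j
        refine Fin.lastCases (fun _ => rfl) (fun j h => ?_) j
        simp only [p', Fin.snoc_last, Fin.snoc_castSucc] at h
        exact absurd h.symm (hne j)
      · intro j
        refine Fin.lastCases (fun h => ?_) (fun j h => ?_) j
        · simp only [p', Fin.snoc_last, Fin.snoc_castSucc] at h
          exact absurd h (hne i)
        · simp only [p', Fin.snoc_castSucc] at h
          exact congrArg Fin.castSucc (hinj K (l ≫ O.ι ≫ pullback.fst g s) (by simpa using h))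
    · intro K _ v e he hes
      obtain ⟨l, hlg, hlp⟩ := hlift K v (fun i => e i.castSucc)
        (he.comp (Fin.castSucc_injective m)) (fun i => hes _)
      let L := pullback.lift l (e (Fin.last m)) (by rw [hlg, hes])
      have hL₁ : L ≫ pullback.fst g s = l := pullback.lift_fst _ _ _
      have hL₂ : L ≫ pullback.snd g s = e (Fin.last m) := pullback.lift_snd _ _ _
      have hmem : L (IsLocalRing.closedPoint K) ∈ (O : Set ↥(pullback g s)) := by
        intro hc
        obtain ⟨i, y, hy⟩ := Set.mem_iUnion.1 hc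
        obtain ⟨z, -, -⟩ := Scheme.Pullback.exists_preimage_pullback (f := L) (g := σ i)
          (IsLocalRing.closedPoint K) y hy.symm
        have : Nonempty ↥(pullback L (σ i)) := ⟨z⟩
        have := hcl i
        have : IsIso (pullback.fst L (σ i)) := isIso_of_mono_nonempty _
        have hL : L = (inv (pullback.fst L (σ i)) ≫ pullback.snd L (σ i)) ≫ σ i := by
          rw [Category.assoc, ← pullback.condition, IsIso.inv_hom_id_assoc]
        have hl : inv (pullback.fst L (σ i)) ≫ pullback.snd L (σ i) = l := by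
          rw [← hL₁]
          conv_rhs => rw [hL]
          rw [Category.assoc, hσ, Category.comp_id]
        apply Fin.castSucc_ne_last i
        apply he
        rw [← hL₂, hL, hl, Category.assoc, pullback.lift_snd, hlp]
      let L' : Spec (CommRingCat.of K) ⟶ O.toScheme := IsOpenImmersion.lift O.ι L (by
        rw [Scheme.Opens.range_ι]
        rintro _ ⟨z, rfl⟩
        rw [@Subsingleton.elim (Spec (CommRingCat.of K)) inferInstance z (IsLocalRing.closedPoint K)]
        exact hmem)
      have hL' : L' ≫ O.ι = L := IsOpenImmersion.lift_fac _ _ _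
      refine ⟨L', by simp only [g', reassoc_of% hL', reassoc_of% hL₁, hlg], fun i => ?_⟩
      refine Fin.lastCases ?_ (fun i => ?_) i
      · simp only [p', Fin.snoc_last, reassoc_of% hL', hL₂]
      · simp only [p', Fin.snoc_castSucc, reassoc_of% hL', reassoc_of% hL₁, hlp]

/-- Lower semicontinuity of the number of geometric points in the fibres. -/
theorem isOpen_atLeast [Etale s] [IsSeparated s] (m : ℕ) : IsOpen {v : U | AtLeast s m v} := by
  obtain ⟨G, g, hg, p, hps, hinj, hlift⟩ := exists_distinct s m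
  have h : {v : U | AtLeast s m v} = Set.range g := by
    ext v
    constructor
    · rintro ⟨K, _, q, e, rfl, he, hes⟩
      obtain ⟨l, hl, -⟩ := hlift K q e he hes
      exact ⟨l (IsLocalRing.closedPoint K), by rw [← hl]; rfl⟩
    · rintro ⟨z, rfl⟩
      refine ⟨G.residueField z, inferInstance, G.fromSpecResidueField z ≫ g,
        fun i => G.fromSpecResidueField z ≫ p i, ?_, hinj _ _, fun i => by rw [Category.assoc, hps]⟩
      rw [Scheme.Hom.comp_apply]
      exact congrArg g (Scheme.fromSpecResidueField_apply _ _)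
  rw [h]
  exact g.isOpenMap.isOpen_range

/-- Finite fibres have boundedly many geometric points. -/
theorem exists_not_atLeast [Etale s] {v : U} (hfin : (s ⁻¹' {v}).Finite) : ∃ m, ¬ AtLeast s m v := by
  let κ := U.residueField v
  let W := pullback s (U.fromSpecResidueField v)
  let w : W ⟶ Spec (CommRingCat.of κ) := pullback.snd s (U.fromSpecResidueField v)
  have : Etale w := MorphismProperty.pullback_snd (P := @Etale) _ _ ‹_›
  have : Finite W := by
    have := hfin.to_subtype
    exact Finite.of_equiv _ (s.fiberHomeo v).toEquiv.symm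
  have : IsFinite w := isFinite_of_finite_etale w
  have : IsAffine W := isAffine_of_isAffineHom w
  obtain ⟨β, hβ⟩ := Spec.map_surjective (W.isoSpec.inv ≫ w)
  let _ : Algebra κ Γ(W, ⊤) := β.hom.toAlgebra
  have : IsFinite (Spec.map β) := hβ ▸ inferInstance
  have : Module.Finite κ Γ(W, ⊤) := RingHom.finite_algebraMap.1 ((IsFinite.SpecMap_iff β).1 this)
  refine ⟨Module.finrank κ Γ(W, ⊤) + 1, ?_⟩
  rintro ⟨K, _, p, e, hp, he, hes⟩
  obtain ⟨⟨x, φ⟩, hφ⟩ : ∃ d, (Scheme.SpecToEquivOfField K U).symm d = p := ⟨_, Equiv.symm_apply_apply _ p⟩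
  obtain rfl : x = v := by
    rw [← hp, ← hφ]
    exact (Scheme.fromSpecResidueField_apply x _).symm
  let _ : Algebra κ K := φ.hom.toAlgebra
  let l : Fin (Module.finrank κ Γ(W, ⊤) + 1) → (Spec (CommRingCat.of K) ⟶ W) := fun i =>
    pullback.lift (e i) (Spec.map φ) (by rw [hes, ← hφ]; rfl)
  choose g hg using fun i => Spec.map_surjective (l i ≫ W.isoSpec.hom)
  have hgw : ∀ i, β ≫ g i = φ := fun i => Spec.map_injective (by
    rw [Spec.map_comp, hg, hβ, Category.assoc, Iso.hom_inv_id_assoc]
    exact pullback.lift_snd _ _ _)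
  let a : Fin (Module.finrank κ Γ(W, ⊤) + 1) → (Γ(W, ⊤) →ₐ[κ] K) := fun i =>
    ⟨(g i).hom, fun c => congr($(hgw i).hom c)⟩
  have hainj : Function.Injective a := fun i j h => he (by
    have hgij : g i = g j := CommRingCat.hom_ext (congrArg AlgHom.toRingHom h)
    have hl : l i = l j := by rw [← cancel_mono W.isoSpec.hom, ← hg, ← hg, hgij]
    have := congrArg (· ≫ pullback.fst s (U.fromSpecResidueField x)) hl
    exact (pullback.lift_fst _ _ _).symm.trans (this.trans (pullback.lift_fst _ _ _)))
  have h1 := Nat.card_le_card_of_injective a hainj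
  have h2 := card_algHom_le_finrank κ Γ(W, ⊤) K
  rw [Nat.card_fin] at h1
  omega

/-- If an open already contains the maximal number of geometric points, it contains the fibre. -/
theorem preimage_subset_of_atLeast (K : R.Opens) {m : ℕ} {v : U} (h : AtLeast (K.ι ≫ s) m v)
    (hmax : ¬ AtLeast s (m + 1) v) : s ⁻¹' {v} ⊆ (K : Set R) := by
  intro r hr
  by_contra hrK
  apply hmax
  obtain ⟨F, _, p, e, hp, he, hes⟩ := h
  obtain ⟨⟨x, φ⟩, hφ⟩ : ∃ d, (Scheme.SpecToEquivOfField F U).symm d = p := ⟨_, Equiv.symm_apply_apply _ p⟩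
  obtain rfl : x = v := by
    rw [← hp, ← hφ]
    exact (Scheme.fromSpecResidueField_apply x _).symm
  obtain rfl : s r = x := hr
  obtain ⟨Ω, _, i₁, i₂, hi⟩ := AlgSp.FieldPt.exists_amalgamation φ.hom (s.residueFieldMap r).hom
  let c₁ : Spec (CommRingCat.of Ω) ⟶ Spec (CommRingCat.of F) := Spec.map (CommRingCat.ofHom i₁)
  let c₂ : Spec (CommRingCat.of Ω) ⟶ Spec (R.residueField r) := Spec.map (CommRingCat.ofHom i₂)
  have hc : c₁ ≫ p = c₂ ≫ R.fromSpecResidueField r ≫ s := by
    rw [← hφ, ← s.SpecMap_residueFieldMap_fromSpecResidueField r]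
    change c₁ ≫ Spec.map φ ≫ _ = c₂ ≫ Spec.map (s.residueFieldMap r) ≫ _
    rw [← Spec.map_comp_assoc, ← Spec.map_comp_assoc]
    congr 2
    exact CommRingCat.hom_ext hi
  refine ⟨Ω, inferInstance, c₁ ≫ p, Fin.snoc (fun i => c₁ ≫ e i ≫ K.ι) (c₂ ≫ R.fromSpecResidueField r), ?_, ?_, ?_⟩
  · rw [Scheme.Hom.comp_apply]
    rw [@Subsingleton.elim (Spec (CommRingCat.of F)) inferInstance (c₁ (IsLocalRing.closedPoint Ω))
      (IsLocalRing.closedPoint F)]
    exact hp
  · have hne : ∀ i : Fin m, c₁ ≫ e i ≫ K.ι ≠ c₂ ≫ R.fromSpecResidueField r := by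
      intro i h
      apply hrK
      have h1 : (c₁ ≫ e i ≫ K.ι) (IsLocalRing.closedPoint Ω) = r := by
        rw [h, Scheme.Hom.comp_apply]
        exact Scheme.fromSpecResidueField_apply _ _
      rw [← h1]
      exact ((c₁ ≫ e i) (IsLocalRing.closedPoint Ω)).2
    have hepi : Epi c₁ := by
      have : Flat c₁ := flat_to_field c₁
      have : Surjective c₁ := ⟨fun y => ⟨IsLocalRing.closedPoint Ω,
        @Subsingleton.elim (Spec (CommRingCat.of F)) inferInstance _ y⟩⟩
      exact Flat.epi_of_flat_of_surjective c₁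
    intro i
    refine Fin.lastCases ?_ (fun i => ?_) i
    · intro j
      refine Fin.lastCases (fun _ => rfl) (fun j h => ?_) j
      simp only [Fin.snoc_last, Fin.snoc_castSucc] at h
      exact absurd h.symm (hne j)
    · intro j
      refine Fin.lastCases (fun h => ?_) (fun j h => ?_) j
      · simp only [Fin.snoc_last, Fin.snoc_castSucc] at h
        exact absurd h (hne i)
      · simp only [Fin.snoc_castSucc] at h
        exact congrArg Fin.castSucc (he ((cancel_mono K.ι).1 ((cancel_epi c₁).1 h)))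
  · intro i
    refine Fin.lastCases ?_ (fun i => ?_) i
    · rw [Fin.snoc_last, hc, Category.assoc]
    · simp only [Fin.snoc_castSucc, Category.assoc, hes]

/-- Geometric points in a fibre contained in an open. -/
theorem atLeast_restrict (K : R.Opens) {m : ℕ} {v : U} (h : AtLeast s m v) (hK : s ⁻¹' {v} ⊆ (K : Set R)) :
    AtLeast (K.ι ≫ s) m v := by
  obtain ⟨F, _, p, e, hp, he, hes⟩ := h
  have hr : ∀ i, Set.range (e i) ⊆ Set.range K.ι := fun i => by
    rw [Scheme.Opens.range_ι]
    rintro _ ⟨z, rfl⟩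
    apply hK
    rw [@Subsingleton.elim (Spec (CommRingCat.of F)) inferInstance z (IsLocalRing.closedPoint F)]
    change (e i ≫ s) (IsLocalRing.closedPoint F) = v
    rw [hes, hp]
  refine ⟨F, inferInstance, p, fun i => IsOpenImmersion.lift K.ι (e i) (hr i), hp,
    fun i j h => he ?_, fun i => by rw [IsOpenImmersion.lift_fac_assoc, hes]⟩
  have := congrArg (· ≫ K.ι) h
  simpa [IsOpenImmersion.lift_fac] using this

/-- Where the number of geometric points is constant, preimages of compact sets are compact. -/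
theorem isCompact_preimage_of_constant [Etale s] [IsSeparated s] [QuasiSeparatedSpace U] {C D : Set U}
    (hC : IsClosed C) (hDo : IsOpen D) (hD : IsCompact D) {m : ℕ}
    (hfin : ∀ v ∈ C ∩ D, (s ⁻¹' {v}).Finite)
    (hm : ∀ v ∈ C ∩ D, AtLeast s m v ∧ ¬ AtLeast s (m + 1) v) : IsCompact (s ⁻¹' (C ∩ D)) := by
  classical
  have hK : ∀ v : ↥(C ∩ D), ∃ K : R.Opens, IsCompact (K : Set R) ∧ v.1 ∈ {w : U | AtLeast (K.ι ≫ s) m w} := by
    rintro ⟨v, hv⟩
    choose O hO hrO using fun r : R => exists_isAffineOpen_mem_and_subset (U := (⊤ : R.Opens)) (x := r) trivial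
    have := (hfin v hv).to_subtype
    have := Fintype.ofFinite ↥(s ⁻¹' {v})
    refine ⟨⨆ r : ↥(s ⁻¹' {v}), O r.1, ?_, ?_⟩
    · rw [TopologicalSpace.Opens.coe_iSup]
      exact isCompact_iUnion fun r => (hO r.1).isCompact
    · refine atLeast_restrict s _ (hm v hv).1 fun r hr => ?_
      exact TopologicalSpace.Opens.mem_iSup.2 ⟨⟨r, hr⟩, (hrO r).1⟩
  choose K hKc hKv using hK
  obtain ⟨t, ht⟩ := (hD.inter_left hC).elim_finite_subcover
    (fun v => {w : U | AtLeast ((K v).ι ≫ s) m w}) (fun v => isOpen_atLeast _ m)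
    (fun v hv => Set.mem_iUnion.2 ⟨⟨v, hv⟩, hKv ⟨v, hv⟩⟩)
  let K' : R.Opens := t.sup K
  have hsub : s ⁻¹' (C ∩ D) ⊆ (K' : Set R) := by
    intro r hr
    obtain ⟨v, hv, hw⟩ := Set.mem_iUnion₂.1 (ht hr)
    exact (Finset.le_sup (f := K) hv : K v ≤ K') (preimage_subset_of_atLeast s (K v) hw (hm _ hr).2 rfl)
  have hK'c : IsCompact (K' : Set R) := by
    rw [show (K' : Set R) = ⋃ v ∈ t, (K v : Set R) by simp [K', TopologicalSpace.Opens.coe_finset_sup]]
    exact t.finite_toSet.isCompact_biUnion fun v _ => hKc v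
  have : CompactSpace K'.toScheme := isCompact_iff_compactSpace.1 hK'c
  have : QuasiCompact (K'.ι ≫ s) := inferInstance
  have h1 := ((K'.ι ≫ s).isCompact_preimage (U := ⟨D, hDo⟩) hD).image K'.ι.continuous
  have h2 : s ⁻¹' (C ∩ D) = s ⁻¹' C ∩ (K'.ι '' ((K'.ι ≫ s) ⁻¹' D)) := by
    ext r
    constructor
    · intro hr
      exact ⟨hr.1, ⟨r, hsub hr⟩, hr.2, rfl⟩
    · rintro ⟨hC', z, hz, rfl⟩
      exact ⟨hC', hz⟩
  rw [h2]
  exact h1.inter_left (hC.preimage s.continuous)

end

end Groth.Agent.H13AlgSp
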