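import Groth.Agent.H12AlgSp.Homogeneous
import Groth.Agent.H12AlgSp.NbhdLoci
import Groth.Agent.H12AlgSp.QC
import Groth.Agent.H13AlgSp.FibreSpaces
import Groth.Agent.H7Flat.FibreDim
import Groth.Agent.H8Props.FieldDimEquidim
import Groth.Agent.H7Flat.FibreDimConstructible
import Groth.Agent.S0404

/-!
Dimensions of fibres of morphisms of algebraic spaces.
-/

set_option backward.isDefEq.respectTransparency false

universe u

open CategoryTheory CategoryTheory.Limits AlgebraicGeometry Topology TopologicalSpace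
open AlgSp Groth.Agent.H12AlgSp

namespace Groth.Agent.H13AlgSp.FibreDim

theorem lt_succ_iff' (a : WithBot ℕ∞) (n : ℕ) : a < ((n + 1 : ℕ) : WithBot ℕ∞) ↔ a ≤ (n : WithBot ℕ∞) := by
  induction a using WithBot.recBotCoe with
  | bot => simpa using WithBot.bot_lt_coe ((n + 1 : ℕ) : ℕ∞)
  | coe a =>
    have e : ∀ m : ℕ, ((m : ℕ) : WithBot ℕ∞) = ((m : ℕ∞) : WithBot ℕ∞) := fun m => rfl
    rw [e, e, WithBot.coe_lt_coe, WithBot.coe_le_coe, ENat.coe_add, ENat.coe_one]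
    exact ENat.lt_add_one_iff (ENat.coe_ne_top n)
theorem eq_succ_iff (a : WithBot ℕ∞) (n : ℕ) : a = ((n + 1 : ℕ) : WithBot ℕ∞) ↔ a < ((n + 2 : ℕ) : WithBot ℕ∞) ∧ (n : WithBot ℕ∞) < a := by
  rw [lt_succ_iff' a (n + 1), show ((n : WithBot ℕ∞) < a ↔ ((n + 1 : ℕ) : WithBot ℕ∞) ≤ a) by
    rw [← not_iff_not, not_lt, not_le, lt_succ_iff']]
  exact ⟨fun h => ⟨h.le, h.ge⟩, fun h => le_antisymm h.1 h.2⟩
theorem eq_zero_iff' (a : WithBot ℕ∞) : a = ((0 : ℕ) : WithBot ℕ∞) ↔ a < ((1 : ℕ) : WithBot ℕ∞) ∧ ⊥ < a := by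
  rw [lt_succ_iff' a 0, bot_lt_iff_ne_bot]
  refine ⟨fun h => ⟨h.le, by rw [h]; simp [← WithBot.coe_natCast]⟩, fun h => le_antisymm h.1 ?_⟩
  induction a using WithBot.recBotCoe with
  | bot => exact absurd rfl h.2
  | coe a => exact_mod_cast bot_le (a := a)
theorem lt_top' (n : ℕ) : (n : WithBot ℕ∞) < ((⊤ : ℕ∞) : WithBot ℕ∞) := by
  rw [← WithBot.coe_natCast]; exact WithBot.coe_lt_coe.2 (ENat.coe_lt_top n)
theorem lt_top_iff' (a : WithBot ℕ∞) : a < ((⊤ : ℕ∞) : WithBot ℕ∞) ↔ ∃ n : ℕ, a ≤ (n : WithBot ℕ∞) := by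
  refine ⟨fun h => ?_, fun ⟨n, h⟩ => h.trans_lt (lt_top' n)⟩
  induction a using WithBot.recBotCoe with
  | bot => exact ⟨0, bot_le⟩
  | coe a =>
    induction a using WithTop.recTopCoe with
    | top => exact absurd h (lt_irrefl _)
    | coe m => exact ⟨m, le_rfl⟩
theorem lt_zero_iff' (a : WithBot ℕ∞) : a < ((0 : ℕ) : WithBot ℕ∞) ↔ a = ⊥ := by
  induction a using WithBot.recBotCoe with
  | bot => simp [← WithBot.coe_natCast]
  | coe a => simp only [WithBot.coe_ne_bot, iff_false, not_lt, ← WithBot.coe_natCast]; exact_mod_cast bot_le (a := a)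

variable {S : Scheme.{u}} {X Y : Sp S}

theorem dim_le_iff_localDim {G : Scheme.{u}} (c : WithBot ℕ∞) :
    topologicalKrullDim G ≤ c ↔ ∀ z : G, FlatMor.localDim G z ≤ c := by
  refine ⟨fun h z => (H28Top.localDim_le_dim _).trans h, fun h => ?_⟩
  refine H28Top.dim_le_of_chains fun ch => ?_
  obtain ⟨u, hu⟩ := ch.head.isIrreducible.nonempty
  exact (H28Top.chain_le_localDim ch hu).trans (h u)

/-- Points where the relative dimension is at most `c`. -/
abbrev RelDimLE (f : X ⟶ Y) (c : WithBot ℕ∞) (x : Points X) : Prop :=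
  HasAtMor (fun _ _ h u => FlatMor.fibreDimAt h u ≤ c) f x

theorem relDimLE_baseChange (hX : IsAlgSpace X) (hY : IsAlgSpace Y) {Y' X' : Sp S} (hY' : IsAlgSpace Y')
    {f : X ⟶ Y} {g : Y' ⟶ Y} {fst : X' ⟶ X} {f' : X' ⟶ Y'} (sq : IsPullback fst f' f g)
    (hf : LocP @LocallyOfFiniteType f) (c : WithBot ℕ∞) (x' : Points X') :
    RelDimLE f' c x' ↔ RelDimLE f c (Points.map fst x') := by
  obtain ⟨U, V, O, T, a, b, h, a', b', m, h', k, o, ha, hb, w, ha', hb', w', sqO, rfl, e⟩ :=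
    exists_baseChange_chart_at sq hX hY hY' x'
  have : LocallyOfFiniteType h.left := hf a b h ha hb w
  have hf' := Groth.Agent.H12AlgSp.locP_of_isPullback etLocal_lft sq hX hY hY' hf
  rw [← e, RelDimLE, RelDimLE, (etInvAt_fibreDimAt (· ≤ c)).hasAtMor_iff hf' ha' hb' w' o,
    (etInvAt_fibreDimAt (· ≤ c)).hasAtMor_iff hf ha hb w]
  rw [H8Props.FieldDim.fibreDimAt_baseChange h.left sqO o]

theorem dim_fibre_le_iff (hX : IsAlgSpace X) (hY : IsAlgSpace Y) {f : X ⟶ Y}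
    (hf : LocP @LocallyOfFiniteType f) (k : FieldPt Y) {Xk : Sp S} {fst : Xk ⟶ X}
    {snd : Xk ⟶ (yon S).obj k.pt} (sq : IsPullback fst snd f k.toHom) (c : WithBot ℕ∞) :
    dim Xk ≤ c ↔ ∀ x : Points X, Points.map f x = Points.mk k → RelDimLE f c x := by
  have hXk := isAlgSpace_of_isPullback hY.diag hX (IsAlgSpace.yon_obj _) sq
  have hsnd := Groth.Agent.H12AlgSp.locP_of_isPullback etLocal_lft sq hX hY (IsAlgSpace.yon_obj _) hf
  have : Subsingleton k.pt.left := subsingleton_fieldPt k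
  have key : ∀ {G : Over S} (a : (yon S).obj G ⟶ Xk) (_ : RepWith @Etale a) (z : G.left),
      FlatMor.localDim G.left z ≤ c ↔ RelDimLE f c (Points.map fst (Points.ofPt a z)) := by
    intro G a ha z
    obtain ⟨h, hh⟩ := (yon S).map_surjective (a ≫ snd)
    rw [← relDimLE_baseChange hX hY (IsAlgSpace.yon_obj _) sq hf c]
    rw [RelDimLE, (etInvAt_fibreDimAt (· ≤ c)).hasAtMor_iff hsnd ha (repWith_id _ _) (h := h)
      (by rw [Category.comp_id, hh]) z, fibreDimAt_of_subsingleton]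
  constructor
  · intro hd x hx
    obtain ⟨x', rfl, -⟩ := exists_point_of_isPullback sq x (Points.ofScheme k.pt (IsLocalRing.closedPoint k.K))
      (by rw [hx, ← Points.ofPt_toHom, Points.ofPt_eq_map_ofScheme])
    obtain ⟨G, p, hp, hps⟩ := hXk.atlas
    obtain ⟨z, rfl⟩ := surjective_ofPt_of_repWith le_rfl hps x'
    have hG : topologicalKrullDim G.left ≤ dim Xk :=
      le_iSup_of_le (f := fun U : Over S => ⨆ (a : (yon S).obj U ⟶ Xk) (_ : RepWith @Etale a), topologicalKrullDim U.left) G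
        (le_iSup₂_of_le (f := fun (_ : (yon S).obj G ⟶ Xk) (_ : RepWith @Etale _) => topologicalKrullDim G.left) p hp le_rfl)
    exact (key p hp z).1 ((H28Top.localDim_le_dim _).trans (hG.trans hd))
  · intro h
    refine iSup_le fun G => iSup₂_le fun a ha => (dim_le_iff_localDim c).2 fun z => (key a ha z).2 (h _ ?_)
    rw [← Points.map_comp, sq.w, Points.map_comp, ← Points.ofPt_toHom, Points.ofPt_eq_map_ofScheme k.toHom]
    congr 1
    obtain ⟨t, ht⟩ := (Points.schemeHomeo k.pt).surjective (Points.map snd (Points.ofPt a z))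
    rw [← ht]
    exact congrArg (Points.schemeHomeo k.pt) (Subsingleton.elim t (IsLocalRing.closedPoint k.K))

theorem relDimLE_bot_iff (hX : IsAlgSpace X) (hY : IsAlgSpace Y) {f : X ⟶ Y}
    (hf : LocP @LocallyOfFiniteType f) (x : Points X) : ¬ RelDimLE f ⊥ x := by
  obtain ⟨U, V, a, b, h, u, ha, hb, w, rfl⟩ := exists_chart_at hX hY f x
  have : LocallyOfFiniteType h.left := hf a b h ha hb w
  rw [RelDimLE, (etInvAt_fibreDimAt (· ≤ ⊥)).hasAtMor_iff hf ha hb w u]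
  exact fun e => absurd ((H7Flat.fibreDimAt_nonneg h.left u).trans e) (by simp)

theorem dim_fibre_eq_bot_iff (hX : IsAlgSpace X) (hY : IsAlgSpace Y) {f : X ⟶ Y}
    (hf : LocP @LocallyOfFiniteType f) (k : FieldPt Y) {Xk : Sp S} {fst : Xk ⟶ X}
    {snd : Xk ⟶ (yon S).obj k.pt} (sq : IsPullback fst snd f k.toHom) :
    dim Xk = ⊥ ↔ Points.mk k ∉ Set.range (Points.map f) := by
  rw [← le_bot_iff, dim_fibre_le_iff hX hY hf k sq]
  exact ⟨fun h ⟨x, hx⟩ => relDimLE_bot_iff hX hY hf x (h x hx), fun h x hx => absurd ⟨x, hx⟩ h⟩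

theorem isOpen_relDimLE (hX : IsAlgSpace X) (hY : IsAlgSpace Y) {f : X ⟶ Y}
    (hf : LocP @LocallyOfFiniteType f) (n : ℕ) : IsOpen {x | RelDimLE f (n : WithBot ℕ∞) x} := by
  refine isOpen_iff_forall_mem_open.2 fun x hx => ?_
  obtain ⟨U, V, a, b, h, u, ha, hb, w, rfl, hu⟩ := hx
  have : LocallyOfFiniteType h.left := hf a b h ha hb w
  refine ⟨Points.ofPt a '' {v | FlatMor.fibreDimAt h.left v ≤ (n : WithBot ℕ∞)}, ?_,
    isOpenMap_ofPt_of_repWith etale_le_universallyOpen ha _ (H8Props.FieldDim.isOpen_fibreDimAt_le h.left n), ⟨u, hu, rfl⟩⟩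
  rintro _ ⟨v, hv, rfl⟩
  exact ⟨U, V, a, b, h, v, ha, hb, w, rfl, hv⟩

theorem exists_fibre (k : FieldPt Y) (f : X ⟶ Y) :
    ∃ (Xk : Sp S) (fst : Xk ⟶ X) (snd : Xk ⟶ (yon S).obj k.pt), IsPullback fst snd f k.toHom :=
  ⟨_, _, _, IsPullback.of_hasPullback f k.toHom⟩

/-- The set of points over which all fibres have dimension in a given set of values. -/
abbrev DimSet (f : X ⟶ Y) (P : WithBot ℕ∞ → Prop) : Set (Points Y) :=
  {y | ∀ (k : FieldPt Y), Points.mk k = y → ∀ (Xk : Sp S) (fst : Xk ⟶ X) (snd : Xk ⟶ (yon S).obj k.pt),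
    IsPullback fst snd f k.toHom → P (dim Xk)}

theorem mem_dimSet_iff (hX : IsAlgSpace X) (hY : IsAlgSpace Y) {f : X ⟶ Y}
    (hf : LocP @LocallyOfFiniteType f) (c : WithBot ℕ∞) (y : Points Y) :
    (y ∈ DimSet f (· ≤ c) ↔ ∀ x, Points.map f x = y → RelDimLE f c x) ∧
      (y ∈ DimSet f (c < ·) ↔ ∃ x, Points.map f x = y ∧ ¬ RelDimLE f c x) := by
  obtain ⟨k₀, rfl⟩ := Quotient.exists_rep y
  obtain ⟨Q, q₁, q₂, sq⟩ := exists_fibre k₀ f
  constructor
  · refine ⟨fun h => (dim_fibre_le_iff hX hY hf k₀ sq c).1 (h k₀ rfl _ _ _ sq),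
      fun h k hk Xk fst snd sq' => (dim_fibre_le_iff hX hY hf k sq' c).2 fun x hx => h x (hx.trans hk)⟩
  · constructor
    · intro h
      have h' := (h k₀ rfl _ _ _ sq).not_ge
      rw [dim_fibre_le_iff hX hY hf k₀ sq c] at h'
      push Not at h'
      exact h'
    · rintro ⟨x, hx, hx'⟩ k hk Xk fst snd sq'
      exact not_le.1 fun h => hx' ((dim_fibre_le_iff hX hY hf k sq' c).1 h x (hx.trans hk.symm))

theorem dimSet_lt_eq_iUnion (hY : IsAlgSpace Y) (f : X ⟶ Y) (hX : IsAlgSpace X) (hf : LocP @LocallyOfFiniteType f) :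
    DimSet f (· < ⊤) = ⋃ n : ℕ, DimSet f (· ≤ (n : WithBot ℕ∞)) := by
  ext y
  refine ⟨fun h => ?_, fun h k hk Xk fst snd sq => ?_⟩
  · obtain ⟨k₀, rfl⟩ := Quotient.exists_rep y
    obtain ⟨Q, q₁, q₂, sq⟩ := exists_fibre k₀ f
    have h0 := h k₀ rfl _ _ _ sq
    obtain ⟨n, hn⟩ := (lt_top_iff' _).1 h0
    exact Set.mem_iUnion.2 ⟨n, (mem_dimSet_iff hX hY hf _ _).1.2 ((dim_fibre_le_iff hX hY hf k₀ sq _).1 hn)⟩
  · obtain ⟨n, hn⟩ := Set.mem_iUnion.1 h
    exact (hn k hk Xk fst snd sq).trans_lt (lt_top' n)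

theorem dimSet_congr (f : X ⟶ Y) {P Q : WithBot ℕ∞ → Prop} (h : ∀ d, P d ↔ Q d) : DimSet f P = DimSet f Q := by
  simp only [DimSet, h]

theorem isOpen_dimSet_lt (hX : IsAlgSpace X) (hY : IsAlgSpace Y) {f : X ⟶ Y}
    (hf : LocP @LocallyOfFiniteType f) (hc : IsClosedMap (Points.map f)) (d : WithBot ℕ∞) :
    IsOpen (DimSet f (· < d)) := by
  have hle : ∀ n : ℕ, IsOpen (DimSet f (· ≤ (n : WithBot ℕ∞))) := fun n => by
    have : DimSet f (· ≤ (n : WithBot ℕ∞)) = (Points.map f '' {x | RelDimLE f (n : WithBot ℕ∞) x}ᶜ)ᶜ := by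
      ext y
      rw [(mem_dimSet_iff hX hY hf _ y).1]
      exact ⟨fun h ⟨x, hx, e⟩ => hx (h x e), fun h x e => by_contra fun hx => h ⟨x, hx, e⟩⟩
    rw [this]
    exact (hc _ (isOpen_relDimLE hX hY hf n).isClosed_compl).isOpen_compl
  match d with
  | ⊥ =>
    rw [show DimSet f (· < (⊥ : WithBot ℕ∞)) = ∅ from Set.eq_empty_iff_forall_notMem.2 fun y hy => by
      obtain ⟨k₀, rfl⟩ := Quotient.exists_rep y
      obtain ⟨Q, q₁, q₂, sq⟩ := exists_fibre k₀ f
      exact not_lt_bot (hy k₀ rfl _ _ _ sq)]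
    exact isOpen_empty
  | (⊤ : ℕ∞) =>
    have := isOpen_iUnion hle
    rw [← dimSet_lt_eq_iUnion hY f hX hf] at this
    exact this
  | ((0 : ℕ) : ℕ∞) =>
    rw [show DimSet f (· < (((0 : ℕ) : ℕ∞) : WithBot ℕ∞)) = (Set.range (Points.map f))ᶜ by
      ext y
      obtain ⟨k₀, rfl⟩ := Quotient.exists_rep y
      obtain ⟨Q, q₁, q₂, sq⟩ := exists_fibre k₀ f
      refine ⟨fun h => (dim_fibre_eq_bot_iff hX hY hf k₀ sq).1 ?_, fun h k hk Xk fst snd sq' => ?_⟩
      · have h0 := h k₀ rfl _ _ _ sq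
        generalize dim Q = e at h0
        match e, h0 with
        | ⊥, _ => rfl
        | (m : ℕ∞), h0 => exact absurd (WithBot.coe_lt_coe.1 h0) (by simp)
      · rw [(dim_fibre_eq_bot_iff hX hY hf k sq').2 (by rw [hk]; exact h)]
        exact WithBot.bot_lt_coe _]
    exact hc.isClosed_range.isOpen_compl
  | ((n + 1 : ℕ) : ℕ∞) =>
    show IsOpen (DimSet f (· < ((n + 1 : ℕ) : WithBot ℕ∞)))
    rw [dimSet_congr f (Q := (· ≤ (n : WithBot ℕ∞))) (P := (· < ((n + 1 : ℕ) : WithBot ℕ∞))) fun e => lt_succ_iff' e n |>.trans Iff.rfl]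
    exact hle n

theorem isOpen_dimSet_gt (hX : IsAlgSpace X) (hY : IsAlgSpace Y) {f : X ⟶ Y} (hf1 : LocP @Flat f)
    (hf2 : LocP @LocallyOfFinitePresentation f) (hf3 : IsQuasiCompactMor f) (d : WithBot ℕ∞) :
    IsOpen (DimSet f (d < ·)) := by
  have hf : LocP @LocallyOfFiniteType f := fun U V a b h ha hb w => by
    have : LocallyOfFinitePresentation h.left := hf2 a b h ha hb w
    exact inferInstanceAs (LocallyOfFiniteType h.left)
  obtain ⟨T₀, b₀, hb₀, hbs₀⟩ := hY.atlas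
  refine isOpen_iff_forall_mem_open.2 fun y hy => ?_
  obtain ⟨t₀, rfl⟩ := surjective_ofPt_of_repWith le_rfl hbs₀ y
  obtain ⟨A, hA, htA, -⟩ := exists_isAffineOpen_mem_and_subset (X := T₀.left) (x := t₀) (U := ⊤) trivial
  let T : Over S := Over.mk (A.ι ≫ T₀.hom)
  let i : T ⟶ T₀ := Over.homMk A.ι rfl
  let b := (yon S).map i ≫ b₀
  have hb : RepWith @Etale b := repWith_comp ((repWith_yon_map_iff _ i).2 (inferInstanceAs (Etale A.ι))) hb₀
  have : IsAffine T.left := hA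
  have hTc : CompactSpace T.left := inferInstance
  have hZ : IsQuasiCompactSp ((yon S).obj T) := ⟨T, 𝟙 _, repWith_id _ _, repWith_id _ _, hTc⟩
  have := compactSpace_points_of_isQuasiCompactSp
    (hf3 (IsAlgSpace.yon_obj T) hZ b _ _ (IsPullback.of_hasPullback f b))
  obtain ⟨U, l, hU, hl, hls⟩ :=
    Groth.Agent.H12AlgSp.exists_affine_atlas (isAlgSpace_pullback hY.diag hX (IsAlgSpace.yon_obj T) f b)
  obtain ⟨h, hh⟩ := (yon S).map_surjective (l ≫ pullback.snd f b)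
  have ha := repWith_comp hl (repWith_of_isPullback (IsPullback.of_hasPullback f b).flip hb)
  have w : (l ≫ pullback.fst f b) ≫ f = (yon S).map h ≫ b := by
    rw [hh, Category.assoc, Category.assoc, pullback.condition]
  have : Flat h.left := hf1 _ b h ha hb w
  have : LocallyOfFinitePresentation h.left := hf2 _ b h ha hb w
  have hopen := S0404.result h.left d
  have key : ∀ t : T.left, d < topologicalKrullDim (h.left.fiber t) ↔ Points.ofPt b t ∈ DimSet f (d < ·) := by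
    intro t
    rw [(mem_dimSet_iff hX hY hf d _).2, ← not_le, H7Flat.dim_fiber_le_iff]
    push Not
    constructor
    · rintro ⟨u, hu, hd⟩
      refine ⟨Points.ofPt (l ≫ pullback.fst f b) u, by rw [Points.map_ofPt, w, ofPt_map, hu], fun hle => ?_⟩
      exact absurd (((etInvAt_fibreDimAt (· ≤ d)).hasAtMor_iff hf ha hb w u).1 hle) (not_le.2 hd)
    · rintro ⟨x, hx, hd⟩
      obtain ⟨z, rfl, hz⟩ := exists_point_of_isPullback (IsPullback.of_hasPullback f b) x (Points.ofScheme T t)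
        (by rw [hx, Points.ofPt_eq_map_ofScheme])
      obtain ⟨u, rfl⟩ := surjective_ofPt_of_repWith le_rfl hls z
      rw [Points.map_ofPt] at hz hd
      refine ⟨u, ?_, not_le.1 fun e => hd (((etInvAt_fibreDimAt (· ≤ d)).hasAtMor_iff hf ha hb w u).2 e)⟩
      rw [← hh, ← Category.comp_id ((yon S).map h), ofPt_map, Points.ofPt_eq_map_ofScheme, Points.map_id] at hz
      exact (Points.schemeHomeo T).injective hz
  refine ⟨Points.ofPt b '' {t | d < topologicalKrullDim (h.left.fiber t)}, ?_,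
    isOpenMap_ofPt_of_repWith etale_le_universallyOpen hb _ hopen, ?_⟩
  · rintro _ ⟨t, ht, rfl⟩
    exact (key t).1 ht
  · have e : Points.ofPt b (⟨t₀, htA⟩ : A.toScheme) = Points.ofPt b₀ t₀ := ofPt_map i b₀ _
    exact ⟨⟨t₀, htA⟩, (key _).2 (e.symm ▸ hy), e⟩

theorem exists_dim_bound_nhd (hX : IsAlgSpace X) (hY : IsAlgSpace Y) {f : X ⟶ Y}
    (hf : LocP @LocallyOfFiniteType f) (hf3 : IsQuasiCompactMor f) (k : FieldPt Y) :
    ∃ n : ℕ, ∀ x, Points.map f x = Points.mk k → RelDimLE f (n : WithBot ℕ∞) x := by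
  obtain ⟨Q, q₁, q₂, sq⟩ := exists_fibre k f
  have hQ := isAlgSpace_of_isPullback hY.diag hX (IsAlgSpace.yon_obj _) sq
  have hc : CompactSpace k.pt.left := inferInstanceAs (CompactSpace (Spec (CommRingCat.of k.K)))
  have hZ : IsQuasiCompactSp ((yon S).obj k.pt) := ⟨k.pt, 𝟙 _, repWith_id _ _, repWith_id _ _, hc⟩
  have := compactSpace_points_of_isQuasiCompactSp (hf3 (IsAlgSpace.yon_obj _) hZ _ _ _ sq)
  have : Subsingleton k.pt.left := subsingleton_fieldPt k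
  obtain ⟨G, p, hG, hp, hps⟩ := Groth.Agent.H12AlgSp.exists_affine_atlas hQ
  obtain ⟨h, hh⟩ := (yon S).map_surjective (p ≫ q₂)
  have hsnd := Groth.Agent.H12AlgSp.locP_of_isPullback etLocal_lft sq hX hY (IsAlgSpace.yon_obj _) hf
  have : LocallyOfFiniteType h.left := hsnd p (𝟙 _) h hp (repWith_id _ _) (by rw [Category.comp_id, hh])
  obtain ⟨N, hN⟩ := isCompact_univ.elim_directed_cover
    (fun n : ℕ => {z : G.left | FlatMor.fibreDimAt h.left z ≤ (n : WithBot ℕ∞)})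
    (fun n => H8Props.FieldDim.isOpen_fibreDimAt_le h.left n)
    (fun z _ => by
      have : LocallyOfFiniteType (show G.left ⟶ Spec (CommRingCat.of k.K) from h.left) := ‹_›
      obtain ⟨s, hs⟩ := H8Props.FieldDim.exists_nat_localDim (k := k.K) (show G.left ⟶ Spec (CommRingCat.of k.K) from h.left) z
      exact Set.mem_iUnion.2 ⟨s, by rw [Set.mem_setOf_eq, fibreDimAt_of_subsingleton, hs]⟩)
    (Monotone.directed_le fun m n hmn z (hz : FlatMor.fibreDimAt h.left z ≤ (m : WithBot ℕ∞)) => hz.trans (by exact_mod_cast hmn))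
  refine ⟨N, fun x hx => ?_⟩
  obtain ⟨x', rfl, -⟩ := exists_point_of_isPullback sq x (Points.ofScheme k.pt (IsLocalRing.closedPoint k.K))
    (by rw [hx, ← Points.ofPt_toHom, Points.ofPt_eq_map_ofScheme])
  obtain ⟨z, rfl⟩ := surjective_ofPt_of_repWith le_rfl hps x'
  rw [← relDimLE_baseChange hX hY (IsAlgSpace.yon_obj _) sq hf, RelDimLE,
    (etInvAt_fibreDimAt (· ≤ (N : WithBot ℕ∞))).hasAtMor_iff hsnd hp (repWith_id _ _) (h := h)
      (by rw [Category.comp_id, hh]) z]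
  exact hN (Set.mem_univ z)

theorem isOpen_dimSet_eq (hX : IsAlgSpace X) (hY : IsAlgSpace Y) {f : X ⟶ Y} (hc : IsClosedMap (Points.map f))
    (hf1 : LocP @Flat f) (hf2 : LocP @LocallyOfFinitePresentation f) (hf3 : IsQuasiCompactMor f) (d : WithBot ℕ∞) :
    IsOpen (DimSet f (· = d)) := by
  have hf : LocP @LocallyOfFiniteType f := fun U V a b h ha hb w => by
    have : LocallyOfFinitePresentation h.left := hf2 a b h ha hb w
    exact inferInstanceAs (LocallyOfFiniteType h.left)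
  have hi : ∀ P Q : WithBot ℕ∞ → Prop, DimSet f (fun e => P e ∧ Q e) = DimSet f P ∩ DimSet f Q := fun P Q =>
    Set.ext fun y => ⟨fun h => ⟨fun k a b c e g => (h k a b c e g).1, fun k a b c e g => (h k a b c e g).2⟩,
      fun h k a b c e g => ⟨h.1 k a b c e g, h.2 k a b c e g⟩⟩
  match d with
  | ⊥ =>
    rw [dimSet_congr f (P := (· = (⊥ : WithBot ℕ∞))) (Q := (· < ((0 : ℕ) : WithBot ℕ∞))) fun e => (lt_zero_iff' e).symm]
    exact isOpen_dimSet_lt hX hY hf hc _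
  | (⊤ : ℕ∞) =>
    rw [show DimSet f (· = ((⊤ : ℕ∞) : WithBot ℕ∞)) = ∅ from Set.eq_empty_iff_forall_notMem.2 fun y hy => by
      obtain ⟨k₀, rfl⟩ := Quotient.exists_rep y
      obtain ⟨Q, q₁, q₂, sq⟩ := exists_fibre k₀ f
      obtain ⟨N, hN⟩ := exists_dim_bound_nhd hX hY hf hf3 k₀
      have := (dim_fibre_le_iff hX hY hf k₀ sq _).2 hN
      rw [hy k₀ rfl _ _ _ sq] at this
      exact absurd this (not_le.2 (lt_top' N))]
    exact isOpen_empty
  | ((0 : ℕ) : ℕ∞) =>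
    refine (dimSet_congr f (P := (· = ((0 : ℕ) : WithBot ℕ∞))) eq_zero_iff').trans (hi _ _) ▸ ?_
    exact (isOpen_dimSet_lt hX hY hf hc _).inter (isOpen_dimSet_gt hX hY hf1 hf2 hf3 _)
  | ((n + 1 : ℕ) : ℕ∞) =>
    refine (dimSet_congr f (P := (· = ((n + 1 : ℕ) : WithBot ℕ∞))) fun a => eq_succ_iff a n).trans (hi _ _) ▸ ?_
    exact (isOpen_dimSet_lt hX hY hf hc _).inter (isOpen_dimSet_gt hX hY hf1 hf2 hf3 _)

end Groth.Agent.H13AlgSp.FibreDim
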