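import Groth.Agent.H13AlgSp.FibreSpaces
import Groth.Agent.H13AlgSp.MonoPoint

/-!
Locally Noetherian fibres; finite morphisms by their fibres.
-/

universe u

open CategoryTheory CategoryTheory.Limits AlgebraicGeometry Opposite Topology
open AlgSp Groth.Agent.H12AlgSp

namespace Groth.Agent.H13AlgSp

variable {S : Scheme.{u}}

/-- Local Noetherianity of fibres passes along `p ← q → r` with `q → p` of finite type. -/
theorem isLocNoethSp_fibre_zigzag {X Y : Sp S} (hX : IsAlgSpace X) (hY : IsAlgSpace Y) {f : X ⟶ Y}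
    {Z₁ Z₂ : Over S} {E : Over S} (t₁ : (yon S).obj Z₁ ⟶ Y) (t₂ : (yon S).obj Z₂ ⟶ Y) (c₁ : E ⟶ Z₁) (c₂ : E ⟶ Z₂)
    [LocallyOfFiniteType c₁.left] [Flat c₂.left] [Surjective c₂.left] [QuasiCompact c₂.left]
    (w : (yon S).map c₁ ≫ t₁ = (yon S).map c₂ ≫ t₂)
    (h₁ : IsLocNoethSp (pullback f t₁)) {Q : Sp S} {q₁ : Q ⟶ X} {q₂ : Q ⟶ (yon S).obj Z₂}
    (hQ : IsPullback q₁ q₂ f t₂) : IsLocNoethSp Q := by
  have sq₁ := IsPullback.of_hasPullback f t₁
  have sqE := IsPullback.of_hasPullback f ((yon S).map c₁ ≫ t₁)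
  have hE : IsLocNoethSp (pullback f ((yon S).map c₁ ≫ t₁)) := by
    refine isLocNoethSp_baseChange_lft h₁ (c := c₁) (q := pullback.snd f t₁)
      (p₁ := sq₁.lift (pullback.fst f _) (pullback.snd f _ ≫ (yon S).map c₁) (by rw [Category.assoc]; exact sqE.w))
      (p₂ := pullback.snd f _) (IsPullback.of_right ?_ (sq₁.lift_snd _ _ _) sq₁)
    rw [sq₁.lift_fst]
    exact sqE
  refine isLocNoethSp_descends (isAlgSpace_pullback hY.diag hX (IsAlgSpace.yon_obj E) _ _)
    (isAlgSpace_of_isPullback hY.diag hX (IsAlgSpace.yon_obj Z₂) hQ) hE (c := c₂) (q := q₂)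
    (p₁ := hQ.lift (pullback.fst f _) (pullback.snd f _ ≫ (yon S).map c₂)
      (by rw [Category.assoc, ← w]; exact sqE.w))
    (p₂ := pullback.snd f _) (IsPullback.of_right ?_ (hQ.lift_snd _ _ _) hQ)
  rw [hQ.lift_fst, ← w]
  exact sqE

theorem isLocNoethSp_fibre_mono {X Y : Sp S} (hX : IsAlgSpace X) (hY : IsAlgSpace Y) {f : X ⟶ Y}
    (p p₀ : FieldPt Y) (hpp : Points.mk p = Points.mk p₀) (hm : Mono p₀.toHom)
    (h : IsLocNoethSp (pullback f p.toHom)) {Q : Sp S} {q₁ : Q ⟶ X} {q₂ : Q ⟶ (yon S).obj p₀.pt}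
    (hQ : IsPullback q₁ q₂ f p₀.toHom) : IsLocNoethSp Q := by
  obtain ⟨c, hc, -⟩ := exists_factor_of_mk_eq hY p₀ p hm hpp.symm
  obtain ⟨_, _, _⟩ := faithfullyFlat_to_fieldPt p₀ p c
  refine isLocNoethSp_fibre_zigzag hX hY p.toHom p₀.toHom (𝟙 _) c ?_ h hQ
  rw [hc, (yon S).map_id, Category.id_comp]

theorem isLocNoethSp_fibre_chart {X Y : Sp S} (hX : IsAlgSpace X) (hY : IsAlgSpace Y) {f : X ⟶ Y}
    (p : FieldPt Y) (h : IsLocNoethSp (pullback f p.toHom)) {V : Over S} {b : (yon S).obj V ⟶ Y}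
    (hb : RepWith @Etale b) (v : V.left) (hv : Points.ofPt b v = Points.mk p) {Q : Sp S} {q₁ : Q ⟶ X}
    {q₂ : Q ⟶ (yon S).obj (FieldPt.ofPt b v).pt} (hQ : IsPullback q₁ q₂ f (FieldPt.ofPt b v).toHom) :
    IsLocNoethSp Q := by
  obtain ⟨W, w, r', sqW⟩ := hb.1 p.toHom
  obtain ⟨r, rfl⟩ := (yon S).map_surjective r'
  have hwe : Etale w.left := hb.2 _ _ w sqW
  obtain ⟨z, hz, -⟩ := exists_point_of_isPullback sqW (Points.ofScheme V v)
    (Points.ofScheme p.pt (IsLocalRing.closedPoint p.K))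
    (by rw [← Points.ofPt_eq_map_ofScheme, ← Points.ofPt_eq_map_ofScheme, hv, Points.ofPt_toHom])
  obtain ⟨z, rfl⟩ := (Points.schemeEquiv W).surjective z
  have hz' : r.left z = v := by
    apply (Points.schemeEquiv V).injective
    refine Eq.trans ?_ hz
    change Points.ofScheme _ _ = Points.map _ (Points.ofScheme _ _)
    rw [← Points.ofPt_eq_map_ofScheme, ← Category.comp_id ((yon S).map r), ofPt_map]
  obtain ⟨g, hg⟩ := exists_resLift r z v hz'
  let g' : resPt z ⟶ (FieldPt.ofPt b v).pt := g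
  let q := FieldPt.ofPt ((yon S).map r ≫ b) z
  obtain ⟨_, _, _⟩ : Flat g'.left ∧ Surjective g'.left ∧ QuasiCompact g'.left :=
    faithfullyFlat_to_fieldPt (FieldPt.ofPt b v) q g'
  have : LocallyQuasiFinite w.left := lqf_of_etale w.left
  have hsub := subsingleton_fieldPt p
  have hzc : IsClosed ({z} : Set W.left) := by
    have hd := w.left.isDiscrete_preimage_singleton (w.left z)
    have huniv : w.left ⁻¹' {w.left z} = Set.univ := Set.eq_univ_of_forall fun _ =>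
      @Subsingleton.elim _ hsub _ _
    rw [huniv] at hd
    have := isDiscrete_univ_iff.1 hd
    exact isClosed_discrete _
  have : JacobsonSpace W.left := LocallyOfFiniteType.jacobsonSpace w.left
  have : IsClosedImmersion (W.left.fromSpecResidueField z) := isClosed_singleton_iff_isClosedImmersion.mp hzc
  have : LocallyOfFiniteType (resMap z ≫ w).left :=
    inferInstanceAs (LocallyOfFiniteType (W.left.fromSpecResidueField z ≫ w.left))
  refine isLocNoethSp_fibre_zigzag hX hY p.toHom (FieldPt.ofPt b v).toHom (resMap z ≫ w) g' ?_ h hQ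
  rw [FieldPt.toHom_ofPt, Functor.map_comp, Category.assoc, ← sqW.w, ← Category.assoc, ← Category.assoc,
    ← Functor.map_comp, ← Functor.map_comp, ← hg]
  rfl

theorem isFiniteMor_tfae {X Y : Sp S} (hX : IsAlgSpace X) (hY : IsAlgSpace Y) (f : X ⟶ Y) :
    [IsFiniteMor f,
      IsProperMor f ∧ LocP (@LocallyQuasiFinite ⊓ @LocallyOfFiniteType) f,
      IsProperMor f ∧
        ∀ (k : FieldPt Y) (Xk : Sp S) (fst : Xk ⟶ X) (snd : Xk ⟶ (yon S).obj k.pt),
          IsPullback fst snd f k.toHom → DiscreteTopology (Points Xk),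
      IsUnivClosedMor f ∧ IsSeparatedMor f ∧ LocP @LocallyOfFiniteType f ∧
        ∀ (k : FieldPt Y) (Xk : Sp S) (fst : Xk ⟶ X) (snd : Xk ⟶ (yon S).obj k.pt),
          IsPullback fst snd f k.toHom → DiscreteTopology (Points Xk)].TFAE := by
  tfae_have 1 → 2 := fun h => by
    refine ⟨((isFiniteMor_iff_affine_proper hX hY).1 h).2, locP_of_repWith (etLocal_inf etLocal_lqf etLocal_lft)
      (repWith_le ?_ (isFiniteMor_iff.1 h))⟩
    exact fun _ _ k (_ : IsFinite k) => ⟨inferInstanceAs (LocallyQuasiFinite k), inferInstanceAs (LocallyOfFiniteType k)⟩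
  tfae_have 2 → 3 := fun h => ⟨h.1, fun k _ _ _ sq => discreteTopology_fibre_of_lqf hX hY h.2 k sq⟩
  tfae_have 3 → 4 := fun h => ⟨h.1.2.2, h.1.1, h.1.2.1.1, h.2⟩
  tfae_have 4 → 1 := fun h =>
    isFiniteMor_of_univClosed_lqf hX hY h.1 h.2.1 (locP_lqf_of_discrete_fibres hX hY h.2.2.1 h.2.2.2)
  tfae_finish

end Groth.Agent.H13AlgSp
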