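import Groth.Agent.H13AlgSp.FibreRed
import Groth.Agent.H13AlgSp.Topology
import Groth.Agent.S1301
import Groth.Agent.S2549

/-!
The locus of geometrically reduced fibres of a morphism of algebraic spaces.
-/

set_option backward.isDefEq.respectTransparency false

universe u

open CategoryTheory CategoryTheory.Limits AlgebraicGeometry Topology Opposite
open AlgSp Groth.Agent.H12AlgSp Groth.Agent.H13AlgSp

namespace Groth.Agent.H13AlgSp.FibreRed

variable {S : Scheme.{u}} {X Y : Sp S}

theorem mem_locus_etale_comp {W U T : Scheme.{u}} (g : W ⟶ U) [Etale g] (h : U ⟶ T) (w : W) :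
    w ∈ H06GeomRed.Locus (g ≫ h) ↔ g w ∈ H06GeomRed.Locus h := by
  let v := (g ≫ h) w
  let π : (g ≫ h).fiber v ⟶ h.fiber v :=
    pullback.map (g ≫ h) (T.fromSpecResidueField v) h (T.fromSpecResidueField v) g (𝟙 _) (𝟙 _) (by simp) (by simp)
  have e : π ≫ h.fiberToSpecResidueField v = (g ≫ h).fiberToSpecResidueField v :=
    (pullback.lift_snd _ _ _).trans (Category.comp_id _)
  have hπ : IsPullback π ((g ≫ h).fiberι v) (h.fiberι v) g :=
    IsPullback.of_right (h₁₂ := h.fiberToSpecResidueField v) (v₁₃ := T.fromSpecResidueField v) (h₂₂ := h)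
      (by rw [e]; exact (IsPullback.of_hasPullback (g ≫ h) (T.fromSpecResidueField v)).flip)
      (pullback.lift_fst _ _ _) (IsPullback.of_hasPullback h _).flip
  have : Etale π := MorphismProperty.of_isPullback hπ.flip ‹Etale g›
  have hz : π ((g ≫ h).asFiber w) = h.asFiber (g w) := by
    refine (h.fiberι _).isEmbedding.injective (Eq.trans ?_ (h.fiberι_asFiber (g w)).symm)
    refine (congr($(hπ.w) ((g ≫ h).asFiber w))).trans ?_
    rw [Scheme.Hom.comp_apply, Scheme.Hom.fiberι_asFiber]
  have key := isGeomReducedAt_iff_of_etale π (h.fiberToSpecResidueField v) e ((g ≫ h).asFiber w)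
  rw [hz] at key
  exact key

theorem isConstructible_preimage (hX : IsAlgSpace X) (hY : IsAlgSpace Y) {f : X ⟶ Y}
    (hf1 : IsQuasiCompactMor f) (hf2 : LocP @LocallyOfFinitePresentation f) {V : Over S} [hV : IsAffine V.left]
    (a : (yon S).obj V ⟶ Y) (ha : RepWith @Etale a) :
    IsConstructible (Points.ofPt a ⁻¹' {y | GeomRedFib f y}) := by
  have : CompactSpace V.left := inferInstance
  have hZ : IsQuasiCompactSp ((yon S).obj V) := ⟨V, 𝟙 _, repWith_id _ _, repWith_id _ _, (this : CompactSpace V.left)⟩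
  have := compactSpace_points_of_isQuasiCompactSp
    (hf1 (IsAlgSpace.yon_obj V) hZ a _ _ (IsPullback.of_hasPullback f a))
  obtain ⟨U, l, hU, hl, hls⟩ := Groth.Agent.H12AlgSp.exists_affine_atlas (isAlgSpace_pullback hY.diag hX (IsAlgSpace.yon_obj V) f a)
  obtain ⟨h, hh⟩ := (yon S).map_surjective (l ≫ pullback.snd f a)
  have hlf := repWith_comp hl (repWith_of_isPullback (IsPullback.of_hasPullback f a).flip ha)
  have : QuasiCompact h.left := inferInstance
  have : LocallyOfFinitePresentation h.left :=
    hf2 (l ≫ pullback.fst f a) a h hlf ha (by rw [hh, Category.assoc, Category.assoc, pullback.condition])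
  have e : Points.ofPt a ⁻¹' {y | GeomRedFib f y} = {t | GeometricallyReduced (h.left.fiberToSpecResidueField t)} :=
    Set.ext fun t => geomRedFib_iff hX hY ha hlf hls hh.symm t
  rw [e]
  exact (S1301.result h.left).isConstructible

theorem isOpen_geomRedFib (hX : IsAlgSpace X) (hY : IsAlgSpace Y) {f : X ⟶ Y}
    (hf1 : LocP @Flat f) (hf2 : IsUnivClosedMor f) (hf3 : LocP @LocallyOfFinitePresentation f) :
    IsOpen {y | GeomRedFib f y} := by
  obtain ⟨T, b, hb, hbs⟩ := hY.atlas
  obtain ⟨U, l, h, hl, hls, hh, hlf, w⟩ := exists_chart_over hX hY f hb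
  have : Flat h.left := hf1 _ b h hlf hb w
  have : LocallyOfFinitePresentation h.left := hf3 _ b h hlf hb w
  have hP := isAlgSpace_pullback hY.diag hX (IsAlgSpace.yon_obj T) f b
  let L : Set U.left := H06GeomRed.Locus h.left
  have hL : IsOpen L := S2549.result h.left
  have hsat : ∀ u u' : U.left, Points.ofPt l u = Points.ofPt l u' → u ∈ L → u' ∈ L := by
    intro u u' e hu
    obtain ⟨W, g', g₀, sq⟩ := hl.rep l
    obtain ⟨g, rfl⟩ := (yon S).map_surjective g₀
    obtain ⟨z, hz1, hz2⟩ := exists_point_of_isPullback sq (Points.ofScheme U u) (Points.ofScheme U u')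
      (by rw [← Points.ofPt_eq_map_ofScheme, ← Points.ofPt_eq_map_ofScheme, e])
    obtain ⟨x, rfl⟩ := (Points.schemeHomeo W).surjective z
    rw [Points.map_yon_map_apply] at hz1 hz2
    obtain rfl := (Points.schemeHomeo U).injective hz1
    obtain rfl := (Points.schemeHomeo U).injective hz2
    have hg' : Etale g'.left := hl.property l _ g' sq
    have hg : Etale g.left := hl.property l ((yon S).map g') g sq.flip
    have e' : g ≫ h = g' ≫ h := (yon S).map_injective (by
      rw [Functor.map_comp, Functor.map_comp, ← hh, ← Category.assoc, sq.w, Category.assoc])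
    refine (mem_locus_etale_comp g'.left h.left x).1 ?_
    rw [← Over.comp_left, ← e', Over.comp_left]
    exact (mem_locus_etale_comp g.left h.left x).2 hu
  have hsurj : Function.Surjective (Points.ofPt l) := surjective_ofPt_of_repWith le_rfl hls
  have hC : IsClosed (Points.ofPt l '' Lᶜ) := by
    have : Points.ofPt l '' Lᶜ = (Points.ofPt l '' L)ᶜ := by
      ext z
      obtain ⟨u, rfl⟩ := hsurj z
      refine ⟨fun ⟨u', hu', e⟩ ⟨u'', hu'', e'⟩ => hu' (hsat _ _ (e'.trans e.symm) hu''), fun h => ?_⟩
      exact ⟨u, fun hu => h ⟨u, hu, rfl⟩, rfl⟩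
    rw [this]
    exact (isOpenMap_ofPt_of_repWith etale_le_universallyOpen hl L hL).isClosed_compl
  have hcl : IsClosedMap (Points.map (pullback.snd f b)) :=
    hf2 (IsAlgSpace.yon_obj T) b _ _ (IsPullback.of_hasPullback f b)
  have hK : IsClosed (h.left '' Lᶜ) := by
    have h1 := (hcl _ hC).preimage (Points.schemeHomeo T).continuous
    refine (congrArg IsClosed ?_).mp h1
    ext t
    simp only [Set.mem_preimage, Set.mem_image, exists_exists_and_eq_and]
    refine exists_congr fun u => and_congr_right fun _ => ?_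
    rw [Points.map_ofPt, hh, ← Category.comp_id ((yon S).map h), ofPt_map]
    exact ⟨fun e => (Points.schemeHomeo T).injective ((by
      rw [Points.ofPt_eq_map_ofScheme, Points.map_id]; rfl : Points.schemeHomeo T (h.left u) = Points.ofPt (𝟙 _) (h.left u)).trans e),
      fun e => e ▸ (by rw [Points.ofPt_eq_map_ofScheme, Points.map_id]; rfl : Points.ofPt (𝟙 _) (h.left u) = Points.schemeHomeo T (h.left u))⟩
  have hE : Points.ofPt b ⁻¹' {y | GeomRedFib f y} = (h.left '' Lᶜ)ᶜ := by
    ext t
    refine (geomRedFib_iff hX hY hb hlf hls hh t).trans ((H06GeomRed.geometricallyReduced_fiber_iff_forall h.left t).trans ?_)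
    exact ⟨fun H ⟨u, hu, e⟩ => hu (H u e), fun H u e => by_contra fun hu => H ⟨u, hu, e⟩⟩
  rw [← Set.image_preimage_eq {y | GeomRedFib f y} (surjective_ofPt_of_repWith le_rfl hbs)]
  exact isOpenMap_ofPt_of_repWith etale_le_universallyOpen hb _ (hE ▸ hK.isOpen_compl)

end Groth.Agent.H13AlgSp.FibreRed
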