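import Groth.Agent.H13AlgSp.DecentJacobson
import Groth.Agent.H28Top.Dim
import Groth.Agent.H17.Fibre
import Mathlib.AlgebraicGeometry.Artinian

/-!
Isolated points and dimension zero for spaces locally of finite type over a field (or over any
locally Noetherian Jacobson scheme).
-/

universe u

open CategoryTheory CategoryTheory.Limits AlgebraicGeometry Opposite Topology
open AlgSp Groth.Agent.H12AlgSp

namespace Groth.Agent.H13AlgSp

theorem nonneg_topologicalKrullDim (α : Type*) [TopologicalSpace α] [Nonempty α] :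
    0 ≤ topologicalKrullDim α := by
  obtain ⟨x⟩ := ‹Nonempty α›
  have : Nonempty (TopologicalSpace.IrreducibleCloseds α) :=
    ⟨⟨closure {x}, isIrreducible_singleton.closure, isClosed_closure⟩⟩
  exact Order.krullDim_nonneg

theorem nonneg_localDim {α : Type u} [TopologicalSpace α] (x : α) : 0 ≤ FlatMor.localDim α x := by
  obtain ⟨O, hxO, hO⟩ := Groth.Agent.H28Top.exists_localDim_eq x
  have : Nonempty (O : Set α) := ⟨⟨x, hxO⟩⟩
  rw [← hO]
  exact nonneg_topologicalKrullDim _

theorem localDim_eq_zero_of_isOpen {α : Type u} [TopologicalSpace α] {x : α} (h : IsOpen ({x} : Set α)) :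
    FlatMor.localDim α x = 0 := by
  refine le_antisymm ?_ (nonneg_localDim x)
  refine (Groth.Agent.H28Top.localDim_le x (U := ⟨{x}, h⟩) rfl).trans ?_
  have : Subsingleton ↥((⟨{x}, h⟩ : TopologicalSpace.Opens α) : Set α) :=
    ⟨fun a b => Subtype.ext ((a.2 : a.1 = x).trans (b.2 : b.1 = x).symm)⟩
  exact topologicalKrullDim_zero_of_discreteTopology _

/-- Open subschemes of dimension zero of locally Noetherian schemes consist of isolated points. -/
theorem isOpen_singleton_of_dim_zero {U : Scheme.{u}} [IsLocallyNoetherian U] (O : U.Opens)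
    (h : topologicalKrullDim (O : Set U) ≤ 0) {u : U} (hu : u ∈ O) : IsOpen ({u} : Set U) := by
  have : IsLocallyNoetherian O.toScheme := isLocallyNoetherian_of_etale O.ι
  have : IsLocallyArtinian O.toScheme := .of_topologicalKrullDim_le_zero h
  have ho : IsOpen ({(⟨u, hu⟩ : O.toScheme)} : Set O.toScheme) := isOpen_discrete _
  convert O.ι.isOpenEmbedding.isOpenMap _ ho using 1
  exact (Set.image_singleton (f := O.ι) (a := (⟨u, hu⟩ : O.toScheme))).symm

theorem localDim_eq_zero_iff {U : Scheme.{u}} [IsLocallyNoetherian U] (u : U) :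
    FlatMor.localDim U u = 0 ↔ IsOpen ({u} : Set U) := by
  refine ⟨fun h => ?_, localDim_eq_zero_of_isOpen⟩
  obtain ⟨O, huO, hO⟩ := Groth.Agent.H28Top.exists_localDim_eq u
  exact isOpen_singleton_of_dim_zero O (hO.trans h).le huO

section

variable {S : Scheme.{u}} {X : Sp S} {Z : Over S} [IsLocallyNoetherian Z.left] [JacobsonSpace Z.left]
  {p : X ⟶ (yon S).obj Z}

theorem chart_lft (hp : LocP @LocallyOfFiniteType p) {U : Over S}
    {a : (yon _).obj U ⟶ X} (ha : RepWith @Etale a) :
    IsLocallyNoetherian U.left ∧ JacobsonSpace U.left := by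
  obtain ⟨h, hh⟩ := (yon _).map_surjective (a ≫ p)
  have : LocallyOfFiniteType h.left := hp a (𝟙 _) h ha (repWith_id _ _) (by rw [Category.comp_id, hh])
  exact ⟨LocallyOfFiniteType.isLocallyNoetherian h.left, LocallyOfFiniteType.jacobsonSpace h.left⟩

theorem isOpen_singleton_iff_closed_maximal (hX : IsAlgSpace X) (hp : LocP @LocallyOfFiniteType p) (x : Points X) :
    IsOpen ({x} : Set (Points X)) ↔ IsClosed ({x} : Set (Points X)) ∧ ∀ x', x' ⤳ x → x' = x := by
  obtain ⟨U, a, ha, has⟩ := hX.atlas
  obtain ⟨_, _⟩ := chart_lft hp ha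
  have hsurj := surjective_ofPt_of_repWith le_rfl has
  constructor
  · intro ho
    refine ⟨?_, fun x' hx' => hx'.mem_open ho rfl⟩
    rw [← closure_subset_iff_isClosed]
    intro x' hx'
    obtain ⟨w, rfl⟩ := hsurj x'
    obtain ⟨u₀, hu₀⟩ := hsurj x
    let F := Points.ofPt a ⁻¹' {x}
    have hF : IsOpen F := ho.preimage (Points.continuous_ofPt a)
    obtain ⟨c, hcF, hc⟩ := nonempty_inter_closedPoints (Z := F) ⟨u₀, hu₀⟩ hF.isLocallyClosed
    have hclosed : ∀ v ∈ F, IsClosed ({v} : Set U.left) := fun v hv =>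
      isClosed_transfer hX ha ha hc (hcF.trans (hv : Points.ofPt a v = x).symm)
    obtain ⟨A, hA, hwA, -⟩ := exists_isAffineOpen_mem_and_subset (U := (⊤ : U.left.Opens)) (x := w) trivial
    have : IsAffine A.toScheme := hA
    have : IsLocallyNoetherian A.toScheme := isLocallyNoetherian_of_etale A.ι
    have : IsNoetherian A.toScheme := {}
    obtain ⟨m, ⟨hmA, hm⟩⟩ : ((A : Set U.left) ∩ F).Nonempty := by
      obtain ⟨y, ⟨m, hmA, rfl⟩, hy⟩ := mem_closure_iff.1 hx' _
        (isOpenMap_ofPt_of_repWith etale_le_universallyOpen ha _ A.isOpen) ⟨w, hwA, rfl⟩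
      exact ⟨m, hmA, hy⟩
    have hfin : ((A : Set U.left) ∩ F).Finite := by
      let F' : Set A.toScheme := A.ι ⁻¹' F
      have : DiscreteTopology F' := by
        refine discreteTopology_iff_isOpen_singleton.2 fun v => ?_
        have hv : IsOpen ({v.1} : Set A.toScheme) := by
          refine Groth.Agent.H17.isOpen_singleton_of_isClosed ?_ fun y hy => ?_
          · have := (hclosed (A.ι v.1) v.2).preimage A.ι.continuous
            rwa [← Set.image_singleton, Set.preimage_image_eq _ A.ι.isOpenEmbedding.injective] at this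
          · have hyF : A.ι y ∈ F := (hy.map A.ι.continuous).mem_open hF v.2
            exact A.ι.isOpenEmbedding.injective
              ((hy.map A.ι.continuous).mem_closed (hclosed _ hyF) rfl).symm
        convert hv.preimage continuous_subtype_val using 1
        ext z; simp [Subtype.ext_iff]
      have : CompactSpace F' := isCompact_iff_compactSpace.1 (TopologicalSpace.NoetherianSpace.isCompact _)
      have : Finite F' := finite_of_compact_of_discrete
      refine ((F'.toFinite).image fun v => A.ι v).subset ?_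
      rintro v ⟨hvA, hvF⟩
      exact ⟨⟨v, hvA⟩, hvF, rfl⟩
    by_contra hne
    have hC : IsClosed ((A : Set U.left) ∩ F) :=
      (Set.biUnion_of_singleton ((A : Set U.left) ∩ F)) ▸ hfin.isClosed_biUnion fun v hv => hclosed v hv.2
    obtain ⟨y, ⟨m', ⟨hm'A, hm'⟩, rfl⟩, hy⟩ := mem_closure_iff.1 hx' _
      (isOpenMap_ofPt_of_repWith etale_le_universallyOpen ha _ (A.isOpen.sdiff hC))
      ⟨w, ⟨hwA, fun h => hne h.2⟩, rfl⟩
    exact hm' ⟨hm'A, hy⟩
  · rintro ⟨hc, hmax⟩
    have hF : IsOpen (Points.ofPt a ⁻¹' {x}) := by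
      refine isOpen_iff_forall_mem_open.2 fun u hu => ?_
      obtain ⟨c, hcF, hcc⟩ := nonempty_inter_closedPoints (Z := Points.ofPt a ⁻¹' {x}) ⟨u, hu⟩
        (hc.preimage (Points.continuous_ofPt a)).isLocallyClosed
      have hclosed : ∀ v ∈ Points.ofPt a ⁻¹' {x}, IsClosed ({v} : Set U.left) := fun v hv =>
        isClosed_transfer hX ha ha hcc (hcF.trans (hv : Points.ofPt a v = x).symm)
      refine ⟨{u}, Set.singleton_subset_iff.2 hu, ?_, rfl⟩
      refine Groth.Agent.H17.isOpen_singleton_of_isClosed (hclosed u hu) fun y hy => ?_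
      have hyF : Points.ofPt a y = x := hmax _ ((hy.map (Points.continuous_ofPt a)).trans (specializes_of_eq hu))
      exact (hy.mem_closed (hclosed y hyF) rfl).symm
    have := isOpenMap_ofPt_of_repWith etale_le_universallyOpen ha _ hF
    rwa [Set.image_preimage_eq _ hsurj] at this

theorem isOpen_singleton_iff_hasAt (hX : IsAlgSpace X) (hp : LocP @LocallyOfFiniteType p) (x : Points X) :
    IsOpen ({x} : Set (Points X)) ↔ HasAt (fun U u => FlatMor.localDim ↥U u = 0) X x := by
  constructor
  · intro ho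
    obtain ⟨U, a, ha, has⟩ := hX.atlas
    obtain ⟨_, _⟩ := chart_lft hp ha
    obtain ⟨hxc, hmax⟩ := (isOpen_singleton_iff_closed_maximal hX hp x).1 ho
    obtain ⟨u₀, hu₀⟩ := surjective_ofPt_of_repWith le_rfl has x
    obtain ⟨c, hcF, hc⟩ := nonempty_inter_closedPoints (Z := Points.ofPt a ⁻¹' {x}) ⟨u₀, hu₀⟩
      (ho.preimage (Points.continuous_ofPt a)).isLocallyClosed
    refine ⟨U, a, c, ha, hcF, (localDim_eq_zero_iff c).2 (Groth.Agent.H17.isOpen_singleton_of_isClosed hc fun y hy => ?_)⟩
    have hyF : Points.ofPt a y = x := (hy.map (Points.continuous_ofPt a)).trans (specializes_of_eq hcF) |> hmax _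
    have hyc : IsClosed ({y} : Set U.left) := isClosed_transfer hX ha ha hc (hcF.trans hyF.symm)
    exact (hy.mem_closed hyc rfl).symm
  · rintro ⟨U, a, u, ha, rfl, hu⟩
    obtain ⟨_, _⟩ := chart_lft hp ha
    have := isOpenMap_ofPt_of_repWith etale_le_universallyOpen ha _ ((localDim_eq_zero_iff u).1 hu)
    rwa [Set.image_singleton] at this

theorem isOpen_singleton_of_localDim_points (hX : IsAlgSpace X) (hp : LocP @LocallyOfFiniteType p)
    (hd : IsDecent X) {x : Points X} (h : FlatMor.localDim (Points X) x = 0) :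
    IsOpen ({x} : Set (Points X)) := by
  have := quasiSober_of_isDecent hX hd
  have := t0Space_points hX hd
  obtain ⟨W, hxW, hW⟩ := Groth.Agent.H28Top.exists_localDim_eq x
  obtain ⟨U, a, ha, has⟩ := hX.atlas
  obtain ⟨_, _⟩ := chart_lft hp ha
  obtain ⟨u, rfl⟩ := surjective_ofPt_of_repWith le_rfl has x
  let O : U.left.Opens := ⟨Points.ofPt a ⁻¹' W, W.2.preimage (Points.continuous_ofPt a)⟩
  have : QuasiSober (W : Set (Points X)) := W.2.isOpenEmbedding_subtypeVal.quasiSober
  have : QuasiSober (O : Set U.left) := O.2.isOpenEmbedding_subtypeVal.quasiSober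
  let f : ↥(O : Set U.left) → ↥(W : Set (Points X)) := fun v => ⟨Points.ofPt a v.1, v.2⟩
  have hdim : topologicalKrullDim (O : Set U.left) ≤ 0 := by
    refine le_trans (Groth.Agent.H17.topologicalKrullDim_le_of_noSpecializationsInFibres f
      (((Points.continuous_ofPt a).comp continuous_subtype_val).subtype_mk _) fun v w hvw e => ?_) (hW.trans h).le
    exact Subtype.ext (eq_of_specializes_chart hd ha (hvw.map continuous_subtype_val)
      (congrArg Subtype.val e).symm).symm
  have := isOpenMap_ofPt_of_repWith etale_le_universallyOpen ha _ (isOpen_singleton_of_dim_zero O hdim (u := u) hxW)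
  rwa [Set.image_singleton] at this

theorem discreteTopology_points_iff (hX : IsAlgSpace X) (hp : LocP @LocallyOfFiniteType p)
    [Nonempty (Points X)] : DiscreteTopology (Points X) ↔ dim X = 0 := by
  constructor
  · intro hdisc
    refine le_antisymm (iSup_le fun U => iSup₂_le fun a ha => ?_) ?_
    · obtain ⟨_, _⟩ := chart_lft hp ha
      have hclosed : ∀ v : U.left, IsClosed ({v} : Set U.left) := fun v => by
        obtain ⟨c, hcF, hc⟩ := nonempty_inter_closedPoints (Z := Points.ofPt a ⁻¹' {Points.ofPt a v}) ⟨v, rfl⟩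
          ((isClosed_discrete _).preimage (Points.continuous_ofPt a)).isLocallyClosed
        exact isClosed_transfer hX ha ha hc hcF
      have := Groth.Agent.H17.discreteTopology_of_isClosed_singleton hclosed
      exact topologicalKrullDim_zero_of_discreteTopology _
    · obtain ⟨U, a, ha, has⟩ := hX.atlas
      obtain ⟨x⟩ := ‹Nonempty (Points X)›
      obtain ⟨u, -⟩ := surjective_ofPt_of_repWith le_rfl has x
      have : Nonempty U.left := ⟨u⟩
      exact le_iSup_of_le U (le_iSup₂_of_le a ha (nonneg_topologicalKrullDim _))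
  · intro h
    obtain ⟨U, a, ha, has⟩ := hX.atlas
    obtain ⟨_, _⟩ := chart_lft hp ha
    have hU : topologicalKrullDim U.left ≤ 0 := h ▸ le_iSup_of_le U (le_iSup₂_of_le a ha le_rfl)
    have : IsLocallyArtinian U.left := .of_topologicalKrullDim_le_zero hU
    refine discreteTopology_iff_isOpen_singleton.2 fun x => ?_
    obtain ⟨u, rfl⟩ := surjective_ofPt_of_repWith le_rfl has x
    have := isOpenMap_ofPt_of_repWith etale_le_universallyOpen ha _ (isOpen_discrete {u})
    rwa [Set.image_singleton] at this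

theorem etaleLocally_jacobson_of_lft (hX : IsAlgSpace X) (hp : LocP @LocallyOfFiniteType p) :
    EtaleLocally (fun U => JacobsonSpace ↥U) X := by
  obtain ⟨U, a, ha, has⟩ := hX.atlas
  exact ⟨U, a, ha, has, (chart_lft hp ha).2⟩

end

end Groth.Agent.H13AlgSp
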