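import Groth.Agent.H12AlgSp.FinLocFreeQuot
import Groth.Agent.H12AlgSp.FppfQuot
import Groth.Agent.H13AlgSp.KernelPairGrpd
import Groth.Agent.H13AlgSp.DecentDense

/-!
A sheaf with a finite locally free cover by a scheme is a scheme when the orbits lie in affine opens.
-/

set_option backward.isDefEq.respectTransparency false

universe u

open CategoryTheory CategoryTheory.Limits AlgebraicGeometry Opposite
open AlgSp Groth.Agent.H12AlgSp

namespace Groth.Agent.H13AlgSp

variable {S : Scheme.{u}}

/-- Representability descends along finite locally free covers with orbits in affine opens. -/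
theorem exists_iso_of_finLocFree_cover {F : Sp S} {U : Over S} {e : (yon S).obj U ⟶ F}
    (hfin : RepWith @IsFinite e) (hfl : RepWith @Flat e) (hfp : RepWith @LocallyOfFinitePresentation e)
    (hs : RepWith @Surjective e)
    (hb : ∀ x : U.left, ∃ V : U.left.Opens, IsAffineOpen V ∧
      ∀ y : U.left, Points.ofPt e y = Points.ofPt e x → y ∈ V) :
    ∃ M : Over S, Nonempty ((yon S).obj M ≅ F) := by
  obtain ⟨R, s, t', sq⟩ := hfin.rep e
  obtain ⟨t, rfl⟩ := (yon S).map_surjective t'
  have : IsFinite (kernelPairGrpd sq).s := hfin.property _ _ s sq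
  have : Flat (kernelPairGrpd sq).s := hfl.property _ _ s sq
  have : LocallyOfFinitePresentation (kernelPairGrpd sq).s := hfp.property _ _ s sq
  have : Mono (kernelPairGrpd sq).j := mono_kernelPairGrpd_j sq
  obtain ⟨M, m, hm1, hm2, hm3, sqm, hq⟩ := exists_finLocFree_quotient (kernelPairGrpd sq) (fun x => by
    obtain ⟨V, hV, hxV⟩ := hb x
    refine ⟨V, hV, ?_⟩
    rintro _ ⟨r, hr, rfl⟩
    refine hxV _ ?_
    rw [← show s.left r = x from hr]
    exact ofPt_target_eq_source sq r)
  let m' : U ⟶ M := m
  have hms : Surjective m'.left := surjective_of_isQuotient hq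
  have sqy := (IsPullback.of_map_of_faithful (Over.forget S) (sqm : IsPullback t.left s.left m'.left m'.left) :
    IsPullback t s m' m').map (yon S)
  have : Epi e := epi_of_repWith_fppf ⟨hfin.1, fun T V g fst snd sqV =>
    ⟨⟨hs.property g fst snd sqV, hfl.property g fst snd sqV⟩, hfp.property g fst snd sqV⟩⟩
  have : Epi ((yon S).map m') := epi_of_repWith_fppf ((repWith_yon_map_iff _ m').2 ⟨⟨hms, hm2⟩, hm3⟩)
  have : IsRegularEpi ((yon S).map m') := IsRegularEpiCategory.regularEpiOfEpi _
  have : IsRegularEpi e := IsRegularEpiCategory.regularEpiOfEpi e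
  exact ⟨M, ⟨(IsKernelPair.toCoequalizer' sqy).coconePointUniqueUpToIso (IsKernelPair.toCoequalizer' sq)⟩⟩

/-- Universally injective finite locally free covers. -/
theorem exists_iso_of_finLocFree_radicial_cover {F : Sp S} {U : Over S} {e : (yon S).obj U ⟶ F}
    (hfin : RepWith @IsFinite e) (hfl : RepWith @Flat e) (hfp : RepWith @LocallyOfFinitePresentation e)
    (hs : RepWith @Surjective e) (hinj : Function.Injective (Points.ofPt e)) :
    ∃ M : Over S, Nonempty ((yon S).obj M ≅ F) :=
  exists_iso_of_finLocFree_cover hfin hfl hfp hs fun x => by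
    obtain ⟨V, hV, hxV, -⟩ := exists_isAffineOpen_mem_and_subset (TopologicalSpace.Opens.mem_top x)
    exact ⟨V, hV, fun y hy => hinj hy ▸ hxV⟩

end Groth.Agent.H13AlgSp
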