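import Groth.Agent.H13AlgSp.QfFinite
import Groth.Agent.H13AlgSp.DecentJacobson
import Groth.Agent.H13AlgSp.InductionPrinciple
import Groth.Agent.H12AlgSp.QSApps
import Groth.Agent.H12AlgSp.FinPres
import Groth.Agent.H12AlgSp.QFFinite
import Groth.Agent.H12AlgSp.AffineMor

/-!
# A finite fibre over a point of codimension zero
-/

set_option autoImplicit false
set_option backward.isDefEq.respectTransparency false
set_option linter.style.haveILetI false

universe u

open CategoryTheory CategoryTheory.Limits AlgebraicGeometry Opposite Topology TopologicalSpace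
open AlgSp Groth.Agent.H12AlgSp Groth.Agent.H13AlgSp

namespace Groth.Agent.H13AlgSp.FiniteFibreCodimZero

variable {S : Scheme.{u}}

theorem discreteTopology_of_finite_jacobson {α : Type*} [TopologicalSpace α] [Finite α] [JacobsonSpace α] :
    DiscreteTopology α := by
  have hc : closedPoints α = Set.univ := by
    have hfin : IsClosed (closedPoints α) := by
      rw [show closedPoints α = ⋃ x ∈ closedPoints α, ({x} : Set α) from (Set.biUnion_of_singleton _).symm]
      exact (Set.toFinite _).isClosed_biUnion fun x hx => hx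
    have := closure_closedPoints (X := α)
    rwa [hfin.closure_eq] at this
  have : T1Space α := ⟨fun x => hc.ge (Set.mem_univ x)⟩
  infer_instance

theorem qfAt_of_finite_fibre {X Y : Sp S} (hX : IsAlgSpace X) (hY : IsAlgSpace Y) {f : X ⟶ Y}
    (hf : LocP @LocallyOfFiniteType f) (hdY : IsDecent Y) (hdX : IsDecent X) {y : Points Y}
    (hfin : (Points.map f ⁻¹' {y}).Finite) {x : Points X} (hx : Points.map f x = y) : QfAt f x := by
  obtain ⟨r₀, X₀, fst, snd, φ, sq, rfl, hX₀, hl, hd₀, hφ⟩ := exists_fibre_homeo hX hY hf hdY y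
  have : Finite ↥(Points.map f ⁻¹' {Points.mk r₀}) := hfin.to_subtype
  have : Finite (Points X₀) := Finite.of_injective φ φ.injective
  have hJ : EtaleLocally (fun U => JacobsonSpace ↥U) X₀ := by
    obtain ⟨U, a, ha, has⟩ := hX₀.atlas
    obtain ⟨h, hh⟩ := (yon S).map_surjective (a ≫ snd)
    have : LocallyOfFiniteType h.left := hl a (𝟙 _) h ha (repWith_id _ r₀.pt) (by rw [Category.comp_id, hh])
    have : JacobsonSpace ↥r₀.pt.left := inferInstanceAs (JacobsonSpace (PrimeSpectrum r₀.K))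
    exact ⟨U, a, ha, has, LocallyOfFiniteType.jacobsonSpace h.left⟩
  have := jacobsonSpace_points hX₀ (hd₀ hdX) hJ
  have := discreteTopology_of_finite_jacobson (α := Points X₀)
  obtain ⟨z, hz⟩ := φ.surjective ⟨x, hx⟩
  have := (isOpen_singleton_fibre_iff hX hY hf r₀ sq z).1 (isOpen_discrete _)
  rwa [← hφ, hz] at this

theorem exists_finite_restriction [QuasiSeparatedSpace ↥S] {X Y : Sp S} (hX : IsAlgSpace X) (hY : IsAlgSpace Y) {f : X ⟶ Y}
    (hqs : IsQuasiSeparatedMor f) (hft : LocP @LocallyOfFiniteType f) (hYq : IsQuasiSeparatedSp Y)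
    {y : Points Y} (hy : CodimZero Y y) (hfin : (Points.map f ⁻¹' {y}).Finite) :
    ∃ (X' Y' : Sp S) (_ : IsAlgSpace X') (_ : IsAlgSpace Y') (i : X' ⟶ X) (j : Y' ⟶ Y) (f' : X' ⟶ Y'),
      RepWith @IsOpenImmersion i ∧ RepWith @IsOpenImmersion j ∧ f' ≫ j = i ≫ f ∧
        y ∈ Set.range (Points.map j) ∧ Points.map f ⁻¹' {y} ⊆ Set.range (Points.map i) ∧ IsFiniteMor f' := by
  have hXq : IsQuasiSeparatedSp X := isQuasiSeparatedSp_of_mor hqs hYq
  have hqf : ∀ x, Points.map f x = y → QfAt f x := fun x hx =>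
    qfAt_of_finite_fibre hX hY hft (isDecent_of_isQuasiSeparatedSp hY hYq)
      (isDecent_of_isQuasiSeparatedSp hX hXq) hfin hx
  obtain ⟨ι, T, a, hT, ha, -, hcov⟩ := exists_affine_family_over hX
  choose k hk using hcov
  let O : Set (Points X) := ⋃ x ∈ Points.map f ⁻¹' {y}, Set.range (Points.ofPt (a (k x)))
  have hO : IsOpen O := isOpen_biUnion fun x _ => (isOpenMap_ofPt_of_repWith etale_le_universallyOpen (ha _)).isOpen_range
  have hOc : IsCompact O := hfin.isCompact_biUnion fun x _ => by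
    have : IsAffine (T (k x)).left := hT _
    exact isCompact_range (Points.continuous_ofPt _)
  obtain ⟨X₁, j₁, hX₁, hj₁, hr₁⟩ := exists_open_subspace hX hO
  haveI := mono_of_openImmersion hj₁
  have hq₁ : IsQuasiCompactSp X₁ := isQuasiCompactSp_of_isCompact_range hX₁ hj₁ (hr₁ ▸ hOc)
  have hqs₁ : IsQuasiSeparatedMor (j₁ ≫ f) := MorphismProperty.comp_mem (RepWith (S := S) @QuasiCompact).diagonal _ _
    (isQuasiSeparatedMor_of_isSeparatedMor (isSeparatedMor_of_mono j₁)) hqs
  have hlft₁ : LocP @LocallyOfFiniteType (j₁ ≫ f) :=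
    Groth.Agent.H12AlgSp.locP_comp etLocal_lft hX₁ hX hY (locP_of_repWith etLocal_lft
      (repWith_le (fun _ _ g (_ : IsOpenImmersion g) => inferInstanceAs (LocallyOfFiniteType g)) hj₁)) hft
  have hqf₁ : ∀ z, Points.map (j₁ ≫ f) z = y → QfAt (j₁ ≫ f) z := fun z hz =>
    nbhd_comp_of_openImmersion (etLocal_inf etLocal_lqf.{u} etLocal_lft.{u}) hX₁ hY hj₁
      (hqf _ (by rwa [← Points.map_comp]))
  obtain ⟨W, hW, hyW, hfinW⟩ := QfFinite.exists_finite_nbhd hX₁ hY (j₁ ≫ f) hqs₁
    ⟨hlft₁, isQuasiCompactMor_of_qc_qs hX₁ hY _ hq₁ hYq⟩ y hy hqf₁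
  have sq := IsPullback.of_hasPullback (openSubι W) (j₁ ≫ f)
  have hjW := repWith_openSubι (X := Y) hW
  have hYW : IsAlgSpace (openSub W) := isAlgSpace_of_representable _ hjW.1 hY
  refine ⟨_, _, isAlgSpace_of_isPullback hY.diag hYW hX₁ sq, hYW, pullback.snd _ _ ≫ j₁, openSubι W,
    pullback.fst _ _, repWith_comp (repWith_of_isPullback sq hjW) hj₁, hjW, by rw [sq.w, Category.assoc],
    by rw [range_openSubι hY W]; exact hyW, fun x hx => ?_, hfinW⟩
  obtain ⟨z, rfl⟩ : x ∈ Set.range (Points.map j₁) := by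
    rw [hr₁]
    exact Set.mem_biUnion hx (hk x)
  obtain ⟨w, hw⟩ := hyW' hY W hyW
  obtain ⟨p, -, hp⟩ := exists_point_of_isPullback sq w z (by
    rw [hw, Points.map_comp]; exact hx.symm)
  exact ⟨p, by rw [Points.map_comp, hp]⟩
where
  hyW' {Y : Sp S} (hY : IsAlgSpace Y) (W : Set (Points Y)) {y : Points Y} (h : y ∈ W) :
      ∃ w, Points.map (openSubι W) w = y := (range_openSubι hY W).ge h

theorem finite_fibre_of_restriction {X Y X' Y' : Sp S} (hX' : IsAlgSpace X') (hY' : IsAlgSpace Y')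
    {f : X ⟶ Y} {i : X' ⟶ X} {j : Y' ⟶ Y} {f' : X' ⟶ Y'} (hj : RepWith @IsOpenImmersion j)
    (w : f' ≫ j = i ≫ f) {y : Points Y} (hy : y ∈ Set.range (Points.map j))
    (hsub : Points.map f ⁻¹' {y} ⊆ Set.range (Points.map i)) (hf' : IsFiniteMor f') :
    (Points.map f ⁻¹' {y}).Finite := by
  obtain ⟨y', rfl⟩ := hy
  haveI := mono_of_openImmersion hj
  have h' := isFiniteMor_iff.1 hf'
  have hl : LocP (@LocallyQuasiFinite ⊓ @LocallyOfFiniteType) f' :=
    locP_of_repWith (etLocal_inf etLocal_lqf etLocal_lft)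
      (repWith_le (fun _ _ g (_ : IsFinite g) => ⟨inferInstance, inferInstance⟩) h')
  have hft : IsFiniteTypeMor f' := ⟨locP_of_repWith etLocal_lft
      (repWith_le (fun _ _ g (_ : IsFinite g) => inferInstanceAs (LocallyOfFiniteType g)) h'),
    isQuasiCompactMor_of_repWith hX' hY' (repWith_le (fun _ _ g (_ : IsFinite g) => inferInstanceAs (QuasiCompact g)) h')⟩
  refine ((finite_lqf_fibre hX' hY' hft y').image (Points.map i)).subset fun x hx => ?_
  obtain ⟨z, rfl⟩ := hsub hx
  refine ⟨z, ⟨injective_map_of_mono j ?_, (locP_iff_forall_nbhd (etLocal_inf etLocal_lqf etLocal_lft) hX' hY' f').1 hl z⟩, rfl⟩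
  rw [← Points.map_comp, w, Points.map_comp]
  exact hx

end Groth.Agent.H13AlgSp.FiniteFibreCodimZero
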