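import Groth.Agent.H12AlgSp.SchImage
import Groth.Agent.H12AlgSp.UnivInj
import Groth.Agent.H12AlgSp.LocP
import Groth.Agent.H8Props.ImageTorsionFree
import Groth.Agent.H28Neron.ClosureSubgroup
import Groth.Prelude.Def_Neron

/-!
# The flat closure of a closed subspace of the generic fibre over a Dedekind domain
-/

set_option autoImplicit false
set_option backward.isDefEq.respectTransparency false
set_option linter.style.haveILetI false

universe u

open CategoryTheory CategoryTheory.Limits AlgebraicGeometry Opposite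
open AlgSp Groth.Agent.H12AlgSp Groth.Agent.H13AlgSp Groth.Agent.H13Cartier

namespace Groth.Agent.H13AlgSp.FlatClosure

variable {R : Type u} [CommRing R]

local notation "SS" => Spec (CommRingCat.of R)

theorem repWith_id_pt (P : MorphismProperty Scheme.{u}) [P.IsStableUnderBaseChange] [P.ContainsIdentities]
    (W : Over SS) : RepWith P (𝟙 ((yon SS).obj W)) := by
  rw [← (yon _).map_id]
  exact (repWith_yon_map_iff P (𝟙 W)).2 (MorphismProperty.id_mem P W.left)

theorem exists_flatClosure [IsDedekindDomain R] {Y YK H Z : Sp SS} (hY : IsAlgSpace Y)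
    (hYK : IsAlgSpace YK) (hH : IsAlgSpace H) (hZ' : IsAlgSpace Z)
    {pY : Y ⟶ (yon SS).obj (Over.mk (𝟙 SS))} {pr : YK ⟶ Y}
    {qK : YK ⟶ (yon SS).obj (Over.mk (Neron.genPt R))}
    (sqY : IsPullback pr qK pY ((yon SS).map (Over.mkIdTerminal.from (Over.mk (Neron.genPt R)))))
    {k : H ⟶ YK} (hk : RepWith @IsClosedImmersion k) {i : Z ⟶ Y} (hZ : IsSchImage (k ≫ pr) i) :
    LocP @Flat (i ≫ pY) ∧ (∃ m : H ⟶ Z, m ≫ i = k ≫ pr ∧ IsPullback m k i pr) ∧
    ∀ (Z' : Sp SS) (_ : IsAlgSpace Z') (i' : Z' ⟶ Y) (m' : H ⟶ Z'),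
      RepWith @IsClosedImmersion i' → LocP @Flat (i' ≫ pY) → IsPullback m' k i' pr →
        ∃ e : Z ≅ Z', e.hom ≫ i' = i := by
  haveI : IsPreimmersion (Neron.genPt R) := IsPreimmersion.of_isLocalization (nonZeroDivisors R)
  haveI : Flat (Neron.genPt R) :=
    (HasRingHomProperty.Spec_iff (P := @Flat)).2
      (RingHom.flat_algebraMap_iff.2 (IsLocalization.flat _ (nonZeroDivisors R)))
  obtain ⟨U, p, hp, hps⟩ := hY.atlas
  let K : Over SS := Over.mk (Neron.genPt R)
  let T : Over SS := Over.mk (pullback.fst U.hom (Neron.genPt R) ≫ U.hom)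
  let a : T ⟶ U := Over.homMk (pullback.fst U.hom (Neron.genPt R)) rfl
  let b : T ⟶ K := Over.homMk (pullback.snd U.hom (Neron.genPt R)) pullback.condition.symm
  let tU : U ⟶ Over.mk (𝟙 SS) := Over.mkIdTerminal.from U
  obtain ⟨kU, hkU⟩ := (yon SS).map_surjective (p ≫ pY)
  obtain rfl : kU = tU := Over.mkIdTerminal.hom_ext _ _
  have hO : IsPullback a b tU (Over.mkIdTerminal.from K) := by
    refine IsPullback.of_map (Over.forget _) (Over.mkIdTerminal.hom_ext _ _) ?_
    have h1 : tU.left = U.hom := by simpa using Over.w tU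
    have h2 : (Over.mkIdTerminal.from K).left = K.hom := by simpa using Over.w (Over.mkIdTerminal.from K)
    simp only [Over.forget_map]
    rw [h1, h2]
    exact IsPullback.of_hasPullback U.hom (Neron.genPt R)
  have big := hO.map (yon SS)
  rw [hkU] at big
  let c : (yon SS).obj T ⟶ YK := sqY.lift ((yon SS).map a ≫ p) ((yon SS).map b) (by
    rw [Category.assoc]; exact big.w)
  have hsq : IsPullback ((yon SS).map a) c p pr :=
    (IsPullback.of_right (by rw [sqY.lift_snd]; exact big.flip) (sqY.lift_fst _ _ _) sqY.flip).flip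
  have hc : RepWith @Etale c := repWith_of_isPullback hsq hp
  have hcs : RepWith @Surjective c := repWith_of_isPullback hsq hps
  obtain ⟨J, hJ⟩ := exists_cutsOut hk c
  obtain ⟨l, sqJ⟩ := hJ
  have hJ : CutsOut k c J := ⟨l, sqJ⟩
  let w₀ : subOver T J ⟶ U := subIncl T J ≫ a
  have sqW : IsPullback l ((yon SS).map w₀) (k ≫ pr) p := by
    rw [Functor.map_comp]
    exact sqJ.paste_vert hsq.flip
  let a' : (yon SS).obj (subOver T J) ⟶ pullback (k ≫ pr) p := sqW.isoPullback.hom
  have hatl : IsBcAtlas (k ≫ pr) p a' w₀ :=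
    ⟨repWith_of_isIso a', repWith_of_isIso a', sqW.isoPullback_hom_snd⟩
  haveI : QuasiCompact (pullback.fst U.hom (Neron.genPt R)) :=
    MorphismProperty.pullback_fst (P := @QuasiCompact) _ _ inferInstance
  haveI : QuasiCompact w₀.left := inferInstanceAs (QuasiCompact (J.subschemeι ≫ pullback.fst U.hom (Neron.genPt R)))
  have hI : CutsOut i p w₀.left.ker := hatl.cutsOut hY hp hps hZ' hZ
  set I := w₀.left.ker with hIdef
  -- the generic fibre of the closure
  have hcomap : I.comap a.left = J := by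
    haveI : Flat a.left := MorphismProperty.pullback_fst (P := @Flat) _ _ inferInstance
    haveI : Mono a.left := inferInstanceAs (Mono (pullback.fst U.hom (Neron.genPt R)))
    have hp0 : IsPullback J.subschemeι (𝟙 _) a.left w₀.left :=
      (IsPullback.of_horiz_isIso_mono (fst := 𝟙 _) (snd := J.subschemeι) (f := w₀.left) (g := a.left)
        ⟨Category.id_comp _⟩).flip
    rw [hIdef, comap_ker_of_flat hp0, Scheme.IdealSheafData.ker_subschemeι]
  obtain ⟨f', hf'⟩ := hZ.2.1
  have cut' : ∀ {Z₁ : Sp SS} {i₁ : Z₁ ⟶ Y} {P : Sp SS} {fst : P ⟶ Z₁} {snd : P ⟶ YK}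
      {I₁ : U.left.IdealSheafData}, CutsOut i₁ p I₁ → IsPullback fst snd i₁ pr →
      CutsOut snd c (I₁.comap a.left) := by
    intro Z₁ i₁ P fst snd I₁ h₁ hP
    refine cutsOut_of_isPullback hP ?_
    rw [← hsq.w]
    exact h₁.comap a
  refine ⟨?_, ⟨f', hf', ?_⟩, fun Z' hZZ i' m' hi' hflat hsq' => ?_⟩
  · obtain ⟨q, sqI⟩ := hI
    have hid : RepWith @Etale (𝟙 ((yon SS).obj (Over.mk (𝟙 SS)))) := repWith_id_pt _ _
    refine locP_of_one_chart etLocal_flat (Over.mkIdTerminal.from (subOver U I))
      (repWith_of_isPullback sqI.flip hp) (repWith_of_isPullback sqI.flip hps) hid ?_ ?_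
    · rw [Category.comp_id, reassoc_of% sqI.w, ← hkU, ← Functor.map_comp,
        show subIncl U I ≫ tU = Over.mkIdTerminal.from _ from Over.mkIdTerminal.hom_ext _ _]
    · have e : (Over.mkIdTerminal.from (subOver U I)).left = I.subschemeι ≫ U.hom := by
        simpa using Over.w (Over.mkIdTerminal.from (subOver U I))
      rw [e]
      have : Flat (w₀.left ≫ U.hom) := by
        change Flat ((J.subschemeι ≫ pullback.fst U.hom (Neron.genPt R)) ≫ U.hom)
        rw [Category.assoc, pullback.condition, ← Category.assoc]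
        haveI := flat_to_field (J.subschemeι ≫ pullback.snd U.hom (Neron.genPt R))
        infer_instance
      exact Groth.Agent.H8Props.ImageTorsionFree.flat_imageι U.hom w₀.left
  · have sqP := IsPullback.of_hasPullback i pr
    have hPi : RepWith @IsClosedImmersion (pullback.snd i pr) := repWith_of_isPullback sqP hZ.1
    have hPsp : IsAlgSpace (pullback i pr) := isAlgSpace_pullback hY.diag hZ' hYK i pr
    have hcut := cut' hI sqP
    rw [hcomap] at hcut
    obtain ⟨u₁, hu₁⟩ := (factor_iff_le hH hc hcs hPi hcut hJ).2 le_rfl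
    obtain ⟨u₂, hu₂⟩ := (factor_iff_le hPsp hc hcs hk hJ hcut).2 le_rfl
    haveI := mono_of_closedImmersion hk
    haveI := mono_of_closedImmersion hPi
    haveI := mono_of_closedImmersion hZ.1
    let e : H ≅ pullback i pr := ⟨u₁, u₂, by rw [← cancel_mono k, Category.assoc, hu₂, hu₁, Category.id_comp],
      by rw [← cancel_mono (pullback.snd i pr), Category.assoc, hu₁, hu₂, Category.id_comp]⟩
    refine IsPullback.of_iso_pullback ⟨hf'⟩ e ?_ hu₁
    rw [← cancel_mono i, Category.assoc, pullback.condition, reassoc_of% hu₁, hf']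
  · obtain ⟨k₁, hk₁⟩ := hZ.2.2 i' hZZ hi' ⟨m', hsq'.w⟩
    obtain ⟨J', hJ'⟩ := exists_cutsOut hi' p
    have hgen : J'.comap a.left = J := (cut' hJ' hsq').unique hJ
    obtain ⟨q', sqI'⟩ := hJ'
    have hJ' : CutsOut i' p J' := ⟨q', sqI'⟩
    have hle : I ≤ J' := by
      have e : (Over.mkIdTerminal.from (subOver U J')).left = J'.subschemeι ≫ U.hom := by
        simpa using Over.w (Over.mkIdTerminal.from (subOver U J'))
      haveI : Flat (J'.subschemeι ≫ U.hom) := e ▸ hflat q' (𝟙 _) (Over.mkIdTerminal.from (subOver U J'))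
        (repWith_of_isPullback sqI'.flip hp) (repWith_id_pt _ _) (by
          rw [Category.comp_id, reassoc_of% sqI'.w, ← hkU, ← Functor.map_comp,
            show subIncl U J' ≫ tU = Over.mkIdTerminal.from _ from Over.mkIdTerminal.hom_ext _ _])
      let t := pullback.fst (J'.subschemeι ≫ U.hom) (Neron.genPt R)
      let v : pullback (J'.subschemeι ≫ U.hom) (Neron.genPt R) ⟶ T.left :=
        pullback.lift (t ≫ J'.subschemeι) (pullback.snd _ _) (by rw [Category.assoc, pullback.condition])
      have hv : v ≫ a.left = t ≫ J'.subschemeι := pullback.lift_fst _ _ _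
      obtain ⟨g, hg⟩ := (Groth.Agent.H14AlgSt.comap_eq_bot_iff_factors J v).1 (by
        rw [← hgen, ← Scheme.IdealSheafData.comap_comp, hv]
        exact (Groth.Agent.H14AlgSt.comap_eq_bot_iff_factors J' _).2 ⟨t, rfl⟩)
      have h1 : g ≫ w₀.left = t ≫ J'.subschemeι := by
        rw [← hv, ← hg]; simp [w₀]
      calc I ≤ (g ≫ w₀.left).ker := Scheme.Hom.le_ker_comp _ _
        _ = (t ≫ J'.subschemeι).ker := by rw [h1]
        _ = J' := by
          rw [Scheme.Hom.ker_comp, Scheme.Hom.ker_eq_bot t, Scheme.IdealSheafData.map_bot,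
            Scheme.IdealSheafData.ker_subschemeι]
    obtain ⟨k₂, hk₂⟩ := (factor_iff_le hZZ hp hps hZ.1 hI hJ').2 hle
    haveI := mono_of_closedImmersion hi'
    haveI := mono_of_closedImmersion hZ.1
    exact ⟨⟨k₁, k₂, by rw [← cancel_mono i, Category.assoc, hk₂, hk₁, Category.id_comp],
      by rw [← cancel_mono i', Category.assoc, hk₁, hk₂, Category.id_comp]⟩, hk₁⟩

end Groth.Agent.H13AlgSp.FlatClosure
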