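import Groth.Agent.S1239
import Groth.Agent.H12AlgSp.SchDense
import Groth.Agent.H12AlgSp.LocP
import Mathlib.AlgebraicGeometry.Morphisms.FinitePresentation
import Mathlib.RingTheory.Finiteness.ModuleFinitePresentation

/-!
# Flat morphisms of finite type which are of finite presentation over a schematically dense open
-/

set_option autoImplicit false
set_option backward.isDefEq.respectTransparency false
set_option linter.style.haveILetI false

universe u

open CategoryTheory CategoryTheory.Limits AlgebraicGeometry Opposite TopologicalSpace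
open AlgSp Groth.Agent.H12AlgSp Groth.Agent.H13AlgSp

namespace Groth.Agent.H13AlgSp.FlatDenseFP

theorem fp_module_of_algebra {P C : Type u} [CommRing P] [CommRing C] [Algebra P C]
    (hs : Function.Surjective (algebraMap P C)) (hk : (RingHom.ker (algebraMap P C)).FG) :
    Module.FinitePresentation P C :=
  Module.finitePresentation_of_surjective (Algebra.linearMap P C) hs
    (by rwa [show LinearMap.ker (Algebra.linearMap P C) = RingHom.ker (algebraMap P C) from rfl])

theorem fp_localization {A C P : Type u} [CommRing A] [CommRing C] [CommRing P] [Algebra A C]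
    [Algebra A P] [Algebra.FinitePresentation A P] [Algebra P C] [IsScalarTower A P C]
    (hs : Function.Surjective (algebraMap P C)) (a : A)
    (h : ((algebraMap C (Localization.Away (algebraMap A C a))).comp (algebraMap A C)).FinitePresentation) :
    Module.FinitePresentation (Localization.Away (algebraMap A P a))
      (LocalizedModule (Submonoid.powers (algebraMap A P a)) C) := by
  set b := algebraMap A P a with hb
  set c := algebraMap A C a with hc
  have hbc : algebraMap P C b = c := (IsScalarTower.algebraMap_apply A P C a).symm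
  let Pb := Localization.Away b
  let Cc := Localization.Away c
  let ψ : Pb →+* Cc := IsLocalization.Away.lift b (g := (algebraMap C Cc).comp (algebraMap P C))
    (by rw [RingHom.comp_apply, hbc]; exact IsLocalization.Away.algebraMap_isUnit c)
  have hψc : ψ.comp (algebraMap P Pb) = (algebraMap C Cc).comp (algebraMap P C) :=
    IsLocalization.Away.lift_comp _ _
  have hψs : Function.Surjective ψ := fun z => by
    obtain ⟨x, ⟨_, n, rfl⟩, rfl⟩ := IsLocalization.exists_mk'_eq (Submonoid.powers c) z
    obtain ⟨p, rfl⟩ := hs x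
    refine ⟨IsLocalization.mk' Pb p ⟨b ^ n, pow_mem (Submonoid.mem_powers b) n⟩, ?_⟩
    rw [IsLocalization.eq_mk'_iff_mul_eq]
    have := congrArg ψ (IsLocalization.mk'_spec Pb p (⟨b ^ n, pow_mem (Submonoid.mem_powers b) n⟩ : Submonoid.powers b))
    rw [map_mul, ← RingHom.comp_apply ψ (algebraMap P Pb), ← RingHom.comp_apply ψ (algebraMap P Pb), hψc] at this
    simpa [hbc] using this
  letI : Algebra Pb Cc := ψ.toAlgebra
  haveI : IsScalarTower P Pb Cc := IsScalarTower.of_algebraMap_eq fun x => (RingHom.congr_fun hψc x).symm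
  haveI : IsScalarTower A Pb Cc := IsScalarTower.of_algebraMap_eq fun x => by
    rw [IsScalarTower.algebraMap_apply A P Pb, RingHom.algebraMap_toAlgebra, ← RingHom.comp_apply ψ, hψc,
      RingHom.comp_apply, ← IsScalarTower.algebraMap_apply A P C, ← IsScalarTower.algebraMap_apply A C Cc]
  haveI : Algebra.FinitePresentation A Cc := by
    have h' : (algebraMap A Cc).FinitePresentation := by
      rw [IsScalarTower.algebraMap_eq A C Cc]; exact h
    exact RingHom.finitePresentation_algebraMap.1 h'
  haveI : Algebra.FinitePresentation P Pb := IsLocalization.Away.finitePresentation b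
  haveI : Algebra.FinitePresentation A Pb := Algebra.FinitePresentation.trans A P Pb
  haveI : Module.FinitePresentation Pb Cc := fp_module_of_algebra hψs
    (Algebra.FinitePresentation.ker_fG_of_surjective (IsScalarTower.toAlgHom A Pb Cc) hψs)
  haveI : IsLocalization (Algebra.algebraMapSubmonoid C (Submonoid.powers b)) Cc := by
    rw [Algebra.algebraMapSubmonoid_powers, hbc]; infer_instance
  haveI : IsLocalizedModule (Submonoid.powers b) (IsScalarTower.toAlgHom P C Cc).toLinearMap :=
    isLocalizedModule_iff_isLocalization.mpr inferInstance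
  let e : LocalizedModule (Submonoid.powers b) C ≃ₗ[P] Cc :=
    IsLocalizedModule.linearEquiv (Submonoid.powers b) (LocalizedModule.mkLinearMap (Submonoid.powers b) C)
      (IsScalarTower.toAlgHom P C Cc).toLinearMap
  exact Module.FinitePresentation.of_equiv
    (LinearEquiv.extendScalarsOfIsLocalization (Submonoid.powers b) Pb e).symm

theorem fp_of_dense {A C : Type u} [CommRing A] [CommRing C] [Algebra A C] [Algebra.FiniteType A C]
    [Module.Flat A C] {n : ℕ} (f : Fin n → A)
    (hd : ∀ t : A, (∀ i, algebraMap A (Localization.Away (f i)) t = 0) → t = 0)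
    (hfp : ∀ i, ((algebraMap C (Localization.Away (algebraMap A C (f i)))).comp (algebraMap A C)).FinitePresentation) :
    Algebra.FinitePresentation A C := by
  obtain ⟨m, π, hπ⟩ := Algebra.FiniteType.iff_quotient_mvPolynomial''.mp (inferInstance : Algebra.FiniteType A C)
  letI : Algebra (MvPolynomial (Fin m) A) C := π.toRingHom.toAlgebra
  haveI : IsScalarTower A (MvPolynomial (Fin m) A) C :=
    IsScalarTower.of_algebraMap_eq fun r => (π.commutes r).symm
  haveI : Module.Finite (MvPolynomial (Fin m) A) C :=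
    Module.Finite.of_surjective (Algebra.linearMap (MvPolynomial (Fin m) A) C) hπ
  have := Groth.Agent.S1239.result (A := A) (B := MvPolynomial (Fin m) A) C f
    ((injective_iff_map_eq_zero _).2 fun t ht => hd t fun i => congrFun ht i) fun i => fp_localization hπ (f i) (hfp i)
  have hk := Module.FinitePresentation.fg_ker (Algebra.linearMap (MvPolynomial (Fin m) A) C) hπ
  exact Algebra.FinitePresentation.of_surjective hπ hk

theorem lfp_of_dense {X Y : Scheme.{u}} (h : X ⟶ Y) [Flat h] [LocallyOfFiniteType h] (W : Y.Opens)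
    [QuasiCompact W.ι] (hW : CInt.IsSchematicallyDense W)
    (hfp : LocallyOfFinitePresentation (h ∣_ W)) : LocallyOfFinitePresentation h := by
  classical
  rw [HasRingHomProperty.iff_appLE (P := @LocallyOfFinitePresentation)]
  intro U V e
  have hc : IsCompact (((U.1 ⊓ W : Y.Opens)) : Set Y) := by
    have h1 := (W.ι.isCompact_preimage U.2.isCompact).image W.ι.continuous
    rwa [Scheme.Hom.coe_preimage, Set.image_preimage_eq_inter_range, Scheme.Opens.range_ι] at h1
  choose g hg₁ hg₂ using fun x : ↥(U.1 ⊓ W) => U.2.exists_basicOpen_le (V := U.1 ⊓ W) x x.2.1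
  obtain ⟨s, hs⟩ := hc.elim_finite_subcover (fun x => (Y.basicOpen (g x) : Set Y))
    (fun x => (Y.basicOpen (g x)).2) fun y hy => Set.mem_iUnion.2 ⟨⟨y, hy⟩, hg₂ _⟩
  let f : Fin s.card → Γ(Y, U.1) := fun i => g (s.equivFin.symm i).1
  have hle : ∀ i, Y.basicOpen (f i) ≤ U.1 ⊓ W := fun i => hg₁ _
  have hcov : U.1 ⊓ W ≤ ⨆ i, Y.basicOpen (f i) := fun y hy => by
    obtain ⟨x, hx⟩ := Set.mem_iUnion.1 (hs hy)
    obtain ⟨hxs, hyx⟩ := Set.mem_iUnion.1 hx
    refine Opens.mem_iSup.2 ⟨s.equivFin ⟨x, hxs⟩, ?_⟩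
    simpa [f] using hyx
  letI : Algebra Γ(Y, U.1) Γ(X, V.1) := (h.appLE U.1 V.1 e).hom.toAlgebra
  haveI : Algebra.FiniteType Γ(Y, U.1) Γ(X, V.1) :=
    LocallyOfFiniteType.finiteType_appLE h U.2 V.2 e
  haveI : Module.Flat Γ(Y, U.1) Γ(X, V.1) := Flat.flat_appLE h U.2 V.2 e
  refine fp_of_dense f (fun t ht => ?_) fun i => ?_
  · refine hW U.1 (Eq.trans ?_ (map_zero _).symm)
    refine Y.sheaf.eq_of_locally_eq' (fun i => Y.basicOpen (f i)) _ (fun i => homOfLE (hle i)) hcov _ _ fun i => ?_
    have := U.2.isLocalization_basicOpen (f i)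
    rw [map_zero]
    show Y.presheaf.map (homOfLE (hle i)).op (Y.presheaf.map (homOfLE inf_le_left).op t) = 0
    rw [← CommRingCat.comp_apply, ← Functor.map_comp, ← op_comp]
    obtain ⟨m, hm⟩ := (IsLocalization.map_eq_zero_iff (Submonoid.powers (f i)) (Localization.Away (f i)) t).1 (ht i)
    exact (IsLocalization.map_eq_zero_iff (Submonoid.powers (f i)) Γ(Y, Y.basicOpen (f i)) t).2 ⟨m, hm⟩
  · set c := algebraMap Γ(Y, U.1) Γ(X, V.1) (f i) with hcdef
    have hc' : c = h.appLE U.1 V.1 e (f i) := rfl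
    let Vi : X.affineOpens := ⟨X.basicOpen c, V.2.basicOpen c⟩
    have ei : Vi.1 ≤ h ⁻¹ᵁ Y.basicOpen (f i) := by
      show X.basicOpen c ≤ _
      rw [hc', Scheme.Hom.appLE, CommRingCat.comp_apply, Scheme.basicOpen_res, Scheme.preimage_basicOpen]
      exact inf_le_right
    have ew : Vi.1 ≤ h ⁻¹ᵁ W := ei.trans fun x hx => (hle i hx).2
    have : LocallyOfFinitePresentation (Vi.1.ι ≫ h) := by
      rw [show Vi.1.ι ≫ h = X.homOfLE ew ≫ ((h ∣_ W) ≫ W.ι) by
        rw [morphismRestrict_ι, ← Category.assoc, Scheme.homOfLE_ι]]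
      infer_instance
    haveI : IsAffine (Vi.1 : Scheme.{u}) := Vi.2
    have h1 := LocallyOfFinitePresentation.finitePresentation_appLE (Vi.1.ι ≫ h) U.2
      (isAffineOpen_top (Vi.1 : Scheme.{u})) (fun x _ => e (X.basicOpen_le c x.2))
    rw [← Scheme.Hom.appLE_comp_appLE Vi.1.ι h U.1 Vi.1 ⊤ ((X.basicOpen_le c).trans e) (fun x _ => x.2),
      Scheme.Opens.ι_appLE, CommRingCat.hom_comp] at h1
    have hi : ∀ {A B : X.Opens} (hh : A ≤ B) (_ : B ≤ A), IsIso (homOfLE hh) := fun hh hh' =>
      ⟨⟨homOfLE hh', Subsingleton.elim _ _, Subsingleton.elim _ _⟩⟩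
    haveI := hi (show Vi.1.ι ''ᵁ ⊤ ≤ Vi.1 from Scheme.Opens.ι_image_le _ _) (le_of_eq (Scheme.Opens.ι_image_top _).symm)
    have h2 : (h.appLE U.1 Vi.1 ((X.basicOpen_le c).trans e)).hom.FinitePresentation := by
      rw [← CommRingCat.hom_comp] at h1
      exact (RingHom.finitePresentation_respectsIso.cancel_right_isIso _ _).1 h1
    have := V.2.isLocalization_basicOpen c
    let e' := (IsLocalization.algEquiv (Submonoid.powers c) Γ(X, Vi.1) (Localization.Away c)).toRingEquiv
    have h3 := RingHom.finitePresentation_respectsIso.1 _ e' h2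
    convert h3 using 1
    rw [← Scheme.Hom.appLE_map h e (homOfLE (X.basicOpen_le c)).op, CommRingCat.hom_comp, ← RingHom.comp_assoc]
    congr 1
    exact RingHom.ext fun x => ((IsLocalization.algEquiv (Submonoid.powers c) Γ(X, Vi.1) (Localization.Away c)).commutes x).symm

variable {S : Scheme.{u}} {X Y V P : Sp S}

theorem locP_lfp_of_dense (hX : IsAlgSpace X) (hY : IsAlgSpace Y) (hV : IsAlgSpace V) {f : X ⟶ Y} {j : V ⟶ Y}
    (hf1 : LocP @LocallyOfFiniteType f) (hf2 : LocP @Flat f) (hq : IsQuasiCompactMor j) (hd : IsSchDense j)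
    {fst : P ⟶ X} {snd : P ⟶ V} (sqP : IsPullback fst snd f j)
    (h : LocP @LocallyOfFinitePresentation snd) : LocP @LocallyOfFinitePresentation f := by
  obtain ⟨hj, -⟩ := isSchDense_iff.1 hd
  obtain ⟨U, T, a, b, k, ha, has, hb, -, w⟩ := exists_chart hX hY f
  have : Flat k.left := hf2 a b k ha hb w
  have : LocallyOfFiniteType k.left := hf1 a b k ha hb w
  obtain ⟨l, sqW⟩ := exists_isPullback_openPre hj b
  let W := openPre hj b
  have : QuasiCompact W.ι := quasiCompact_openPre_ι hj hq b
  have hW := isSchematicallyDense_openPre hj hd hb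
  refine locP_of_one_chart etLocal_lfp k ha has hb w (lfp_of_dense k.left W hW ?_)
  let U₀ : Over S := Over.mk ((k.left ⁻¹ᵁ W).ι ≫ U.hom)
  let W₀ : Over S := Over.mk (W.ι ≫ T.hom)
  let iU : U₀ ⟶ U := Over.homMk (k.left ⁻¹ᵁ W).ι rfl
  let k₀ : U₀ ⟶ W₀ := Over.homMk (k.left ∣_ W) (by
    simp only [U₀, W₀, Over.mk_hom]
    rw [morphismRestrict_ι_assoc, Over.w k])
  have ho : k₀ ≫ (Over.homMk W.ι rfl : W₀ ⟶ T) = iU ≫ k := Over.OverMorphism.ext (morphismRestrict_ι k.left W)
  have hO : IsPullback k₀ iU (Over.homMk W.ι rfl : W₀ ⟶ T) k :=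
    IsPullback.of_map (Over.forget S) ho (isPullback_morphismRestrict k.left W)
  have big := (hO.map (yon S)).paste_horiz sqW
  rw [← w] at big
  let a₀ : (yon S).obj U₀ ⟶ P := sqP.lift ((yon S).map iU ≫ a) ((yon S).map k₀ ≫ l)
    (by rw [Category.assoc]; exact big.w.symm)
  have hsq : IsPullback a₀ ((yon S).map iU) fst a :=
    IsPullback.of_right (by rw [sqP.lift_snd]; exact big) (sqP.lift_fst _ _ _) sqP.flip
  exact h a₀ l k₀ (repWith_of_isPullback hsq.flip ha) (repWith_of_isPullback sqW.flip hb) (sqP.lift_snd _ _ _)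

end Groth.Agent.H13AlgSp.FlatDenseFP
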