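import Groth.Agent.H12AlgSp.Immersion
import Groth.Agent.H12AlgSp.Unramified
import Groth.Agent.H12AlgSp.LQFScheme2
import Groth.Agent.H13AlgSp.FiniteMor
import Groth.Agent.H13Inf.Space
import Groth.Agent.H13Inf.Thick

/-!
Monomorphisms locally of finite type and closed immersions of algebraic spaces.
-/

universe u

open CategoryTheory CategoryTheory.Limits AlgebraicGeometry Opposite
open AlgSp Groth.Agent.H12AlgSp

namespace Groth.Agent.H13AlgSp.MonoUnram

variable {S : Scheme.{u}} {X Y : Sp S}

theorem isUnivInjectiveMor_of_mono (f : X ⟶ Y) [Mono f] : IsUnivInjectiveMor f :=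
  isUnivInjectiveMor_of_injective_on_fields fun _ _ _ _ _ e => (cancel_mono f).1 e

theorem unramified_of_mono (hX : IsAlgSpace X) (hY : IsAlgSpace Y) (f : X ⟶ Y) [Mono f]
    (h : LocP @LocallyOfFiniteType f) : LocP (@LocallyOfFiniteType ⊓ @FormallyUnramified) f := by
  have : IsIso (pullback.diagonal f) := (pullback.isIso_diagonal_iff f).2 inferInstance
  exact unramified_of_isOpenImmersion_diagonal hX hY h (repWith_of_isIso _)

theorem mono_of_unramified_univInj (hX : IsAlgSpace X) (hY : IsAlgSpace Y) {f : X ⟶ Y}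
    (h : LocP (@LocallyOfFiniteType ⊓ @FormallyUnramified) f) (hi : IsUnivInjectiveMor f) : Mono f := by
  have ho := isOpenImmersion_diagonal_of_unramified hX hY h
  have hs : RepWith @Surjective (pullback.diagonal f) := repWith_surjective_of_map ho.rep
    (diagonal_surjective_of_injective_on_fields fun K _ str =>
      injective_on_fields_of_isUnivInjectiveMor hX hi K str)
  have hiso : RepWith (MorphismProperty.isomorphisms Scheme.{u}) (pullback.diagonal f) :=
    ⟨ho.rep, fun {_ _} g fst snd sq => by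
      have : IsOpenImmersion snd.left := ho.property g fst snd sq
      have : Surjective snd.left := hs.property g fst snd sq
      exact isIso_of_isOpenImmersion_of_opensRange_eq_top snd.left
        (TopologicalSpace.Opens.ext (Surjective.surj (f := snd.left)).range_eq)⟩
  have hsurj : RepWith @Surjective (pullback.diagonal f) := hs
  refine ⟨fun {T} a b e => ?_⟩
  obtain ⟨V, p, hp, hps⟩ := (isAlgSpace_pullback hY.diag hX hX f f).atlas
  obtain ⟨Q, q, fst, sq⟩ := hiso.rep p
  have : IsIso q.left := hiso.property p fst q sq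
  have : IsIso ((Over.forget S).map q) := this
  have : IsIso q := isIso_of_reflects_iso q (Over.forget S)
  have hepi : Epi p := Groth.Agent.H13Inf.epi_of_etale_surjective hp hps
  have h12 : pullback.fst f f = pullback.snd f f := by
    rw [← cancel_epi p]
    have e1 : p = inv ((yon S).map q) ≫ fst ≫ pullback.diagonal f := by
      rw [IsIso.eq_inv_comp, sq.w]
    rw [e1, Category.assoc, Category.assoc, Category.assoc, Category.assoc, pullback.diagonal_fst,
      pullback.diagonal_snd]
  calc a = pullback.lift a b e ≫ pullback.fst f f := (pullback.lift_fst _ _ _).symm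
    _ = pullback.lift a b e ≫ pullback.snd f f := by rw [h12]
    _ = b := pullback.lift_snd _ _ _

theorem unramified_mono_iff (hX : IsAlgSpace X) (hY : IsAlgSpace Y) (f : X ⟶ Y) :
    ((LocP (@LocallyOfFiniteType ⊓ @FormallyUnramified) f ∧ Mono f) ↔
      (LocP (@LocallyOfFiniteType ⊓ @FormallyUnramified) f ∧ IsUnivInjectiveMor f)) ∧
    ((LocP (@LocallyOfFiniteType ⊓ @FormallyUnramified) f ∧ Mono f) ↔
      (LocP @LocallyOfFiniteType f ∧ Mono f)) ∧
    ((LocP (@LocallyOfFiniteType ⊓ @FormallyUnramified) f ∧ Mono f) ↔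
      (IsUnivInjectiveMor f ∧ LocP @LocallyOfFiniteType f ∧ IsFormallyUnramifiedMor f)) := by
  refine ⟨⟨fun ⟨h, hm⟩ => ⟨h, isUnivInjectiveMor_of_mono f⟩,
    fun ⟨h, hi⟩ => ⟨h, mono_of_unramified_univInj hX hY h hi⟩⟩,
    ⟨fun ⟨h, hm⟩ => ⟨fun _ _ a b g ha hb w => (h a b g ha hb w).1, hm⟩,
    fun ⟨h, hm⟩ => ⟨unramified_of_mono hX hY f h, hm⟩⟩,
    ⟨fun ⟨h, hm⟩ => ⟨isUnivInjectiveMor_of_mono f, fun _ _ a b g ha hb w => (h a b g ha hb w).1, ?_⟩,
    fun ⟨hi, hft, hu⟩ => ?_⟩⟩
  · intro sq l l' h1 h2 h1' h2'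
    exact (cancel_mono f).1 (h2.trans h2'.symm)
  · have h : LocP (@LocallyOfFiniteType ⊓ @FormallyUnramified) f := fun _ _ a b g ha hb w =>
      ⟨hft a b g ha hb w, Groth.Agent.H13Inf.locP_of_isFormallyUnramifiedMor hu a b g ha hb w⟩
    exact ⟨h, mono_of_unramified_univInj hX hY h hi⟩

theorem representable_of_mono_lft (hX : IsAlgSpace X) (hY : IsAlgSpace Y) (f : X ⟶ Y) [Mono f]
    (h : LocP @LocallyOfFiniteType f) : Representable f ∧ IsSeparatedMor f ∧
      LocP (@LocallyQuasiFinite ⊓ @LocallyOfFiniteType) f := by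
  have hq := locP_lqf_of_unramified (unramified_of_mono hX hY f h)
  exact ⟨representable_of_lqf_separated hX hY (isSeparatedMor_of_mono f) hq, isSeparatedMor_of_mono f, hq⟩

theorem isClosedImmersion_iff (hX : IsAlgSpace X) (hY : IsAlgSpace Y) (f : X ⟶ Y) :
    RepWith @IsClosedImmersion f ↔ IsUnivClosedMor f ∧ LocP @LocallyOfFiniteType f ∧ Mono f := by
  constructor
  · intro h
    have hm : Mono f := mono_of_repWith (fun _ _ j (_ : IsClosedImmersion j) => inferInstanceAs (Mono j)) h
    exact ⟨(isProperMor_of_isClosedImmersion hY h).2.2, (isProperMor_of_isClosedImmersion hY h).2.1.1, hm⟩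
  · rintro ⟨hc, hl, hm⟩
    obtain ⟨hr, hs, hq⟩ := representable_of_mono_lft hX hY f hl
    have hfin := isFiniteMor_iff.1 (isFiniteMor_of_univClosed_lqf hX hY hc hs hq)
    refine ⟨hr, fun {U V} g fst snd sq => ?_⟩
    haveI : IsFinite snd.left := hfin.property g fst snd sq
    haveI : Mono ((yon S).map snd) := MorphismProperty.of_isPullback (P := MorphismProperty.monomorphisms (Sp S)) sq hm
    haveI : Mono snd := (yon S).mono_of_mono_map this
    haveI : Mono snd.left := inferInstance
    exact (IsClosedImmersion.iff_isProper_and_mono snd.left).2 ⟨inferInstance, inferInstance⟩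

end Groth.Agent.H13AlgSp.MonoUnram
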