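import Groth.Agent.H13AlgSp.FlatDenseFP
import Groth.Agent.H13AlgSp.MonoUnram
import Mathlib.AlgebraicGeometry.Morphisms.FlatMono

/-!
# A separated flat morphism which is an isomorphism over a schematically dense open is an open immersion
-/

set_option autoImplicit false
set_option backward.isDefEq.respectTransparency false
set_option linter.style.haveILetI false

universe u

open CategoryTheory CategoryTheory.Limits AlgebraicGeometry Opposite
open AlgSp Groth.Agent.H12AlgSp Groth.Agent.H13AlgSp

namespace Groth.Agent.H13AlgSp.FlatDenseIso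

variable {S : Scheme.{u}} {X Y V P : Sp S}

theorem repWith_openImmersion (hX : IsAlgSpace X) (hY : IsAlgSpace Y) (hV : IsAlgSpace V) {f : X ⟶ Y} {j : V ⟶ Y}
    (hs : IsSeparatedMor f) (hf1 : LocP @LocallyOfFiniteType f) (hf2 : LocP @Flat f)
    (hq : IsQuasiCompactMor j) (hd : IsSchDense j)
    {fst : P ⟶ X} {snd : P ⟶ V} (sqP : IsPullback fst snd f j) [IsIso snd] :
    RepWith @IsOpenImmersion f := by
  have hlfp : LocP @LocallyOfFinitePresentation f :=
    FlatDenseFP.locP_lfp_of_dense hX hY hV hf1 hf2 hq hd sqP (locP_of_repWith etLocal_lfp (repWith_of_isIso snd))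
  obtain ⟨hj, -⟩ := isSchDense_iff.1 hd
  have hQ : IsAlgSpace (pullback f f) := isAlgSpace_pullback hY.diag hX hX f f
  let g : pullback f f ⟶ Y := pullback.fst f f ≫ f
  have hg : LocP @Flat g :=
    Groth.Agent.H12AlgSp.locP_comp etLocal_flat hQ hX hY
      (Groth.Agent.H12AlgSp.locP_of_isPullback etLocal_flat (IsPullback.of_hasPullback f f).flip hX hY hX hf2) hf2
  have sqV := IsPullback.of_hasPullback j g
  have hd' := isSchDense_of_flat hQ hg hq hd sqV
  have hq' : IsQuasiCompactMor (pullback.snd j g) := isQuasiCompactMor_of_isPullback sqV hq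
  have heq : pullback.fst f f = pullback.snd f f := by
    refine eq_of_eq_on_isSchImage_id hQ hs pullback.condition
      ((isSchDense_iff_isSchImage hQ (repWith_of_isPullback sqV hj) hq').1 hd') ?_
    have w₁ : (pullback.snd j g ≫ pullback.fst f f) ≫ f = pullback.fst j g ≫ j := by
      rw [Category.assoc]; exact (pullback.condition (f := j) (g := g)).symm
    have w₂ : (pullback.snd j g ≫ pullback.snd f f) ≫ f = pullback.fst j g ≫ j := by
      rw [Category.assoc, ← pullback.condition (f := f) (g := f)]
      exact (pullback.condition (f := j) (g := g)).symm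
    rw [← sqP.lift_fst _ _ w₁, ← sqP.lift_fst _ _ w₂]
    congr 1
    rw [← cancel_mono snd, sqP.lift_snd, sqP.lift_snd]
  haveI : Mono f := ⟨fun a b h => by
    rw [← pullback.lift_fst a b h, heq, pullback.lift_snd]⟩
  have hrep := (MonoUnram.representable_of_mono_lft hX hY f hf1).1
  have h1 : RepWith @LocallyOfFinitePresentation f := repWith_of_locP etLocal_lfp hY hrep hlfp
  have h2 : RepWith @Flat f := repWith_of_locP etLocal_flat hY hrep hf2
  refine ⟨hrep, ?_⟩
  intro T W g' a b sq
  haveI : LocallyOfFinitePresentation b.left := h1.2 g' a b sq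
  haveI : Flat b.left := h2.2 g' a b sq
  haveI : Mono ((yon S).map b) := MorphismProperty.of_isPullback (P := MorphismProperty.monomorphisms (Sp S)) sq
    (inferInstanceAs (Mono f))
  haveI : Mono b := (yon S).mono_of_mono_map ‹_›
  haveI : Mono b.left := inferInstanceAs (Mono ((Over.forget S).map b))
  exact IsOpenImmersion.of_flat_of_mono b.left

end Groth.Agent.H13AlgSp.FlatDenseIso
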