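import Mathlib.RingTheory.Etale.Descent
import Mathlib.RingTheory.Etale.Locus
import Mathlib.RingTheory.RingHom.Etale
import Mathlib.RingTheory.Localization.BaseChange
import Mathlib.RingTheory.Localization.LocalizationLocalization
import Mathlib.RingTheory.Flat.Localization
import Mathlib.RingTheory.Flat.FaithfullyFlat.Algebra

/-!
A flat algebra `A → C` with `C → C ⊗_A C` étale and `A → C ⇉ C ⊗_A C` exact is étale.
-/

set_option linter.style.haveILetI false
set_option linter.unusedSectionVars false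

universe u

open TensorProduct

namespace Groth.Agent.H13AlgSp.FlatEtale

variable {A C : Type u} [CommRing A] [CommRing C] [Algebra A C]

/-- The difference of the two coprojections. -/
noncomputable def diff : C →ₗ[A] C ⊗[A] C :=
  (Algebra.TensorProduct.includeLeft : C →ₐ[A] C ⊗[A] C).toLinearMap -
    (Algebra.TensorProduct.includeRight : C →ₐ[A] C ⊗[A] C).toLinearMap

theorem exact_diff (h0 : ∀ c : C, c ⊗ₜ[A] (1 : C) = (1 : C) ⊗ₜ[A] c → c ∈ (algebraMap A C).range) :
    Function.Exact (Algebra.linearMap A C) (diff (A := A) (C := C)) := by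
  intro c
  simp only [diff, LinearMap.sub_apply, AlgHom.toLinearMap_apply,
    Algebra.TensorProduct.includeLeft_apply, Algebra.TensorProduct.includeRight_apply, sub_eq_zero]
  constructor
  · intro h
    obtain ⟨a, ha⟩ := h0 c h
    exact ⟨a, ha⟩
  · rintro ⟨a, rfl⟩
    simp only [Algebra.linearMap_apply, Algebra.algebraMap_eq_smul_one, TensorProduct.tmul_smul,
      TensorProduct.smul_tmul']

/-- The equalizer is reflected into a flat module. -/
theorem exists_eq_one_tmul [Module.Flat A C]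
    (h0 : ∀ c : C, c ⊗ₜ[A] (1 : C) = (1 : C) ⊗ₜ[A] c → c ∈ (algebraMap A C).range)
    {M : Type u} [AddCommGroup M] [Module A M] [Module.Flat A M] (w : C ⊗[A] M)
    (hw : (diff (A := A) (C := C)).rTensor M w = 0) : ∃ m : M, w = (1 : C) ⊗ₜ[A] m := by
  obtain ⟨x, rfl⟩ := ((Module.Flat.rTensor_exact M (exact_diff h0)) w).1 hw
  refine ⟨TensorProduct.lid A M x, ?_⟩
  clear hw
  induction x using TensorProduct.induction_on with
  | zero => simp
  | tmul a m =>
    simp [Algebra.algebraMap_eq_smul_one, TensorProduct.smul_tmul, TensorProduct.tmul_smul]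
  | add x y hx hy => simp only [map_add, hx, hy, TensorProduct.tmul_add]

theorem one_tmul_injective (hinj : Function.Injective (algebraMap A C))
    {M : Type u} [AddCommGroup M] [Module A M] [Module.Flat A M] :
    Function.Injective fun m : M => (1 : C) ⊗ₜ[A] m := by
  have h := Module.Flat.rTensor_preserves_injective_linearMap (M := M) (Algebra.linearMap A C) hinj
  intro m n e
  have := @h (1 ⊗ₜ m) (1 ⊗ₜ n) (by simpa using e)
  simpa using congrArg (TensorProduct.lid A M) this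

theorem exists_smul_lTensor {M N : Type u} [AddCommGroup M] [Module A M] [AddCommGroup N] [Module A N]
    (p : Ideal A) [p.IsPrime] (L : Type u) [AddCommGroup L] [Module A L] (f : M →ₗ[A] N)
    (hQ : ∀ n, ∃ s ∉ p, ∃ m, f m = s • n) (w : L ⊗[A] N) : ∃ s ∉ p, ∃ z, f.lTensor L z = s • w := by
  induction w using TensorProduct.induction_on with
  | zero => exact ⟨1, p.ne_top_iff_one.mp (Ideal.IsPrime.ne_top ‹_›), 0, by simp⟩
  | tmul l n =>
    obtain ⟨s, hs, m, hm⟩ := hQ n
    exact ⟨s, hs, l ⊗ₜ m, by rw [LinearMap.lTensor_tmul, hm, TensorProduct.tmul_smul]⟩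
  | add x y hx hy =>
    obtain ⟨s, hs, z, hz⟩ := hx
    obtain ⟨t, ht, z', hz'⟩ := hy
    exact ⟨s * t, fun h => (Ideal.IsPrime.mem_or_mem ‹_› h).elim hs ht, t • z + s • z', by
      rw [map_add, map_smul, map_smul, hz, hz', smul_add, smul_smul, smul_smul, mul_comm t s]⟩

theorem exists_smul_eq_zero_of_lTensor {M N : Type u} [AddCommGroup M] [Module A M] [AddCommGroup N]
    [Module A N] (p : Ideal A) [p.IsPrime] (L : Type u) [AddCommGroup L] [Module A L] [Module.Flat A L]
    (f : M →ₗ[A] N) (hK : ∀ m, f m = 0 → ∃ s ∉ p, s • m = 0) (w : L ⊗[A] M)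
    (hw : f.lTensor L w = 0) : ∃ s ∉ p, s • w = 0 := by
  obtain ⟨x, rfl⟩ := ((Module.Flat.lTensor_exact L (LinearMap.exact_subtype_ker_map f)) w).1 hw
  clear hw
  induction x using TensorProduct.induction_on with
  | zero => exact ⟨1, p.ne_top_iff_one.mp (Ideal.IsPrime.ne_top ‹_›), by simp⟩
  | tmul l m =>
    obtain ⟨s, hs, e⟩ := hK m.1 m.2
    refine ⟨s, hs, ?_⟩
    rw [LinearMap.lTensor_tmul, Submodule.subtype_apply, ← TensorProduct.tmul_smul, e,
      TensorProduct.tmul_zero]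
  | add x y hx hy =>
    obtain ⟨s, hs, e⟩ := hx
    obtain ⟨t, ht, e'⟩ := hy
    refine ⟨s * t, fun h => (Ideal.IsPrime.mem_or_mem ‹_› h).elim hs ht, ?_⟩
    rw [map_add, smul_add, mul_comm s t, ← smul_smul, e, smul_zero, zero_add, mul_comm t s,
      ← smul_smul, e', smul_zero]

section Compare

variable [Module.Flat A C] {P D : Type u} [CommRing P] [CommRing D] [Algebra A P] [Algebra A D]

/-- A map from an étale algebra which is an isomorphism at `p` is one near `p`, when its tensor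
product with `C` is a map of finitely presented algebras. -/
theorem exists_bijective (h0 : ∀ c : C, c ⊗ₜ[A] (1 : C) = (1 : C) ⊗ₜ[A] c → c ∈ (algebraMap A C).range)
    (hinj : Function.Injective (algebraMap A C)) [Algebra.Etale A P]
    [Algebra.FinitePresentation C (C ⊗[A] D)] (hD : Function.Injective fun d : D => (1 : C) ⊗ₜ[A] d)
    (p : Ideal A) [p.IsPrime] (φ : P →ₐ[A] D) (hK : ∀ z, φ z = 0 → ∃ s ∉ p, s • z = 0)
    (hQ : ∀ d, ∃ s ∉ p, ∃ z, φ z = s • d) :
    ∃ s ∉ p, (∀ d, ∃ (N : ℕ) (z : P), φ z = s ^ N • d) ∧ (∀ z, φ z = 0 → ∃ N : ℕ, s ^ N • z = 0) := by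
  classical
  let ψ : C ⊗[A] P →ₐ[C] C ⊗[A] D := Algebra.TensorProduct.map (AlgHom.id C C) φ
  have hψ : ∀ w, ψ w = φ.toLinearMap.lTensor C w := fun w => by
    induction w using TensorProduct.induction_on with
    | zero => simp
    | tmul a b => simp [ψ]
    | add x y hx hy => simp only [map_add, hx, hy]
  have hψsmul : ∀ (s : A) w, ψ (s • w) = s • ψ w := fun s w => by simp only [hψ, map_smul]
  obtain ⟨G, hG⟩ := (inferInstance : Algebra.FiniteType C (C ⊗[A] D)).out
  have : ∀ g : G, ∃ s ∉ p, ∃ z, ψ z = s • g.1 := fun g => by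
    simpa only [hψ] using exists_smul_lTensor p C φ.toLinearMap hQ g.1
  choose t ht y hy using this
  let s₁ := ∏ g : G, t g
  have hs₁ : s₁ ∉ p := fun h => by
    obtain ⟨g, -, hg⟩ := (Ideal.IsPrime.prod_mem_iff (hp := ‹p.IsPrime›)).1 h
    exact ht g hg
  -- surjectivity after inverting `s₁`
  let R₀ : Subalgebra C (C ⊗[A] D) :=
    { carrier := {w | ∃ (N : ℕ) (z : C ⊗[A] P), ψ z = s₁ ^ N • w}
      mul_mem' := by
        rintro a b ⟨N, z, hz⟩ ⟨M, z', hz'⟩
        exact ⟨N + M, z * z', by rw [map_mul, hz, hz', smul_mul_smul_comm, pow_add]⟩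
      add_mem' := by
        rintro a b ⟨N, z, hz⟩ ⟨M, z', hz'⟩
        exact ⟨N + M, s₁ ^ M • z + s₁ ^ N • z', by
          rw [map_add, hψsmul, hψsmul, hz, hz', smul_smul, smul_smul, smul_add, pow_add,
            mul_comm (s₁ ^ M)]⟩
      algebraMap_mem' := fun r => ⟨0, algebraMap C _ r, by rw [AlgHom.commutes, pow_zero, one_smul]⟩ }
  have hR₀ : ∀ w, ∃ (N : ℕ) (z : C ⊗[A] P), ψ z = s₁ ^ N • w := by
    have : R₀ = ⊤ := by
      refine eq_top_iff.2 (hG.ge.trans (Algebra.adjoin_le fun w hw => ?_))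
      refine ⟨1, (∏ g ∈ Finset.univ.erase (⟨w, hw⟩ : G), t g) • y ⟨w, hw⟩, ?_⟩
      rw [hψsmul, hy, smul_smul, pow_one, Finset.prod_erase_mul _ _ (Finset.mem_univ _)]
    intro w
    exact (this.ge (Algebra.mem_top (x := w)) : w ∈ R₀)
  let a₁ := algebraMap A (C ⊗[A] P) s₁
  let P₁ := Localization.Away a₁
  let D₁ := Localization.Away (ψ a₁)
  let ψ₁ : P₁ →ₐ[C] D₁ := Localization.awayMapₐ ψ a₁
  have hψa : ψ a₁ = algebraMap A (C ⊗[A] D) s₁ := by
    simp only [a₁, Algebra.algebraMap_eq_smul_one, hψsmul, map_one]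
  have hψ₁m : ∀ x, ψ₁ (algebraMap _ P₁ x) = algebraMap _ D₁ (ψ x) := fun x =>
    IsLocalization.lift_eq _ _
  have hψ₁ : Function.Surjective ψ₁ := by
    intro v
    obtain ⟨⟨w, ⟨_, n, rfl⟩⟩, hv⟩ := IsLocalization.surj (Submonoid.powers (ψ a₁)) v
    obtain ⟨N, z, hz⟩ := hR₀ w
    refine ⟨IsLocalization.mk' P₁ z (⟨a₁ ^ (N + n), N + n, rfl⟩ : Submonoid.powers a₁), ?_⟩
    have hu : IsUnit (algebraMap _ D₁ (ψ (a₁ ^ (N + n)))) := by
      rw [map_pow]
      exact IsLocalization.map_units D₁ (⟨(ψ a₁) ^ (N + n), N + n, rfl⟩ : Submonoid.powers (ψ a₁))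
    refine hu.mul_left_inj.mp ?_
    rw [← hψ₁m (a₁ ^ (N + n)), ← map_mul, IsLocalization.mk'_spec, hψ₁m, hz, hψ₁m, map_pow,
      Algebra.smul_def, map_pow (algebraMap A (C ⊗[A] D)), ← hψa, map_mul, ← hv, pow_add (ψ a₁), map_mul]
    ring
  have : Algebra.FinitePresentation C P₁ :=
    Algebra.FinitePresentation.trans C (C ⊗[A] P) P₁
  have : Algebra.FinitePresentation C D₁ :=
    Algebra.FinitePresentation.trans C (C ⊗[A] D) D₁
  obtain ⟨K, hKspan⟩ := Algebra.FinitePresentation.ker_fG_of_surjective ψ₁ hψ₁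
  have : ∀ k : K, ∃ t ∉ p, algebraMap A P₁ t * k.1 = 0 := fun k => by
    have hk : ψ₁ k.1 = 0 := by
      have : k.1 ∈ RingHom.ker ψ₁.toRingHom := hKspan.le (Ideal.subset_span k.2)
      exact this
    obtain ⟨⟨z, ⟨_, n, rfl⟩⟩, hz⟩ := IsLocalization.surj (Submonoid.powers a₁) k.1
    have h1 : algebraMap _ D₁ (ψ z) = 0 := by rw [← hψ₁m, ← hz, map_mul, hk, zero_mul]
    obtain ⟨⟨_, m, rfl⟩, hm⟩ := (IsLocalization.map_eq_zero_iff (Submonoid.powers (ψ a₁)) D₁ _).1 h1
    have h2 : ψ (s₁ ^ m • z) = 0 := by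
      rw [hψsmul, Algebra.smul_def, map_pow, ← hψa]
      exact hm
    obtain ⟨t, ht, e⟩ := exists_smul_eq_zero_of_lTensor p C φ.toLinearMap
      (fun z hz => hK z hz) (s₁ ^ m • z) (by rw [← hψ]; exact h2)
    refine ⟨t, ht, ?_⟩
    have hu : IsUnit (algebraMap _ P₁ (a₁ ^ (n + m))) :=
      IsLocalization.map_units P₁ (⟨a₁ ^ (n + m), n + m, rfl⟩ : Submonoid.powers a₁)
    refine hu.mul_left_eq_zero.mp ?_
    rw [pow_add, map_mul, mul_assoc, ← mul_assoc k.1, hz, ← map_mul,
      IsScalarTower.algebraMap_apply A (C ⊗[A] P) P₁ t, ← map_mul]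
    have : algebraMap A (C ⊗[A] P) t * (z * a₁ ^ m) = 0 := by
      rw [← e, Algebra.smul_def, Algebra.smul_def, map_pow]
      ring
    rw [this, map_zero]
  choose t' ht' he using this
  let s₂ := ∏ k : K, t' k
  have hs₂ : s₂ ∉ p := fun h => by
    obtain ⟨g, -, hg⟩ := (Ideal.IsPrime.prod_mem_iff (hp := ‹p.IsPrime›)).1 h
    exact ht' g hg
  have hkill : ∀ x ∈ RingHom.ker ψ₁.toRingHom, algebraMap A P₁ s₂ * x = 0 := by
    intro x hx
    rw [← hKspan] at hx
    induction hx using Submodule.span_induction with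
    | mem k hk =>
      rw [show s₂ = (∏ g ∈ Finset.univ.erase (⟨k, hk⟩ : K), t' g) * t' ⟨k, hk⟩ from
        (Finset.prod_erase_mul _ _ (Finset.mem_univ _)).symm, map_mul, mul_assoc, he ⟨k, hk⟩, mul_zero]
    | zero => simp
    | add x y _ _ hx hy => rw [mul_add, hx, hy, add_zero]
    | smul a x _ hx => rw [smul_eq_mul, mul_left_comm, hx, mul_zero]
  let s := s₁ * s₂
  -- injectivity after inverting `s`
  have hker : ∀ w, ψ w = 0 → ∃ N : ℕ, s ^ N • w = 0 := by
    intro w hw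
    have h1 : algebraMap _ P₁ w ∈ RingHom.ker ψ₁.toRingHom := by
      show ψ₁ _ = 0
      rw [hψ₁m, hw, map_zero]
    have h2 := hkill _ h1
    rw [IsScalarTower.algebraMap_apply A (C ⊗[A] P) P₁, ← map_mul] at h2
    obtain ⟨⟨_, m, rfl⟩, hm⟩ := (IsLocalization.map_eq_zero_iff (Submonoid.powers a₁) P₁ _).1 h2
    refine ⟨m + 1, ?_⟩
    have hm' : a₁ ^ m * (algebraMap A (C ⊗[A] P) s₂ * w) = 0 := hm
    rw [Algebra.smul_def, map_pow,
      show algebraMap A (C ⊗[A] P) s = a₁ * algebraMap A (C ⊗[A] P) s₂ from map_mul _ _ _]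
    have e : (a₁ * algebraMap A (C ⊗[A] P) s₂) ^ (m + 1) * w =
      a₁ * algebraMap A (C ⊗[A] P) s₂ ^ m * (a₁ ^ m * (algebraMap A (C ⊗[A] P) s₂ * w)) := by ring
    rw [e, hm', mul_zero]
  refine ⟨s, fun h => (Ideal.IsPrime.mem_or_mem ‹_› h).elim hs₁ hs₂, fun d => ?_, fun z hz => ?_⟩
  · obtain ⟨N, w, hw⟩ := hR₀ ((1 : C) ⊗ₜ[A] d)
    -- the cocycle of `w` is torsion
    have h1 : φ.toLinearMap.lTensor (C ⊗[A] C) ((diff (A := A) (C := C)).rTensor P w) = 0 := by
      rw [← LinearMap.comp_apply, LinearMap.lTensor_comp_rTensor, ← LinearMap.rTensor_comp_lTensor,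
        LinearMap.comp_apply, ← hψ, hw, map_smul, LinearMap.rTensor_tmul]
      simp [diff, Algebra.TensorProduct.one_def]
    have h2 : ∃ M : ℕ, s ^ M • (diff (A := A) (C := C)).rTensor P w = 0 := by
      obtain ⟨u, hu⟩ : ∃ u : C ⊗[A] (C ⊗[A] P),
          u = TensorProduct.assoc A C C P ((diff (A := A) (C := C)).rTensor P w) := ⟨_, rfl⟩
      have hu0 : (φ.toLinearMap.lTensor C).lTensor C u = 0 := by
        have : (φ.toLinearMap.lTensor C).lTensor C ∘ₗ (TensorProduct.assoc A C C P).toLinearMap =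
            (TensorProduct.assoc A C C D).toLinearMap ∘ₗ φ.toLinearMap.lTensor (C ⊗[A] C) :=
          TensorProduct.ext_threefold fun _ _ _ => rfl
        rw [hu]
        exact (LinearMap.congr_fun this _).trans ((congrArg _ h1).trans (map_zero _))
      obtain ⟨v, hv⟩ := ((Module.Flat.lTensor_exact C
        (LinearMap.exact_subtype_ker_map (φ.toLinearMap.lTensor C))) u).1 hu0
      have : ∀ v : C ⊗[A] LinearMap.ker (φ.toLinearMap.lTensor C), ∃ M : ℕ,
          s ^ M • ((LinearMap.ker (φ.toLinearMap.lTensor C)).subtype.lTensor C v) = 0 := by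
        intro v
        induction v using TensorProduct.induction_on with
        | zero => exact ⟨0, by simp⟩
        | tmul c k =>
          obtain ⟨M, hM⟩ := hker k.1 (by rw [hψ]; exact k.2)
          exact ⟨M, by rw [LinearMap.lTensor_tmul, Submodule.subtype_apply, ← TensorProduct.tmul_smul, hM,
            TensorProduct.tmul_zero]⟩
        | add x y hx hy =>
          obtain ⟨M, hM⟩ := hx
          obtain ⟨M', hM'⟩ := hy
          refine ⟨M + M', ?_⟩
          rw [map_add, smul_add, pow_add, mul_comm (s ^ M), ← smul_smul, hM, smul_zero, zero_add,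
            mul_comm (s ^ M'), ← smul_smul, hM', smul_zero]
      obtain ⟨M, hM⟩ := this v
      refine ⟨M, (TensorProduct.assoc A C C P).injective ?_⟩
      rw [map_smul, ← hu, ← hv, hM, map_zero]
    obtain ⟨M, hM⟩ := h2
    obtain ⟨z, hz⟩ := exists_eq_one_tmul h0 (M := P) (s ^ M • w) (by rw [map_smul, hM])
    refine ⟨N + M, s₂ ^ N • z, hD ?_⟩
    show (1 : C) ⊗ₜ[A] φ (s₂ ^ N • z) = (1 : C) ⊗ₜ[A] (s ^ (N + M) • d)
    rw [map_smul, TensorProduct.tmul_smul, TensorProduct.tmul_smul,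
      show (1 : C) ⊗ₜ[A] φ z = ψ ((1 : C) ⊗ₜ[A] z) by simp [ψ], ← hz, hψsmul, hw, smul_smul, smul_smul,
      show s = s₁ * s₂ from rfl]
    congr 1
    ring
  · obtain ⟨N, hN⟩ := hker ((1 : C) ⊗ₜ[A] z) (by simp [ψ, hz])
    exact ⟨N, one_tmul_injective hinj (by simpa [TensorProduct.tmul_smul] using hN)⟩

end Compare

end Groth.Agent.H13AlgSp.FlatEtale
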