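import Groth.Agent.H13AlgSp.FlatEtaleAlg
import Mathlib.RingTheory.TensorProduct.MvPolynomial
import Mathlib.RingTheory.MvPolynomial.Localization

/-!
A flat algebra `A → C` with `C → C ⊗_A C` étale is étale over the equalizer of `C ⇉ C ⊗_A C`.
-/

set_option backward.isDefEq.respectTransparency false
set_option backward.isDefEq.respectTransparency.types false
set_option linter.style.haveILetI false
set_option linter.unusedSectionVars false

universe u

open TensorProduct

attribute [local instance] MvPolynomial.algebraMvPolynomial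

namespace Groth.Agent.H13AlgSp.FlatEtale

variable {A C : Type u} [CommRing A] [CommRing C] [Algebra A C]

theorem faithfullyFlat_atPrime [Module.Flat A C] (q : Ideal C) [q.IsPrime] :
    Module.FaithfullyFlat (Localization.AtPrime (q.comap (algebraMap A C)))
      (Localization.AtPrime (q.comap (algebraMap A C)) ⊗[A] C) := by
  let Ap := Localization.AtPrime (q.comap (algebraMap A C))
  let g : Ap →ₐ[A] Localization.AtPrime q :=
    { toRingHom := Localization.localRingHom (q.comap (algebraMap A C)) q (algebraMap A C) rfl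
      commutes' := fun a => (Localization.localRingHom_to_map _ _ _ _ a).trans
        (IsScalarTower.algebraMap_apply A C (Localization.AtPrime q) a).symm }
  let θ : Ap ⊗[A] C →ₐ[A] Localization.AtPrime q :=
    Algebra.TensorProduct.lift g (IsScalarTower.toAlgHom A C _) fun _ _ => Commute.all _ _
  refine { submodule_ne_top := fun m hm => ?_ }
  intro h
  rw [IsLocalRing.eq_maximalIdeal hm] at h
  have h1 : (1 : Ap ⊗[A] C) ∈ IsLocalRing.maximalIdeal Ap • (⊤ : Submodule Ap (Ap ⊗[A] C)) := by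
    rw [h]; exact Submodule.mem_top
  have h2 : ∀ x ∈ IsLocalRing.maximalIdeal Ap • (⊤ : Submodule Ap (Ap ⊗[A] C)),
      θ x ∈ IsLocalRing.maximalIdeal (Localization.AtPrime q) := by
    intro x hx
    refine Submodule.smul_induction_on hx (fun a ha y _ => ?_) fun x y hx hy => by
      rw [map_add]; exact Ideal.add_mem _ hx hy
    · rw [show a • y = algebraMap Ap (Ap ⊗[A] C) a * y from Algebra.smul_def a y, map_mul]
      refine Ideal.mul_mem_right _ _ ?_
      rw [Algebra.TensorProduct.algebraMap_apply, Algebra.TensorProduct.lift_tmul, map_one, mul_one]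
      exact map_nonunit (Localization.localRingHom (q.comap (algebraMap A C)) q (algebraMap A C) rfl) a ha
  have h3 := h2 1 h1
  rw [map_one] at h3
  exact (IsLocalRing.maximalIdeal.isMaximal _).ne_top ((Ideal.eq_top_iff_one _).2 h3)

theorem etale_atPrime [Module.Flat A C] [Algebra.Etale C (C ⊗[A] C)] (q : Ideal C) [q.IsPrime] :
    Algebra.Etale (Localization.AtPrime (q.comap (algebraMap A C)))
      (Localization.AtPrime (q.comap (algebraMap A C)) ⊗[A] C) := by
  let Ap := Localization.AtPrime (q.comap (algebraMap A C))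
  let Cp := Ap ⊗[A] C
  have := faithfullyFlat_atPrime (A := A) q
  letI : Algebra C Cp := Algebra.TensorProduct.rightAlgebra
  have : Algebra.Etale Cp (Cp ⊗[C] (C ⊗[A] C)) := inferInstance
  have e1 : Cp ⊗[C] (C ⊗[A] C) ≃ₐ[Cp] Cp ⊗[A] C :=
    Algebra.TensorProduct.cancelBaseChange A C Cp Cp C
  have e2 : Cp ⊗[Ap] (Ap ⊗[A] C) ≃ₐ[Cp] Cp ⊗[A] C :=
    Algebra.TensorProduct.cancelBaseChange A Ap Cp Cp C
  have h : Algebra.Etale Cp (Cp ⊗[Ap] (Ap ⊗[A] C)) := Algebra.Etale.of_equiv (R := Cp) (A := Cp ⊗[C] (C ⊗[A] C)) (B := Cp ⊗[Ap] (Ap ⊗[A] C)) (e1.trans e2.symm)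
  exact @Algebra.Etale.of_etale_tensorProduct_of_faithfullyFlat Ap (Ap ⊗[A] C) _ _ _ Cp _ _ _ h

open MvPolynomial in
theorem exists_model [Module.Flat A C] [Algebra.Etale C (C ⊗[A] C)] (q : Ideal C) [q.IsPrime] :
    ∃ (P : Type u) (_ : CommRing P) (_ : Algebra A P) (φ : P →ₐ[A] C),
      Algebra.FinitePresentation A P ∧
      (∀ z, φ z = 0 → ∃ s ∉ q.comap (algebraMap A C), s • z = 0) ∧
      (∀ c, ∃ s ∉ q.comap (algebraMap A C), ∃ z, φ z = s • c) := by
  classical
  have het := etale_atPrime (A := A) q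
  let p := q.comap (algebraMap A C)
  let Ap := Localization.AtPrime p
  let ι : C →ₗ[A] Ap ⊗[A] C := TensorProduct.mk A Ap C 1
  have : IsLocalizedModule p.primeCompl ι := inferInstanceAs (IsLocalizedModule p.primeCompl (TensorProduct.mk A Ap C 1))
  obtain ⟨G, hG⟩ := (inferInstance : Algebra.FiniteType Ap (Ap ⊗[A] C)).out
  have : ∀ g : G, ∃ (c : C) (s : p.primeCompl), (s : A) • g.1 = ι c := fun g => by
    obtain ⟨⟨c, s⟩, h⟩ := IsLocalizedModule.surj p.primeCompl ι g.1
    exact ⟨c, s, h⟩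
  choose x sG hx using this
  let φ₀ : MvPolynomial G A →ₐ[A] C := aeval x
  let φp : MvPolynomial G Ap →ₐ[Ap] Ap ⊗[A] C := aeval fun g => ι (x g)
  have hφp : Function.Surjective φp := by
    refine (AlgHom.range_eq_top _).1 (eq_top_iff.2 (hG.ge.trans (Algebra.adjoin_le fun w hw => ?_)))
    obtain ⟨u, hu⟩ := IsLocalization.map_units Ap (sG ⟨w, hw⟩)
    refine ⟨MvPolynomial.C (↑u⁻¹ : Ap) * MvPolynomial.X ⟨w, hw⟩, ?_⟩
    show φp _ = w
    rw [map_mul, aeval_C, aeval_X, ← hx ⟨w, hw⟩, ← IsScalarTower.algebraMap_smul Ap, ← Algebra.smul_def,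
      ← hu, smul_smul, Units.inv_mul, one_smul]
  let θ := algebraMap (MvPolynomial G A) (MvPolynomial G Ap)
  have hcomp : ∀ g, φp (θ g) = ι (φ₀ g) := by
    intro g
    have : ((φp.restrictScalars A).comp (IsScalarTower.toAlgHom A (MvPolynomial G A) (MvPolynomial G Ap))) =
        (Algebra.TensorProduct.includeRight (R := A) (A := Ap) (B := C)).comp φ₀ := by
      apply algHom_ext
      intro g
      show φp (MvPolynomial.map (algebraMap A Ap) (MvPolynomial.X g)) = (1 : Ap) ⊗ₜ[A] φ₀ (MvPolynomial.X g)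
      rw [MvPolynomial.map_X, aeval_X, aeval_X]
      rfl
    exact DFunLike.congr_fun this g
  let M : Submonoid (MvPolynomial G A) := p.primeCompl.map MvPolynomial.C
  have : IsLocalization M (MvPolynomial G Ap) := inferInstance
  obtain ⟨K, hK⟩ := Algebra.FinitePresentation.ker_fG_of_surjective φp hφp
  have : ∀ k : K, ∃ r : MvPolynomial G A, φ₀ r = 0 ∧ ∃ u, IsUnit u ∧ θ r = u * k.1 := fun k => by
    obtain ⟨⟨g, m⟩, hm⟩ := IsLocalization.surj M k.1
    have hk : φp k.1 = 0 := (hK.le (Ideal.subset_span k.2) : k.1 ∈ RingHom.ker φp.toRingHom)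
    have h1 : ι (φ₀ g) = 0 := by rw [← hcomp, ← hm, map_mul, hk, zero_mul]
    obtain ⟨t, ht⟩ := (IsLocalizedModule.eq_zero_iff p.primeCompl ι).1 h1
    refine ⟨MvPolynomial.C (t : A) * g, ?_, θ (MvPolynomial.C (t : A)) * θ m, ?_, ?_⟩
    · rw [map_mul, aeval_C, ← Algebra.smul_def]
      exact ht
    · exact (IsLocalization.map_units _ (⟨_, ⟨t, t.2, rfl⟩⟩ : M)).mul (IsLocalization.map_units _ m)
    · rw [map_mul, ← hm]
      ring
  choose r hr u hu hru using this
  let I : Ideal (MvPolynomial G A) := Ideal.span (Set.range r)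
  have hI : ∀ a ∈ I, φ₀ a = 0 := fun a ha =>
    (Ideal.span_le.2 (by rintro _ ⟨k, rfl⟩; exact hr k) : I ≤ RingHom.ker φ₀.toRingHom) ha
  have hIK : RingHom.ker φp.toRingHom ≤ I.map θ := by
    rw [← hK, Ideal.span_le]
    intro k hk
    obtain ⟨v, hv⟩ := hu ⟨k, hk⟩
    have h := Ideal.mem_map_of_mem θ (Ideal.subset_span ⟨⟨k, hk⟩, rfl⟩ : r ⟨k, hk⟩ ∈ I)
    rw [hru] at h
    have := Ideal.mul_mem_left (I.map θ) (↑v⁻¹) h
    rwa [← mul_assoc, ← hv, Units.inv_mul, one_mul] at this
  refine ⟨MvPolynomial G A ⧸ I, inferInstance, inferInstance, Ideal.Quotient.liftₐ I φ₀ hI,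
    Algebra.FinitePresentation.quotient (Submodule.fg_def.2 ⟨Set.range r, Set.finite_range r, rfl⟩),
    fun z hz => ?_, fun c => ?_⟩
  · obtain ⟨g, rfl⟩ := Ideal.Quotient.mk_surjective z
    have hg : φ₀ g = 0 := hz
    have h1 : θ g ∈ I.map θ := hIK (show φp (θ g) = 0 by rw [hcomp, hg, map_zero])
    obtain ⟨⟨_, t, ht, rfl⟩, hm⟩ : ∃ m : M, (m : MvPolynomial G A) * g ∈ I := by
      obtain ⟨⟨⟨a, ha⟩, m⟩, hm⟩ := (IsLocalization.mem_map_algebraMap_iff M _).1 h1
      rw [← map_mul] at hm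
      obtain ⟨m', hm'⟩ := (IsLocalization.eq_iff_exists M _).1 hm
      exact ⟨m' * m, by
        rw [Submonoid.coe_mul, mul_assoc, mul_comm (m : MvPolynomial G A), hm']
        exact I.mul_mem_left _ ha⟩
    refine ⟨t, ht, ?_⟩
    rw [← Ideal.Quotient.mkₐ_eq_mk A, ← map_smul, Ideal.Quotient.mkₐ_eq_mk, Ideal.Quotient.eq_zero_iff_mem,
      MvPolynomial.smul_eq_C_mul]
    exact hm
  · obtain ⟨h, hh⟩ := hφp (ι c)
    obtain ⟨⟨g, ⟨_, s, hs, rfl⟩⟩, hm⟩ := IsLocalization.surj M h
    have h1 : ι (φ₀ g) = ι (s • c) := by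
      rw [← hcomp, ← hm, map_mul, hh, hcomp, map_smul]
      simp [φ₀, ι, Algebra.algebraMap_eq_smul_one, TensorProduct.smul_tmul']
    obtain ⟨t, ht⟩ := (IsLocalizedModule.eq_iff_exists p.primeCompl ι).1 h1
    refine ⟨t.1 * s, fun h => (Ideal.IsPrime.mem_or_mem inferInstance h).elim t.2 hs,
      Ideal.Quotient.mk I (MvPolynomial.C (t : A) * g), ?_⟩
    show φ₀ _ = _
    rw [map_mul, aeval_C, ← Algebra.smul_def, mul_smul]
    exact ht

theorem formallyEtale_tensor_of_model [Module.Flat A C] [Algebra.Etale C (C ⊗[A] C)] (q : Ideal C)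
    [q.IsPrime] {P : Type u} [CommRing P] [Algebra A P] (φ : P →ₐ[A] C)
    (hK : ∀ z, φ z = 0 → ∃ s ∉ q.comap (algebraMap A C), s • z = 0)
    (hQ : ∀ c, ∃ s ∉ q.comap (algebraMap A C), ∃ z, φ z = s • c) :
    Algebra.FormallyEtale A (Localization.AtPrime (q.comap (algebraMap A C)) ⊗[A] P) := by
  let p := q.comap (algebraMap A C)
  let Ap := Localization.AtPrime p
  let e : Ap ⊗[A] P →ₐ[Ap] Ap ⊗[A] C := Algebra.TensorProduct.map (AlgHom.id Ap Ap) φ
  have he : ∀ w, e w = φ.toLinearMap.lTensor Ap w := fun w => by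
    induction w using TensorProduct.induction_on with
    | zero => simp
    | tmul a b => simp [e]
    | add x y hx hy => simp only [map_add, hx, hy]
  have hb : Function.Bijective e := by
    refine ⟨(injective_iff_map_eq_zero e).2 fun w hw => ?_, fun v => ?_⟩
    · obtain ⟨s, hs, e'⟩ := exists_smul_eq_zero_of_lTensor p Ap φ.toLinearMap hK w (by rw [← he]; exact hw)
      rw [← IsScalarTower.algebraMap_smul Ap] at e'
      exact (IsLocalization.map_units Ap (⟨s, hs⟩ : p.primeCompl)).smul_eq_zero.mp e'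
    · obtain ⟨s, hs, z, hz⟩ := exists_smul_lTensor p Ap φ.toLinearMap hQ v
      obtain ⟨u, hu⟩ := IsLocalization.map_units Ap (⟨s, hs⟩ : p.primeCompl)
      refine ⟨(↑u⁻¹ : Ap) • z, ?_⟩
      rw [map_smul, he, hz, ← IsScalarTower.algebraMap_smul Ap s v, smul_smul,
        show algebraMap A Ap s = u from hu.symm, Units.inv_mul, one_smul]
  have : Algebra.Etale Ap (Ap ⊗[A] C) := etale_atPrime q
  have : Algebra.Etale Ap (Ap ⊗[A] P) := Algebra.Etale.of_equiv (AlgEquiv.ofBijective e hb).symm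
  have : Algebra.FormallyEtale A Ap := Algebra.FormallyEtale.of_isLocalization p.primeCompl
  exact Algebra.FormallyEtale.comp A Ap _

theorem exists_etale_away_of_model [Module.Flat A C] [Algebra.Etale C (C ⊗[A] C)] (q : Ideal C)
    [q.IsPrime] {P : Type u} [CommRing P] [Algebra A P] [Algebra.FinitePresentation A P]
    (φ : P →ₐ[A] C) (hK : ∀ z, φ z = 0 → ∃ s ∉ q.comap (algebraMap A C), s • z = 0)
    (hQ : ∀ c, ∃ s ∉ q.comap (algebraMap A C), ∃ z, φ z = s • c) :
    ∃ b ∉ q.comap (algebraMap A C), Algebra.Etale A (Localization.Away (algebraMap A P b)) := by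
  have hT := formallyEtale_tensor_of_model q φ hK hQ
  let p := q.comap (algebraMap A C)
  let Ap := Localization.AtPrime p
  let M := Algebra.algebraMapSubmonoid P p.primeCompl
  letI : Algebra P (Ap ⊗[A] P) := Algebra.TensorProduct.rightAlgebra
  have hTP : IsLocalization M (Ap ⊗[A] P) := by
    have : IsLocalizedModule p.primeCompl (IsScalarTower.toAlgHom A P (Ap ⊗[A] P)).toLinearMap :=
      inferInstanceAs (IsLocalizedModule p.primeCompl (TensorProduct.mk A Ap P 1))
    exact isLocalizedModule_iff_isLocalization.1 this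
  have hopen := Algebra.isOpen_etaleLocus (R := A) (A := P)
  obtain ⟨J, hJ⟩ := (PrimeSpectrum.isClosed_iff_zeroLocus_ideal _).1 hopen.isClosed_compl
  have : ∃ b ∈ M, b ∈ J := by
    by_contra h
    obtain ⟨Q, hQp, hJQ, hdis⟩ := Ideal.exists_le_prime_disjoint J M
      (Set.disjoint_left.2 fun x hx hx' => h ⟨x, hx', hx⟩)
    have hle : M ≤ Q.primeCompl := fun x hx hx' => Set.disjoint_left.1 hdis hx' hx
    have hQ : (⟨Q, hQp⟩ : PrimeSpectrum P) ∈ (Algebra.etaleLocus A P)ᶜ := by
      rw [hJ]; exact hJQ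
    letI := IsLocalization.localizationAlgebraOfSubmonoidLe (Ap ⊗[A] P) (Localization.AtPrime Q)
      M Q.primeCompl hle
    have : IsScalarTower P (Ap ⊗[A] P) (Localization.AtPrime Q) :=
      IsLocalization.localization_isScalarTower_of_submonoid_le _ _ M Q.primeCompl hle
    have : IsScalarTower A (Ap ⊗[A] P) (Localization.AtPrime Q) := .of_algebraMap_eq fun a =>
      ((IsScalarTower.algebraMap_apply A P (Localization.AtPrime Q) a).trans
        (IsScalarTower.algebraMap_apply P (Ap ⊗[A] P) (Localization.AtPrime Q) _)).trans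
        (congrArg (algebraMap (Ap ⊗[A] P) (Localization.AtPrime Q))
          (IsScalarTower.algebraMap_apply A P (Ap ⊗[A] P) a).symm)
    have : IsLocalization (Q.primeCompl.map (algebraMap P (Ap ⊗[A] P))) (Localization.AtPrime Q) :=
      IsLocalization.isLocalization_of_submonoid_le _ _ M Q.primeCompl hle
    have : Algebra.FormallyEtale (Ap ⊗[A] P) (Localization.AtPrime Q) :=
      .of_isLocalization (Q.primeCompl.map (algebraMap P (Ap ⊗[A] P)))
    exact hQ (Algebra.FormallyEtale.comp A (Ap ⊗[A] P) _)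
  obtain ⟨_, ⟨b, hb, rfl⟩, hbJ⟩ := this
  refine ⟨b, hb, Algebra.basicOpen_subset_etaleLocus_iff_etale.1 fun x hx => ?_⟩
  by_contra hx'
  have : x ∈ PrimeSpectrum.zeroLocus (J : Set P) := hJ ▸ hx'
  exact hx (this hbJ)

theorem exists_etale_away (h0 : ∀ c : C, c ⊗ₜ[A] (1 : C) = (1 : C) ⊗ₜ[A] c → c ∈ (algebraMap A C).range)
    (hinj : Function.Injective (algebraMap A C)) [Module.Flat A C] [Algebra.Etale C (C ⊗[A] C)]
    (q : Ideal C) [q.IsPrime] : ∃ g ∉ q, Algebra.Etale A (Localization.Away g) := by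
  obtain ⟨P, _, _, φ, hfp, hK, hQ⟩ := exists_model (A := A) q
  obtain ⟨b, hb, hPb⟩ := exists_etale_away_of_model q φ hK hQ
  let p := q.comap (algebraMap A C)
  let P' := Localization.Away (algebraMap A P b)
  let D := Localization.Away (φ (algebraMap A P b))
  let φ' : P' →ₐ[A] D := Localization.awayMapₐ φ (algebraMap A P b)
  have hφb : φ (algebraMap A P b) = algebraMap A C b := φ.commutes b
  have hφ'm : ∀ z, φ' (algebraMap P P' z) = algebraMap C D (φ z) := fun z => IsLocalization.lift_eq _ _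
  have hu : ∀ n : ℕ, IsUnit (algebraMap A D (b ^ n)) := fun n => by
    rw [IsScalarTower.algebraMap_apply A C D, map_pow, ← hφb]
    exact IsLocalization.map_units D
      (⟨φ (algebraMap A P b) ^ n, n, rfl⟩ : Submonoid.powers (φ (algebraMap A P b)))
  have hu' : ∀ n : ℕ, IsUnit (algebraMap A P' (b ^ n)) := fun n => by
    rw [IsScalarTower.algebraMap_apply A P P', map_pow]
    exact IsLocalization.map_units P' (⟨algebraMap A P b ^ n, n, rfl⟩ : Submonoid.powers (algebraMap A P b))
  have hK' : ∀ z, φ' z = 0 → ∃ s ∉ p, s • z = 0 := by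
    intro z hz
    obtain ⟨⟨z₀, ⟨_, n, rfl⟩⟩, hz₀⟩ := IsLocalization.surj (Submonoid.powers (algebraMap A P b)) z
    have h1 : algebraMap C D (φ z₀) = 0 := by rw [← hφ'm, ← hz₀, map_mul, hz, zero_mul]
    obtain ⟨⟨_, m, rfl⟩, hm⟩ := (IsLocalization.map_eq_zero_iff (Submonoid.powers (φ (algebraMap A P b))) D _).1 h1
    obtain ⟨s, hs, e⟩ := hK (b ^ m • z₀) (by rw [map_smul, Algebra.smul_def, map_pow, ← hφb]; exact hm)
    refine ⟨s, hs, (hu' m).mul_right_eq_zero.mp ((hu' n).mul_right_eq_zero.mp ?_)⟩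
    have : algebraMap P P' (s • b ^ m • z₀) = 0 := by rw [e, map_zero]
    rw [← this, Algebra.smul_def, Algebra.smul_def, Algebra.smul_def, map_mul, map_mul, ← hz₀, map_pow,
      map_pow, IsScalarTower.algebraMap_apply A P P' s, IsScalarTower.algebraMap_apply A P P' b]
    simp only [map_pow]
    ring
  have hQ' : ∀ d, ∃ s ∉ p, ∃ z, φ' z = s • d := by
    intro d
    obtain ⟨⟨c, ⟨_, n, rfl⟩⟩, hc⟩ := IsLocalization.surj (Submonoid.powers (φ (algebraMap A P b))) d
    obtain ⟨s, hs, z, hz⟩ := hQ c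
    refine ⟨s, hs, (↑(hu' n).unit⁻¹ : P') * algebraMap P P' z, (hu n).mul_left_inj.mp ?_⟩
    rw [show algebraMap A D (b ^ n) = φ' (algebraMap A P' (b ^ n)) from (φ'.commutes _).symm, ← map_mul,
      mul_comm _ (algebraMap P P' z), mul_assoc, IsUnit.val_inv_mul, mul_one, hφ'm, hz, φ'.commutes,
      smul_mul_assoc, IsScalarTower.algebraMap_apply A C D, map_pow, ← hφb]
    refine Eq.trans ?_ (congrArg (s • ·) hc).symm
    rw [Algebra.smul_def, map_mul, ← IsScalarTower.algebraMap_apply, Algebra.smul_def]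
  have : Algebra.Etale A P' := hPb
  have hEt : Algebra.Etale C (C ⊗[A] D) := by
    have : IsLocalization.Away (φ (algebraMap A P b)) D := inferInstance
    have hD' : Algebra.Etale C D := Algebra.Etale.of_isLocalizationAway (φ (algebraMap A P b))
    have h1 : Algebra.Etale (C ⊗[A] C) ((C ⊗[A] C) ⊗[A] Localization.Away b) := inferInstance
    have h2 : Algebra.Etale C ((C ⊗[A] C) ⊗[A] Localization.Away b) :=
      Algebra.Etale.comp C (C ⊗[A] C) _
    have : IsLocalization.Away (algebraMap A C b) D := by rw [← hφb]; infer_instance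
    have e1 : C ⊗[A] Localization.Away b ≃ₐ[C] D :=
      (IsLocalization.algEquiv (Submonoid.powers (algebraMap A C b)) _ _)
    exact Algebra.Etale.of_equiv
      ((Algebra.TensorProduct.assoc A A C C C (Localization.Away b)).trans
        (Algebra.TensorProduct.congr AlgEquiv.refl (e1.restrictScalars A)))
  have hD : Function.Injective fun d : D => (1 : C) ⊗ₜ[A] d := by
    intro d d' e
    let μ : C ⊗[A] D →ₐ[A] D :=
      Algebra.TensorProduct.lift (IsScalarTower.toAlgHom A C D) (AlgHom.id A D) fun _ _ => Commute.all _ _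
    simpa [μ] using congrArg μ e
  obtain ⟨s, hs, hsQ, hsK⟩ := exists_bijective h0 hinj hD p φ' hK' hQ'
  let a := algebraMap A P' s
  let D' := Localization.Away (φ' a)
  let φ'' : Localization.Away a →ₐ[A] D' := Localization.awayMapₐ φ' a
  have hφa : φ' a = algebraMap A D s := φ'.commutes s
  have hm'' : ∀ z, φ'' (algebraMap P' _ z) = algebraMap D D' (φ' z) := fun z => IsLocalization.lift_eq _ _
  have hbij : Function.Bijective φ'' := by
    refine ⟨(injective_iff_map_eq_zero φ'').2 fun z hz => ?_, fun v => ?_⟩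
    · obtain ⟨⟨z₀, ⟨_, n, rfl⟩⟩, hz₀⟩ := IsLocalization.surj (Submonoid.powers a) z
      have h1 : algebraMap D D' (φ' z₀) = 0 := by rw [← hm'', ← hz₀, map_mul, hz, zero_mul]
      obtain ⟨⟨_, m, rfl⟩, hm⟩ := (IsLocalization.map_eq_zero_iff (Submonoid.powers (φ' a)) D' _).1 h1
      obtain ⟨N, hN⟩ := hsK (s ^ m • z₀) (by rw [map_smul, Algebra.smul_def, map_pow, ← hφa]; exact hm)
      refine (IsLocalization.map_units (Localization.Away a) (⟨a ^ n, n, rfl⟩ : Submonoid.powers a)).mul_left_eq_zero.mp ?_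
      rw [hz₀]
      refine (IsLocalization.map_eq_zero_iff (Submonoid.powers a) _ _).2 ⟨⟨a ^ (N + m), N + m, rfl⟩, ?_⟩
      show a ^ (N + m) * z₀ = 0
      rw [← hN, smul_smul, ← pow_add, Algebra.smul_def, map_pow]
    · obtain ⟨⟨d, ⟨_, n, rfl⟩⟩, hd⟩ := IsLocalization.surj (Submonoid.powers (φ' a)) v
      obtain ⟨N, z, hz⟩ := hsQ d
      refine ⟨IsLocalization.mk' _ z (⟨a ^ (N + n), N + n, rfl⟩ : Submonoid.powers a), ?_⟩
      have hu2 : IsUnit (algebraMap D D' (φ' (a ^ (N + n)))) := by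
        rw [map_pow]
        exact IsLocalization.map_units D' (⟨φ' a ^ (N + n), N + n, rfl⟩ : Submonoid.powers (φ' a))
      refine hu2.mul_left_inj.mp ?_
      rw [← hm'' (a ^ (N + n)), ← map_mul, IsLocalization.mk'_spec, hm'', hz, hm'', map_pow,
        Algebra.smul_def, map_pow (algebraMap A D), ← hφa, map_mul, ← hd, pow_add (φ' a), map_mul]
      ring
  have hD' : Algebra.Etale A (Localization.Away a) := Algebra.Etale.comp A P' _
  refine ⟨φ (algebraMap A P b) * algebraMap A C s, ?_, ?_⟩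
  · rw [hφb, ← map_mul]
    exact fun h => (Ideal.IsPrime.mem_or_mem inferInstance (show b * s ∈ p from h)).elim hb hs
  · have hloc : IsLocalization.Away (algebraMap C D (algebraMap A C s)) D' := by
      rw [← IsScalarTower.algebraMap_apply, ← hφa]; infer_instance
    have : IsLocalization.Away (φ (algebraMap A P b) * algebraMap A C s) D' :=
      IsLocalization.Away.mul' D D' _ _
    have : Algebra.Etale A D' := Algebra.Etale.of_equiv (AlgEquiv.ofBijective φ'' hbij)
    exact Algebra.Etale.of_equiv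
      ((IsLocalization.algEquiv (Submonoid.powers (φ (algebraMap A P b) * algebraMap A C s)) D'
        (Localization.Away (φ (algebraMap A P b) * algebraMap A C s))).restrictScalars A)

theorem etale_of_exact (h0 : ∀ c : C, c ⊗ₜ[A] (1 : C) = (1 : C) ⊗ₜ[A] c → c ∈ (algebraMap A C).range)
    (hinj : Function.Injective (algebraMap A C)) [Module.Flat A C] [Algebra.Etale C (C ⊗[A] C)] :
    Algebra.Etale A C := by
  rw [← RingHom.etale_algebraMap]
  let s : Set C := {g | Algebra.Etale A (Localization.Away g)}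
  refine RingHom.Etale.ofLocalizationSpanTarget (algebraMap A C) s ?_ fun g => ?_
  · by_contra h
    obtain ⟨m, hm, hle⟩ := Ideal.exists_le_maximal _ h
    obtain ⟨g, hg, het⟩ := exists_etale_away h0 hinj m
    exact hg (hle (Ideal.subset_span het))
  · rw [← IsScalarTower.algebraMap_eq A C (Localization.Away g.1)]
    exact (RingHom.etale_algebraMap (R := A) (S := Localization.Away g.1)).2 g.2

/-- A flat algebra with étale self tensor product is étale over the equalizer of the coprojections. -/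
theorem exists_etale_equalizer [Module.Flat A C] [Algebra.Etale C (C ⊗[A] C)] :
    ∃ A' : Subalgebra A C, (∀ c : C, c ∈ A' ↔ c ⊗ₜ[A] (1 : C) = (1 : C) ⊗ₜ[A] c) ∧ Algebra.Etale A' C := by
  let A' : Subalgebra A C := AlgHom.equalizer (Algebra.TensorProduct.includeLeft : C →ₐ[A] C ⊗[A] C)
    Algebra.TensorProduct.includeRight
  have hmem : ∀ c : C, c ∈ A' ↔ c ⊗ₜ[A] (1 : C) = (1 : C) ⊗ₜ[A] c := fun c => Iff.rfl
  refine ⟨A', hmem, ?_⟩
  -- the tensor square does not change
  let incR : C →ₐ[A'] C ⊗[A] C :=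
    { (Algebra.TensorProduct.includeRight : C →ₐ[A] C ⊗[A] C).toRingHom with
      commutes' := fun a => ((hmem a.1).1 a.2).symm }
  let T₁ : C ⊗[A] C →ₐ[C] C ⊗[A'] C :=
    Algebra.TensorProduct.lift (Algebra.ofId C _)
      ((Algebra.TensorProduct.includeRight : C →ₐ[A'] C ⊗[A'] C).restrictScalars A) fun _ _ => Commute.all _ _
  let T₂ : C ⊗[A'] C →ₐ[C] C ⊗[A] C :=
    Algebra.TensorProduct.lift (Algebra.ofId C _) incR fun _ _ => Commute.all _ _
  let e : C ⊗[A] C ≃ₐ[C] C ⊗[A'] C := AlgEquiv.ofAlgHom T₁ T₂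
    (Algebra.TensorProduct.ext' fun a c => by simp [T₁, T₂, incR])
    (Algebra.TensorProduct.ext' fun a c => by simp [T₁, T₂, incR])
  have : Algebra.Etale C (C ⊗[A'] C) := Algebra.Etale.of_equiv e
  -- flatness
  have : Module.Flat A' C := by
    let μ : A' ⊗[A] C →ₗ[A'] C :=
      (Algebra.TensorProduct.lift (Algebra.ofId A' C) (AlgHom.id A C) fun _ _ => Commute.all _ _).toLinearMap
    have hμ : ∀ x : A' ⊗[A] C, A'.val.toLinearMap.rTensor C x = (1 : C) ⊗ₜ[A] μ x := by
      intro x
      induction x using TensorProduct.induction_on with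
      | zero => simp
      | tmul a c =>
        have h1 : (a : C) ⊗ₜ[A] (1 : C) = (1 : C) ⊗ₜ[A] (a : C) := (hmem a.1).1 a.2
        have h2 := congrArg (· * ((1 : C) ⊗ₜ[A] c)) h1
        simp only [Algebra.TensorProduct.tmul_mul_tmul, mul_one, one_mul] at h2
        simpa [μ] using h2
      | add x y hx hy => simp only [map_add, hx, hy, TensorProduct.tmul_add]
    have hinjμ : Function.Injective μ := fun x y h =>
      Module.Flat.rTensor_preserves_injective_linearMap (M := C) A'.val.toLinearMap Subtype.val_injective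
        (by rw [hμ, hμ, h])
    exact Module.Flat.of_linearEquiv (LinearEquiv.ofBijective μ ⟨hinjμ, fun c => ⟨1 ⊗ₜ c, by simp [μ]⟩⟩).symm
  refine etale_of_exact (fun c hc => ?_) Subtype.val_injective
  have h1 := congrArg e.symm hc
  refine ⟨⟨c, (hmem c).2 ?_⟩, rfl⟩
  simpa [e, T₂, incR] using h1

end Groth.Agent.H13AlgSp.FlatEtale
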