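import Groth.Agent.H13AlgSp.FlatEtaleAlg2
import Groth.Agent.H12AlgSp.LQFScheme2
import Groth.Agent.H12AlgSp.OpenCover
import Groth.Agent.H12AlgSp.QC
import Groth.Agent.H13AlgSp.LocP

/-!
Flat monomorphisms of algebraic spaces are representable by schemes.
-/

set_option backward.isDefEq.respectTransparency false
set_option linter.style.haveILetI false

universe u

open CategoryTheory CategoryTheory.Limits AlgebraicGeometry Opposite Topology
open AlgSp Groth.Agent.H12AlgSp

namespace Groth.Agent.H13AlgSp.FlatMono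

open scoped TensorProduct

/-- A flat morphism of affine schemes with étale self base change factors as an étale morphism
through an affine scheme on which the two projections agree. -/
theorem exists_etale_factor {U T : Scheme.{u}} [IsAffine U] [IsAffine T] (p : U ⟶ T) [Flat p]
    [Etale (pullback.fst p p)] :
    ∃ (T' : Scheme.{u}) (v : T' ⟶ T) (w : U ⟶ T'), w ≫ v = p ∧ Etale w ∧
      pullback.fst p p ≫ w = pullback.snd p p ≫ w := by
  let A := Γ(T, ⊤)
  let C := Γ(U, ⊤)
  letI : Algebra A C := p.appTop.hom.toAlgebra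
  have : Module.Flat A C := (HasRingHomProperty.iff_of_isAffine (P := @Flat)).1 ‹Flat p›
  let i₁ : CommRingCat.of C ⟶ CommRingCat.of (C ⊗[A] C) :=
    CommRingCat.ofHom Algebra.TensorProduct.includeLeftRingHom
  let i₂ : CommRingCat.of C ⟶ CommRingCat.of (C ⊗[A] C) :=
    CommRingCat.ofHom Algebra.TensorProduct.includeRight.toRingHom
  have sq : IsPullback (Spec.map i₁ ≫ U.isoSpec.inv) (Spec.map i₂ ≫ U.isoSpec.inv) p p := by
    have h := isPullback_SpecMap_of_isPushout _ _ _ _ (CommRingCat.isPushout_tensorProduct A C C)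
    have hp : U.isoSpec.inv ≫ p = Spec.map p.appTop ≫ T.isoSpec.inv := (Scheme.isoSpec_inv_naturality p).symm
    exact h.of_iso (Iso.refl _) U.isoSpec.symm U.isoSpec.symm T.isoSpec.symm (by simp; rfl) (by simp; rfl)
      hp.symm hp.symm
  have hl : Etale (Spec.map i₁ ≫ U.isoSpec.inv) := by
    rw [← sq.isoPullback_hom_fst]
    exact MorphismProperty.comp_mem _ _ _ inferInstance inferInstance
  have hl' : Etale (Spec.map i₁) := by
    have := MorphismProperty.comp_mem (W := @Etale) _ _ hl (inferInstance : Etale U.isoSpec.hom)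
    rwa [Category.assoc, Iso.inv_hom_id, Category.comp_id] at this
  have : Algebra.Etale C (C ⊗[A] C) :=
    RingHom.etale_algebraMap.1 ((HasRingHomProperty.Spec_iff (P := @Etale)).1 hl')
  obtain ⟨A', hA', het⟩ := FlatEtale.exists_etale_equalizer (A := A) (C := C)
  let k : CommRingCat.of A' ⟶ CommRingCat.of C := CommRingCat.ofHom (algebraMap A' C)
  let k₀ : CommRingCat.of A ⟶ CommRingCat.of A' := CommRingCat.ofHom (algebraMap A A')
  refine ⟨Spec (CommRingCat.of A'), Spec.map k₀ ≫ T.isoSpec.inv, U.isoSpec.hom ≫ Spec.map k, ?_, ?_, ?_⟩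
  · rw [Category.assoc, ← Spec.map_comp_assoc, show k₀ ≫ k = p.appTop from rfl,
      Scheme.isoSpec_inv_naturality, Iso.hom_inv_id_assoc]
  · have : Etale (Spec.map k) := HasRingHomProperty.Spec_iff.mpr (RingHom.etale_algebraMap.2 het)
    exact MorphismProperty.comp_mem _ _ _ inferInstance this
  · rw [← sq.isoPullback_inv_fst, ← sq.isoPullback_inv_snd]
    simp only [Category.assoc, Iso.inv_hom_id_assoc, ← Spec.map_comp]
    refine congrArg (sq.isoPullback.inv ≫ Spec.map ·) (CommRingCat.hom_ext (RingHom.ext fun a => ?_))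
    exact (hA' a.1).1 a.2

variable {S : Scheme.{u}}

/-- A quasi-compact space flat and monomorphic over an affine scheme is a scheme. -/
theorem exists_iso_of_compact {X : Sp S} (hX : IsAlgSpace X) [CompactSpace (Points X)] {T : Over S}
    [IsAffine T.left] (f : X ⟶ (yon S).obj T) [Mono f] (hflat : LocP @Flat f) :
    ∃ (W : Over S) (μ : (yon S).obj W ⟶ X), IsIso μ := by
  obtain ⟨U, d, hU, hde, hds⟩ := Groth.Agent.H12AlgSp.exists_affine_atlas hX
  obtain ⟨p, hp⟩ := (yon S).map_surjective (d ≫ f)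
  have : Flat p.left := hflat d (𝟙 _) p hde (repWith_id _ T) (by rw [Category.comp_id, hp])
  obtain ⟨R, r₁, r₂', sqR⟩ := hde.rep d
  obtain ⟨r₂, rfl⟩ := (yon S).map_surjective r₂'
  have hr₁ : Etale r₁.left := hde.property _ _ r₁ sqR
  have hk : IsPullback ((yon S).map r₂) ((yon S).map r₁) ((yon S).map p) ((yon S).map p) := by
    rw [hp]
    exact IsKernelPair.comp_of_mono sqR
  have hk' : IsPullback r₂ r₁ p p :=
    IsPullback.of_map (yon S) ((yon S).map_injective (by simpa only [Functor.map_comp] using hk.w)) hk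
  have hkl : IsPullback r₂.left r₁.left p.left p.left := hk'.map (Over.forget S)
  have : Etale (pullback.fst p.left p.left) := by
    rw [← hkl.flip.isoPullback_inv_fst]
    exact MorphismProperty.comp_mem _ _ _ inferInstance hr₁
  obtain ⟨T₀, v, w, hwv, hwe, hww⟩ := exists_etale_factor p.left
  have hr : r₂.left ≫ w = r₁.left ≫ w :=
    ((hkl.isoPullback_hom_fst_assoc w).symm.trans (congrArg (hkl.isoPullback.hom ≫ ·) hww)).trans
      (hkl.isoPullback_hom_snd_assoc w)
  let T' : Over S := Over.mk (v ≫ T.hom)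
  let O : T₀.Opens := ⟨Set.range w, w.isOpenMap.isOpen_range⟩
  let TO := openOver T' O
  let wO : U.left ⟶ O.toScheme := IsOpenImmersion.lift O.ι w (by rw [Scheme.Opens.range_ι]; rfl)
  have hwO : wO ≫ O.ι = w := IsOpenImmersion.lift_fac _ _ _
  have hwOe : Etale wO := by
    have : Etale (wO ≫ O.ι) := hwO ▸ hwe
    exact Etale.of_comp wO O.ι
  have hwOs : Function.Surjective wO := fun z => by
    obtain ⟨x, hx⟩ := (z.2 : z.1 ∈ Set.range w)
    refine ⟨x, Subtype.ext ?_⟩
    rw [← hx, ← hwO]
    rfl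
  let û : U ⟶ TO := Over.homMk wO (by
    change wO ≫ O.ι ≫ v ≫ T.hom = U.hom
    rw [reassoc_of% hwO, reassoc_of% hwv, Over.w p])
  have hcov : Sieve.ofArrows (fun _ : PUnit.{u + 1} => U) (fun _ => û) ∈ J S TO :=
    ofArrows_mem_J _ (fun _ => inferInstanceAs (Flat wO))
      (fun _ => inferInstanceAs (LocallyOfFinitePresentation wO))
      (fun z => ⟨⟨⟩, hwOs z⟩)
  have hup : û ≫ openIncl T' O ≫ Over.homMk v rfl = p :=
    Over.OverMorphism.ext ((Category.assoc _ _ _).symm.trans ((congrArg (· ≫ v) hwO).trans hwv))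
  obtain ⟨g, hg⟩ := exists_glue (fun _ : PUnit.{u + 1} => û) hcov (fun _ => d) (fun _ _ W a b e => by
    refine (cancel_mono f).1 ?_
    rw [Category.assoc, Category.assoc, ← hp, ← Functor.map_comp, ← Functor.map_comp, ← hup,
      ← Category.assoc a, e, Category.assoc])
  specialize hg ⟨⟩
  have : Mono g := mono_of_yon fun A y y' e => by
    obtain ⟨a, rfl⟩ := (yon S).map_surjective y
    obtain ⟨a', rfl⟩ := (yon S).map_surjective y'
    let q₁ := pullback.snd wO a.left
    let q₂ := pullback.snd wO a'.left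
    let Z := pullback q₁ q₂
    let cZ : Z ⟶ A.left := pullback.fst q₁ q₂ ≫ q₁
    let C : Over S := Over.mk (cZ ≫ A.hom)
    let c : C ⟶ A := Over.homMk cZ rfl
    let m : C ⟶ U := Over.homMk (pullback.fst q₁ q₂ ≫ pullback.fst wO a.left) (by
      change _ = cZ ≫ A.hom
      simp only [cZ, q₁, Category.assoc, ← Over.w a, ← Over.w û]
      change pullback.fst q₁ q₂ ≫ pullback.fst wO a.left ≫ wO ≫ TO.hom = _
      rw [pullback.condition_assoc])
    let m' : C ⟶ U := Over.homMk (pullback.snd q₁ q₂ ≫ pullback.fst wO a'.left) (by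
      change _ = cZ ≫ A.hom
      simp only [cZ, Category.assoc]
      rw [pullback.condition_assoc, ← Over.w a', ← Over.w û]
      change pullback.snd q₁ q₂ ≫ pullback.fst wO a'.left ≫ wO ≫ TO.hom = _
      rw [pullback.condition_assoc])
    have hm : m ≫ û = c ≫ a := Over.OverMorphism.ext (by
      change (pullback.fst q₁ q₂ ≫ pullback.fst wO a.left) ≫ wO = (pullback.fst q₁ q₂ ≫ q₁) ≫ a.left
      exact (Category.assoc _ _ _).trans ((congrArg (pullback.fst q₁ q₂ ≫ ·) pullback.condition).trans
        (Category.assoc _ _ _).symm))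
    have hm' : m' ≫ û = c ≫ a' := Over.OverMorphism.ext (by
      change (pullback.snd q₁ q₂ ≫ pullback.fst wO a'.left) ≫ wO = (pullback.fst q₁ q₂ ≫ q₁) ≫ a'.left
      rw [pullback.condition (f := q₁) (g := q₂)]
      exact (Category.assoc _ _ _).trans ((congrArg (pullback.snd q₁ q₂ ≫ ·) pullback.condition).trans
        (Category.assoc _ _ _).symm))
    have hd : (yon S).map m ≫ d = (yon S).map m' ≫ d := by
      rw [← hg, ← Category.assoc, ← Category.assoc, ← Functor.map_comp, ← Functor.map_comp, hm, hm',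
        Functor.map_comp, Functor.map_comp, Category.assoc, Category.assoc, e]
    obtain ⟨ρ, hρ₁, hρ₂⟩ := sqR.exists_lift _ _ hd
    obtain ⟨ρ, rfl⟩ := (yon S).map_surjective ρ
    have h₁ : ρ ≫ r₂ = m := (yon S).map_injective (by rw [Functor.map_comp, hρ₁])
    have h₂ : ρ ≫ r₁ = m' := (yon S).map_injective (by rw [Functor.map_comp, hρ₂])
    have he : cZ ≫ a.left = cZ ≫ a'.left := by
      rw [← cancel_mono O.ι]
      have e₁ := congrArg (fun t => Over.Hom.left t ≫ O.ι) hm
      have e₂ := congrArg (fun t => Over.Hom.left t ≫ O.ι) hm'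
      rw [← h₁] at e₁
      rw [← h₂] at e₂
      simp only [Over.comp_left, Category.assoc] at e₁ e₂
      change ρ.left ≫ r₂.left ≫ wO ≫ O.ι = cZ ≫ a.left ≫ O.ι at e₁
      change ρ.left ≫ r₁.left ≫ wO ≫ O.ι = cZ ≫ a'.left ≫ O.ι at e₂
      rw [hwO] at e₁ e₂
      exact (Category.assoc _ _ _).trans ((e₁.symm.trans ((congrArg (ρ.left ≫ ·) hr).trans e₂)).trans
        (Category.assoc _ _ _).symm)
    have : Surjective wO := ⟨hwOs⟩
    refine hom_ext_of_cover (fun _ : PUnit.{u + 1} => c) (ofArrows_mem_J _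
      (fun _ => inferInstanceAs (Flat (pullback.fst q₁ q₂ ≫ pullback.snd wO a.left)))
      (fun _ => inferInstanceAs (LocallyOfFinitePresentation (pullback.fst q₁ q₂ ≫ pullback.snd wO a.left)))
      (fun z => ⟨⟨⟩, (inferInstance : Surjective (pullback.fst q₁ q₂ ≫ pullback.snd wO a.left)).surj z⟩))
      fun _ => ?_
    rw [← Functor.map_comp, ← Functor.map_comp, show c ≫ a = c ≫ a' from Over.OverMorphism.ext he]
  have : IsIso g := isIso_of_mono_of_local_lifts g fun A y => by
    obtain ⟨P, q, l, sqP⟩ := hde.rep y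
    have hqe : Etale q.left := hde.property _ _ q sqP
    have hqs : Surjective q.left := hds.property _ _ q sqP
    exact ⟨PUnit.{u + 1}, fun _ => P, fun _ => q, ofArrows_mem_J _ (fun _ => inferInstance)
      (fun _ => inferInstance) (fun z => ⟨⟨⟩, hqs.surj z⟩), fun _ => ⟨l ≫ (yon S).map û,
      by rw [Category.assoc, hg, sqP.w]⟩⟩
  exact ⟨TO, g, this⟩

/-- An algebraic space flat and monomorphic over an affine scheme is a scheme. -/
theorem exists_iso_of_affine {X : Sp S} (hX : IsAlgSpace X) {T : Over S}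
    [IsAffine T.left] (f : X ⟶ (yon S).obj T) [Mono f] (hflat : LocP @Flat f) :
    ∃ (W : Over S) (μ : (yon S).obj W ⟶ X), IsIso μ := by
  obtain ⟨ι, V, a, hV, -, hao, hac⟩ := exists_affine_family hX
  choose X' j hX' hj hr using fun i => exists_open_subspace hX (hao i).isOpen_range
  have hW : ∀ i, ∃ (W : Over S) (μ : (yon S).obj W ⟶ X' i), IsIso μ := fun i => by
    have := mono_of_openImmersion (hj i)
    have := hV i
    have : CompactSpace (Points ((yon S).obj (V i))) := (Points.schemeHomeo (V i)).compactSpace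
    have : CompactSpace (Points (X' i)) := by
      have hemb : IsOpenEmbedding (Points.map (j i)) :=
        .of_continuous_injective_isOpenMap (Points.continuous_map _) (injective_map_of_mono _)
          (isOpenMap_map_of_repWith (fun _ _ k (_ : IsOpenImmersion k) => inferInstanceAs (UniversallyOpen k))
            (hj i))
      refine ⟨hemb.isInducing.isCompact_iff.2 ?_⟩
      rw [Set.image_univ, hr i]
      exact isCompact_range (Points.continuous_map _)
    exact exists_iso_of_compact (hX' i) (j i ≫ f)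
      (locP_etale_precomp (repWith_le (fun _ _ k (_ : IsOpenImmersion k) => inferInstanceAs (Etale k)) (hj i))
        hflat)
  choose W μ hμ using hW
  exact exists_iso_of_openCover W (fun i => μ i ≫ j i)
    (fun i => repWith_comp (repWith_of_isIso _) (hj i)) fun A y t => by
    obtain ⟨i, hi⟩ := hac (Points.ofPt y t)
    obtain ⟨z, hz⟩ := (hr i).ge hi
    exact ⟨i, Points.map (inv (μ i)) z, by rw [← Points.map_comp, IsIso.inv_hom_id_assoc, hz]⟩

/-- An algebraic space flat and monomorphic over a scheme is a scheme. -/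
theorem exists_iso {X : Sp S} (hX : IsAlgSpace X) {T : Over S}
    (f : X ⟶ (yon S).obj T) [Mono f] (hflat : LocP @Flat f) :
    ∃ (W : Over S) (γ : W ⟶ T) (μ : (yon S).obj W ⟶ X), IsIso μ ∧ μ ≫ f = (yon S).map γ := by
  refine exists_iso_of_local_rep f fun O => ?_
  let jO := (yon S).map (openIncl T O.1)
  have : IsAffine (openOver T O.1).left := O.2
  have hT := IsAlgSpace.yon_obj (S := S) T
  have hQ : IsAlgSpace (pullback f jO) := isAlgSpace_pullback hT.diag hX (IsAlgSpace.yon_obj _) _ _
  obtain ⟨G, μ, hμ⟩ := exists_iso_of_affine hQ (pullback.snd f jO)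
    (Groth.Agent.H12AlgSp.locP_of_isPullback etLocal_flat (IsPullback.of_hasPullback _ _) hX hT
      (IsAlgSpace.yon_obj _) hflat)
  obtain ⟨γ, hγ⟩ := (yon S).map_surjective (μ ≫ pullback.snd f jO)
  exact ⟨G, γ, μ ≫ pullback.fst f jO, IsPullback.of_iso_pullback
    ⟨by rw [Category.assoc, pullback.condition, ← Category.assoc, hγ]⟩ (asIso μ) rfl hγ.symm⟩

theorem representable_of_flat_mono {X Y : Sp S} (hX : IsAlgSpace X) (hY : IsAlgSpace Y) (f : X ⟶ Y) [Mono f]
    (hflat : LocP @Flat f) : Representable f := by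
  intro T g
  obtain ⟨W, γ, μ, hμ, e⟩ := exists_iso
    (isAlgSpace_pullback hY.diag hX (IsAlgSpace.yon_obj T) f g) (pullback.snd f g)
    (Groth.Agent.H12AlgSp.locP_of_isPullback etLocal_flat (IsPullback.of_hasPullback f g) hX hY
      (IsAlgSpace.yon_obj T) hflat)
  exact ⟨W, γ, μ ≫ pullback.fst f g, IsPullback.of_iso_pullback
    ⟨by rw [Category.assoc, pullback.condition, ← Category.assoc, e]⟩ (asIso μ) rfl e⟩

end Groth.Agent.H13AlgSp.FlatMono
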