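import Groth.Agent.H12AlgSp.ElemNbhdExists
import Groth.Agent.H12AlgSp.QSPullback
import Groth.Agent.H12AlgSp.IdealEt
import Groth.Agent.H12AlgSp.OpenScheme
import Groth.Agent.H13AlgSp.RedInduced
import Groth.Agent.H13AlgSp.ElemNbhd
import Groth.Agent.H13AlgSp.DistSq
import Groth.Agent.H18Et.TopInvariance
import Groth.Agent.H12AlgSp.LimitDescendIso

/-!
The flat neighbourhood of a closed point given by the local ring of an elementary etale neighbourhood.
-/

set_option autoImplicit false
set_option backward.isDefEq.respectTransparency false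
set_option linter.style.haveILetI false

universe u

open CategoryTheory CategoryTheory.Limits AlgebraicGeometry Opposite
open AlgSp Groth.Agent.H12AlgSp Groth.Agent.H13Cartier

namespace Groth.Agent.H13AlgSp.FlatNbhd

variable {S : Scheme.{u}} {X : Sp S} {U : Over S} {a : (yon S).obj U ⟶ X} {u : U.left} {z : Points X}

/-- The spectrum of the local ring at `u` as a scheme over `S`. -/
noncomputable abbrev locPt (u : U.left) : Over S := Over.mk (U.left.fromSpecStalk u ≫ U.hom)

/-- The map from the spectrum of the local ring. -/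
noncomputable abbrev locMap (u : U.left) : locPt u ⟶ U := Over.homMk (U.left.fromSpecStalk u) rfl

theorem flat_fromSpecStalk (Y : Scheme.{u}) (y : Y) : Flat (Y.fromSpecStalk y) := by
  obtain ⟨V, hV, hy, -⟩ := TopologicalSpace.Opens.isBasis_iff_nbhd.mp Y.isBasis_affineOpens
    (show y ∈ (⊤ : Y.Opens) from trivial)
  rw [← hV.fromSpecStalk_eq_fromSpecStalk hy, IsAffineOpen.fromSpecStalk]
  haveI : Flat (Spec.map (Y.presheaf.germ V y hy)) := by
    rw [HasRingHomProperty.Spec_iff (P := @Flat)]
    letI := TopCat.Presheaf.algebra_section_stalk Y.presheaf ⟨y, hy⟩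
    have := hV.isLocalization_stalk ⟨y, hy⟩
    exact RingHom.flat_algebraMap_iff.2 (IsLocalization.flat _ (hV.primeIdealOf ⟨y, hy⟩).asIdeal.primeCompl)
  infer_instance

theorem mono_locMap (u : U.left) : Mono (locMap (S := S) u) :=
  (Over.forget S).mono_of_mono_map (inferInstanceAs (Mono (U.left.fromSpecStalk u)))

variable (hu : IsElemEtaleNbhd a u z) (hfib : Points.ofPt a ⁻¹' {z} = {u})

include hu hfib

/-- Over a closed subspace supported at the point, the local ring is isomorphic to the subspace. -/
theorem exists_pullback_iso (hX : IsAlgSpace X) (hz : IsClosed ({z} : Set (Points X))) {Z : Sp S} {i : Z ⟶ X}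
    (hi : RepWith @IsClosedImmersion i) (hr : Set.range (Points.map i) = {z}) :
    ∃ (W : Over S) (r : W ⟶ locPt u) (k : (yon S).obj W ⟶ Z), IsIso k ∧
      IsPullback ((yon S).map r) k ((yon S).map (locMap u) ≫ a) i := by
  obtain ⟨W, w, k, sq⟩ := hi.rep a
  haveI hw : IsClosedImmersion w.left := hi.property a k w sq
  haveI : Mono w := (Over.forget S).mono_of_mono_map (inferInstanceAs (Mono w.left))
  have hrw : Set.range w.left = {u} := by rw [← preimage_ofPt_range sq, hr, hfib]
  obtain ⟨w₀, hw₀⟩ : u ∈ Set.range w.left := hrw.ge rfl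
  haveI : Nonempty W.left := ⟨w₀⟩
  haveI : Subsingleton W.left := ⟨fun x y => w.left.isClosedEmbedding.injective
    ((hrw.le ⟨x, rfl⟩ : w.left x = u).trans (hrw.le ⟨y, rfl⟩ : w.left y = u).symm)⟩
  have hke : RepWith @Etale k := repWith_of_isPullback sq.flip hu.etale
  haveI hmq : Mono ((yon S).map (resMap u) ≫ a) := mono_elem hu
  have hres : RepWith @IsClosedImmersion ((yon S).map (resMap u)) := by
    refine (repWith_yon_map_iff _ _).2 (isClosed_singleton_iff_isClosedImmersion.1 ?_)
    rw [← hfib]
    exact hz.preimage (Points.continuous_ofPt a)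
  haveI : IsIso k := by
    have hs : ∀ ⦃T : Over S⦄ (g : (yon S).obj T ⟶ Z) (V : Over S) (fst : (yon S).obj V ⟶ (yon S).obj W)
        (snd : V ⟶ T), IsPullback fst ((yon S).map snd) k g → IsIso snd := by
      intro T g V fst snd sqT
      haveI : Etale snd.left := hke.property g fst snd sqT
      haveI : Surjective snd.left := ⟨fun t => by
        have hmem : Points.ofPt g t ∈ Set.range (Points.map k) := by
          obtain ⟨y, hy, -⟩ := exists_point_of_isPullback sq (Points.ofPt g t) (Points.ofScheme U u) (by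
            rw [← Points.ofPt_eq_map_ofScheme, hu.ofPt_eq]
            exact (hr.le ⟨_, rfl⟩ : Points.map i (Points.ofPt g t) = z))
          exact ⟨y, hy⟩
        exact (preimage_ofPt_range sqT).le hmem⟩
      haveI : Surjective (pullback.diagonal snd.left) := ⟨fun v => by
        let P := pullback snd.left snd.left
        let L : Over S := Over.mk (P.fromSpecResidueField v ≫ pullback.fst snd.left snd.left ≫ V.hom)
        haveI : IsReduced L.left := inferInstanceAs (IsReduced (Spec (P.residueField v)))
        let v₁ : L ⟶ V := Over.homMk (P.fromSpecResidueField v ≫ pullback.fst snd.left snd.left) (Category.assoc _ _ _)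
        let v₂ : L ⟶ V := Over.homMk (P.fromSpecResidueField v ≫ pullback.snd snd.left snd.left) (by
          change _ = P.fromSpecResidueField v ≫ pullback.fst snd.left snd.left ≫ V.hom
          rw [← Over.w snd, pullback.condition_assoc, Category.assoc])
        have ev : v₁ ≫ snd = v₂ ≫ snd := Over.OverMorphism.ext (by
          change (_ ≫ _) ≫ snd.left = (_ ≫ _) ≫ snd.left
          rw [Category.assoc, Category.assoc, pullback.condition])
        obtain ⟨f, rfl⟩ := (yon S).map_surjective fst
        have hl : ∀ y : L ⟶ W, ∃ l, l ≫ (yon S).map (resMap u) = (yon S).map (y ≫ w) := fun y => by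
          refine exists_factor_closed hres isReducedSp_yon _ ?_
          rw [range_map_yon, range_map_yon]
          rintro _ ⟨p, rfl⟩
          refine ⟨IsLocalRing.closedPoint (U.left.residueField u), ?_⟩
          rw [← Category.comp_id ((yon S).map (resMap u)), ← Category.comp_id ((yon S).map (y ≫ w)), ofPt_map, ofPt_map]
          congr 1
          rw [Over.comp_left, Scheme.Hom.comp_apply, (hrw.le ⟨_, rfl⟩ : w.left (y.left p) = u)]
          exact Scheme.fromSpecResidueField_apply _ _
        obtain ⟨l₁, hl₁⟩ := hl (v₁ ≫ f)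
        obtain ⟨l₂, hl₂⟩ := hl (v₂ ≫ f)
        have ek : (yon S).map (v₁ ≫ f) ≫ k = (yon S).map (v₂ ≫ f) ≫ k := by
          rw [Functor.map_comp, Functor.map_comp, Category.assoc, Category.assoc, sqT.w, ← Functor.map_comp_assoc,
            ← Functor.map_comp_assoc, ev]
        have el : l₁ = l₂ := by
          rw [← cancel_mono ((yon S).map (resMap u) ≫ a), reassoc_of% hl₁, reassoc_of% hl₂]
          have := congrArg (· ≫ i) ek
          simp only [Category.assoc, sq.w] at this
          simpa only [Functor.map_comp, Category.assoc] using this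
        have ey : v₁ ≫ f = v₂ ≫ f := by
          rw [← cancel_mono w]
          exact (yon S).map_injective (by rw [← hl₁, el, hl₂])
        have evv : v₁ = v₂ := (yon S).map_injective (sqT.hom_ext
          (by rw [← Functor.map_comp, ← Functor.map_comp, ey]) (by rw [← Functor.map_comp, ← Functor.map_comp, ev]))
        have hd : P.fromSpecResidueField v =
            (P.fromSpecResidueField v ≫ pullback.fst snd.left snd.left) ≫ pullback.diagonal snd.left := by
          apply pullback.hom_ext
          · simp
          · simp only [Category.assoc, pullback.diagonal_snd, Category.comp_id]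
            exact (congrArg (fun x => x.left) evv).symm
        refine ⟨(P.fromSpecResidueField v ≫ pullback.fst snd.left snd.left) (IsLocalRing.closedPoint _), ?_⟩
        rw [← Scheme.Hom.comp_apply, ← hd]
        exact Scheme.fromSpecResidueField_apply _ _⟩
      haveI : UniversallyInjective snd.left := (UniversallyInjective.iff_diagonal (f := snd.left)).mpr ‹_›
      haveI := H18Et.TopInv.isOpenImmersion_of_etale_of_universallyInjective snd.left
      haveI : IsIso snd.left := (isIso_iff_isOpenImmersion_and_surjective _).mpr ⟨inferInstance, inferInstance⟩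
      haveI : IsIso ((Over.forget S).map snd) := ‹_›
      exact isIso_of_reflects_iso snd (Over.forget S)
    refine isIso_of_repWith_isomorphisms ⟨hke.rep, fun T V g fst snd sqT => ?_⟩
    haveI := hs g V fst snd sqT
    exact inferInstanceAs (IsIso ((Over.forget S).map snd))
  haveI : IsAffine W.left := isAffine_of_subsingleton _
  haveI : Nonempty W.left := ⟨w₀⟩
  have hne : Nonempty (Spec Γ(W.left, ⊤)) := ⟨W.left.isoSpec.hom w₀⟩
  haveI : Subsingleton (PrimeSpectrum Γ(W.left, ⊤)) :=
    (Scheme.homeoOfIso W.left.isoSpec).symm.injective.subsingleton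
  haveI : Nontrivial Γ(W.left, ⊤) := PrimeSpectrum.nonempty_iff_nontrivial.mp hne
  haveI : IsLocalRing Γ(W.left, ⊤) := by
    obtain ⟨m, hm⟩ := Ideal.exists_maximal Γ(W.left, ⊤)
    exact IsLocalRing.of_unique_max_ideal ⟨m, hm, fun n hn =>
      congrArg PrimeSpectrum.asIdeal (Subsingleton.elim (⟨n, hn.isPrime⟩ : PrimeSpectrum Γ(W.left, ⊤)) ⟨m, hm.isPrime⟩)⟩
  obtain ⟨r₀, hr₀⟩ : ∃ r : W.left ⟶ Spec (U.left.presheaf.stalk u), r ≫ U.left.fromSpecStalk u = w.left := by
    let g := W.left.isoSpec.inv ≫ w.left
    have hg : g (IsLocalRing.closedPoint Γ(W.left, ⊤)) = u := hrw.le ⟨W.left.isoSpec.inv _, rfl⟩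
    obtain ⟨r', hr'⟩ : ∃ r' : Spec Γ(W.left, ⊤) ⟶ Spec (U.left.presheaf.stalk u), r' ≫ U.left.fromSpecStalk u = g := by
      rw [← hg]
      exact ⟨_, Scheme.Spec_stalkClosedPointTo_fromSpecStalk g⟩
    exact ⟨W.left.isoSpec.hom ≫ r', by rw [Category.assoc, hr']; simp [g]⟩
  let r : W ⟶ locPt u := Over.homMk r₀ (by
    change r₀ ≫ U.left.fromSpecStalk u ≫ U.hom = W.hom
    rw [← Category.assoc, hr₀, Over.w w])
  have hrm : r ≫ locMap u = w := Over.OverMorphism.ext hr₀
  haveI := mono_locMap (S := S) u
  haveI : Mono ((yon S).map (locMap u)) := (yon S).map_mono _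
  refine ⟨W, r, k, inferInstance, IsPullback.of_isLimit' ⟨by rw [← Functor.map_comp_assoc, hrm, sq.w]⟩
    (PullbackCone.IsLimit.mk _ (fun c => sq.lift c.snd (c.fst ≫ (yon S).map (locMap u)) (by
      rw [Category.assoc]; exact c.condition.symm)) (fun c => ?_) (fun c => sq.lift_fst _ _ _) (fun c m h₁ h₂ => ?_))⟩
  · rw [← cancel_mono ((yon S).map (locMap u)), Category.assoc, ← Functor.map_comp, hrm]
    exact sq.lift_snd _ _ _
  · apply sq.hom_ext
    · rw [sq.lift_fst, h₂]
    · rw [sq.lift_snd, ← hrm, Functor.map_comp, ← Category.assoc, h₁]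

/-- The residue field point is a closed immersion. -/
theorem repWith_closed_pt (hX : IsAlgSpace X) (hz : IsClosed ({z} : Set (Points X))) :
    RepWith @IsClosedImmersion ((yon S).map (resMap u) ≫ a) := by
  haveI hmq : Mono ((yon S).map (resMap u) ≫ a) := mono_elem hu
  obtain ⟨T, iT, -, hiT⟩ := exists_isRedInduced hX hz
  obtain ⟨W, r, k, hk, sq⟩ := exists_pullback_iso hu hfib hX hz hiT.1 hiT.2.1
  haveI : IsReduced (resPt (S := S) u).left := inferInstanceAs (IsReduced (Spec (U.left.residueField u)))
  have hq : ∀ p, Points.ofPt ((yon S).map (resMap u) ≫ a) p = z := fun p => by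
    rw [ofPt_map, show (resMap (S := S) u).left p = u from Scheme.fromSpecResidueField_apply _ _, hu.ofPt_eq]
  obtain ⟨g, hg⟩ := exists_factor_closed hiT.1 isReducedSp_yon ((yon S).map (resMap u) ≫ a) (by
    rw [range_map_yon]
    rintro _ ⟨p, rfl⟩
    rw [hiT.2.1]; exact hq p)
  have hres : RepWith @IsClosedImmersion ((yon S).map (resMap u)) := by
    refine (repWith_yon_map_iff _ _).2 (isClosed_singleton_iff_isClosedImmersion.1 ?_)
    rw [← hfib]
    exact hz.preimage (Points.continuous_ofPt a)
  obtain ⟨h, hh⟩ := exists_factor_closed hres hiT.2.2 (inv k ≫ (yon S).map (r ≫ locMap u)) (by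
    rintro _ ⟨t, rfl⟩
    rw [range_map_yon]
    obtain ⟨p, hp⟩ := (Points.schemeHomeo U).surjective (Points.map (inv k ≫ (yon S).map (r ≫ locMap u)) t)
    have e : Points.ofPt a p = z := by
      rw [Points.ofPt_eq_map_ofScheme, show Points.ofScheme U p = _ from hp, ← Points.map_comp, Functor.map_comp]
      simp only [Category.assoc]
      rw [sq.w, IsIso.inv_hom_id_assoc]
      exact hiT.2.1.le ⟨t, rfl⟩
    rw [show p = u from hfib.le e] at hp
    refine ⟨IsLocalRing.closedPoint (U.left.residueField u), ?_⟩
    rw [← Category.comp_id ((yon S).map (resMap u)), ofPt_map, show (resMap (S := S) u).left _ = u from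
      Scheme.fromSpecResidueField_apply _ _, ← hp, Points.ofPt_eq_map_ofScheme, Points.map_id]
    rfl)
  haveI := mono_of_openImmersion (j := 𝟙 T) (repWith_of_isIso _)
  haveI : Mono iT := mono_of_repWith (fun _ _ q (_ : IsClosedImmersion q) => (inferInstance : Mono q)) hiT.1
  have hhi : h ≫ (yon S).map (resMap u) ≫ a = iT := by
    rw [reassoc_of% hh, Functor.map_comp, Category.assoc, sq.w, IsIso.inv_hom_id_assoc]
  haveI : IsIso g := ⟨h, by rw [← cancel_mono ((yon S).map (resMap u) ≫ a), Category.assoc, hhi, hg, Category.id_comp],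
    by rw [← cancel_mono iT, Category.assoc, hg, hhi, Category.id_comp]⟩
  rw [← hg]
  exact repWith_comp (repWith_of_isIso g) hiT.1

/-- The range of a closed subspace cut out by a power of the ideal of the point. -/
theorem range_pow (hX : IsAlgSpace X) (hUa : IsAffine U.left) {Z Z' : Sp S} {i : Z ⟶ X} {i' : Z' ⟶ X}
    {I : IdealEt X} (hI : IsCutOutBy I i) (hr : Set.range (Points.map i) = {z}) {n : ℕ} (hn : 1 ≤ n)
    (hI' : IsCutOutBy (I ^ n) i') : Set.range (Points.map i') = {z} := by
  refine Set.Subset.antisymm ?_ ?_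
  · rintro y ⟨t, rfl⟩
    obtain ⟨V, b, hVb, hbs⟩ := hX.atlas
    obtain ⟨v, hv⟩ := surjective_ofPt_of_repWith le_rfl hbs (Points.map i' t)
    obtain ⟨O, hO, hvO, -⟩ := TopologicalSpace.Opens.isBasis_iff_nbhd.mp V.left.isBasis_affineOpens
      (show v ∈ (⊤ : V.left.Opens) from trivial)
    let E := openEt hVb ⟨O, hO⟩
    have hE : IsAffine E.obj.left.left := affine_openEt hVb ⟨O, hO⟩
    obtain ⟨K, hK, eK⟩ := exists_cutsOut_ideal hI E hE
    obtain ⟨K', hK', eK'⟩ := exists_cutsOut_ideal hI' E hE
    have hKK : K' = K ^ n := by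
      haveI : IsAffine E.obj.left.left := hE
      refine Scheme.IdealSheafData.ext_of_isAffine ?_
      rw [eK', Scheme.IdealSheafData.ideal_pow, Pi.pow_apply, eK]
      rfl
    obtain ⟨q, sqK⟩ := hK
    obtain ⟨q', sqK'⟩ := hK'
    have hpt : Points.ofPt E.obj.hom (show E.obj.left.left from ⟨v, hvO⟩) = Points.map i' t := by
      change Points.ofPt ((yon S).map (openIncl V O) ≫ b) _ = _
      rw [ofPt_map]; exact hv
    have h1 : (show E.obj.left.left from ⟨v, hvO⟩) ∈ Set.range (subIncl _ K').left :=
      (preimage_ofPt_range sqK').le ⟨t, hpt.symm⟩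
    have h2 : (show E.obj.left.left from ⟨v, hvO⟩) ∈ Set.range (subIncl _ K).left := by
      change _ ∈ Set.range K.subschemeι
      change _ ∈ Set.range K'.subschemeι at h1
      rw [Scheme.IdealSheafData.range_subschemeι] at h1 ⊢
      rwa [hKK, Scheme.IdealSheafData.support_pow _ _ (by omega)] at h1
    obtain ⟨y, hy⟩ := (preimage_ofPt_range sqK).ge h2
    rw [← hpt, ← hy, ← hr]
    exact ⟨y, rfl⟩
  · rintro y rfl
    let E : EtOver X := EtOver.mk a hu.etale
    have hE : IsAffine E.obj.left.left := hUa
    obtain ⟨K, hK, eK⟩ := exists_cutsOut_ideal hI E hE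
    obtain ⟨K', hK', eK'⟩ := exists_cutsOut_ideal hI' E hE
    have hKK : K' = K ^ n := by
      haveI : IsAffine E.obj.left.left := hE
      refine Scheme.IdealSheafData.ext_of_isAffine ?_
      rw [eK', Scheme.IdealSheafData.ideal_pow, Pi.pow_apply, eK]
      rfl
    obtain ⟨q, sqK⟩ := hK
    obtain ⟨q', sqK'⟩ := hK'
    have h1 : u ∈ Set.range K.subschemeι :=
      (preimage_ofPt_range sqK).le (show Points.ofPt a u ∈ Set.range (Points.map i) by rw [hr, hu.ofPt_eq]; rfl)
    rw [Scheme.IdealSheafData.range_subschemeι, ← Scheme.IdealSheafData.support_pow K n (by omega), ← hKK,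
      ← Scheme.IdealSheafData.range_subschemeι] at h1
    have := (preimage_ofPt_range sqK').ge h1
    rw [← hu.ofPt_eq]
    exact this

end Groth.Agent.H13AlgSp.FlatNbhd
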