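import Mathlib.RingTheory.Flat.Localization
import Mathlib.RingTheory.FinitePresentation
import Mathlib.AlgebraicGeometry.Morphisms.Flat
import Mathlib.AlgebraicGeometry.Morphisms.ClosedImmersion
import Mathlib.AlgebraicGeometry.Morphisms.FinitePresentation
import Mathlib.AlgebraicGeometry.Stalk

/-!
Semilocalizations along a closed subset on which a morphism is flat.
-/

set_option autoImplicit false
set_option linter.style.haveILetI false
set_option backward.isDefEq.respectTransparency false
set_option backward.isDefEq.respectTransparency.types false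

universe u

open CategoryTheory AlgebraicGeometry

namespace Groth.Agent.H13AlgSp.SemiLocal

variable {B : Type u} [CommRing B]

/-- `1 + J`. -/
abbrev onePlus (J : Ideal B) : Submonoid B := MonoidHom.mker (Ideal.Quotient.mk J).toMonoidHom

theorem mem_range_of_le {J : Ideal B} (q : PrimeSpectrum B) (hq : J ≤ q.asIdeal) :
    q ∈ Set.range (PrimeSpectrum.comap (algebraMap B (Localization (onePlus J)))) := by
  rw [PrimeSpectrum.localization_comap_range (Localization (onePlus J)) (onePlus J)]
  refine Set.disjoint_left.2 fun x hx hxq => q.2.ne_top ((Ideal.eq_top_iff_one _).2 ?_)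
  have hx' : Ideal.Quotient.mk J x = 1 := hx
  rw [← map_one (Ideal.Quotient.mk J), Ideal.Quotient.eq] at hx'
  simpa using sub_mem (show x ∈ q.asIdeal from hxq) (hq hx')

theorem flat_of_le {A : Type u} [CommRing A] [Algebra A B] (J : Ideal B)
    (H : ∀ q : Ideal B, ∀ [q.IsPrime], J ≤ q → Module.Flat A (Localization.AtPrime q)) :
    Module.Flat A (Localization (onePlus J)) := by
  refine Module.flat_of_isLocalized_maximal (S := Localization (onePlus J)) (Localization (onePlus J))
    (fun P => Localization.AtPrime P) (fun P _ => Algebra.linearMap _ _) fun P _ => ?_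
  let q := P.comap (algebraMap B (Localization (onePlus J)))
  haveI : q.IsPrime := Ideal.IsPrime.comap _
  have hle : J ≤ q := fun b hb => by
    by_contra hbq
    have hbP : algebraMap B (Localization (onePlus J)) b ∉ P := hbq
    obtain ⟨c, m, hm, hc⟩ := Ideal.IsMaximal.exists_inv (inferInstance : P.IsMaximal) hbP
    obtain ⟨⟨c₀, s⟩, hs⟩ := IsLocalization.surj (onePlus J) c
    have hu : s.1 - c₀ * b ∈ onePlus J := by
      show Ideal.Quotient.mk J (s.1 - c₀ * b) = 1
      rw [map_sub, map_mul, Ideal.Quotient.eq_zero_iff_mem.2 hb, mul_zero, sub_zero]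
      exact s.2
    refine Ideal.IsPrime.ne_top (inferInstance : P.IsPrime) (Ideal.eq_top_of_isUnit_mem _ ?_
      (IsLocalization.map_units (Localization (onePlus J)) (⟨_, hu⟩ : onePlus J)))
    have e : algebraMap B (Localization (onePlus J)) (s.1 - c₀ * b) = m * algebraMap B _ s.1 := by
      rw [map_sub, map_mul, ← hs]
      linear_combination (-algebraMap B (Localization (onePlus J)) s.1) * hc
    rw [e]
    exact Ideal.mul_mem_right _ _ hm
  haveI : IsLocalization.AtPrime (Localization.AtPrime P) q :=
    IsLocalization.isLocalization_isLocalization_atPrime_isLocalization (onePlus J) _ P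
  haveI : IsScalarTower A B (Localization.AtPrime P) := IsScalarTower.of_algebraMap_eq fun a => by
    rw [IsScalarTower.algebraMap_apply A (Localization (onePlus J)) (Localization.AtPrime P),
      IsScalarTower.algebraMap_apply B (Localization (onePlus J)) (Localization.AtPrime P),
      ← IsScalarTower.algebraMap_apply A B]
  let e : Localization.AtPrime q ≃ₐ[B] Localization.AtPrime P :=
    IsLocalization.algEquiv q.primeCompl _ _
  haveI := H q hle
  exact Module.Flat.of_linearEquiv (e.restrictScalars A).symm.toLinearEquiv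

theorem flat_stalk_ring {A : Type u} [CommRing A] [Algebra A B] (q : Ideal B) [q.IsPrime]
    (h : ((Spec.map (CommRingCat.ofHom (algebraMap A B))).stalkMap ⟨q, inferInstance⟩).hom.Flat) :
    Module.Flat A (Localization.AtPrime q) := by
  let x : PrimeSpectrum B := ⟨q, inferInstance⟩
  let φ := Spec.map (CommRingCat.ofHom (algebraMap A B))
  let p := φ x
  have e1 := Scheme.SpecMap_stalkMap_fromSpecStalk φ (x := x)
  rw [Spec.fromSpecStalk_eq, Spec.fromSpecStalk_eq, ← Spec.map_comp, ← Spec.map_comp,
    ← Spec.algebraMap_stalkIso_inv, ← Spec.algebraMap_stalkIso_inv] at e1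
  have e2 := Spec.map_injective e1
  have e3 : CommRingCat.ofHom (algebraMap A (Localization.AtPrime q)) =
      (CommRingCat.ofHom (algebraMap A (Localization.AtPrime p.asIdeal)) ≫ (Spec.stalkIso _ p).inv) ≫
        φ.stalkMap x ≫ (Spec.stalkIso (CommRingCat.of B) x).hom := by
    rw [← Category.assoc, e2, Category.assoc, Category.assoc, Iso.inv_hom_id, Category.comp_id,
      ← CommRingCat.ofHom_comp, ← IsScalarTower.algebraMap_eq]
  have h1 : (algebraMap A (Localization.AtPrime p.asIdeal)).Flat :=
    RingHom.flat_algebraMap_iff.2 (IsLocalization.flat _ p.asIdeal.primeCompl)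
  have h2 : ((Spec.stalkIso (CommRingCat.of A) p).inv).hom.Flat :=
    RingHom.Flat.of_bijective (ConcreteCategory.bijective_of_isIso (Spec.stalkIso (CommRingCat.of A) p).inv)
  have h3 : ((Spec.stalkIso (CommRingCat.of B) x).hom).hom.Flat :=
    RingHom.Flat.of_bijective (ConcreteCategory.bijective_of_isIso (Spec.stalkIso (CommRingCat.of B) x).hom)
  have h4 := ((h1.comp h2).comp (h.comp h3))
  rw [← RingHom.flat_algebraMap_iff]
  have := congrArg CommRingCat.Hom.hom e3
  rw [CommRingCat.hom_ofHom] at this
  rw [this]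
  exact h4

theorem flat_semilocal {A : Type u} [CommRing A] [Algebra A B] (J : Ideal B)
    (h : ∀ x : PrimeSpectrum B, J ≤ x.asIdeal →
      ((Spec.map (CommRingCat.ofHom (algebraMap A B))).stalkMap x).hom.Flat) :
    Module.Flat A (Localization (onePlus J)) :=
  flat_of_le J fun q _ hq => flat_stalk_ring q (h ⟨q, inferInstance⟩ hq)

/-- A closed immersion of finite presentation into an affine scheme is cut out by finitely many functions. -/
theorem exists_fg_ideal {A : CommRingCat.{u}} {W : Scheme.{u}} (i : W ⟶ Spec A) [IsClosedImmersion i]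
    [LocallyOfFinitePresentation i] :
    ∃ I : Ideal A, I.FG ∧ Set.range i = PrimeSpectrum.zeroLocus (I : Set A) ∧
      ∀ (L : Type u) [CommRing L] (g : A ⟶ CommRingCat.of L), (∀ a ∈ I, g.hom a = 0) →
        ∃ l : Spec (CommRingCat.of L) ⟶ W, l ≫ i = Spec.map g := by
  haveI : IsAffine W := isAffine_of_isAffineHom i
  obtain ⟨-, hs⟩ := IsClosedImmersion.isAffine_surjective_of_isAffine i
  let φ : A ⟶ Γ(W, ⊤) := (Scheme.ΓSpecIso A).inv ≫ i.appTop
  have hφ : Spec.map φ = W.isoSpec.inv ≫ i := by
    rw [Iso.eq_inv_comp, Scheme.isoSpec_hom, Spec.map_comp, ← Scheme.toSpecΓ_naturality_assoc,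
      toSpecΓ_SpecMap_ΓSpecIso_inv, Category.comp_id]
  have hsurj : Function.Surjective φ.hom := hs.comp (ConcreteCategory.bijective_of_isIso (Scheme.ΓSpecIso A).inv).2
  have hfp : LocallyOfFinitePresentation (Spec.map φ) := by rw [hφ]; infer_instance
  have hfp' : φ.hom.FinitePresentation :=
    (HasRingHomProperty.Spec_iff (P := @LocallyOfFinitePresentation)).1 hfp
  refine ⟨RingHom.ker φ.hom, ?_, ?_, fun L _ g hg => ?_⟩
  · letI := φ.hom.toAlgebra
    haveI : Algebra.FinitePresentation A Γ(W, ⊤) := hfp'
    exact Algebra.FinitePresentation.ker_fG_of_surjective (Algebra.ofId A Γ(W, ⊤)) hsurj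
  · calc Set.range i = Set.range (Spec.map φ) := by
          rw [hφ]
          ext x
          exact ⟨fun ⟨w, hw⟩ => ⟨W.isoSpec.hom w, by rw [← hw, ← Scheme.Hom.comp_apply, Iso.hom_inv_id_assoc]⟩,
            fun ⟨w, hw⟩ => ⟨_, hw⟩⟩
      _ = _ := (range_comap_of_surjective _ φ.hom hsurj)

  · let h : Γ(W, ⊤) ⟶ CommRingCat.of L := CommRingCat.ofHom
      (φ.hom.liftOfSurjective hsurj ⟨g.hom, fun a ha => RingHom.mem_ker.2 (hg a ha)⟩)
    refine ⟨Spec.map h ≫ W.isoSpec.inv, ?_⟩
    rw [Category.assoc, ← hφ, ← Spec.map_comp]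
    refine congrArg Spec.map (CommRingCat.hom_ext (RingHom.ext fun a => ?_))
    exact RingHom.liftOfRightInverse_comp_apply φ.hom (Function.surjInv hsurj) (Function.rightInverse_surjInv hsurj) ⟨g.hom, fun a ha => RingHom.mem_ker.2 (hg a ha)⟩ a

end Groth.Agent.H13AlgSp.SemiLocal
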