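import Groth.Agent.H13AlgSp.TorsScheme
import Groth.Agent.H13AlgSp.SemiLocal
import Groth.Agent.H13AlgSp.Cover
import Groth.Agent.H12AlgSp.Univ
import Groth.Agent.H12AlgSp.Presentation
import Groth.Agent.H12AlgSp.QC

/-!
Agreement of maps from overlaps of two flat pieces over the closed part.
-/

set_option autoImplicit false
set_option linter.style.haveILetI false
set_option backward.isDefEq.respectTransparency false
set_option backward.isDefEq.respectTransparency.types false

universe u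

open CategoryTheory CategoryTheory.Limits AlgebraicGeometry
open AlgSp Groth.Agent.H12AlgSp

namespace Groth.Agent.H13AlgSp.FormalGlueAgree

variable {S : Scheme.{u}}

theorem eq_of_affine {F G : Sp S} (hF : IsAlgSpace F) (a b : F ⟶ G)
    (h : ∀ (Q : Over S), IsAffine Q.left → ∀ e : (yon S).obj Q ⟶ F, RepWith @Etale e → e ≫ a = e ≫ b) : a = b := by
  obtain ⟨U, p, hp, hps⟩ := hF.atlas
  have := epi_of_etale_surjective hp hps
  rw [← cancel_epi p]
  let C : U.left.affineOpens → Over S := fun i => Over.mk (i.1.ι ≫ U.hom)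
  let j : ∀ i, C i ⟶ U := fun i => Over.homMk i.1.ι
  refine hom_ext_of_cover j (ofArrows_mem_J _
    (fun i => inferInstanceAs (Flat i.1.ι))
    (fun i => inferInstanceAs (LocallyOfFinitePresentation i.1.ι)) fun x => ?_) fun i => ?_
  · obtain ⟨O, hO, hx, -⟩ := TopologicalSpace.Opens.isBasis_iff_nbhd.mp U.left.isBasis_affineOpens
      (TopologicalSpace.Opens.mem_top x)
    exact ⟨⟨O, hO⟩, ⟨x, hx⟩, rfl⟩
  have := h (C i) i.2 ((yon S).map (j i) ≫ p) (repWith_comp ((repWith_yon_map_iff _ _).2 (inferInstanceAs (Etale i.1.ι))) hp)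
  simpa only [Category.assoc] using this

variable {X Y Z G B W W' : Sp S} {f : Y ⟶ X} {i : Z ⟶ X} {q : G ⟶ B} {c : Y ⟶ G}

/-- Two maps from a space flat over a base agree once they do off the closed part and are equalized on a
flat neighbourhood of it. -/
theorem agree_core {X' Z' R E : Sp S} (hX' : IsAlgSpace X') (hE : IsAlgSpace E) (hR : IsAlgSpace R)
    (hY : IsAlgSpace Y) (hq : IsSeparatedMor q)
    {i' : Z' ⟶ X'} (hi' : RepWith @IsClosedImmersion i') (hifp' : LocP @LocallyOfFinitePresentation i')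
    {π : R ⟶ X'} (hπ : LocP @Flat π) (w₁ w₂ : R ⟶ Y) (hw : w₁ ≫ f = w₂ ≫ f)
    (hon : ∀ (T : Over S) (r : (yon S).obj T ⟶ R), (∃ z, z ≫ i' = r ≫ π) → r ≫ w₁ = r ≫ w₂)
    (hoff : ∀ (T : Over S) (r : (yon S).obj T ⟶ R),
      (∀ t : T.left, Points.ofPt (r ≫ π) t ∉ Set.range (Points.map i')) → r ≫ w₁ ≫ c = r ≫ w₂ ≫ c)
    {β : X ⟶ B} (hc : c ≫ q = f ≫ β)
    (d : E ⟶ R) (hd : d ≫ w₁ = d ≫ w₂)
    (huniv : ∀ (T : Sp S) (r : T ⟶ R), r ≫ w₁ = r ≫ w₂ → ∃! x, x ≫ d = r)
    (hdflat : LocP @Flat (d ≫ π)) : w₁ ≫ c = w₂ ≫ c := by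
  refine eq_of_affine hR _ _ fun Q hQ e he => ?_
  obtain ⟨κ, T, a, hT, hae, -, hcov⟩ := exists_affine_family hX'
  choose P v k sqP using fun s => (hae s).rep (e ≫ π)
  choose k' hk' using fun s => (yon S).map_surjective (k s)
  let E := Σ s, (P s).left.affineOpens
  let O : E → Over S := fun o => openOver (P o.1) o.2.1
  let cc : ∀ o, O o ⟶ Q := fun o => openIncl (P o.1) o.2.1 ≫ v o.1
  have hcc : ∀ o, Etale (cc o).left := fun o => by
    haveI : Etale (v o.1).left := (hae o.1).property (e ≫ π) (k o.1) (v o.1) (sqP o.1)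
    show Etale (o.2.1.ι ≫ (v o.1).left)
    infer_instance
  refine hom_ext_of_cover cc (ofArrows_mem_J _ (fun o => by haveI := hcc o; infer_instance)
    (fun o => by haveI := hcc o; infer_instance) fun x => ?_) fun o => ?_
  · obtain ⟨s, pt, hpt⟩ := hcov (Points.ofPt (e ≫ π) x)
    obtain ⟨y, -, hy⟩ := exists_point_of_isPullback (sqP s) pt (Points.ofScheme Q x)
      (hpt.trans (Points.ofPt_eq_map_ofScheme (e ≫ π) x))
    obtain ⟨x', rfl⟩ := (Points.schemeEquiv (P s)).surjective y
    have hxz : (v s).left x' = x := by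
      apply (Points.schemeEquiv Q).injective
      change Points.ofScheme Q ((v s).left x') = Points.ofScheme Q x
      rw [← hy]
      change _ = Points.map ((yon S).map (v s)) (Points.ofScheme (P s) x')
      rw [← Points.ofPt_eq_map_ofScheme]
      have := ofPt_map (v s) (𝟙 _) x'
      rw [Category.comp_id] at this
      exact this.symm
    obtain ⟨U', hU'⟩ := TopologicalSpace.Opens.mem_iSup.1
      ((iSup_affineOpens_eq_top (P s).left).ge (Set.mem_univ x'))
    exact ⟨⟨s, U'⟩, ⟨x', hU'⟩, hxz⟩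
  -- on one affine piece
  haveI : IsAffine (O o).left := o.2.2
  haveI := hT o.1
  let t : O o ⟶ T o.1 := openIncl (P o.1) o.2.1 ≫ k' o.1
  let eO : (yon S).obj (O o) ⟶ R := (yon S).map (cc o) ≫ e
  have heO : RepWith @Etale eO := repWith_comp ((repWith_yon_map_iff _ _).2 (hcc o)) he
  have htX : eO ≫ π = (yon S).map t ≫ a o.1 := by
    change ((yon S).map (openIncl (P o.1) o.2.1 ≫ v o.1) ≫ e) ≫ π = _
    rw [Functor.map_comp, Category.assoc, Category.assoc, ← (sqP o.1).w, Functor.map_comp, hk', Category.assoc]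
  let T' := (T o.1)
  have htflat : Flat (t.left ≫ T'.left.isoSpec.hom) := by
    haveI : Flat t.left := hπ eO (a o.1) t heO (hae o.1) htX
    infer_instance
  let u₁ : (yon S).obj (O o) ⟶ Y := eO ≫ w₁
  let u₂ : (yon S).obj (O o) ⟶ Y := eO ≫ w₂
  have hu : u₁ ≫ f = u₂ ≫ f := by simp only [u₁, u₂, Category.assoc, hw]
  -- equalizer in `Y`
  obtain ⟨D, vD, kD, sqD⟩ := hY.diag (prod.lift u₁ u₂)
  have hDeq : (yon S).map vD ≫ u₁ = (yon S).map vD ≫ u₂ := by
    have h₁ := sqD.w =≫ prod.fst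
    have h₂ := sqD.w =≫ prod.snd
    simp only [Category.assoc, prod.lift_fst, prod.lift_snd, Category.comp_id] at h₁ h₂
    exact h₁.symm.trans h₂
  have hDkD : kD = (yon S).map vD ≫ u₁ := by
    have h₁ := sqD.w =≫ prod.fst
    simpa only [Category.assoc, prod.lift_fst, Category.comp_id] using h₁
  -- equalizer in `G`
  have hCq : (u₁ ≫ c) ≫ q = (u₂ ≫ c) ≫ q := by
    simp only [Category.assoc, hc]
    rw [← Category.assoc u₁, ← Category.assoc u₂, hu]
  obtain ⟨QE, vE, kE, sqE⟩ := hq.rep (pullback.lift (u₁ ≫ c) (u₂ ≫ c) hCq)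
  haveI hEcl : IsClosedImmersion vE.left := hq.property _ kE vE sqE
  have hEeq : (yon S).map vE ≫ u₁ ≫ c = (yon S).map vE ≫ u₂ ≫ c := by
    have h₁ := sqE.w =≫ pullback.fst q q
    have h₂ := sqE.w =≫ pullback.snd q q
    simp only [Category.assoc, pullback.diagonal_fst, pullback.diagonal_snd, pullback.lift_fst, pullback.lift_snd,
      Category.comp_id] at h₁ h₂
    exact h₁.symm.trans h₂
  have factorE : ∀ {K : Over S} (g : K ⟶ O o), (yon S).map g ≫ u₁ ≫ c = (yon S).map g ≫ u₂ ≫ c →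
      ∃ h : K ⟶ QE, h ≫ vE = g := fun {K} g hg => by
    obtain ⟨h, hh⟩ := (yon S).map_surjective (sqE.lift ((yon S).map g ≫ u₁ ≫ c) ((yon S).map g) (by
      apply pullback.hom_ext
      · simp
      · simp [hg]))
    exact ⟨h, (yon S).map_injective (by rw [Functor.map_comp, hh, sqE.lift_snd])⟩
  suffices hiso : IsIso vE.left by
    haveI : IsIso ((Over.forget S).map vE) := hiso
    haveI : IsIso vE := isIso_of_reflects_iso vE (Over.forget S)
    have := (cancel_epi ((yon S).map vE)).1 hEeq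
    simpa only [u₁, u₂, eO, Category.assoc] using this
  -- flatness of the equalizer
  obtain ⟨δ, hδm, -⟩ := huniv _ ((yon S).map vD ≫ eO) (by simpa only [u₁, u₂, Category.assoc] using hDeq)
  have hsqδ : IsPullback δ ((yon S).map vD) d eO := by
    have hcond : ∀ s : PullbackCone d eO, (s.snd ≫ u₁) ≫ Limits.diag Y = s.snd ≫ prod.lift u₁ u₂ := by
      intro s
      have he : s.snd ≫ u₁ = s.snd ≫ u₂ := by
        simp only [u₁, u₂]
        rw [← reassoc_of% s.condition, ← reassoc_of% s.condition]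
        exact congrArg (s.fst ≫ ·) hd
      apply Limits.prod.hom_ext <;> simp [he]
    refine ⟨⟨hδm⟩, ⟨PullbackCone.IsLimit.mk _ (fun s => sqD.lift (s.snd ≫ u₁) s.snd (hcond s))
      (fun s => ?_) (fun s => sqD.lift_snd _ _ _) (fun s r h₁ h₂ => ?_)⟩⟩
    · refine (huniv _ (s.snd ≫ eO) ?_).unique ?_ s.condition
      · rw [← s.condition, Category.assoc, Category.assoc, hd]
      · rw [Category.assoc, hδm, ← Category.assoc, sqD.lift_snd]
    · apply sqD.hom_ext
      · rw [sqD.lift_fst, hDkD, ← Category.assoc, h₂]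
      · rw [sqD.lift_snd, h₂]
  have hδ : RepWith @Etale δ := repWith_of_isPullback hsqδ.flip heO
  have hDflat : Flat (vD.left ≫ t.left ≫ T'.left.isoSpec.hom) := by
    have h1 : LocP @Flat (δ ≫ d ≫ π) :=
      Groth.Agent.H12AlgSp.locP_comp etLocal_flat (IsAlgSpace.yon_obj D) hE hX'
        (locP_of_repWith etLocal_flat (repWith_le (fun _ _ g (_ : Etale g) => inferInstanceAs (Flat g)) hδ))
        hdflat
    haveI : Flat (vD ≫ t).left := h1 (𝟙 _) (a o.1) (vD ≫ t) (repWith_id _ D) (hae o.1) (by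
      rw [Category.id_comp, Functor.map_comp, Category.assoc, ← htX, reassoc_of% hδm])
    rw [← Category.assoc, ← Over.comp_left]
    infer_instance
  -- the closed part of the chart
  obtain ⟨WZ, wZ, kZ, sqZ⟩ := hi'.rep (a o.1)
  haveI : IsClosedImmersion wZ.left := hi'.property (a o.1) kZ wZ sqZ
  haveI : LocallyOfFinitePresentation wZ.left :=
    hifp' kZ (a o.1) wZ (repWith_of_isPullback sqZ.flip (hae o.1)) (hae o.1) sqZ.w
  obtain ⟨I, hI, hIr, hIfac⟩ := SemiLocal.exists_fg_ideal (wZ.left ≫ T'.left.isoSpec.hom)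
  haveI := htflat
  haveI := hDflat
  refine TorsScheme.isIso_of_pieces (t.left ≫ T'.left.isoSpec.hom) hI vE.left vD.left ?_ (fun g hg => ?_)
    (fun L w hw => ?_)
  · obtain ⟨h, hh⟩ := factorE vD
      ((Category.assoc _ _ _).symm.trans ((congrArg (· ≫ c) hDeq).trans (Category.assoc _ _ _)))
    exact ⟨h.left, by rw [← Over.comp_left, hh]⟩
  · let g' := openIncl (O o) ((t.left ≫ T'.left.isoSpec.hom) ⁻¹ᵁ PrimeSpectrum.basicOpen g)
    obtain ⟨h, hh⟩ := factorE g' (by
      have hr := hoff _ ((yon S).map g' ≫ eO) fun y hy => ?_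
      · simpa only [u₁, u₂, Category.assoc] using hr
      rw [show ((yon S).map g' ≫ eO) ≫ π = (yon S).map g' ≫ (yon S).map t ≫ a o.1 from
        (Category.assoc _ _ _).trans (congrArg (_ ≫ ·) htX), ofPt_map, ofPt_map] at hy
      have hy2 : t.left y.1 ∈ Set.range wZ.left := by
        have := preimage_ofPt_range sqZ
        exact this.le hy
      obtain ⟨z, hz⟩ := hy2
      have hy3 : T'.left.isoSpec.hom (t.left y.1) ∈ PrimeSpectrum.zeroLocus (I : Set _) := by
        rw [← hIr, ← hz]; exact ⟨z, rfl⟩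
      exact y.2 (hy3 hg))
    exact ⟨h.left, by rw [← Over.comp_left, hh]; rfl⟩
  · obtain ⟨lz, hlz⟩ := hIfac L (Spec.preimage (w ≫ t.left ≫ T'.left.isoSpec.hom)) hw
    rw [Spec.map_preimage] at hlz
    have hlz' : lz ≫ wZ.left = w ≫ t.left := by
      rw [← cancel_mono T'.left.isoSpec.hom, Category.assoc, hlz, Category.assoc]
    let K : Over S := Over.mk (w ≫ (O o).hom)
    let w' : K ⟶ O o := Over.homMk w rfl
    let lz' : K ⟶ WZ := Over.homMk lz (by
      rw [← Over.w wZ, reassoc_of% hlz', Over.w t]; rfl)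
    have hw' : lz' ≫ wZ = w' ≫ t := Over.OverMorphism.ext hlz'
    have heq : (yon S).map w' ≫ u₁ = (yon S).map w' ≫ u₂ := by
      have hr := hon _ ((yon S).map w' ≫ eO) ⟨(yon S).map lz' ≫ kZ, ?_⟩
      · simpa only [u₁, u₂, Category.assoc] using hr
      rw [show ((yon S).map w' ≫ eO) ≫ π = (yon S).map w' ≫ (yon S).map t ≫ a o.1 from
        (Category.assoc _ _ _).trans (congrArg (_ ≫ ·) htX), Category.assoc, sqZ.w, ← Category.assoc,
        ← Category.assoc, ← Functor.map_comp, ← Functor.map_comp, hw']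
    obtain ⟨h, hh⟩ := (yon S).map_surjective (sqD.lift ((yon S).map w' ≫ u₁) ((yon S).map w') (by
      apply Limits.prod.hom_ext <;> simp [heq]))
    refine ⟨h.left, ?_⟩
    have hhv : h ≫ vD = w' := (yon S).map_injective (by rw [Functor.map_comp, hh, sqD.lift_snd])
    rw [← Over.comp_left, hhv]
    rfl


theorem agree (hX : IsAlgSpace X) (hY : IsAlgSpace Y)
    (hW : IsAlgSpace W) (hW' : IsAlgSpace W') (hq : IsSeparatedMor q)
    (hi : RepWith @IsClosedImmersion i) (hifp : LocP @LocallyOfFinitePresentation i)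
    (hZiso : ∀ (T : Over S) (u v : (yon S).obj T ⟶ Y), u ≫ f = v ≫ f →
      (∃ z, z ≫ i = u ≫ f) → u = v)
    (hcU : ∀ (T : Over S) (u v : (yon S).obj T ⟶ Y), u ≫ f = v ≫ f →
      (∀ t : T.left, Points.ofPt (u ≫ f) t ∉ Set.range (Points.map i)) → u ≫ c = v ≫ c)
    {β : X ⟶ B} (hc : c ≫ q = f ≫ β)
    {l : W ⟶ Y} {l' : W' ⟶ Y} (hl : LocP @Flat l) (hlf : LocP @Flat (l ≫ f)) (hlf' : LocP @Flat (l' ≫ f))
    (V : Over S) (u : (yon S).obj V ⟶ W) (u' : (yon S).obj V ⟶ W') (huu : u ≫ l ≫ f = u' ≫ l' ≫ f) :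
    u ≫ l ≫ c = u' ≫ l' ≫ c := by
  suffices h : (pullback.fst (l ≫ f) (l' ≫ f) ≫ l) ≫ c = (pullback.snd (l ≫ f) (l' ≫ f) ≫ l') ≫ c by
    have := congrArg (pullback.lift u u' huu ≫ ·) h
    simpa only [Category.assoc, pullback.lift_fst_assoc, pullback.lift_snd_assoc] using this
  have sqR := IsPullback.of_hasPullback (l ≫ f) (l' ≫ f)
  have hP2 : IsAlgSpace (pullback l l') := isAlgSpace_of_isPullback hY.diag hW hW' (IsPullback.of_hasPullback _ _)
  have hw : (pullback.fst (l ≫ f) (l' ≫ f) ≫ l) ≫ f = (pullback.snd (l ≫ f) (l' ≫ f) ≫ l') ≫ f := by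
    rw [Category.assoc, Category.assoc, pullback.condition]
  let m : pullback l l' ⟶ pullback (l ≫ f) (l' ≫ f) := pullback.lift (pullback.fst _ _) (pullback.snd _ _)
    (by rw [reassoc_of% pullback.condition])
  refine agree_core hX hP2 (isAlgSpace_of_isPullback hX.diag hW hW' sqR) hY hq hi hifp
    (π := pullback.snd (l ≫ f) (l' ≫ f) ≫ l' ≫ f) ?_ _ _ hw ?_ ?_ hc m ?_ ?_ ?_
  · exact Groth.Agent.H12AlgSp.locP_comp etLocal_flat (isAlgSpace_of_isPullback hX.diag hW hW' sqR) hW' hX
      (Groth.Agent.H12AlgSp.locP_of_isPullback etLocal_flat sqR hW hX hW' hlf) hlf'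
  · intro T r ⟨z, hz⟩
    refine hZiso T _ _ (by simp only [Category.assoc, pullback.condition]) ⟨z, ?_⟩
    rw [hz]; simp only [Category.assoc, pullback.condition]
  · intro T r hr
    simp only [← Category.assoc]
    refine hcU T _ _ (by simp only [Category.assoc, pullback.condition]) fun t ht => hr t ?_
    simpa only [Category.assoc, pullback.condition] using ht
  · simp only [m, pullback.lift_fst_assoc, pullback.lift_snd_assoc]
    exact pullback.condition
  · intro T r hr
    refine ⟨pullback.lift (r ≫ pullback.fst _ _) (r ≫ pullback.snd _ _) (by simpa only [Category.assoc] using hr),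
      ?_, fun x hx => ?_⟩
    · apply pullback.hom_ext <;> simp only [m, Category.assoc, pullback.lift_fst, pullback.lift_snd]
    · apply pullback.hom_ext
      · simp only [pullback.lift_fst, ← hx, m, Category.assoc]
      · simp only [pullback.lift_snd, ← hx, m, Category.assoc]
  · simp only [m, pullback.lift_snd_assoc]
    exact Groth.Agent.H12AlgSp.locP_comp etLocal_flat hP2 hW' hX
      (Groth.Agent.H12AlgSp.locP_of_isPullback etLocal_flat (IsPullback.of_hasPullback _ _) hW hY hW' hl) hlf'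

/-- The variant with one piece replaced by `Y` itself. -/
theorem agree_id (hX : IsAlgSpace X) (hY : IsAlgSpace Y) (hZ : IsAlgSpace Z)
    (hW : IsAlgSpace W) (hq : IsSeparatedMor q)
    (hi : RepWith @IsClosedImmersion i) (hifp : LocP @LocallyOfFinitePresentation i)
    (hZiso : ∀ (T : Over S) (u v : (yon S).obj T ⟶ Y), u ≫ f = v ≫ f →
      (∃ z, z ≫ i = u ≫ f) → u = v)
    (hcU : ∀ (T : Over S) (u v : (yon S).obj T ⟶ Y), u ≫ f = v ≫ f →
      (∀ t : T.left, Points.ofPt (u ≫ f) t ∉ Set.range (Points.map i)) → u ≫ c = v ≫ c)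
    {β : X ⟶ B} (hc : c ≫ q = f ≫ β)
    {l : W ⟶ Y} (hl : LocP @Flat l) (hlf : LocP @Flat (l ≫ f))
    (V : Over S) (u : (yon S).obj V ⟶ W) (u' : (yon S).obj V ⟶ Y) (huu : u ≫ l ≫ f = u' ≫ f) :
    u ≫ l ≫ c = u' ≫ c := by
  suffices h : (pullback.fst (l ≫ f) f ≫ l) ≫ c = pullback.snd (l ≫ f) f ≫ c by
    have := congrArg (pullback.lift u u' huu ≫ ·) h
    simpa only [Category.assoc, pullback.lift_fst_assoc, pullback.lift_snd_assoc] using this
  have sqR := IsPullback.of_hasPullback (l ≫ f) f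
  have sqi := IsPullback.of_hasPullback i f
  refine agree_core hY hW (isAlgSpace_of_isPullback hX.diag hW hY sqR) hY hq (repWith_of_isPullback sqi hi)
    (Groth.Agent.H12AlgSp.locP_of_isPullback etLocal_lfp sqi hZ hX hY hifp)
    (π := pullback.snd (l ≫ f) f)
    (Groth.Agent.H12AlgSp.locP_of_isPullback etLocal_flat sqR hW hX hY hlf)
    _ _ (by rw [Category.assoc, pullback.condition]) ?_ ?_ hc (pullback.lift (𝟙 W) l (Category.id_comp _)) ?_ ?_ ?_
  · intro T r ⟨z, hz⟩
    refine hZiso T _ _ (by simp only [Category.assoc, pullback.condition]) ⟨z ≫ pullback.fst i f, ?_⟩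
    rw [Category.assoc, pullback.condition, reassoc_of% hz]
    simp only [Category.assoc, pullback.condition]
  · intro T r hr
    simp only [← Category.assoc]
    refine hcU T _ _ (by simp only [Category.assoc, pullback.condition]) fun t ht => hr t ?_
    rw [range_snd_of_isPullback sqi, Set.mem_preimage, Points.map_ofPt]
    simpa only [Category.assoc, pullback.condition] using ht
  · simp only [pullback.lift_fst_assoc, pullback.lift_snd, Category.id_comp]
  · intro T r hr
    refine ⟨r ≫ pullback.fst _ _, ?_, fun x hx => ?_⟩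
    · apply pullback.hom_ext
      · simp only [Category.assoc, pullback.lift_fst, Category.comp_id]
      · simpa only [Category.assoc, pullback.lift_snd] using hr
    · simp only [← hx, Category.assoc, pullback.lift_fst, Category.comp_id]
  · rw [pullback.lift_snd]; exact hl

end Groth.Agent.H13AlgSp.FormalGlueAgree
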