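import Groth.Agent.H13AlgSp.SemiLocal
import Groth.Agent.H12AlgSp.OpenSub
import Groth.Agent.H12AlgSp.QC
import Groth.Agent.H12AlgSp.Univ
import Groth.Agent.H13AlgSp.AffineDescent
import Groth.Prelude.Def_AlgSpCov
import Groth.Prelude.Def_AlgSpMor5

/-!
The flat covering attached to a formal glueing situation.
-/

set_option autoImplicit false
set_option linter.style.haveILetI false
set_option backward.isDefEq.respectTransparency false
set_option backward.isDefEq.respectTransparency.types false

universe u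

open CategoryTheory CategoryTheory.Limits AlgebraicGeometry
open AlgSp Groth.Agent.H12AlgSp

namespace Groth.Agent.H13AlgSp.FormalGlueCover

variable {S : Scheme.{u}} {X Y Z FZ U : Sp S} {f : Y ⟶ X} {i : Z ⟶ X} {iY : FZ ⟶ Y} {fZ : FZ ⟶ Z}
  {j : U ⟶ X}

/-- A semilocal flat chart over an affine étale chart. -/
theorem exists_piece (hX : IsAlgSpace X) (hY : IsAlgSpace Y) (hqc : IsQuasiCompactMor f)
    (hi : RepWith @IsClosedImmersion i) (hifp : LocP @LocallyOfFinitePresentation i)
    (hFZ : IsPullback iY fZ f i) [IsIso fZ]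
    (hflat : ∀ y ∈ Set.range (Points.map iY), IsFlatAtMor f y)
    {T : Over S} [IsAffine T.left] (a : (yon S).obj T ⟶ X) (ha : RepWith @Etale a) :
    ∃ (I : Ideal Γ(T.left, ⊤)) (W : Over S) (h : W ⟶ T) (l : (yon S).obj W ⟶ Y),
      I.FG ∧ IsAffine W.left ∧ Flat h.left ∧ (l ≫ f = (yon S).map h ≫ a ∧ RepWith @Flat l) ∧
      ∀ t : T.left,
        (Points.ofPt a t ∈ Set.range (Points.map i) → t ∈ Set.range h.left) ∧
        (Points.ofPt a t ∉ Set.range (Points.map i) → ∃ g ∈ I, t ∈ T.left.basicOpen g) ∧
        (Points.ofPt a t ∈ Set.range (Points.map i) → ∀ g ∈ I, t ∉ T.left.basicOpen g) := by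
  obtain ⟨WZ, wZ, kZ, sqZ⟩ := hi.rep a
  haveI hcl : IsClosedImmersion wZ.left := hi.property a kZ wZ sqZ
  haveI hlfp : LocallyOfFinitePresentation wZ.left :=
    hifp kZ a wZ (repWith_of_isPullback sqZ.flip ha) ha sqZ.w
  have hrange : ∀ t : T.left, Points.ofPt a t ∈ Set.range (Points.map i) ↔ t ∈ Set.range wZ.left :=
    fun t => by
      have := congrArg (fun s => t ∈ s) (preimage_ofPt_range sqZ)
      exact iff_of_eq this
  obtain ⟨I, hI, hIr, -⟩ := SemiLocal.exists_fg_ideal (wZ.left ≫ T.left.isoSpec.hom)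
  have hmem : ∀ t : T.left, t ∈ Set.range wZ.left ↔ T.left.isoSpec.hom t ∈ PrimeSpectrum.zeroLocus (I : Set Γ(T.left, ⊤)) := by
    intro t
    rw [← hIr]
    constructor
    · rintro ⟨w, rfl⟩
      exact ⟨w, rfl⟩
    · rintro ⟨w, hw⟩
      exact ⟨w, T.left.isoSpec.hom.injective (by rw [← hw]; rfl)⟩
  -- an atlas of the base change
  have sqY := IsPullback.of_hasPullback f a
  have hYT := isAlgSpace_of_isPullback hX.diag hY (IsAlgSpace.yon_obj T) sqY
  haveI : CompactSpace (Points (pullback f a)) := compactSpace_points_of_isQuasiCompactSp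
    (hqc (IsAlgSpace.yon_obj T) (isQuasiCompactSp_yon_iff.2 inferInstance) a _ _ sqY)
  obtain ⟨P, d, hP, hde, hds⟩ := Groth.Agent.H12AlgSp.exists_affine_atlas hYT
  obtain ⟨h₀, hh₀⟩ := (yon S).map_surjective (d ≫ pullback.snd f a)
  let b : (yon S).obj P ⟶ Y := d ≫ pullback.fst f a
  have hb : RepWith @Etale b := repWith_comp hde (repWith_of_isPullback sqY.flip ha)
  have hbw : b ≫ f = (yon S).map h₀ ≫ a := by
    rw [hh₀, Category.assoc, Category.assoc, pullback.condition]
  have hbflat : ∀ p : P.left, h₀.left p ∈ Set.range wZ.left → (h₀.left.stalkMap p).hom.Flat := by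
    intro p hp
    refine hflat (Points.ofPt b p) ?_ b a h₀ p hb ha hbw rfl
    obtain ⟨z, hz⟩ := (hrange _).2 hp
    obtain ⟨q, hq, -⟩ := exists_point_of_isPullback hFZ (Points.ofPt b p) z (by
      rw [Points.map_ofPt, hbw, ofPt_map]; exact hz.symm)
    exact ⟨q, hq⟩
  -- the semilocalization
  let A := Γ(T.left, ⊤)
  let B := Γ(P.left, ⊤)
  letI : Algebra A B := h₀.left.appTop.hom.toAlgebra
  have hφ : Spec.map (CommRingCat.ofHom (algebraMap A B)) =
      P.left.isoSpec.inv ≫ h₀.left ≫ T.left.isoSpec.hom := by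
    rw [Iso.eq_inv_comp, Scheme.isoSpec_hom, Scheme.isoSpec_hom, RingHom.algebraMap_toAlgebra,
      CommRingCat.ofHom_hom]
    exact (Scheme.toSpecΓ_naturality h₀.left).symm
  let J : Ideal B := I.map (algebraMap A B)
  have hJ : ∀ x : PrimeSpectrum B, J ≤ x.asIdeal ↔ h₀.left (P.left.isoSpec.inv x) ∈ Set.range wZ.left := by
    intro x
    rw [hmem, ← Scheme.Hom.comp_apply, ← Scheme.Hom.comp_apply, ← hφ]
    change J ≤ x.asIdeal ↔ PrimeSpectrum.comap (algebraMap A B) x ∈ PrimeSpectrum.zeroLocus (I : Set A)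
    rw [PrimeSpectrum.mem_zeroLocus, SetLike.coe_subset_coe, PrimeSpectrum.comap_asIdeal,
      ← Ideal.map_le_iff_le_comap]
  haveI hF : Module.Flat A (Localization (SemiLocal.onePlus J)) := by
    refine SemiLocal.flat_semilocal J fun x hx => ?_
    rw [hφ, Scheme.Hom.stalkMap_comp, Scheme.Hom.stalkMap_comp, CommRingCat.hom_comp, CommRingCat.hom_comp]
    exact RingHom.Flat.comp (RingHom.Flat.comp
        (RingHom.Flat.of_bijective (ConcreteCategory.bijective_of_isIso _)) (hbflat _ ((hJ x).1 hx)))
      (RingHom.Flat.of_bijective (ConcreteCategory.bijective_of_isIso _))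
  let ρ₀ : Spec (CommRingCat.of (Localization (SemiLocal.onePlus J))) ⟶ P.left :=
    Spec.map (CommRingCat.ofHom (algebraMap B _)) ≫ P.left.isoSpec.inv
  let W : Over S := Over.mk (ρ₀ ≫ P.hom)
  let ρ : W ⟶ P := Over.homMk ρ₀ rfl
  have hρh : (ρ ≫ h₀).left = Spec.map (CommRingCat.ofHom (algebraMap A (Localization (SemiLocal.onePlus J)))) ≫
      T.left.isoSpec.inv := by
    rw [Over.comp_left, IsScalarTower.algebraMap_eq A B (Localization (SemiLocal.onePlus J)),
      CommRingCat.ofHom_comp, Spec.map_comp, hφ]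
    simp only [Category.assoc, Iso.hom_inv_id, Category.comp_id]
    simp [ρ, ρ₀]
  refine ⟨I, W, ρ ≫ h₀, (yon S).map ρ ≫ b, hI, inferInstanceAs (IsAffine (Spec _)), ?_, ?_, fun t => ⟨?_, ?_, ?_⟩⟩
  · rw [hρh]
    haveI : Flat (Spec.map (CommRingCat.ofHom (algebraMap A (Localization (SemiLocal.onePlus J))))) :=
      (HasRingHomProperty.Spec_iff (P := @Flat)).2 (RingHom.flat_algebraMap_iff.2 hF)
    infer_instance
  · refine ⟨by rw [Category.assoc, hbw, Functor.map_comp, Category.assoc], repWith_comp ((repWith_yon_map_iff _ _).2 ?_)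
      (repWith_le (fun _ _ g (_ : Etale g) => inferInstanceAs (Flat g)) hb)⟩
    haveI : Flat (Spec.map (CommRingCat.ofHom (algebraMap B (Localization (SemiLocal.onePlus J))))) :=
      (HasRingHomProperty.Spec_iff (P := @Flat)).2 (RingHom.flat_algebraMap_iff.2 (IsLocalization.flat _ (SemiLocal.onePlus J)))
    show Flat (Spec.map _ ≫ P.left.isoSpec.inv)
    infer_instance
  · intro ht
    obtain ⟨z, hz⟩ := ht
    obtain ⟨y, hy, -⟩ : ∃ y, Points.map f y = Points.ofPt a t ∧ True := by
      refine ⟨Points.map iY (Points.map (inv fZ) z), ?_, trivial⟩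
      rw [← hz, ← Points.map_comp, ← Points.map_comp, hFZ.w, IsIso.inv_hom_id_assoc]
    obtain ⟨q, -, hq⟩ := exists_point_of_isPullback sqY y (Points.ofScheme T t)
      (hy.trans (Points.ofPt_eq_map_ofScheme a t))
    obtain ⟨p, hp⟩ := surjective_ofPt_of_repWith le_rfl hds q
    have hpt : h₀.left p = t := by
      apply (Points.schemeEquiv T).injective
      change Points.ofScheme T (h₀.left p) = Points.ofScheme T t
      rw [← hq, ← hp, Points.map_ofPt, ← hh₀]
      have := ofPt_map h₀ (𝟙 _) p
      rw [Category.comp_id] at this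
      exact this.symm
    have hx : J ≤ (P.left.isoSpec.hom p).asIdeal := by
      rw [hJ, ← Scheme.Hom.comp_apply (f := P.left.isoSpec.hom) (g := P.left.isoSpec.inv), Iso.hom_inv_id]
      change h₀.left p ∈ _
      rw [hpt]
      exact (hrange t).1 ⟨z, hz⟩
    obtain ⟨w, hw⟩ := SemiLocal.mem_range_of_le _ hx
    refine ⟨w, ?_⟩
    rw [← hpt, Over.comp_left, Scheme.Hom.comp_apply]
    refine congrArg h₀.left ?_
    change P.left.isoSpec.inv (PrimeSpectrum.comap (algebraMap B _) w) = p
    rw [hw, ← Scheme.Hom.comp_apply, Iso.hom_inv_id]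
    rfl
  · intro ht
    rw [hrange, hmem, PrimeSpectrum.mem_zeroLocus, Set.not_subset] at ht
    obtain ⟨g, hg, hgt⟩ := ht
    refine ⟨g, hg, ?_⟩
    rw [← Scheme.toSpecΓ_preimage_basicOpen, ← Scheme.isoSpec_hom]
    exact hgt
  · intro ht g hg hgt
    rw [hrange, hmem, PrimeSpectrum.mem_zeroLocus] at ht
    rw [← Scheme.toSpecΓ_preimage_basicOpen, ← Scheme.isoSpec_hom] at hgt
    exact hgt (ht hg)

/-- The open subspace and the semilocal charts form an fpqc covering. -/
theorem exists_cover (hX : IsAlgSpace X) (hY : IsAlgSpace Y) (hU' : IsAlgSpace U)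
    (hqc : IsQuasiCompactMor f)
    (hi : RepWith @IsClosedImmersion i) (hifp : LocP @LocallyOfFinitePresentation i)
    (hFZ : IsPullback iY fZ f i) [IsIso fZ]
    (hflat : ∀ y ∈ Set.range (Points.map iY), IsFlatAtMor f y)
    (hj : RepWith @IsOpenImmersion j)
    (hU : Set.range (Points.map j) = (Set.range (Points.map i))ᶜ) :
    ∃ (ι : Type u) (W : ι → Sp S) (w : ∀ k, W k ⟶ X), (∀ k, IsAlgSpace (W k)) ∧ IsFpqcCover W w ∧
      ∀ k, (∃ l : W k ⟶ U, l ≫ j = w k) ∨ (∃ l : W k ⟶ Y, l ≫ f = w k ∧ LocP @Flat l) := by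
  obtain ⟨κ, T, a, hT, hae, -, hcov⟩ := exists_affine_family hX
  choose I WY hh lY hI hWa hfl hl hpts using fun k =>
    (haveI := hT k; exists_piece hX hY hqc hi hifp hFZ hflat (a k) (hae k))
  let W : Option κ → Sp S := fun k => Option.elim k U fun k => (yon S).obj (WY k)
  let w : ∀ k, W k ⟶ X := fun k => match k with
    | none => j
    | some k => (yon S).map (hh k) ≫ a k
  refine ⟨Option κ, W, w, fun k => ?_, ⟨fun k => ?_, fun Q hQ q => ?_⟩, fun k => ?_⟩
  · cases k with
    | none => exact hU'
    | some k => exact IsAlgSpace.yon_obj _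
  · cases k with
    | none => exact locP_of_repWith etLocal_flat (repWith_le (fun _ _ g (_ : IsOpenImmersion g) => inferInstanceAs (Flat g)) hj)
    | some k =>
      exact locP_of_repWith etLocal_flat (repWith_comp ((repWith_yon_map_iff _ _).2 (hfl k))
        (repWith_le (fun _ _ g (_ : Etale g) => inferInstanceAs (Flat g)) (hae k)))
  · -- pieces of an affine scheme
    have := hQ
    choose V v c sqV using fun k => (hae k).rep q
    choose c' hc' using fun k => (yon S).map_surjective (c k)
    have hv : ∀ k, Etale (v k).left := fun k => (hae k).property q (c k) (v k) (sqV k)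
    let E := Σ k, (V k).left.affineOpens
    let ω : E → Set Q.left := fun e => (v e.1).left '' (e.2.1 : Set (V e.1).left)
    obtain ⟨F, hF⟩ := isCompact_univ.elim_finite_subcover ω
      (fun e => (v e.1).left.isOpenMap _ e.2.1.isOpen)
      (fun z _ => by
        obtain ⟨k, pt, hpt⟩ := hcov (Points.ofPt q z)
        obtain ⟨y, -, hy⟩ := exists_point_of_isPullback (sqV k) pt (Points.ofScheme Q z)
          (hpt.trans (Points.ofPt_eq_map_ofScheme q z))
        obtain ⟨x, rfl⟩ := (Points.schemeEquiv (V k)).surjective y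
        have hxz : (v k).left x = z := by
          apply (Points.schemeEquiv Q).injective
          change Points.ofScheme Q ((v k).left x) = Points.ofScheme Q z
          rw [← hy]
          change _ = Points.map ((yon S).map (v k)) (Points.ofScheme (V k) x)
          rw [← Points.ofPt_eq_map_ofScheme]
          have := ofPt_map (v k) (𝟙 _) x
          rw [Category.comp_id] at this
          exact this.symm
        obtain ⟨O, hO⟩ := TopologicalSpace.Opens.mem_iSup.1
          ((iSup_affineOpens_eq_top (V k).left).ge (Set.mem_univ x))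
        exact Set.mem_iUnion.2 ⟨⟨k, O⟩, x, hO, hxz⟩)
    choose gens hgens using hI
    let O : E → Over S := fun e => openOver (V e.1) e.2.1
    let t : ∀ e, O e ⟶ T e.1 := fun e => openIncl (V e.1) e.2.1 ≫ c' e.1
    let D : ∀ e : E, Option (gens e.1) → Over S := fun e o => match o with
      | none => pullback (t e) (hh e.1)
      | some g => openOver (O e) ((O e).left.basicOpen ((t e).left.appTop g.1))
    let dD : ∀ e o, D e o ⟶ O e := fun e o => match o with
      | none => pullback.fst (t e) (hh e.1)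
      | some g => openIncl (O e) ((O e).left.basicOpen ((t e).left.appTop g.1))
    haveI : ∀ e, IsAffine (O e).left := fun e => e.2.2
    let G := Σ e : F, Option (gens e.1.1)
    let n := Fintype.card G
    let ε : Fin n ≃ G := (Fintype.equivFin G).symm
    refine ⟨n, fun r => D (ε r).1.1 (ε r).2,
      fun r => dD (ε r).1.1 (ε r).2 ≫ openIncl (V (ε r).1.1.1) (ε r).1.1.2.1 ≫ v (ε r).1.1.1,
      fun r => ?_, fun r => ?_, fun z => ?_, fun r => ?_⟩
    · beta_reduce
      generalize ε r = eo
      obtain ⟨e, o⟩ := eo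
      cases o with
      | none => haveI := hT e.1.1; haveI := hWa e.1.1; exact isAffine_pullback_left (t e.1) (hh e.1.1)
      | some g => exact (isAffineOpen_top (O e.1).left).basicOpen _
    · beta_reduce
      generalize ε r = eo
      obtain ⟨e, o⟩ := eo
      haveI := hv e.1.1
      haveI : Flat (openIncl (V e.1.1) e.1.2.1).left := inferInstanceAs (Flat e.1.2.1.ι)
      haveI : Flat (dD e.1 o).left := by
        cases o with
        | none =>
          exact MorphismProperty.of_isPullback (P := @Flat)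
            ((IsPullback.of_hasPullback (t e.1) (hh e.1.1)).map (Over.forget S)).flip (hfl e.1.1)
        | some g => exact inferInstanceAs (Flat (Scheme.Opens.ι _))
      rw [Over.comp_left, Over.comp_left]
      infer_instance
    · obtain ⟨e, he, x, hx, hxz⟩ := Set.mem_iUnion₂.1 (hF (Set.mem_univ z))
      suffices ∃ o, ∃ y, (dD e o).left y = (⟨x, hx⟩ : e.2.1) by
        obtain ⟨o, y, hy⟩ := this
        obtain ⟨r, hr⟩ := ε.surjective ⟨⟨e, he⟩, o⟩
        refine ⟨r, ?_⟩
        beta_reduce
        rw [hr]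
        refine ⟨y, ?_⟩
        rw [Over.comp_left, Over.comp_left, Scheme.Hom.comp_apply, Scheme.Hom.comp_apply, hy, ← hxz]
        rfl
      let x' : (O e).left := ⟨x, hx⟩
      by_cases hin : Points.ofPt (a e.1) ((t e).left x') ∈ Set.range (Points.map i)
      · obtain ⟨w₀, hw₀⟩ := (hpts e.1 _).1 hin
        obtain ⟨y, hy, -⟩ := Scheme.exists_preimage_of_isPullback
          ((IsPullback.of_hasPullback (t e) (hh e.1)).map (Over.forget S)) x' w₀ hw₀.symm
        exact ⟨none, y, hy⟩
      · obtain ⟨g, hg, hgt⟩ := (hpts e.1 _).2.1 hin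
        obtain ⟨g', hg', hgt'⟩ : ∃ g' ∈ gens e.1, (t e).left x' ∈ (T e.1).left.basicOpen g' := by
          by_contra! hcon
          haveI := hT e.1
          rw [← Scheme.toSpecΓ_preimage_basicOpen] at hgt
          simp only [← Scheme.toSpecΓ_preimage_basicOpen] at hcon
          refine hgt ?_
          have : I e.1 ≤ ((T e.1).left.toSpecΓ ((t e).left x')).asIdeal := by
            rw [← hgens e.1, Ideal.span_le]
            exact fun g' hg' => not_not.1 (hcon g' hg')
          exact this hg
        have hmem : x' ∈ (O e).left.basicOpen ((t e).left.appTop g') := by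
          rw [← Scheme.preimage_basicOpen_top]; exact hgt'
        exact ⟨some ⟨g', hg'⟩, ⟨x', hmem⟩, rfl⟩
    · beta_reduce
      generalize ε r = eo
      obtain ⟨e, o⟩ := eo
      have key : (yon S).map (openIncl (V e.1.1) e.1.2.1 ≫ v e.1.1) ≫ q = (yon S).map (t e.1) ≫ a e.1.1 := by
        rw [Functor.map_comp, Functor.map_comp, hc', Category.assoc, Category.assoc, (sqV e.1.1).w]
      cases o with
      | none =>
        refine ⟨some e.1.1, (yon S).map (pullback.snd (t e.1) (hh e.1.1)), ?_⟩
        change (yon S).map (pullback.snd _ _) ≫ (yon S).map (hh e.1.1) ≫ a e.1.1 =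
          (yon S).map (pullback.fst _ _ ≫ _) ≫ q
        rw [Functor.map_comp (f := pullback.fst (t e.1) (hh e.1.1)), Category.assoc, key, ← Category.assoc,
          ← Category.assoc, ← Functor.map_comp, ← Functor.map_comp, pullback.condition]
      | some g =>
        obtain ⟨l, hl'⟩ := exists_factor_open hj
          ((yon S).map (openIncl (O e.1) ((O e.1).left.basicOpen ((t e.1).left.appTop g.1))) ≫
            (yon S).map (t e.1) ≫ a e.1.1) (by
            rintro _ ⟨pt, rfl⟩
            obtain ⟨y, rfl⟩ := (Points.schemeEquiv _).surjective pt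
            change Points.map _ (Points.ofScheme _ y) ∈ _
            rw [← Points.ofPt_eq_map_ofScheme, ofPt_map, ofPt_map, hU]
            intro hin
            have hy : (t e.1).left y.1 ∈ (T e.1.1).left.basicOpen g.1 :=
              SetLike.ext_iff.1 (Scheme.preimage_basicOpen_top (t e.1).left g.1) y.1 |>.2 y.2
            exact (hpts e.1.1 _).2.2 hin g.1 (hgens e.1.1 ▸ Ideal.subset_span g.2) hy)
        refine ⟨none, l, ?_⟩
        change l ≫ j = (yon S).map (openIncl (O e.1) _ ≫ _) ≫ q
        rw [hl', Functor.map_comp (f := openIncl (O e.1) _), Category.assoc, key]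
  · cases k with
    | none => exact .inl ⟨𝟙 _, Category.id_comp _⟩
    | some k => exact .inr ⟨lY k, (hl k).1, locP_of_repWith etLocal_flat (hl k).2⟩

end Groth.Agent.H13AlgSp.FormalGlueCover
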