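import Groth.Agent.H13AlgSp.FormalGlueCover
import Groth.Agent.H13AlgSp.AffineLocal
import Groth.Agent.H12AlgSp.OpenSub

/-!
Formal glueing reflects isomorphisms.
-/

set_option autoImplicit false
set_option linter.style.haveILetI false
set_option backward.isDefEq.respectTransparency false

universe u

open CategoryTheory CategoryTheory.Limits AlgebraicGeometry
open AlgSp Groth.Agent.H12AlgSp

namespace Groth.Agent.H13AlgSp.FormalGlueReflect

variable {S : Scheme.{u}} {X X₂ : Sp S} {ι : Type u} {W : ι → Sp S} {w : ∀ k, W k ⟶ X}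

theorem isFpqcCover_pullback (hX : IsAlgSpace X) (hX₂ : IsAlgSpace X₂) (hW : ∀ k, IsAlgSpace (W k))
    (hw : IsFpqcCover W w) (p : X₂ ⟶ X) :
    (∀ k, IsAlgSpace (pullback (w k) p)) ∧
      IsFpqcCover (fun k => pullback (w k) p) (fun k => pullback.snd (w k) p) := by
  have hP : ∀ k, IsAlgSpace (pullback (w k) p) := fun k =>
    isAlgSpace_of_isPullback hX.diag (hW k) hX₂ (IsPullback.of_hasPullback _ _)
  refine ⟨hP, fun k => Groth.Agent.H12AlgSp.locP_of_isPullback etLocal_flat (IsPullback.of_hasPullback _ _) (hW k) hX hX₂ (hw.1 k),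
    fun Z hZ h => ?_⟩
  obtain ⟨m, V, c, haff, hfl, hs, hl⟩ := hw.2 Z hZ (h ≫ p)
  refine ⟨m, V, c, haff, hfl, hs, fun r => ?_⟩
  obtain ⟨k, l, hl⟩ := hl r
  exact ⟨k, pullback.lift l ((yon S).map (c r) ≫ h) (by rw [hl, Category.assoc]), pullback.lift_snd _ _ _⟩

theorem range_cover (hw : IsFpqcCover W w) (hX : IsAlgSpace X) (x : Points X) :
    ∃ k, x ∈ Set.range (Points.map (w k)) := by
  obtain ⟨κ, T, a, hT, -, -, hcov⟩ := exists_affine_family hX
  obtain ⟨i, pt, rfl⟩ := hcov x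
  obtain ⟨t, rfl⟩ := (Points.schemeEquiv (T i)).surjective pt
  obtain ⟨m, V, c, -, -, hs, hl⟩ := hw.2 (T i) (hT i) (a i)
  obtain ⟨r, v, hv⟩ := hs t
  obtain ⟨k, l, hl⟩ := hl r
  refine ⟨k, Points.ofPt l v, ?_⟩
  rw [Points.map_ofPt, hl, ofPt_map, hv]
  exact Points.ofPt_eq_map_ofScheme (a i) t

theorem isIso_of_pieces {X₁ U Y QU QY QU₁ QY₁ : Sp S} {j : U ⟶ X} {f : Y ⟶ X} {p : X₂ ⟶ X} {a : X₁ ⟶ X₂}
    (hX : IsAlgSpace X) (hX₁ : IsAlgSpace X₁) (hX₂ : IsAlgSpace X₂) (hW : ∀ k, IsAlgSpace (W k))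
    (hw : IsFpqcCover W w)
    (hl : ∀ k, (∃ l : W k ⟶ U, l ≫ j = w k) ∨ (∃ l : W k ⟶ Y, l ≫ f = w k))
    {qU : QU ⟶ X₂} {rU : QU ⟶ U} (hQU : IsPullback qU rU p j) {bU : QU₁ ⟶ X₁} {aU : QU₁ ⟶ QU}
    (hQU₁ : IsPullback bU aU a qU) [IsIso aU]
    {qY : QY ⟶ X₂} {rY : QY ⟶ Y} (hQY : IsPullback qY rY p f) {bY : QY₁ ⟶ X₁} {aY : QY₁ ⟶ QY}
    (hQY₁ : IsPullback bY aY a qY) [IsIso aY] : IsIso a := by
  obtain ⟨hP, hc⟩ := isFpqcCover_pullback hX hX₂ hW hw p
  have hm : ∀ k, ∃ s : pullback (w k) p ⟶ X₁, s ≫ a = pullback.snd (w k) p := fun k => by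
    rcases hl k with ⟨l, hl⟩ | ⟨l, hl⟩
    · refine ⟨hQU.lift (pullback.snd _ _) (pullback.fst (w k) p ≫ l)
        (by rw [Category.assoc, hl, pullback.condition]) ≫ inv aU ≫ bU, ?_⟩
      refine (Category.assoc _ _ _).trans ?_
      rw [show (inv aU ≫ bU) ≫ a = qU by rw [Category.assoc, hQU₁.w, IsIso.inv_hom_id_assoc]]
      exact hQU.lift_fst _ _ _
    · refine ⟨hQY.lift (pullback.snd _ _) (pullback.fst (w k) p ≫ l)
        (by rw [Category.assoc, hl, pullback.condition]) ≫ inv aY ≫ bY, ?_⟩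
      refine (Category.assoc _ _ _).trans ?_
      rw [show (inv aY ≫ bY) ≫ a = qY by rw [Category.assoc, hQY₁.w, IsIso.inv_hom_id_assoc]]
      exact hQY.lift_fst _ _ _
  have hiso : ∀ k, IsIso (pullback.snd a (pullback.snd (w k) p)) := fun k => by
    rcases hl k with ⟨l, hl⟩ | ⟨l, hl⟩
    · let m := hQU.lift (pullback.snd _ _) (pullback.fst (w k) p ≫ l)
        (by rw [Category.assoc, hl, pullback.condition])
      have hm : m ≫ qU = pullback.snd (w k) p := hQU.lift_fst _ _ _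
      have sq := (IsPullback.of_hasPullback aU m).paste_horiz hQU₁.flip.flip
      rw [hm] at sq
      let e := (IsPullback.of_hasPullback a (pullback.snd (w k) p)).isoIsPullback _ _ sq
      rw [← IsPullback.isoIsPullback_hom_snd _ _ (IsPullback.of_hasPullback a (pullback.snd (w k) p)) sq]
      infer_instance
    · let m := hQY.lift (pullback.snd _ _) (pullback.fst (w k) p ≫ l)
        (by rw [Category.assoc, hl, pullback.condition])
      have hm : m ≫ qY = pullback.snd (w k) p := hQY.lift_fst _ _ _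
      have sq := (IsPullback.of_hasPullback aY m).paste_horiz hQY₁.flip.flip
      rw [hm] at sq
      let e := (IsPullback.of_hasPullback a (pullback.snd (w k) p)).isoIsPullback _ _ sq
      rw [← IsPullback.isoIsPullback_hom_snd _ _ (IsPullback.of_hasPullback a (pullback.snd (w k) p)) sq]
      infer_instance
  have hopen : RepWith @IsOpenImmersion a :=
    (isLocalOnBase_fpqc_openImmersion (fun k => pullback (w k) p) (fun k => pullback.snd (w k) p) hX₂ hP hc a
      hX₁ (fun k => pullback a (pullback.snd (w k) p)) (fun k => pullback.snd _ _) (fun k => pullback.fst _ _)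
      (fun k => isAlgSpace_of_isPullback hX₂.diag hX₁ (hP k) (IsPullback.of_hasPullback _ _))
      (fun k => IsPullback.of_hasPullback _ _)).2 fun k => by
        haveI := hiso k
        exact repWith_of_isIso _
  have hsurj : Set.range (Points.map (𝟙 X₂)) ⊆ Set.range (Points.map a) := by
    rintro x -
    obtain ⟨k, z, rfl⟩ := range_cover hc hX₂ x
    obtain ⟨s, hs⟩ := hm k
    exact ⟨Points.map s z, by rw [← Points.map_comp, hs]⟩
  obtain ⟨g, hg⟩ := exists_factor_open hopen (𝟙 X₂) hsurj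
  haveI := mono_of_openImmersion hopen
  haveI : IsSplitEpi a := ⟨⟨⟨g, hg⟩⟩⟩
  exact isIso_of_mono_of_isSplitEpi a

end Groth.Agent.H13AlgSp.FormalGlueReflect
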