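import Groth.Agent.H13AlgSp.QAffQuotient
import Groth.Agent.H13AlgSp.AffineDescent
import Groth.Agent.H13AlgSp.AffineLocal
import Groth.Agent.H12AlgSp.LocP

/-!
An algebraic space over an affine scheme which becomes quasi-affine after an fpqc cover is quasi-affine.
-/

universe u

open CategoryTheory CategoryTheory.Limits AlgebraicGeometry Opposite MorphismProperty
open AlgSp Groth.Agent.H12AlgSp

namespace Groth.Agent.H13AlgSp

variable {S : Scheme.{u}}

theorem isAffine_pullback_left_of_quasiAffine {A B C : Over S} (f : A ⟶ C) (g : B ⟶ C) [IsAffine A.left]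
    [IsAffine B.left] [C.left.IsQuasiAffine] : IsAffine (pullback f g).left := by
  have sq : IsPullback (pullback.fst f g).left (pullback.snd f g).left f.left g.left :=
    (IsPullback.of_hasPullback f g).map (Over.forget S)
  have : IsAffineHom f.left := IsAffineHom.of_comp f.left C.left.toSpecΓ
  exact IsAffine.of_isPullback sq.flip

/-- A faithfully flat morphism of affine schemes is an fpqc cover. -/
theorem isFpqcCover_single {P Z : Over S} (c : P ⟶ Z) [IsAffine P.left] [IsAffine Z.left] [Flat c.left]
    [Surjective c.left] : IsFpqcCover (fun _ : PUnit.{u + 1} => (yon S).obj P) (fun _ => (yon S).map c) := by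
  refine ⟨fun _ => locP_of_repWith etLocal_flat ((repWith_yon_map_iff _ _).2 ‹Flat c.left›), fun T hT h => ?_⟩
  obtain ⟨h, rfl⟩ := (yon S).map_surjective h
  have : IsAffine T.left := hT
  have sq := (IsPullback.of_hasPullback h c).map (Over.forget S)
  refine ⟨1, fun _ => pullback h c, fun _ => pullback.fst h c, fun _ => isAffine_pullback_left h c,
    fun _ => MorphismProperty.of_isPullback (P := @Flat) sq.flip ‹Flat c.left›,
    fun z => ⟨0, (MorphismProperty.of_isPullback (P := @Surjective) sq.flip ‹Surjective c.left›).surj z⟩,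
    fun _ => ⟨⟨⟩, (yon S).map (pullback.snd h c), ?_⟩⟩
  rw [← Functor.map_comp, ← Functor.map_comp, pullback.condition]

theorem repWith_of_fpqc_openImmersion {F G G' F' : Sp S} (hF : IsAlgSpace F) (hG : IsAlgSpace G)
    (hG' : IsAlgSpace G') {f : F ⟶ G} {g : G' ⟶ G} (hg : IsFpqcCover (fun _ : PUnit.{u + 1} => G') (fun _ => g))
    {q : F' ⟶ F} {p : F' ⟶ G'} (sq : IsPullback q p f g) (hp : RepWith @IsOpenImmersion p) :
    RepWith @IsOpenImmersion f :=
  (isLocalOnBase_fpqc_openImmersion (fun _ => G') (fun _ => g) hG (fun _ => hG') hg f hF (fun _ => F')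
    (fun _ => p) (fun _ => q) (fun _ => isAlgSpace_of_isPullback hG.diag hF hG' sq) (fun _ => sq)).2 fun _ => hp

set_option maxHeartbeats 1000000 in
/-- An algebraic space over an affine scheme, quasi-affine after a flat surjective affine base change, is quasi-affine. -/
theorem exists_iso_quasiAffine {Q : Sp S} (hQ : IsAlgSpace Q) {Z : Over S} [IsAffine Z.left]
    (pr : Q ⟶ (yon S).obj Z) {W : Over S} (c : W ⟶ Z) [IsAffine W.left] [Flat c.left] [Surjective c.left]
    {Q' : Over S} [Q'.left.IsQuasiAffine] (q' : (yon S).obj Q' ⟶ Q) (b' : Q' ⟶ W)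
    (sqQ : IsPullback q' ((yon S).map b') pr ((yon S).map c)) :
    ∃ (W₀ : Over S) (w₀ : W₀ ⟶ Z) (μ : (yon S).obj W₀ ⟶ Q),
      IsIso μ ∧ μ ≫ pr = (yon S).map w₀ ∧ W₀.left.IsQuasiAffine := by
  have hq's : Function.Surjective (Points.ofPt q') := by
    intro y
    obtain ⟨z, hz⟩ := (Points.schemeEquiv Z).surjective (Points.map pr y)
    obtain ⟨w, hw⟩ := c.left.surjective z
    obtain ⟨p, hp, -⟩ := exists_point_of_isPullback sqQ y (Points.ofScheme W w) (by
      rw [← hz, ← Points.ofPt_eq_map_ofScheme, ← Category.comp_id ((yon S).map c), ofPt_map, hw]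
      rfl)
    obtain ⟨p, rfl⟩ := (Points.schemeEquiv Q').surjective p
    exact ⟨p, (Points.ofPt_eq_map_ofScheme q' p).trans hp⟩
  obtain ⟨U, d, hUaff, hde, hds⟩ := exists_affine_atlas hQ q' hq's
  obtain ⟨uu, huu⟩ := (yon S).map_surjective (d ≫ pr)
  let U' := pullback uu c
  have sqU : IsPullback (pullback.fst uu c) (pullback.snd uu c) uu c := IsPullback.of_hasPullback _ _
  have hU' : IsAffine U'.left := isAffine_pullback_left uu c
  have : IsAffine (pullback uu c).left := hU'
  have sqU2 := sqU.map (yon S)
  rw [huu] at sqU2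
  obtain ⟨e', he'⟩ := (yon S).map_surjective (sqQ.lift ((yon S).map (pullback.fst uu c) ≫ d)
    ((yon S).map (pullback.snd uu c)) (by rw [Category.assoc]; exact sqU2.w))
  have sqE : IsPullback ((yon S).map (pullback.fst uu c)) ((yon S).map e') d q' := by
    refine IsPullback.of_bot ?_ ?_ sqQ
    · rw [he', sqQ.lift_snd]; exact sqU2
    · rw [he', sqQ.lift_fst]
  have he'e : Etale e'.left := etale_left_of_repWith (repWith_of_isPullback sqE hde)
  have he's : Surjective e'.left := surjective_left_of_repWith (repWith_of_isPullback sqE hds)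
  have heb : e' ≫ b' = pullback.snd uu c := (yon S).map_injective (by
    rw [Functor.map_comp (f := e'), he', sqQ.lift_snd])
  obtain ⟨R, t, s', sqR⟩ := hde.1 d
  obtain ⟨s, rfl⟩ := (yon S).map_surjective s'
  have hst : s ≫ uu = t ≫ uu := (yon S).map_injective (by
    rw [Functor.map_comp, Functor.map_comp, huu, ← Category.assoc, sqR.w, Category.assoc])
  -- the relation after base change
  let R' := pullback e' e'
  have ker : IsPullback (pullback.fst e' e') (pullback.snd e' e') e' e' := IsPullback.of_hasPullback _ _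
  have h1 := (ker.map (yon S)).paste_horiz sqE
  rw [← sqE.w] at h1
  -- `h1 : IsPullback (p₁ ≫ fst) p₂ d (fst ≫ d)`
  have hρex : ∃ ρ : R' ⟶ R, ρ ≫ s = pullback.fst e' e' ≫ pullback.fst uu c ∧
      ρ ≫ t = pullback.snd e' e' ≫ pullback.fst uu c ∧
      IsPullback ((yon S).map ρ) ((yon S).map (pullback.snd e' e')) ((yon S).map t)
        ((yon S).map (pullback.fst uu c)) := by
    obtain ⟨ρ, hρ⟩ := (yon S).map_surjective (sqR.lift
      ((yon S).map (pullback.fst e' e') ≫ (yon S).map (pullback.fst uu c))
      ((yon S).map (pullback.snd e' e') ≫ (yon S).map (pullback.fst uu c))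
      (by rw [Category.assoc (h := d), Category.assoc]; exact h1.w))
    refine ⟨ρ, ?_, ?_, ?_⟩
    · apply (yon S).map_injective
      rw [Functor.map_comp, Functor.map_comp, hρ, sqR.lift_fst]
    · apply (yon S).map_injective
      rw [Functor.map_comp, Functor.map_comp, hρ, sqR.lift_snd]
    · refine IsPullback.of_right ?_ ?_ sqR
      · rw [hρ, sqR.lift_fst]; exact h1
      · rw [hρ, sqR.lift_snd]
  obtain ⟨ρ, hρs, hρt, hρsq⟩ := hρex
  have sqR' : IsPullback ρ (pullback.snd e' e' ≫ pullback.snd uu c) (t ≫ uu) c :=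
    (IsPullback.of_map (yon S) ((yon S).map_injective (by simpa using hρsq.w)) hρsq).paste_vert sqU
  have hR : IsAffine R.left := by
    have h2 : IsAffineHom (pullback.snd e' e' ≫ pullback.snd uu c).left := by
      have hR' : IsAffine R'.left := isAffine_pullback_left_of_quasiAffine e' e'
      exact inferInstanceAs (IsAffineHom (_ : R'.left ⟶ W.left))
    have h3 : IsAffineHom (t ≫ uu).left := MorphismProperty.of_isPullback_of_descendsAlong
      (P := @IsAffineHom) (Q := Groth.Agent.H18Descent.fpqc.{u}) (sqR'.map (Over.forget S)).flip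
      ⟨⟨‹Surjective c.left›, ‹Flat c.left›⟩, inferInstanceAs (QuasiCompact c.left)⟩ h2
    exact isAffine_of_isAffineHom (t ≫ uu).left
  have hR' : IsAffine R'.left := isAffine_pullback_left_of_quasiAffine e' e'
  have : EffectiveEpi e'.left := inferInstance
  have hst' : s.left ≫ uu.left = t.left ≫ uu.left := congrArg (fun f => Over.Hom.left f) hst
  have sqR'' := sqR'.map (Over.forget S)
  have hsqR3 : IsPullback ρ.left (pullback.snd e' e' ≫ pullback.snd uu c).left (s.left ≫ uu.left) c.left := by
    rw [hst']; exact sqR''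
  have h₁' : pullback.fst e' e' ≫ pullback.snd uu c = pullback.snd e' e' ≫ pullback.snd uu c := by
    rw [← heb, pullback.condition_assoc]
  have sqUl : IsPullback (pullback.fst uu c).left (pullback.snd uu c).left uu.left c.left :=
    sqU.map (Over.forget S)
  have kerl : IsPullback (pullback.fst e' e').left (pullback.snd e' e').left e'.left e'.left :=
    ker.map (Over.forget S)
  obtain ⟨Z₀, z₀, u₀, φ, hZ₀, hu₀, hst₀, hφ, hφ₁, hφ₂⟩ := exists_quasiAffine_quotient c.left uu.left s.left
    t.left hst' sqUl hsqR3 (pullback.fst e' e').left (pullback.snd e' e').left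
    (congrArg (fun f => Over.Hom.left f) hρs.symm) (congrArg (fun f => Over.Hom.left f) h₁')
    (congrArg (fun f => Over.Hom.left f) hρt.symm) rfl e'.left kerl
  let Z₀' : Over S := Over.mk (z₀ ≫ Z.hom)
  let z : Z₀' ⟶ Z := Over.homMk z₀ rfl
  let u : U ⟶ Z₀' := Over.homMk u₀ (by
    change u₀ ≫ z₀ ≫ Z.hom = U.hom
    rw [reassoc_of% hu₀]; exact Over.w uu)
  have huz : u ≫ z = uu := Over.OverMorphism.ext hu₀
  have hsu : s ≫ u = t ≫ u := Over.OverMorphism.ext hst₀
  have hd : Epi d := epi_of_local_lifts d fun T y => by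
    obtain ⟨V, v, k', sq⟩ := hde.1 y
    have hve : Etale v.left := hde.2 y k' v sq
    have hvs : Surjective v.left := hds.2 y k' v sq
    exact ⟨PUnit, fun _ => V, fun _ => v, ofArrows_mem_J _ (fun _ => inferInstance) (fun _ => inferInstance)
      (fun t => ⟨⟨⟩, v.left.surjective t⟩), fun _ => ⟨k', sq.w⟩⟩
  have : EffectiveEpi d := by
    have := IsRegularEpiCategory.regularEpiOfEpi d
    infer_instance
  let κ : Q ⟶ (yon S).obj Z₀' := EffectiveEpi.desc d ((yon S).map u) fun g₁ g₂ hg => by
    have h3 := congrArg (sqR.lift g₁ g₂ hg ≫ ·) (congrArg (yon S).map hsu)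
    simp only [Functor.map_comp, ← Category.assoc, sqR.lift_fst, sqR.lift_snd] at h3
    exact h3
  have hκ : d ≫ κ = (yon S).map u := EffectiveEpi.fac _ _ _
  have hκz : κ ≫ (yon S).map z = pr := by
    rw [← cancel_epi d, reassoc_of% hκ, ← Functor.map_comp, huz, huu]
  -- base change of `κ`
  have sqZ := (IsPullback.of_hasPullback z c).map (Over.forget S)
  have hφ' : IsOpenImmersion (φ ≫ (sqZ.isoPullback).inv) := inferInstance
  let φ₁ : Q' ⟶ pullback z c := pullback.lift (Over.homMk (φ ≫ pullback.fst z₀ c.left) (by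
      change (φ ≫ pullback.fst z₀ c.left) ≫ z₀ ≫ Z.hom = Q'.hom
      rw [Category.assoc, pullback.condition_assoc, Over.w c]
      rw [← cancel_epi e'.left, reassoc_of% hφ₂]
      rw [Over.w (pullback.snd uu c), Over.w e'])) b' (by
      apply Over.OverMorphism.ext
      change (φ ≫ pullback.fst z₀ c.left) ≫ z₀ = b'.left ≫ c.left
      rw [Category.assoc, pullback.condition, ← cancel_epi e'.left, reassoc_of% hφ₂]
      rw [← Over.comp_left, ← Over.comp_left, ← Over.comp_left, ← Category.assoc, heb])
  have hφb : φ ≫ pullback.snd z₀ c.left = b'.left := by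
    rw [← cancel_epi e'.left, hφ₂]
    exact (congrArg (fun f => Over.Hom.left f) heb).symm
  have hφ₁o : IsOpenImmersion φ₁.left := by
    have h4 : φ₁.left = φ ≫ sqZ.isoPullback.inv := by
      apply sqZ.hom_ext
      · rw [Category.assoc]
        erw [sqZ.isoPullback_inv_fst]
        exact congrArg (fun f => Over.Hom.left f) (pullback.lift_fst _ _ _)
      · rw [Category.assoc]
        erw [sqZ.isoPullback_inv_snd]
        refine (congrArg (fun f => Over.Hom.left f) (pullback.lift_snd _ _ _)).trans ?_
        exact hφb.symm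
    rw [h4]; exact hφ'
  have hq'κ : q' ≫ κ = (yon S).map (φ₁ ≫ pullback.fst z c) := by
    have : Epi ((yon S).map e') := epi_of_local_lifts _ fun T y => by
      obtain ⟨y, rfl⟩ := (yon S).map_surjective y
      have sq := (IsPullback.of_hasPullback e' y).map (Over.forget S)
      have : Etale (pullback.snd e' y).left := MorphismProperty.of_isPullback (P := @Etale) sq he'e
      have : Surjective (pullback.snd e' y).left := MorphismProperty.of_isPullback (P := @Surjective) sq he's
      exact ⟨PUnit, fun _ => _, fun _ => pullback.snd e' y, ofArrows_mem_J _ (fun _ => inferInstance)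
        (fun _ => inferInstance) (fun t => ⟨⟨⟩, (pullback.snd e' y).left.surjective t⟩),
        fun _ => ⟨(yon S).map (pullback.fst e' y), by
          rw [← Functor.map_comp, ← Functor.map_comp, pullback.condition]⟩⟩
    rw [← cancel_epi ((yon S).map e'), ← Category.assoc, ← sqE.w, Category.assoc, hκ, ← Functor.map_comp,
      ← Functor.map_comp]
    congr 1
    apply Over.OverMorphism.ext
    simp only [φ₁, pullback.lift_fst]
    exact hφ₁.symm
  have sqκ : IsPullback q' ((yon S).map φ₁) κ ((yon S).map (pullback.fst z c)) := by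
    refine IsPullback.of_bot ?_ (by rw [hq'κ, Functor.map_comp]) ((IsPullback.of_hasPullback z c).map (yon S)).flip.flip
    rw [hκz, ← Functor.map_comp, show φ₁ ≫ pullback.snd z c = b' from pullback.lift_snd _ _ _]
    exact sqQ
  have : IsAffine Z₀'.left := hZ₀
  have hP₁ : IsAffine (pullback z c).left := isAffine_pullback_left z c
  have hfl : Flat (pullback.fst z c).left := MorphismProperty.of_isPullback sqZ.flip ‹Flat c.left›
  have hsu' : Surjective (pullback.fst z c).left := MorphismProperty.of_isPullback sqZ.flip ‹Surjective c.left›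
  have hκo : RepWith @IsOpenImmersion κ :=
    repWith_of_fpqc_openImmersion hQ (IsAlgSpace.yon_obj Z₀') (IsAlgSpace.yon_obj _)
      (isFpqcCover_single (pullback.fst z c)) sqκ ((repWith_yon_map_iff _ _).2 hφ₁o)
  obtain ⟨W₀, w, fst, sqW⟩ := hκo.1 (𝟙 ((yon S).obj Z₀'))
  have : IsOpenImmersion w.left := hκo.2 _ fst w sqW
  have : IsIso fst := sqW.isIso_fst_of_isIso
  have hsurj : Function.Surjective (Points.ofPt fst) := fun y => by
    obtain ⟨v, hv⟩ := (Points.schemeEquiv W₀).surjective (Points.map (inv fst) y)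
    refine ⟨v, ?_⟩
    rw [Points.ofPt_eq_map_ofScheme, show Points.ofScheme W₀ v = _ from hv, ← Points.map_comp,
      IsIso.inv_hom_id, Points.map_id]
  have hW₀c : CompactSpace W₀.left := by
    obtain ⟨l, hl⟩ := (yon S).map_surjective (q' ≫ inv fst)
    have hl' : Function.Surjective l.left := fun v => by
      obtain ⟨p, hp⟩ := hq's (Points.ofPt fst v)
      refine ⟨p, (Points.schemeEquiv W₀).injective ?_⟩
      have h := congrArg (Points.map (inv fst)) hp
      rw [Points.map_ofPt, Points.map_ofPt, IsIso.hom_inv_id, ← hl, ← Category.comp_id ((yon S).map l), ofPt_map] at h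
      exact h
    exact ⟨hl'.range_eq ▸ isCompact_range l.left.continuous⟩
  refine ⟨W₀, w ≫ z, fst, inferInstance, ?_, Scheme.IsQuasiAffine.of_isImmersion w.left⟩
  rw [← hκz, ← Category.assoc, sqW.w, Category.assoc, Category.id_comp, Functor.map_comp]

end Groth.Agent.H13AlgSp
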