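import Groth.Agent.H13AlgSp.FpqcIso
import Groth.Agent.H13AlgSp.RelRep
import Groth.Agent.H13AlgSp.QAffDescent
import Groth.Agent.H12AlgSp.OpenCover
import Groth.Agent.H13Desc.EffColimit
import Groth.Agent.H13Desc.Eff.IndQAFam
import Mathlib.AlgebraicGeometry.Morphisms.LocalFlatDescent

/-!
Algebraic spaces satisfy the sheaf condition for fpqc coverings.
-/

set_option backward.isDefEq.respectTransparency false
set_option backward.isDefEq.respectTransparency.types false
set_option linter.style.haveILetI false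
set_option linter.unusedSectionVars false

universe u

open CategoryTheory CategoryTheory.Limits AlgebraicGeometry Opposite
open AlgSp Groth.Agent.H12AlgSp

namespace Groth.Agent.H13AlgSp.FpqcSheaf

variable {S : Scheme.{u}}

theorem exists_hom_of_natural {F G : Sp S}
    (v : ∀ Y : Over S, ((yon S).obj Y ⟶ F) → ((yon S).obj Y ⟶ G))
    (hv : ∀ (V Y : Over S) (e : V ⟶ Y) (y : (yon S).obj Y ⟶ F),
      v V ((yon S).map e ≫ y) = (yon S).map e ≫ v Y y) :
    ∃ b : F ⟶ G, ∀ (Y : Over S) (y : (yon S).obj Y ⟶ F), y ≫ b = v Y y := by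
  let b : F ⟶ G := ⟨{
    app := fun Y => ↾fun x => (J S).uliftYonedaEquiv (v Y.unop ((J S).uliftYonedaEquiv.symm x))
    naturality := fun Y Y' f => by
      ext x
      show (J S).uliftYonedaEquiv (v _ ((J S).uliftYonedaEquiv.symm (F.obj.map f x))) =
        G.obj.map f ((J S).uliftYonedaEquiv (v _ ((J S).uliftYonedaEquiv.symm x)))
      have e : (J S).uliftYonedaEquiv.symm (F.obj.map f x) =
          (yon S).map f.unop ≫ (J S).uliftYonedaEquiv.symm x := by
        apply (J S).uliftYonedaEquiv.injective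
        rw [Equiv.apply_symm_apply, ← GrothendieckTopology.uliftYonedaEquiv_naturality,
          Equiv.apply_symm_apply]
        rfl
      rw [e, hv, ← GrothendieckTopology.uliftYonedaEquiv_naturality]
      rfl }⟩
  refine ⟨b, fun Y y => (J S).uliftYonedaEquiv.injective ?_⟩
  show (J S).uliftYonedaEquiv (v Y ((J S).uliftYonedaEquiv.symm ((J S).uliftYonedaEquiv y))) = _
  rw [Equiv.symm_apply_apply]

theorem isSeparated_left_of_pullback {X : Sp S} {U W P : Over S} [IsSeparated U.hom]
    {a : (yon S).obj U ⟶ X} {w : (yon S).obj W ⟶ X} (f : P ⟶ U) (b : P ⟶ W)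
    (sq : IsPullback ((yon S).map f) ((yon S).map b) a w) : IsSeparated b.left := by
  let k : P.left ⟶ pullback U.hom W.hom :=
    pullback.lift f.left b.left ((Over.w f).trans (Over.w b).symm)
  have : Mono k := ⟨fun {Z} c d e => by
    have e₁ : c ≫ f.left = d ≫ f.left := by
      simpa [k] using congrArg (· ≫ pullback.fst U.hom W.hom) e
    have e₂ : c ≫ b.left = d ≫ b.left := by
      simpa [k] using congrArg (· ≫ pullback.snd U.hom W.hom) e
    have e₀ : d ≫ P.hom = c ≫ P.hom := by rw [← Over.w b, reassoc_of% e₂]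
    let c' : Over.mk (c ≫ P.hom) ⟶ P := Over.homMk c rfl
    let d' : Over.mk (c ≫ P.hom) ⟶ P := Over.homMk d e₀
    have : (yon S).map c' = (yon S).map d' := by
      apply sq.hom_ext
      · rw [← Functor.map_comp, ← Functor.map_comp]
        exact congrArg (yon S).map (Over.OverMorphism.ext e₁)
      · rw [← Functor.map_comp, ← Functor.map_comp]
        exact congrArg (yon S).map (Over.OverMorphism.ext e₂)
    exact congrArg (·.left) ((yon S).map_injective this)⟩
  have hk : k ≫ pullback.snd U.hom W.hom = b.left := pullback.lift_snd _ _ _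
  rw [← hk]
  infer_instance

section Pair

variable {B : Sp S} {U W T Q : Over S} {d : (yon S).obj U ⟶ B} {w : (yon S).obj W ⟶ B} (c : W ⟶ T)
  (f : Q ⟶ U) (b : Q ⟶ W) (sq : IsPullback ((yon S).map f) ((yon S).map b) d w)
  (hw : ∀ (A : Over S) (a a' : A ⟶ W), a ≫ c = a' ≫ c → (yon S).map a ≫ w = (yon S).map a' ≫ w)

include sq in
theorem lifts_ext {Z : Scheme.{u}} (r r' : Z ⟶ Q.left) (h₁ : r ≫ f.left = r' ≫ f.left)
    (h₂ : r ≫ b.left = r' ≫ b.left) : r = r' := by
  let A : Over S := Over.mk (r ≫ Q.hom)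
  let rA : A ⟶ Q := Over.homMk r rfl
  let rA' : A ⟶ Q := Over.homMk r' (by
    show r' ≫ Q.hom = r ≫ Q.hom
    rw [← Over.w b, reassoc_of% h₂])
  have : (yon S).map rA = (yon S).map rA' := by
    apply sq.hom_ext
    · rw [← Functor.map_comp, ← Functor.map_comp]
      exact congrArg (yon S).map (Over.OverMorphism.ext h₁)
    · rw [← Functor.map_comp, ← Functor.map_comp]
      exact congrArg (yon S).map (Over.OverMorphism.ext h₂)
  exact congrArg (·.left) ((yon S).map_injective this)

include sq hw in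
theorem exists_move {Z : Scheme.{u}} (v : Z ⟶ Q.left) (x : Z ⟶ W.left)
    (h : (v ≫ b.left) ≫ c.left = x ≫ c.left) :
    ∃ r : Z ⟶ Q.left, r ≫ b.left = x ∧ r ≫ f.left = v ≫ f.left := by
  let A : Over S := Over.mk (v ≫ Q.hom)
  let vA : A ⟶ Q := Over.homMk v rfl
  let xA : A ⟶ W := Over.homMk x (by
    show x ≫ W.hom = v ≫ Q.hom
    rw [← Over.w c, ← reassoc_of% h, Over.w c, Over.w b])
  have e : vA ≫ b ≫ c = xA ≫ c :=
    Over.OverMorphism.ext ((Category.assoc _ _ _).symm.trans h)
  obtain ⟨r, hr⟩ := (yon S).map_surjective (sq.lift ((yon S).map (vA ≫ f)) ((yon S).map xA) (by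
    rw [Functor.map_comp, Category.assoc, sq.w, ← Category.assoc, ← Functor.map_comp]
    exact hw A _ _ (by rw [Category.assoc]; exact e)))
  refine ⟨r.left, ?_, ?_⟩
  · have : r ≫ b = xA := (yon S).map_injective (by rw [Functor.map_comp, hr, sq.lift_snd])
    exact congrArg (·.left) this
  · have : r ≫ f = vA ≫ f := (yon S).map_injective (by rw [Functor.map_comp, hr, sq.lift_fst])
    exact congrArg (·.left) this

include sq hw in
theorem exists_move' {Z : Scheme.{u}} {x₀ : Z ⟶ W.left} (x₁ : Z ⟶ W.left)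
    (h : x₀ ≫ c.left = x₁ ≫ c.left) (v : Desc.Lifts (CategoryTheory.Over.mk b.left) x₀) :
    ∃ r : Desc.Lifts (CategoryTheory.Over.mk b.left) x₁, r.1 ≫ f.left = v.1 ≫ f.left := by
  obtain ⟨r, h1, h2⟩ := exists_move c f b sq hw v.1 x₁
    ((congrArg (· ≫ c.left) (show v.1 ≫ b.left = x₀ from v.2)).trans h)
  exact ⟨⟨r, h1⟩, h2⟩

include sq in
theorem lifts_ext' {Z : Scheme.{u}} {x : Z ⟶ W.left} (r r' : Desc.Lifts (CategoryTheory.Over.mk b.left) x)
    (h₁ : r.1 ≫ f.left = r'.1 ≫ f.left) : r = r' :=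
  Subtype.ext (lifts_ext f b sq _ _ h₁ (r.2.trans r'.2.symm))

/-- The point over a second point of the base. -/
noncomputable def moveTo {Z : Scheme.{u}} {x₀ : Z ⟶ W.left} (x₁ : Z ⟶ W.left)
    (h : x₀ ≫ c.left = x₁ ≫ c.left) (v : Desc.Lifts (CategoryTheory.Over.mk b.left) x₀) :
    Desc.Lifts (CategoryTheory.Over.mk b.left) x₁ :=
  (exists_move' c f b sq hw x₁ h v).choose

theorem moveTo_f {Z : Scheme.{u}} {x₀ : Z ⟶ W.left} (x₁ : Z ⟶ W.left)
    (h : x₀ ≫ c.left = x₁ ≫ c.left) (v : Desc.Lifts (CategoryTheory.Over.mk b.left) x₀) :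
    (moveTo c f b sq hw x₁ h v).1 ≫ f.left = v.1 ≫ f.left :=
  (exists_move' c f b sq hw x₁ h v).choose_spec

/-- The descent datum of the base change of a chart along a map agreeing on a kernel pair. -/
noncomputable def pairDD : Desc.SchDD c.left where
  obj := CategoryTheory.Over.mk b.left
  φ Z x₀ x₁ h :=
    { toFun := moveTo c f b sq hw x₁ h
      invFun := moveTo c f b sq hw x₀ h.symm
      left_inv := fun v => lifts_ext' f b sq _ _
        ((moveTo_f c f b sq hw x₀ _ _).trans (moveTo_f c f b sq hw x₁ h v))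
      right_inv := fun v => lifts_ext' f b sq _ _
        ((moveTo_f c f b sq hw x₁ _ _).trans (moveTo_f c f b sq hw x₀ h.symm v)) }
  φ_natural Z Z' g x₀ x₁ h h' v v' hv' := by
    show (moveTo c f b sq hw (g ≫ x₁) h' v').1 = g ≫ (moveTo c f b sq hw x₁ h v).1
    refine lifts_ext f b sq _ _ ?_ ?_
    · rw [moveTo_f, Category.assoc, moveTo_f, hv', Category.assoc]
    · refine (moveTo c f b sq hw (g ≫ x₁) h' v').2.trans ?_
      rw [Category.assoc]
      exact congrArg (g ≫ ·) (moveTo c f b sq hw x₁ h v).2.symm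
  φ_self Z x v := lifts_ext' f b sq _ _ (moveTo_f c f b sq hw x rfl v)
  φ_comp Z x₀ x₁ x₂ h₀₁ h₁₂ v := lifts_ext' f b sq _ _
    ((moveTo_f c f b sq hw x₂ h₁₂ _).trans ((moveTo_f c f b sq hw x₁ h₀₁ v).trans
      (moveTo_f c f b sq hw x₂ (h₀₁.trans h₁₂) v).symm))

theorem pairDD_f {Z : Scheme.{u}} (x₀ x₁ : Z ⟶ W.left) (h : x₀ ≫ c.left = x₁ ≫ c.left)
    (v : Desc.Lifts (pairDD c f b sq hw).obj x₀) :
    ((pairDD c f b sq hw).φ x₀ x₁ h v).1 ≫ f.left = v.1 ≫ f.left :=
  moveTo_f c f b sq hw x₁ h v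

end Pair

set_option maxHeartbeats 1000000 in
/-- A map from an affine scheme to an algebraic space agreeing on the kernel pair of a faithfully flat
morphism of affine schemes descends. -/
theorem exists_desc_affine {B : Sp S} (hB : IsAlgSpace B) {T W : Over S} (c : W ⟶ T) [IsAffine W.left]
    [IsAffine T.left] [Flat c.left] [Surjective c.left] (w : (yon S).obj W ⟶ B)
    (hw : ∀ (A : Over S) (a a' : A ⟶ W), a ≫ c = a' ≫ c → (yon S).map a ≫ w = (yon S).map a' ≫ w) :
    ∃ t : (yon S).obj T ⟶ B, (yon S).map c ≫ t = w := by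
  obtain ⟨U, d, hUsep, hde, hds⟩ := Groth.Agent.H13EffColim.exists_separated_atlas hB
  obtain ⟨Q, b, f', sq⟩ := hde.1 w
  obtain ⟨f, rfl⟩ := (yon S).map_surjective f'
  have : IsSeparated b.left := isSeparated_left_of_pullback f b sq
  have : Etale b.left := hde.property _ _ b sq
  have : Surjective b.left := hds.property _ _ b sq
  let D := pairDD c f b sq hw
  have : LocallyQuasiFinite b.left := Groth.Agent.H12AlgSp.lqf_of_etale b.left
  have hqa : ∀ V : D.obj.left.Opens, IsCompact (V : Set D.obj.left) → V.toScheme.IsQuasiAffine :=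
    fun V hV => (H7Flat.indQA_iff b.left).1 (H7Flat.indQA_of_isSeparated b.left) ⊤
      (isAffineOpen_top W.left) V hV (fun _ _ => trivial)
  obtain ⟨Z, ⟨e⟩⟩ := H13Desc.Eff.IndQA.isEffective_affine D hqa
  let E : pullback c.left Z.hom ⟶ Q.left := e.hom.hom.left
  let E' : Q.left ⟶ pullback c.left Z.hom := e.inv.hom.left
  have hE'E : E' ≫ E = 𝟙 _ := by
    show e.inv.hom.left ≫ e.hom.hom.left = _
    rw [← Over.comp_left, ← Desc.SchDD.comp_hom, e.inv_hom_id]; rfl
  have hEE' : E ≫ E' = 𝟙 _ := by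
    show e.hom.hom.left ≫ e.inv.hom.left = _
    rw [← Over.comp_left, ← Desc.SchDD.comp_hom, e.hom_inv_id]; rfl
  have hEb : E ≫ b.left = pullback.fst c.left Z.hom := Over.w e.hom.hom
  have : IsIso E := ⟨E', hEE', hE'E⟩
  have hcq : (@Surjective ⊓ @Flat ⊓ @QuasiCompact : MorphismProperty Scheme.{u}) c.left :=
    ⟨⟨inferInstance, inferInstance⟩, inferInstance⟩
  have : Etale Z.hom := MorphismProperty.of_isPullback_of_descendsAlong (P := @Etale)
    (IsPullback.of_hasPullback c.left Z.hom) hcq (by rw [← hEb]; infer_instance)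
  have : Surjective Z.hom := MorphismProperty.of_isPullback_of_descendsAlong (P := @Surjective)
    (IsPullback.of_hasPullback c.left Z.hom) hcq (by rw [← hEb]; infer_instance)
  let s := pullback.snd c.left Z.hom
  have hinv : ∀ {Y : Scheme.{u}} (g₁ g₂ : Y ⟶ pullback c.left Z.hom), g₁ ≫ s = g₂ ≫ s →
      g₁ ≫ E ≫ f.left = g₂ ≫ E ≫ f.left := by
    intro Y g₁ g₂ hg
    have hh : (g₁ ≫ pullback.fst c.left Z.hom) ≫ c.left = (g₂ ≫ pullback.fst c.left Z.hom) ≫ c.left := by
      simp only [Category.assoc, pullback.condition]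
      rw [← Category.assoc, ← Category.assoc]
      exact congrArg (· ≫ Z.hom) hg
    let v : Desc.Lifts ((Desc.toDD c.left).obj Z).obj (g₁ ≫ pullback.fst c.left Z.hom) := ⟨g₁, rfl⟩
    let v' : Desc.Lifts D.obj (g₁ ≫ pullback.fst c.left Z.hom) :=
      ⟨g₁ ≫ E, by
        show (g₁ ≫ E) ≫ b.left = _
        rw [Category.assoc, hEb]⟩
    have h1 := e.hom.comm _ _ hh v v' rfl
    have h2 : (((Desc.toDD c.left).obj Z).φ _ _ hh v).1 = g₂ :=
      pullback.hom_ext (pullback.lift_fst _ _ _) ((pullback.lift_snd _ _ _).trans hg)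
    rw [h2] at h1
    have h3 := pairDD_f c f b sq hw _ _ hh v'
    rw [h1] at h3
    exact (Category.assoc _ _ _).symm.trans (h3.symm.trans (Category.assoc _ _ _))
  let g₀ : Z.left ⟶ U.left := EffectiveEpi.desc s (E ≫ f.left) fun g₁ g₂ hg => hinv g₁ g₂ hg
  have hg₀ : s ≫ g₀ = E ≫ f.left := EffectiveEpi.fac _ _ _
  let Zo : Over S := Over.mk (Z.hom ≫ T.hom)
  let zh : Zo ⟶ T := Over.homMk Z.hom
  let gO : Zo ⟶ U := Over.homMk g₀ (by
    show g₀ ≫ U.hom = Z.hom ≫ T.hom
    rw [← cancel_epi s, reassoc_of% hg₀, Over.w f, ← Over.w b, reassoc_of% hEb]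
    show pullback.fst c.left Z.hom ≫ W.hom = pullback.snd c.left Z.hom ≫ Z.hom ≫ T.hom
    rw [← pullback.condition_assoc, Over.w c])
  have hrel : ∀ (A : Over S) (a a' : A ⟶ Zo), a ≫ zh = a' ≫ zh →
      (yon S).map a ≫ (yon S).map gO ≫ d = (yon S).map a' ≫ (yon S).map gO ≫ d := by
    intro A a a' haa
    refine hom_ext_of_fpqc hB.diag _ _ fun Z' j hZ' => ?_
    have : IsAffine Z'.left := hZ'
    have sqW := (IsPullback.of_hasPullback (j ≫ a ≫ zh) c).map (Over.forget S)
    refine ⟨1, fun _ => pullback (j ≫ a ≫ zh) c, fun _ => pullback.fst _ _,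
      fun _ => isAffine_pullback_left _ c,
      fun _ => MorphismProperty.of_isPullback (P := @Flat) sqW.flip ‹Flat c.left›,
      fun z => ⟨0, (MorphismProperty.of_isPullback (P := @Surjective) sqW.flip ‹Surjective c.left›).surj z⟩,
      fun _ => ?_⟩
    let k := pullback.fst (j ≫ a ≫ zh) c ≫ j
    let q := pullback.snd (j ≫ a ≫ zh) c
    have key : ∀ a'' : A ⟶ Zo, a'' ≫ zh = a ≫ zh →
        (yon S).map (k ≫ a'' ≫ gO) ≫ d = (yon S).map q ≫ w := by
      intro a'' he
      let m : (pullback (j ≫ a ≫ zh) c).left ⟶ pullback c.left Z.hom :=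
        pullback.lift q.left (k ≫ a'').left (by
          have h1 : q ≫ c = (k ≫ a'') ≫ zh := by
            rw [Category.assoc, he, Category.assoc]; exact pullback.condition.symm
          exact congrArg (·.left) h1)
      let u : pullback (j ≫ a ≫ zh) c ⟶ Q := Over.homMk (m ≫ E) (by
        rw [Category.assoc, ← Over.w b, reassoc_of% hEb]
        exact ((pullback.lift_fst_assoc _ _ _ _).trans (Over.w q)))
      have hub : u ≫ b = q := Over.OverMorphism.ext (by
        show (m ≫ E) ≫ b.left = q.left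
        rw [Category.assoc, hEb]; exact pullback.lift_fst _ _ _)
      have huf : u ≫ f = k ≫ a'' ≫ gO := Over.OverMorphism.ext (by
        show (m ≫ E) ≫ f.left = k.left ≫ a''.left ≫ g₀
        refine (Category.assoc _ _ _).trans ((congrArg (m ≫ ·) hg₀.symm).trans ?_)
        refine (Category.assoc _ _ _).symm.trans ?_
        exact (congrArg (· ≫ g₀) (pullback.lift_snd _ _ _)).trans (Category.assoc _ _ _))
      rw [← huf, ← hub, Functor.map_comp, Functor.map_comp, Category.assoc, Category.assoc, sq.w]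
    have h1 := (key a rfl).trans (key a' haa.symm).symm
    simpa only [k, Functor.map_comp, Category.assoc] using h1
  obtain ⟨t, ht⟩ := exists_glue (fun _ : PUnit.{u + 1} => zh)
    (ofArrows_mem_J _ (fun _ => inferInstanceAs (Flat Z.hom))
      (fun _ => inferInstanceAs (LocallyOfFinitePresentation Z.hom))
      fun x => ⟨⟨⟩, ‹Surjective Z.hom›.surj x⟩)
    (fun _ => (yon S).map gO ≫ d) (fun _ _ A a a' h => hrel A a a' h)
  refine ⟨t, hom_ext_of_cover (fun _ : PUnit.{u + 1} => b)
    (ofArrows_mem_J _ (fun _ => inferInstance) (fun _ => inferInstance)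
      fun x => ⟨⟨⟩, ‹Surjective b.left›.surj x⟩) fun _ => ?_⟩
  let z : Q ⟶ Zo := Over.homMk (E' ≫ s) (by
    show (E' ≫ s) ≫ Z.hom ≫ T.hom = Q.hom
    rw [Category.assoc, show s = pullback.snd c.left Z.hom from rfl, ← pullback.condition_assoc,
      Over.w c, ← hEb, Category.assoc, reassoc_of% hE'E, Over.w b])
  have hz1 : z ≫ zh = b ≫ c := Over.OverMorphism.ext (by
    show (E' ≫ s) ≫ Z.hom = b.left ≫ c.left
    rw [Category.assoc, show s = pullback.snd c.left Z.hom from rfl, ← pullback.condition, ← hEb,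
      Category.assoc, reassoc_of% hE'E])
  have hz2 : z ≫ gO = f := Over.OverMorphism.ext (by
    show (E' ≫ s) ≫ g₀ = f.left
    rw [Category.assoc, hg₀, reassoc_of% hE'E])
  rw [← Category.assoc, ← Functor.map_comp, ← hz1, Functor.map_comp, Category.assoc, ht ⟨⟩,
    ← Category.assoc, ← Functor.map_comp, hz2, sq.w]

variable {ι : Type u} {G : Sp S} {Gi : ι → Sp S} {g : ∀ i, Gi i ⟶ G}

theorem hom_ext_of_isFpqcCover {B : Sp S} (hB : IsAlgSpace B) (hg : IsFpqcCover Gi g) {a b : G ⟶ B}
    (h : ∀ i, g i ≫ a = g i ≫ b) : a = b := by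
  refine hom_ext_yon fun Y y => hom_ext_of_fpqc hB.diag _ _ fun Z j hZ => ?_
  obtain ⟨m, W, c, haff, hfl, hs, hl⟩ := hg.2 Z hZ ((yon S).map j ≫ y)
  refine ⟨m, W, c, haff, hfl, hs, fun k => ?_⟩
  obtain ⟨i, l, hl⟩ := hl k
  have := congrArg (l ≫ ·) (h i)
  simp only [← Category.assoc, hl] at this
  simpa only [Functor.map_comp, Category.assoc] using this

theorem exists_desc {B : Sp S} (hB : IsAlgSpace B) (hg : IsFpqcCover Gi g) (bi : ∀ i, Gi i ⟶ B)
    (hb : ∀ (V : Over S) (i i' : ι) (l : (yon S).obj V ⟶ Gi i) (l' : (yon S).obj V ⟶ Gi i'),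
      l ≫ g i = l' ≫ g i' → l ≫ bi i = l' ≫ bi i') :
    ∃ b : G ⟶ B, ∀ i, g i ≫ b = bi i := by
  let Good : ∀ Y : Over S, ((yon S).obj Y ⟶ G) → ((yon S).obj Y ⟶ B) → Prop := fun Y y v =>
    ∀ (V : Over S) (e : V ⟶ Y) (i : ι) (l : (yon S).obj V ⟶ Gi i), l ≫ g i = (yon S).map e ≫ y →
      (yon S).map e ≫ v = l ≫ bi i
  have uniq : ∀ (Y : Over S) (y : (yon S).obj Y ⟶ G) (v v' : (yon S).obj Y ⟶ B),
      Good Y y v → Good Y y v' → v = v' := by
    intro Y y v v' hv hv'
    refine hom_ext_of_fpqc hB.diag _ _ fun Z j hZ => ?_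
    obtain ⟨m, W, c, haff, hfl, hs, hl⟩ := hg.2 Z hZ ((yon S).map j ≫ y)
    refine ⟨m, W, c, haff, hfl, hs, fun k => ?_⟩
    obtain ⟨i, l, hl⟩ := hl k
    rw [← Category.assoc, ← Functor.map_comp] at hl
    rw [hv _ _ i l hl, hv' _ _ i l hl]
  have good_comp : ∀ (V Y : Over S) (e : V ⟶ Y) (y : (yon S).obj Y ⟶ G) (v : (yon S).obj Y ⟶ B),
      Good Y y v → Good V ((yon S).map e ≫ y) ((yon S).map e ≫ v) := by
    intro V Y e y v hv V' e' i l hl
    rw [← Category.assoc, ← Functor.map_comp] at hl ⊢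
    exact hv V' _ i l hl
  have affine_case : ∀ (Y : Over S), IsAffine Y.left → ∀ y, ∃ v, Good Y y v := by
    intro Y hY y
    obtain ⟨m, W, c, haff, hfl, hs, hl⟩ := hg.2 Y hY y
    choose i l hl using hl
    let X : ULift.{u} (Fin m) → Scheme.{u} := fun k => (W k.down).left
    let Wσ : Over S := Over.mk (Sigma.desc fun k : ULift.{u} (Fin m) => (W k.down).hom : ∐ X ⟶ S)
    let n : ∀ k : ULift.{u} (Fin m), W k.down ⟶ Wσ := fun k =>
      Over.homMk (Sigma.ι X k) (Sigma.ι_desc _ _)
    let σ : Wσ ⟶ Y := Over.homMk (Sigma.desc fun k => (c k.down).left) (by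
      refine Sigma.hom_ext _ _ fun k => ?_
      show Sigma.ι X k ≫ Sigma.desc _ ≫ Y.hom = Sigma.ι X k ≫ Sigma.desc _
      rw [Sigma.ι_desc_assoc, Sigma.ι_desc, CategoryTheory.Over.w])
    have hnσ : ∀ k, n k ≫ σ = c k.down := fun k => Over.OverMorphism.ext (Sigma.ι_desc _ _)
    have : ∀ k, IsAffine (X k) := fun k => haff k.down
    have : IsAffine Wσ.left := inferInstanceAs (IsAffine (∐ X))
    have : Flat σ.left := IsZariskiLocalAtSource.sigmaDesc (P := @Flat) fun k => hfl k.down
    have : Surjective σ.left := ⟨fun x => by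
      obtain ⟨k, z, hz⟩ := hs x
      exact ⟨(n ⟨k⟩).left z, by rw [← Scheme.Hom.comp_apply, ← Over.comp_left, hnσ, hz]⟩⟩
    have hn : Sieve.ofArrows _ n ∈ J S Wσ := ofArrows_mem_J n
      (fun k => inferInstanceAs (Flat (Sigma.ι X k)))
      (fun k => inferInstanceAs (LocallyOfFinitePresentation (Sigma.ι X k))) fun x => by
        obtain ⟨k, z, hz⟩ := (sigmaOpenCover X).exists_eq x
        exact ⟨k, z, hz⟩
    obtain ⟨w, hw⟩ := exists_glue n hn (fun k => l k.down ≫ bi (i k.down)) fun k k' A a a' e => by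
      rw [← Category.assoc, ← Category.assoc]
      refine hb A _ _ _ _ ?_
      rw [Category.assoc, Category.assoc, hl, hl, ← Category.assoc, ← Category.assoc, ← Functor.map_comp,
        ← Functor.map_comp, ← hnσ, ← hnσ, reassoc_of% e]
    have hprop : ∀ (V : Over S) (a : V ⟶ Wσ) (i' : ι) (l' : (yon S).obj V ⟶ Gi i'),
        l' ≫ g i' = (yon S).map (a ≫ σ) ≫ y → (yon S).map a ≫ w = l' ≫ bi i' := by
      intro V a i' l' hl'
      have sqk := fun k => (IsPullback.of_hasPullback a (n k)).map (Over.forget S)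
      refine hom_ext_of_cover (fun k => pullback.fst a (n k)) (ofArrows_mem_J _
        (fun k => MorphismProperty.of_isPullback (P := @Flat) (sqk k).flip
          (inferInstanceAs (Flat (Sigma.ι X k))))
        (fun k => MorphismProperty.of_isPullback (P := @LocallyOfFinitePresentation) (sqk k).flip
          (inferInstanceAs (LocallyOfFinitePresentation (Sigma.ι X k))))
        fun x => ?_) fun k => ?_
      · obtain ⟨k, z, hz⟩ := (sigmaOpenCover X).exists_eq (a.left x)
        obtain ⟨z', hz', -⟩ := Scheme.exists_preimage_of_isPullback (sqk k) x z hz.symm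
        exact ⟨k, z', hz'⟩
      · rw [← Category.assoc, ← Functor.map_comp, pullback.condition, Functor.map_comp, Category.assoc,
          hw, ← Category.assoc, ← Category.assoc]
        refine hb _ _ _ _ _ ?_
        rw [Category.assoc, Category.assoc, hl, hl', ← Category.assoc, ← Category.assoc, ← Functor.map_comp,
          ← Functor.map_comp, ← hnσ, pullback.condition_assoc]
    obtain ⟨v, hv⟩ := exists_desc_affine hB σ w fun A a a' e => by
      refine hom_ext_of_fpqc hB.diag _ _ fun Z j hZ => ?_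
      obtain ⟨m', W', c', haff', hfl', hs', hl'⟩ := hg.2 Z hZ ((yon S).map (j ≫ a ≫ σ) ≫ y)
      refine ⟨m', W', c', haff', hfl', hs', fun k => ?_⟩
      obtain ⟨i', l', hl'⟩ := hl' k
      rw [← Category.assoc, ← Functor.map_comp] at hl'
      rw [← Category.assoc, ← Category.assoc, ← Functor.map_comp, ← Functor.map_comp,
        hprop _ ((c' k ≫ j) ≫ a) i' l' (by simpa only [Category.assoc] using hl'),
        hprop _ ((c' k ≫ j) ≫ a') i' l' (by simpa only [Category.assoc, e] using hl')]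
    refine ⟨v, fun V e i' l' hl' => hom_ext_of_fpqc hB.diag _ _ fun Z j hZ => ?_⟩
    have : IsAffine Z.left := hZ
    have sqW := (IsPullback.of_hasPullback (j ≫ e) σ).map (Over.forget S)
    refine ⟨1, fun _ => pullback (j ≫ e) σ, fun _ => pullback.fst _ _,
      fun _ => isAffine_pullback_left _ σ,
      fun _ => MorphismProperty.of_isPullback (P := @Flat) sqW.flip ‹Flat σ.left›,
      fun z => ⟨0, (MorphismProperty.of_isPullback (P := @Surjective) sqW.flip ‹Surjective σ.left›).surj z⟩,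
      fun _ => ?_⟩
    rw [← Category.assoc, ← Functor.map_comp, Category.assoc, pullback.condition, Functor.map_comp,
      Category.assoc, hv, ← Category.assoc]
    refine hprop _ _ i' _ ?_
    rw [Category.assoc, hl', ← Category.assoc, ← Functor.map_comp, ← pullback.condition]
    simp only [Category.assoc]
  have general : ∀ (Y : Over S) y, ∃ v, Good Y y v := by
    intro Y y
    let C : Y.left.affineOpens → Over S := fun a => openOver Y a.1
    let jc : ∀ a, C a ⟶ Y := fun a => openIncl Y a.1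
    choose va hva using fun a => affine_case (C a) a.2 ((yon S).map (jc a) ≫ y)
    have hj : Sieve.ofArrows C jc ∈ J S Y := ofArrows_mem_J jc
      (fun a => inferInstanceAs (Flat a.1.ι)) (fun a => inferInstanceAs (LocallyOfFinitePresentation a.1.ι))
      fun x => by
        obtain ⟨U, hU⟩ := TopologicalSpace.Opens.mem_iSup.1
          ((iSup_affineOpens_eq_top Y.left).ge (Set.mem_univ x))
        exact ⟨U, ⟨x, hU⟩, rfl⟩
    obtain ⟨v, hv⟩ := exists_glue jc hj va fun a a' A p p' e => by
      refine uniq A ((yon S).map (p ≫ jc a) ≫ y) _ _ ?_ ?_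
      · rw [Functor.map_comp, Category.assoc]; exact good_comp _ _ p _ _ (hva a)
      · rw [e, Functor.map_comp, Category.assoc]; exact good_comp _ _ p' _ _ (hva a')
    refine ⟨v, fun V e i' l' hl' => ?_⟩
    have sqk := fun a => (IsPullback.of_hasPullback e (jc a)).map (Over.forget S)
    refine hom_ext_of_cover (fun a => pullback.fst e (jc a)) (ofArrows_mem_J _
      (fun a => MorphismProperty.of_isPullback (P := @Flat) (sqk a).flip
        (inferInstanceAs (Flat a.1.ι)))
      (fun a => MorphismProperty.of_isPullback (P := @LocallyOfFinitePresentation) (sqk a).flip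
        (inferInstanceAs (LocallyOfFinitePresentation a.1.ι)))
      fun x => ?_) fun a => ?_
    · obtain ⟨U, hU⟩ := TopologicalSpace.Opens.mem_iSup.1
        ((iSup_affineOpens_eq_top Y.left).ge (Set.mem_univ (e.left x)))
      obtain ⟨z', hz', -⟩ := Scheme.exists_preimage_of_isPullback (sqk U) x ⟨e.left x, hU⟩ rfl
      exact ⟨U, z', hz'⟩
    · rw [← Category.assoc, ← Functor.map_comp, pullback.condition, Functor.map_comp, Category.assoc,
        hv, ← Category.assoc]
      refine hva a _ (pullback.snd e (jc a)) i' _ ?_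
      rw [Category.assoc, hl', ← Category.assoc, ← Category.assoc, ← Functor.map_comp, ← Functor.map_comp,
        pullback.condition]
  choose v hv using general
  obtain ⟨b, hb'⟩ := exists_hom_of_natural v fun V Y e y =>
    uniq V _ _ _ (hv V _) (good_comp V Y e y _ (hv Y y))
  refine ⟨b, fun i => hom_ext_yon fun Y y => ?_⟩
  rw [← Category.assoc, hb']
  simpa using hv Y (y ≫ g i) Y (𝟙 Y) i y (by simp)

end Groth.Agent.H13AlgSp.FpqcSheaf
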