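import Groth.Agent.H13AlgSp.FormalGlueAgree
import Groth.Agent.H13AlgSp.FormalGlueReflect
import Groth.Agent.H13AlgSp.FpqcSheaf

/-!
Formal glueing is fully faithful on separated spaces.
-/

set_option autoImplicit false
set_option linter.style.haveILetI false
set_option backward.isDefEq.respectTransparency false
set_option backward.isDefEq.respectTransparency.types false

universe u

open CategoryTheory CategoryTheory.Limits AlgebraicGeometry
open AlgSp Groth.Agent.H12AlgSp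

namespace Groth.Agent.H13AlgSp.FormalGlueHom

variable {S : Scheme.{u}}

theorem existsUnique_hom {X Y Z FZ U X₁ X₂ A₁U A₁Y A₁V : Sp S} (hX : IsAlgSpace X) (hY : IsAlgSpace Y)
    (hU' : IsAlgSpace U) (hX₁ : IsAlgSpace X₁) (hX₂ : IsAlgSpace X₂) (hA₁Y : IsAlgSpace A₁Y)
    (hA₁U : IsAlgSpace A₁U) (hZ : IsAlgSpace Z)
    {f : Y ⟶ X} (hqc : IsQuasiCompactMor f) {i : Z ⟶ X} (hi : RepWith @IsClosedImmersion i)
    (hifp : LocP @LocallyOfFinitePresentation i) {iY : FZ ⟶ Y} {fZ : FZ ⟶ Z} (hFZ : IsPullback iY fZ f i)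
    [IsIso fZ] (hflat : ∀ y ∈ Set.range (Points.map iY), IsFlatAtMor f y) {j : U ⟶ X}
    (hj : RepWith @IsOpenImmersion j) (hU : Set.range (Points.map j) = (Set.range (Points.map i))ᶜ)
    (p₁ : X₁ ⟶ X) (p₂ : X₂ ⟶ X) (hp₂ : IsSeparatedMor p₂)
    {a₁U : A₁U ⟶ X₁} {r₁U : A₁U ⟶ U} (h₁U : IsPullback a₁U r₁U p₁ j)
    {a₁Y : A₁Y ⟶ X₁} {r₁Y : A₁Y ⟶ Y} (h₁Y : IsPullback a₁Y r₁Y p₁ f)
    {m₁U : A₁V ⟶ A₁U} {m₁Y : A₁V ⟶ A₁Y} (h₁V : IsPullback m₁U m₁Y a₁U a₁Y)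
    (cU : A₁U ⟶ X₂) (cY : A₁Y ⟶ X₂) (hcU : cU ≫ p₂ = a₁U ≫ p₁) (hcY : cY ≫ p₂ = a₁Y ≫ p₁)
    (hcc : m₁U ≫ cU = m₁Y ≫ cY) :
    ∃! φ : X₁ ⟶ X₂, φ ≫ p₂ = p₁ ∧ a₁U ≫ φ = cU ∧ a₁Y ≫ φ = cY := by
  obtain ⟨ι, W, w, hW, hw, hl⟩ := FormalGlueCover.exists_cover hX hY hU' hqc hi hifp hFZ hflat hj hU
  obtain ⟨hP, hc⟩ := FormalGlueReflect.isFpqcCover_pullback hX hX₁ hW hw p₁
  let P : ι → Sp S := fun k => pullback (w k) p₁
  let g : ∀ k, P k ⟶ X₁ := fun k => pullback.snd (w k) p₁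
  -- lifts of the pieces
  have hk : ∀ k, (∃ l : P k ⟶ A₁U, l ≫ a₁U = g k) ∨
      ∃ l : P k ⟶ A₁Y, l ≫ a₁Y = g k ∧ LocP @Flat l := fun k => by
    rcases hl k with ⟨l, hl⟩ | ⟨l, hl, hlflat⟩
    · exact .inl ⟨h₁U.lift (g k) (pullback.fst (w k) p₁ ≫ l)
        (by rw [Category.assoc, hl, pullback.condition]), h₁U.lift_fst _ _ _⟩
    · let μ := h₁Y.lift (g k) (pullback.fst (w k) p₁ ≫ l) (by rw [Category.assoc, hl, pullback.condition])
      have hμ1 : μ ≫ a₁Y = g k := h₁Y.lift_fst _ _ _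
      have hμ2 : μ ≫ r₁Y = pullback.fst (w k) p₁ ≫ l := h₁Y.lift_snd _ _ _
      have big : IsPullback (pullback.fst (w k) p₁) (μ ≫ a₁Y) (l ≫ f) p₁ := by
        rw [hμ1, hl]; exact IsPullback.of_hasPullback _ _
      have sq := IsPullback.of_bot big hμ2.symm h₁Y.flip
      exact .inr ⟨μ, hμ1, Groth.Agent.H12AlgSp.locP_of_isPullback etLocal_flat sq (hW k) hY hA₁Y hlflat⟩
  -- `U`-part facts
  have hmonoU : Mono a₁U := by
    have := mono_of_openImmersion hj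
    exact MorphismProperty.of_isPullback (P := MorphismProperty.monomorphisms (Sp S)) h₁U.flip ‹Mono j›
  have hUY : ∀ (V : Over S) (u : (yon S).obj V ⟶ A₁U) (v : (yon S).obj V ⟶ A₁Y),
      u ≫ a₁U = v ≫ a₁Y → u ≫ cU = v ≫ cY := fun V u v e => by
    rw [← h₁V.lift_fst u v e, Category.assoc, hcc, ← Category.assoc, h₁V.lift_snd]
  let i₁ := pullback.snd i p₁
  have sqi := IsPullback.of_hasPullback i p₁
  have hi₁ : RepWith @IsClosedImmersion i₁ := repWith_of_isPullback sqi hi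
  have hi₁fp : LocP @LocallyOfFinitePresentation i₁ :=
    Groth.Agent.H12AlgSp.locP_of_isPullback etLocal_lfp sqi hZ hX hX₁ hifp
  have hZiso : ∀ (T : Over S) (u v : (yon S).obj T ⟶ A₁Y), u ≫ a₁Y = v ≫ a₁Y →
      (∃ z, z ≫ i₁ = u ≫ a₁Y) → u = v := by
    intro T u v e ⟨z, hz⟩
    refine h₁Y.hom_ext e ?_
    have key : ∀ s : (yon S).obj T ⟶ A₁Y, s ≫ a₁Y = u ≫ a₁Y →
        s ≫ r₁Y = z ≫ pullback.fst i p₁ ≫ inv fZ ≫ iY := fun s hs => by
      have hs' : (s ≫ r₁Y) ≫ f = (z ≫ pullback.fst i p₁) ≫ i := by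
        rw [Category.assoc, ← h₁Y.w, reassoc_of% hs, ← reassoc_of% hz, Category.assoc, pullback.condition]
      let r := hFZ.lift _ _ hs'
      have h2 : r ≫ fZ = z ≫ pullback.fst i p₁ := hFZ.lift_snd _ _ _
      rw [← hFZ.lift_fst _ _ hs', ← reassoc_of% h2]
      simp [r]
    rw [key u rfl, key v e.symm]
  have hcU' : ∀ (T : Over S) (u v : (yon S).obj T ⟶ A₁Y), u ≫ a₁Y = v ≫ a₁Y →
      (∀ t : T.left, Points.ofPt (u ≫ a₁Y) t ∉ Set.range (Points.map i₁)) → u ≫ cY = v ≫ cY := by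
    intro T u v e hnot
    obtain ⟨ξ, hξ⟩ := exists_factor_open hj (u ≫ a₁Y ≫ p₁) (by
      rintro _ ⟨pt, rfl⟩
      obtain ⟨t, rfl⟩ := (Points.schemeEquiv T).surjective pt
      rw [hU]
      intro hin
      refine hnot t ?_
      rw [range_snd_of_isPullback sqi, Set.mem_preimage, Points.map_ofPt, Category.assoc,
        Points.ofPt_eq_map_ofScheme]
      exact hin)
    let lam := h₁U.lift (u ≫ a₁Y) ξ (by rw [Category.assoc, hξ])
    rw [← hUY T lam u (h₁U.lift_fst _ _ _), ← hUY T lam v ((h₁U.lift_fst _ _ _).trans e)]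
  -- the local morphisms
  have hb : ∀ k, ∃ b : P k ⟶ X₂, (∃ l : P k ⟶ A₁U, l ≫ a₁U = g k ∧ b = l ≫ cU) ∨
      ∃ l : P k ⟶ A₁Y, l ≫ a₁Y = g k ∧ LocP @Flat l ∧ b = l ≫ cY := fun k => by
    rcases hk k with ⟨l, hl⟩ | ⟨l, hl, hf⟩
    · exact ⟨_, .inl ⟨l, hl, rfl⟩⟩
    · exact ⟨_, .inr ⟨l, hl, hf, rfl⟩⟩
  choose b hb using hb
  obtain ⟨φ, hφ⟩ := FpqcSheaf.exists_desc hX₂ hc b (by
    intro V k k' u u' e
    rcases hb k with ⟨l, hl, hbk⟩ | ⟨l, hl, hlflat, hbk⟩ <;>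
      rcases hb k' with ⟨l', hl', hbk'⟩ | ⟨l', hl', hlflat', hbk'⟩ <;> rw [hbk, hbk']
    · have : u ≫ l = u' ≫ l' := by
        rw [← cancel_mono a₁U, Category.assoc, Category.assoc, hl, hl']; exact e
      rw [← Category.assoc, this, Category.assoc]
    · simp only [← Category.assoc]
      exact hUY V _ _ (by rw [Category.assoc, Category.assoc, hl, hl']; exact e)
    · simp only [← Category.assoc]
      exact (hUY V _ _ (by rw [Category.assoc, Category.assoc, hl, hl']; exact e.symm)).symm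
    · refine FormalGlueAgree.agree hX₁ hA₁Y (hP k) (hP k') hp₂ hi₁ hi₁fp hZiso hcU' hcY hlflat ?_ ?_ V u u' ?_
      · rw [hl]; exact hc.1 k
      · rw [hl']; exact hc.1 k'
      · rw [hl, hl']; exact e)
  have hgb : ∀ k, b k ≫ p₂ = g k ≫ p₁ := fun k => by
    rcases hb k with ⟨l, hl, hbk⟩ | ⟨l, hl, -, hbk⟩
    · rw [hbk, Category.assoc, hcU, reassoc_of% hl]
    · rw [hbk, Category.assoc, hcY, reassoc_of% hl]
  refine ⟨φ, ⟨FpqcSheaf.hom_ext_of_isFpqcCover hX hc fun k => ?_, ?_, ?_⟩, fun φ' h => ?_⟩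
  · rw [← Category.assoc, hφ, hgb]
  · -- over `U`
    obtain ⟨hQ, hcQ⟩ := FormalGlueReflect.isFpqcCover_pullback hX₁ hA₁U hP hc a₁U
    refine FpqcSheaf.hom_ext_of_isFpqcCover hX₂ hcQ fun k => ?_
    refine hom_ext_yon fun T y => ?_
    have e : (y ≫ pullback.fst (g k) a₁U) ≫ g k = (y ≫ pullback.snd (g k) a₁U) ≫ a₁U := by
      rw [Category.assoc, Category.assoc, pullback.condition]
    calc y ≫ pullback.snd (g k) a₁U ≫ a₁U ≫ φ = (y ≫ pullback.fst (g k) a₁U) ≫ b k := by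
          rw [← hφ k]
          have h' := congrArg (· ≫ φ) e
          simp only [Category.assoc] at h' ⊢
          exact h'.symm
      _ = (y ≫ pullback.snd (g k) a₁U) ≫ cU := by
          rcases hb k with ⟨l, hl, hbk⟩ | ⟨l, hl, -, hbk⟩
          · have : (y ≫ pullback.fst (g k) a₁U) ≫ l = y ≫ pullback.snd (g k) a₁U := by
              rw [← cancel_mono a₁U, Category.assoc, hl]; exact e
            rw [hbk, ← Category.assoc, this]
          · rw [hbk, ← Category.assoc]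
            exact (hUY T _ _ (by rw [Category.assoc (y ≫ pullback.fst (g k) a₁U) l, hl]; exact e.symm)).symm
      _ = _ := Category.assoc _ _ _
  · -- over `Y`
    obtain ⟨hQ, hcQ⟩ := FormalGlueReflect.isFpqcCover_pullback hX₁ hA₁Y hP hc a₁Y
    refine FpqcSheaf.hom_ext_of_isFpqcCover hX₂ hcQ fun k => ?_
    refine hom_ext_yon fun T y => ?_
    have e : (y ≫ pullback.fst (g k) a₁Y) ≫ g k = (y ≫ pullback.snd (g k) a₁Y) ≫ a₁Y := by
      rw [Category.assoc, Category.assoc, pullback.condition]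
    calc y ≫ pullback.snd (g k) a₁Y ≫ a₁Y ≫ φ = (y ≫ pullback.fst (g k) a₁Y) ≫ b k := by
          rw [← hφ k]
          have h' := congrArg (· ≫ φ) e
          simp only [Category.assoc] at h' ⊢
          exact h'.symm
      _ = (y ≫ pullback.snd (g k) a₁Y) ≫ cY := by
          rcases hb k with ⟨l, hl, hbk⟩ | ⟨l, hl, hlflat, hbk⟩
          · rw [hbk, ← Category.assoc]
            exact hUY T _ _ (by rw [Category.assoc (y ≫ pullback.fst (g k) a₁Y) l, hl]; exact e)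
          · rw [hbk, ← Category.assoc]
            simp only [Category.assoc]
            simp only [← Category.assoc y]
            refine FormalGlueAgree.agree_id hX₁ hA₁Y (isAlgSpace_of_isPullback hX.diag hZ hX₁ sqi) (hP k) hp₂ hi₁
              hi₁fp hZiso hcU' hcY hlflat ?_ T _ _ ?_
            · rw [hl]; exact hc.1 k
            · rw [hl]; exact e
      _ = _ := Category.assoc _ _ _
  · refine FpqcSheaf.hom_ext_of_isFpqcCover hX₂ hc fun k => ?_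
    rw [hφ]
    rcases hb k with ⟨l, hl, hbk⟩ | ⟨l, hl, -, hbk⟩
    · rw [hbk, ← h.2.1, reassoc_of% hl]
    · rw [hbk, ← h.2.2, reassoc_of% hl]

end Groth.Agent.H13AlgSp.FormalGlueHom
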