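import Groth.Agent.H13AlgSp.FibreCond
import Groth.Agent.H13AlgSp.CodimZeroQf
import Groth.Agent.H13AlgSp.DecentGeneric
import Groth.Agent.H12AlgSp.RelDim
import Groth.Agent.H17.Fibre
import Groth.Agent.H12AlgSp.DecentTop

/-!
Quasi-finiteness at generic points of integral spaces.
-/

universe u

open CategoryTheory CategoryTheory.Limits AlgebraicGeometry Opposite Topology
open AlgSp Groth.Agent.H12AlgSp

namespace Groth.Agent.H13AlgSp

theorem qfAt_iff_of_mem_genericPoints {U V : Scheme.{u}} (h : U ⟶ V) [LocallyOfFiniteType h] {u : U}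
    (hu : u ∈ genericPoints U) : h.QuasiFiniteAt u ↔ Dual3.resTrdeg h u = 0 := by
  letI := (h.residueFieldMap u).hom.toAlgebra
  rw [Groth.Agent.H17.quasiFiniteAt_iff_isClosed_and_max, show Dual3.resTrdeg h u =
    Algebra.trdeg (V.residueField (h u)) (U.residueField u) from rfl, trdeg_eq_zero_iff]
  constructor
  · rintro ⟨hc, -⟩
    have hint : (h.residueFieldMap u).hom.IsIntegral :=
      RingHom.IsIntegral.of_finite (Groth.Agent.H17.finite_residueFieldMap h u hc)
    have : Algebra.IsIntegral (V.residueField (h u)) (U.residueField u) := ⟨hint⟩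
    infer_instance
  · intro ha
    refine ⟨Groth.Agent.H17.isClosed_singleton_asFiber h u fun z => (ha.1 z).isIntegral, fun x' hx' => ?_⟩
    refine (h.fiberι (h u)).isEmbedding.injective ?_
    rw [Scheme.Hom.fiberι_asFiber]
    refine (Groth.Agent.H17.mem_genericPoints_iff.1 hu _ ?_)
    have := hx'.map (h.fiberι (h u)).continuous
    rwa [Scheme.Hom.fiberι_asFiber] at this

variable {S : Scheme.{u}} {X Y : Sp S}

theorem map_generic (hY : IsAlgSpace Y) (hd : IsDecent Y) {f : X ⟶ Y} (hdom : IsDominantMor f)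
    {x : Points X} (hx : IsGenericPoint x (Set.univ : Set (Points X))) {y : Points Y}
    (hy : IsGenericPoint y (Set.univ : Set (Points Y))) : Points.map f x = y := by
  have := quasiSober_of_isDecent hY hd
  have := (Groth.Agent.H12AlgSp.t0Space_points hY hd)
  refine ((IsGenericPoint.eq ?_ hy))
  refine Set.eq_univ_of_forall fun z => ?_
  have h1 : Set.range (Points.map f) ⊆ closure {Points.map f x} := by
    rintro _ ⟨x', rfl⟩
    exact ((hx.specializes (Set.mem_univ x')).map (Points.continuous_map f)).mem_closure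
  exact closure_minimal h1 isClosed_closure (hdom z)

theorem qfAt_iff_fibre_eq (hX : IsAlgSpace X) (hY : IsAlgSpace Y) (hd : IsDecent Y) {f : X ⟶ Y}
    (hft : LocP @LocallyOfFiniteType f) {x : Points X} (hx : IsGenericPoint x (Set.univ : Set (Points X)))
    {y : Points Y} (hxy : Points.map f x = y) :
    QfAt f x ↔ ∀ x', Points.map f x' = y → x' = x := by
  let p : ↥(Points.map f ⁻¹' {y}) := ⟨x, hxy⟩
  have H := fibre_singleton_iff hX hY hft hd p
  constructor
  · intro hq x' hx'
    have hc : IsClosed ({p} : Set ↥(Points.map f ⁻¹' {y})) := (H.2.1.2 hq).1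
    have hs : p ⤳ (⟨x', hx'⟩ : ↥(Points.map f ⁻¹' {y})) :=
      (subtype_specializes_iff _ _).2 (hx.specializes (Set.mem_univ x'))
    exact congrArg Subtype.val (show (⟨x', hx'⟩ : ↥(Points.map f ⁻¹' {y})) = p from hs.mem_closed hc rfl)
  · intro h
    refine H.1.1 ?_
    have : ({p} : Set ↥(Points.map f ⁻¹' {y})) = Set.univ :=
      (Set.eq_univ_of_forall fun q => Subtype.ext (h q.1 q.2))
    rw [this]
    exact isOpen_univ

theorem resTrdeg_zero_iff_qfAt (hX : IsAlgSpace X) (hY : IsAlgSpace Y) (hd : IsDecent X) {f : X ⟶ Y}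
    (hft : LocP @LocallyOfFiniteType f) {x : Points X} (hx : IsGenericPoint x (Set.univ : Set (Points X))) :
    HasAtMor (fun _ _ h u => Dual3.resTrdeg h u = 0) f x ↔ QfAt f x := by
  constructor
  · rintro ⟨U, V, a, b, h, u, ha, hb, w, rfl, h0⟩
    have : LocallyOfFiniteType h.left := hft a b h ha hb w
    refine qfAt_of_chart ha hb w ((qfAt_iff_of_mem_genericPoints h.left ?_).2 h0)
    refine (component_iff_mem_genericPoints hX hd ha u).1 ⟨Set.univ, ⟨?_, ?_⟩, hx⟩
    · exact hx ▸ isIrreducible_singleton.closure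
    · exact fun t _ _ => Set.subset_univ t
  · rintro ⟨U, V, a, b, h, u, ha, hb, w, rfl, O, huO, hlqf, hlft⟩
    refine ⟨U, V, a, b, h, u, ha, hb, w, rfl, ?_⟩
    have h1 := resTrdeg_comp O.ι h.left ⟨u, huO⟩
    rw [resTrdeg_eq_zero_of_lqf (O.ι ≫ h.left) ⟨u, huO⟩] at h1
    exact nonpos_iff_eq_zero.1 (h1.symm ▸ self_le_add_right _ _)

end Groth.Agent.H13AlgSp
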