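import Groth.Agent.H13AlgSp.ShrPoints
import Groth.Agent.H12AlgSp.ShriekEquiv
import Groth.Agent.H13AlgSp.GeomRedBC
import Mathlib.AlgebraicGeometry.ResidueField
import Mathlib.RingTheory.Etale.StandardEtale
import Mathlib.RingTheory.Polynomial.ScaleRoots
import Mathlib.FieldTheory.PrimitiveElement

/-!
Geometric fibres: reduction to spaces over fields, and lifting of finite separable residue extensions to etale
neighbourhoods.
-/

set_option autoImplicit false
set_option backward.isDefEq.respectTransparency false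

universe u

open CategoryTheory CategoryTheory.Limits AlgebraicGeometry Opposite Topology
open AlgSp Groth.Agent.H12AlgSp Groth.Agent.H12AlgSp.Shriek

namespace Groth.Agent.H13AlgSp

section Field

variable {k : Type u} [Field k] {S : Scheme.{u}} {sk : Spec (CommRingCat.of k) ⟶ S} {Q : Sp S}

/-- A space over a field seen in sheaves over the field, with its base changes. -/
theorem exists_overField (hQ : IsAlgSpace Q) (q : Q ⟶ (yon S).obj (Over.mk sk)) :
    ∃ X₀ : Space (Spec (CommRingCat.of k)),
      ∀ (K : Type u) (_ : Field K) (_ : Algebra k K) (P : Sp S) (fst : P ⟶ Q)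
        (sK : Spec (CommRingCat.of K) ⟶ S) (c : Over.mk sK ⟶ Over.mk sk)
        (snd : P ⟶ (yon S).obj (Over.mk sK)),
        c.left = Spec.map (CommRingCat.ofHom (algebraMap k K)) → IsPullback fst snd q ((yon S).map c) →
        (ConnectedSpace (Points P) ↔ ConnectedSpace (Points (bcSp X₀.obj K))) := by
  obtain ⟨hi, hb⟩ := fib_spec (g := sk) q
  let φ : (shr sk).obj (fib q) ≅ Q := @asIso _ _ _ _ _ hi
  refine ⟨⟨fib q, isAlgSpace_of_shr (g := sk) (IsAlgSpace.of_iso hQ φ.symm)⟩, ?_⟩
  intro K _ _ P fst sK c snd hc sq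
  let Sk := Spec (CommRingCat.of k)
  have hterm : IsTerminal ((yon Sk).obj (Over.mk (𝟙 Sk))) := IsTerminal.isTerminalObj (yon _) _ Over.mkIdTerminal
  have sqP : IsPullback (prod.fst : bcSp (fib q) K ⟶ fib q) prod.snd (hterm.from _)
      ((yon Sk).map (Over.mkIdTerminal.from (extObj k K))) := by
    rw [hterm.hom_ext ((yon _).map (Over.mkIdTerminal.from (extObj k K))) (hterm.from _)]
    exact IsPullback.of_is_product (prodIsProd _ _) hterm
  let eK : (Over.map sk).obj (extObj k K) ≅ Over.mk sK := Over.isoMk (Iso.refl _) (by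
    change 𝟙 _ ≫ sK = Spec.map _ ≫ sk
    rw [Category.id_comp, ← hc]
    exact (Over.w c).symm)
  let e1 : (Over.map sk).obj (Over.mk (𝟙 Sk)) ≅ Over.mk sk := Over.isoMk (Iso.refl _) (by
    change 𝟙 _ ≫ sk = 𝟙 _ ≫ sk
    rfl)
  have he1 : canS sk (Over.mk (𝟙 Sk)) = e1.hom := Over.OverMorphism.ext rfl
  have sqS := ((isPullback_shr_iff (g := sk)).2 sqP).of_iso (Iso.refl _) φ
    (yonIso sk (extObj k K) ≪≫ (yon S).mapIso eK) (yonIso sk (Over.mk (𝟙 Sk)) ≪≫ (yon S).mapIso e1)
    (fst' := (shr sk).map prod.fst ≫ φ.hom)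
    (snd' := (shr sk).map prod.snd ≫ (yonIso sk (extObj k K) ≪≫ (yon S).mapIso eK).hom)
    (f' := q) (g' := (yon S).map c)
    (by rw [Iso.refl_hom, Category.id_comp]) (by rw [Iso.refl_hom, Category.id_comp])
    (by
      rw [Iso.trans_hom, Functor.mapIso_hom, ← he1, yonIso_toBase, toBase_naturality]
      exact hb.symm)
    (by
      rw [Iso.trans_hom, Functor.mapIso_hom, reassoc_of% yonIso_naturality, Iso.trans_hom, Functor.mapIso_hom,
        Category.assoc, ← Functor.map_comp, ← Functor.map_comp]
      congr 2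
      refine Over.OverMorphism.ext ?_
      change (Over.mkIdTerminal.from (extObj k K)).left ≫ 𝟙 _ = 𝟙 _ ≫ c.left
      rw [Category.comp_id, Category.id_comp, hc]
      exact (Category.comp_id _).symm.trans (Over.w (Over.mkIdTerminal.from (extObj k K))))
  let e := sqS.isoIsPullback _ _ sq
  have hB : IsAlgSpace (bcSp (fib q) K) :=
    isAlgSpace_prod (isAlgSpace_of_shr (g := sk) (IsAlgSpace.of_iso hQ φ.symm)) (IsAlgSpace.yon_obj _)
  rw [← connectedSpace_shr_iff (g := sk) hB]
  exact (Homeomorph.connectedSpace_iff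
    { toFun := Points.map e.hom, invFun := Points.map e.inv
      left_inv := fun z => by rw [← Points.map_comp, Iso.hom_inv_id, Points.map_id]
      right_inv := fun z => by rw [← Points.map_comp, Iso.inv_hom_id, Points.map_id]
      continuous_toFun := Points.continuous_map _
      continuous_invFun := Points.continuous_map _ }).symm

end Field

section Lift

/-- A finite separable extension of a residue field is cut out by a standard etale algebra. -/
theorem exists_standardEtale_residue {A k L : Type u} [CommRing A] [Field k] [Field L] (ψ : A →+* k)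
    (hfrac : ∀ x : k, ∃ a s, ψ s ≠ 0 ∧ x * ψ s = ψ a) [Algebra k L] [Module.Finite k L] [Algebra.IsSeparable k L] :
    ∃ (B : Type u) (_ : CommRing B) (_ : Algebra A B) (_ : Algebra.Etale A B) (lam : B →+* L),
      lam.comp (algebraMap A B) = (algebraMap k L).comp ψ ∧
        ∀ F : Subfield L, Set.range lam ⊆ F → ∀ z : L, z ∈ F := by
  classical
  obtain ⟨α, hα⟩ := Field.exists_primitive_element k L
  have hint : IsIntegral k α := Algebra.IsIntegral.isIntegral α
  let μ := minpoly k α
  have hμ : μ.Monic := minpoly.monic hint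
  obtain ⟨s, hs, hs'⟩ : ∃ s, ψ s ≠ 0 ∧ ∀ i ∈ Finset.range μ.natDegree, ∃ a, μ.coeff i * ψ s = ψ a := by
    induction Finset.range μ.natDegree using Finset.induction with
    | empty => exact ⟨1, by rw [map_one]; exact one_ne_zero, fun i hi => by simp at hi⟩
    | @insert j t _ ih =>
      obtain ⟨s, hs, hs'⟩ := ih
      obtain ⟨a, r, hr, har⟩ := hfrac (μ.coeff j)
      refine ⟨s * r, by rw [map_mul]; exact mul_ne_zero hs hr, fun i hi => ?_⟩
      rcases Finset.mem_insert.1 hi with rfl | hi
      · exact ⟨a * s, by rw [map_mul, map_mul, ← har]; ring⟩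
      · obtain ⟨b, hb⟩ := hs' i hi
        exact ⟨b * r, by rw [map_mul, map_mul, ← hb]; ring⟩
  let μ' := μ.scaleRoots (ψ s)
  have hμ' : μ'.Monic := (Polynomial.monic_scaleRoots_iff _).2 hμ
  have hl : μ' ∈ Polynomial.lifts ψ := (Polynomial.lifts_iff_coeff_lifts _).2 fun i => by
    rw [Polynomial.coeff_scaleRoots]
    rcases lt_trichotomy i μ.natDegree with hi | hi | hi
    · obtain ⟨a, ha⟩ := hs' i (Finset.mem_range.2 hi)
      refine ⟨a * s ^ (μ.natDegree - i - 1), ?_⟩
      rw [map_mul, map_pow, ← ha, mul_assoc, ← pow_succ', Nat.sub_add_cancel (by omega)]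
    · exact ⟨1, by rw [hi, Nat.sub_self, pow_zero, mul_one, map_one]; exact hμ.symm⟩
    · exact ⟨0, by rw [Polynomial.coeff_eq_zero_of_natDegree_lt hi, zero_mul, map_zero]⟩
  obtain ⟨f, hf, -, hfm⟩ := Polynomial.lifts_and_natDegree_eq_and_monic hl hμ'
  let P : StandardEtalePair A := ⟨f, hfm, Polynomial.derivative f, 1, 0, 1, by ring⟩
  letI : Algebra A k := ψ.toAlgebra
  letI : Algebra A L := ((algebraMap k L).comp ψ).toAlgebra
  haveI : IsScalarTower A k L := IsScalarTower.of_algebraMap_eq fun _ => rfl
  let α' := algebraMap k L (ψ s) * α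
  have hα' : Polynomial.aeval α' μ' = 0 := Polynomial.scaleRoots_aeval_eq_zero (minpoly.aeval k α)
  have hgen : IntermediateField.adjoin k {α'} = ⊤ := by
    rw [eq_top_iff, ← hα, IntermediateField.adjoin_le_iff, Set.singleton_subset_iff]
    have hne : algebraMap k L (ψ s) ≠ 0 := (map_ne_zero _).2 hs
    have h := mul_mem (IntermediateField.mem_adjoin_simple_self k α')
      (inv_mem ((IntermediateField.adjoin k {α'}).algebraMap_mem (ψ s)))
    have e : α' * (algebraMap k L (ψ s))⁻¹ = α := by
      change algebraMap k L (ψ s) * α * _ = α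
      rw [mul_comm (algebraMap k L (ψ s)) α, mul_inv_cancel_right₀ hne]
    rwa [e] at h
  have hint' : IsIntegral k α' := Algebra.IsIntegral.isIntegral α'
  have heq : μ' = minpoly k α' := by
    refine Polynomial.eq_of_monic_of_dvd_of_natDegree_le (minpoly.monic hint') hμ' (minpoly.dvd _ _ hα') ?_
    rw [Polynomial.natDegree_scaleRoots, ← IntermediateField.adjoin.finrank hint',
      ← IntermediateField.adjoin.finrank hint, hgen, hα]
  have hP : P.HasMap α' := by
    refine ⟨?_, isUnit_iff_ne_zero.2 ?_⟩
    · rw [← Polynomial.aeval_map_algebraMap k, show f.map (algebraMap A k) = μ' from hf, hα']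
    · change Polynomial.aeval α' (Polynomial.derivative f) ≠ 0
      rw [← Polynomial.aeval_map_algebraMap k, ← Polynomial.derivative_map,
        show f.map (algebraMap A k) = μ' from hf, heq]
      exact (Algebra.IsSeparable.isSeparable k α').aeval_derivative_ne_zero (minpoly.aeval k α')
  refine ⟨P.Ring, inferInstance, inferInstance, inferInstance, (P.lift α' hP).toRingHom,
    RingHom.ext fun a => (P.lift α' hP).commutes a, fun F hF z => ?_⟩
  have hkF : ∀ x : k, algebraMap k L x ∈ F := fun x => by
    obtain ⟨a, r, hr, har⟩ := hfrac x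
    have ha : ∀ b, algebraMap k L (ψ b) ∈ F := fun b => hF ⟨algebraMap A P.Ring b, (P.lift α' hP).commutes b⟩
    have : algebraMap k L x = algebraMap k L (ψ a) * (algebraMap k L (ψ r))⁻¹ := by
      rw [← har, map_mul, mul_inv_cancel_right₀ ((map_ne_zero _).2 hr)]
    rw [this]
    exact mul_mem (ha a) (inv_mem (ha r))
  let F' : IntermediateField k L := F.toIntermediateField hkF
  have : (⊤ : IntermediateField k L) ≤ F' := by
    rw [← hgen, IntermediateField.adjoin_le_iff, Set.singleton_subset_iff]
    exact hF ⟨P.X, P.lift_X α' hP⟩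
  exact this (IntermediateField.mem_top (x := z))

end Lift

end Groth.Agent.H13AlgSp
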