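import Groth.Agent.H12AlgSp.Codim
import Groth.Prelude.Def_FDesc

/-!
Geometric reducedness at a point is etale local.
-/

universe u

open CategoryTheory CategoryTheory.Limits AlgebraicGeometry
open Groth.Agent.H12AlgSp

namespace Groth.Agent.H13AlgSp

theorem isGeomReducedAt_iff_of_etale {k : Type u} [Field k] {W U : Scheme.{u}} (g : W ⟶ U) [Etale g]
    (f : U ⟶ Spec (CommRingCat.of k)) {fW : W ⟶ Spec (CommRingCat.of k)} (hfW : g ≫ f = fW) (w : W) :
    FBase.IsGeomReducedAt fW w ↔ FBase.IsGeomReducedAt f (g w) := by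
  subst hfW
  have key : ∀ (K : Type u) [Field K] [Algebra k K], ∃ G : FBase.bc (g ≫ f) K ⟶ FBase.bc f K,
      IsPullback (FBase.bcπ (g ≫ f) K) G g (FBase.bcπ f K) := by
    intro K _ _
    refine ⟨pullback.lift (pullback.fst _ _ ≫ g) (pullback.snd _ _) (by rw [Category.assoc]; exact pullback.condition),
      IsPullback.of_bot ?_ (pullback.lift_fst _ _ _).symm (IsPullback.of_hasPullback _ _)⟩
    erw [pullback.lift_snd]
    exact IsPullback.of_hasPullback _ _
  constructor
  · intro h K _ _ y hy
    obtain ⟨G, sq⟩ := key K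
    obtain ⟨z, hz1, hz2⟩ := Scheme.exists_preimage_of_isPullback sq w y hy.symm
    have : Etale G := MorphismProperty.of_isPullback (P := @Etale) sq ‹Etale g›
    have := h K z hz1
    rw [← hz2]
    exact isReduced_stalk_of_flat G z
  · intro h K _ _ z hz
    obtain ⟨G, sq⟩ := key K
    have : Etale G := MorphismProperty.of_isPullback (P := @Etale) sq ‹Etale g›
    have := h K (G z) ((Scheme.Hom.comp_apply _ _ _).symm.trans ((congr($(sq.w.symm) z)).trans
      ((Scheme.Hom.comp_apply _ _ _).trans (congrArg g hz))))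
    exact isReduced_stalk_of_etale G z

end Groth.Agent.H13AlgSp
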