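import Groth.Agent.H12AlgSp.Codim
import Groth.Agent.H12AlgSp.Points
import Groth.Prelude.Def_AlgSpDec
import Groth.Prelude.Def_AlgSpOX
import Groth.Prelude.Def_AlgSpEt

/-!
# Global functions on integral and on normal integral algebraic spaces
-/

set_option autoImplicit false
set_option linter.style.haveILetI false
set_option backward.isDefEq.respectTransparency false
universe u

open CategoryTheory CategoryTheory.Limits AlgebraicGeometry Opposite TopologicalSpace Topology
open AlgSp

namespace Groth.Agent.H13AlgSp.GlobalFun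

variable {S : Scheme.{u}} {X : Sp S}

/-- The value of a global function on a chart. -/
noncomputable def val (s : ↥(gsectEt (OEt X))) (E : EtOver X) : Γ(E.obj.left.left, ⊤) :=
  ((limit.π (OEt X).obj (op E)) s).down

theorem val_natural (s : ↥(gsectEt (OEt X))) {E E' : EtOver X} (g : E ⟶ E') :
    g.hom.left.left.appTop (val s E') = val s E :=
  congrArg ULift.down (ConcreteCategory.congr_hom (limit.w (OEt X).obj g.op) s)

theorem val_mul (s t : ↥(gsectEt (OEt X))) (E : EtOver X) : val (s * t) E = val s E * val t E :=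
  congrArg ULift.down (map_mul (limit.π (OEt X).obj (op E)).hom s t)

theorem val_add (s t : ↥(gsectEt (OEt X))) (E : EtOver X) : val (s + t) E = val s E + val t E :=
  congrArg ULift.down (map_add (limit.π (OEt X).obj (op E)).hom s t)

theorem val_zero (E : EtOver X) : val (0 : ↥(gsectEt (OEt X))) E = 0 :=
  congrArg ULift.down (map_zero (limit.π (OEt X).obj (op E)).hom)

theorem val_one (E : EtOver X) : val (1 : ↥(gsectEt (OEt X))) E = 1 :=
  congrArg ULift.down (map_one (limit.π (OEt X).obj (op E)).hom)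

/-- Evaluation at a chart as a ring map. -/
noncomputable def valHom (E : EtOver X) : ↥(gsectEt (OEt X)) →+* Γ(E.obj.left.left, ⊤) where
  toFun s := val s E
  map_one' := val_one E
  map_mul' s t := val_mul s t E
  map_zero' := val_zero E
  map_add' s t := val_add s t E

theorem ext' (s t : ↥(gsectEt (OEt X))) (h : ∀ E, val s E = val t E) : s = t :=
  Concrete.limit_ext _ s t fun E => ULift.down_injective (h E.unop)

/-- The germ of a global function at a point of a chart. -/
noncomputable def germV (s : ↥(gsectEt (OEt X))) (E : EtOver X) (e : E.obj.left.left) :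
    E.obj.left.left.presheaf.stalk e :=
  E.obj.left.left.presheaf.germ ⊤ e trivial (val s E)

theorem germV_map (s : ↥(gsectEt (OEt X))) {E E' : EtOver X} (g : E ⟶ E') (e : E.obj.left.left) :
    (g.hom.left.left.stalkMap e).hom (germV s E' (g.hom.left.left e)) = germV s E e := by
  rw [germV, germV, ← val_natural s g]
  exact Scheme.Hom.germ_stalkMap_apply g.hom.left.left ⊤ e trivial (val s E')

/-- A common refinement of two charts through a point. -/
theorem exists_common (hX : IsAlgSpace X) (E₁ E₂ : EtOver X) (e₁ : E₁.obj.left.left) (e₂ : E₂.obj.left.left)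
    (h : Points.ofPt E₁.obj.hom e₁ = Points.ofPt E₂.obj.hom e₂) :
    ∃ (W : EtOver X) (g₁ : W ⟶ E₁) (g₂ : W ⟶ E₂) (w : W.obj.left.left),
      g₁.hom.left.left w = e₁ ∧ g₂.hom.left.left w = e₂ ∧ Etale g₁.hom.left.left ∧ Etale g₂.hom.left.left := by
  obtain ⟨W, g, h', sq⟩ := E₁.property.1 E₂.obj.hom
  obtain ⟨g₁, rfl⟩ := (yon S).map_surjective h'
  have he₂ : Etale g.left := E₁.property.2 E₂.obj.hom _ g sq
  have hW : RepWith @Etale ((yon S).map g ≫ E₂.obj.hom) :=
    H12AlgSp.repWith_comp ((repWith_yon_map_iff _ g).2 he₂) E₂.property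
  have he₁ : Etale g₁.left := H12AlgSp.etale_of_repWith g₁ E₁.property (by rw [sq.w]; exact hW)
  obtain ⟨p, hp₁, hp₂⟩ := H12AlgSp.exists_point_of_isPullback sq (Points.ofScheme _ e₁) (Points.ofScheme _ e₂)
    (by rw [← Points.ofPt_eq_map_ofScheme, ← Points.ofPt_eq_map_ofScheme, h])
  obtain ⟨w, rfl⟩ := (Points.schemeEquiv W).surjective p
  refine ⟨EtOver.mk ((yon S).map g ≫ E₂.obj.hom) hW, EtOver.homMk g₁ sq.w, EtOver.homMk g rfl, w, ?_, ?_,
    he₁, he₂⟩
  · apply (Points.schemeEquiv E₁.obj.left).injective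
    change Points.ofScheme _ (g₁.left w) = Points.ofScheme _ e₁
    rw [← hp₁]
    change Points.ofPt (𝟙 _) (g₁.left w) = Points.map _ (Points.ofPt (𝟙 _) w)
    rw [Points.map_ofPt, ← H12AlgSp.ofPt_map, Category.id_comp, Category.comp_id]
  · apply (Points.schemeEquiv E₂.obj.left).injective
    change Points.ofScheme _ (g.left w) = Points.ofScheme _ e₂
    rw [← hp₂]
    change Points.ofPt (𝟙 _) (g.left w) = Points.map _ (Points.ofPt (𝟙 _) w)
    rw [Points.map_ofPt, ← H12AlgSp.ofPt_map, Category.id_comp, Category.comp_id]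

theorem faithfullyFlat_stalkMap {U V : Scheme.{u}} (g : U ⟶ V) [Flat g] (x : U) :
    letI := (g.stalkMap x).hom.toAlgebra
    Module.FaithfullyFlat (V.presheaf.stalk (g x)) (U.presheaf.stalk x) := by
  letI := (g.stalkMap x).hom.toAlgebra
  haveI : Module.Flat (V.presheaf.stalk (g x)) (U.presheaf.stalk x) := Flat.stalkMap g x
  haveI : IsLocalHom (algebraMap (V.presheaf.stalk (g x)) (U.presheaf.stalk x)) :=
    inferInstanceAs (IsLocalHom (g.stalkMap x).hom)
  exact Module.FaithfullyFlat.of_flat_of_isLocalHom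

theorem stalkMap_injective {U V : Scheme.{u}} (g : U ⟶ V) [Flat g] (x : U) :
    Function.Injective (g.stalkMap x).hom :=
  Groth.Agent.H8Props.injective_of_flat_of_isLocalHom (g.stalkMap x).hom (Flat.stalkMap g x)

/-- A function vanishing on an atlas vanishes. -/
theorem eq_zero_of_atlas (hX : IsAlgSpace X) (E₀ : EtOver X)
    (hs : Function.Surjective (Points.ofPt E₀.obj.hom)) (s : ↥(gsectEt (OEt X))) (h : val s E₀ = 0) :
    s = 0 := by
  refine ext' s 0 fun E => ?_
  rw [val_zero]
  refine TopCat.Presheaf.section_ext E.obj.left.left.sheaf ⊤ _ _ fun e _ => ?_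
  obtain ⟨u, hu⟩ := hs (Points.ofPt E.obj.hom e)
  obtain ⟨W, g₁, g₂, w, rfl, rfl, hg₁, hg₂⟩ := exists_common hX E₀ E u e hu
  refine stalkMap_injective g₂.hom.left.left w ?_
  rw [map_zero, map_zero]
  refine (germV_map s g₂ w).trans ?_
  rw [← germV_map s g₁ w, germV, h, map_zero, map_zero]

/-- The points where a function does not vanish, downstairs. -/
theorem disjoint_of_mul_eq_zero (hX : IsAlgSpace X) (E₀ : EtOver X) (s t : ↥(gsectEt (OEt X)))
    (h : s * t = 0) :
    Disjoint (Points.ofPt E₀.obj.hom '' (E₀.obj.left.left.basicOpen (val s E₀) : Set E₀.obj.left.left))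
      (Points.ofPt E₀.obj.hom '' (E₀.obj.left.left.basicOpen (val t E₀) : Set E₀.obj.left.left)) := by
  rw [Set.disjoint_left]
  rintro _ ⟨a, ha, rfl⟩ ⟨b, hb, hab⟩
  obtain ⟨W, g₁, g₂, w, rfl, rfl, -, -⟩ := exists_common hX E₀ E₀ a b hab.symm
  have ha' : IsUnit (germV s W w) := by
    rw [← germV_map s g₁ w]
    exact ((Scheme.mem_basicOpen_top _ _ _).mp ha).map _
  have hb' : IsUnit (germV t W w) := by
    rw [← germV_map t g₂ w]
    exact ((Scheme.mem_basicOpen_top _ _ _).mp hb).map _
  have h0 : germV s W w * germV t W w = 0 := by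
    rw [germV, germV, ← map_mul, ← val_mul, h, val_zero, map_zero]
  exact not_isUnit_zero (h0 ▸ ha'.mul hb')

/-- Global functions on an integral space form a domain. -/
theorem isDomain_gsectEt (hX : IsAlgSpace X) (h : IsIntegralSp X) :
    IsDomain ↥(gsectEt (OEt X)) := by
  obtain ⟨⟨U, p, hp, hps, hred⟩, -, hirr⟩ := h
  let E₀ : EtOver X := EtOver.mk p hp
  haveI : IsReduced E₀.obj.left.left := hred
  have hs : Function.Surjective (Points.ofPt E₀.obj.hom) := H12AlgSp.surjective_ofPt_of_repWith le_rfl hps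
  have ho : IsOpenMap (Points.ofPt E₀.obj.hom) :=
    H12AlgSp.isOpenMap_ofPt_of_repWith H12AlgSp.etale_le_universallyOpen hp
  have hnt : Nontrivial ↥(gsectEt (OEt X)) := by
    obtain ⟨x⟩ := hirr.toNonempty
    obtain ⟨u, -⟩ := hs x
    refine ⟨⟨0, 1, fun h01 => ?_⟩⟩
    have h1 := congrArg (fun s => germV s E₀ u) h01
    simp only [germV, val_zero, val_one, map_zero, map_one] at h1
    exact zero_ne_one h1
  have : NoZeroDivisors ↥(gsectEt (OEt X)) := ⟨fun {s t} hst => by
    haveI := hirr.toPreirreducibleSpace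
    have hd := disjoint_of_mul_eq_zero hX E₀ s t hst
    by_cases hne : (Points.ofPt E₀.obj.hom '' (E₀.obj.left.left.basicOpen (val s E₀) : Set E₀.obj.left.left)).Nonempty
    · right
      refine eq_zero_of_atlas hX E₀ hs t ((basicOpen_eq_bot_iff _).1 ?_)
      refine Opens.ext (Set.eq_empty_iff_forall_notMem.2 fun b hb => ?_)
      obtain ⟨z, hz₁, hz₂⟩ := nonempty_preirreducible_inter (ho _ (Opens.isOpen _)) (ho _ (Opens.isOpen _))
        hne ⟨_, b, hb, rfl⟩
      exact Set.disjoint_left.1 hd hz₁ hz₂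
    · left
      refine eq_zero_of_atlas hX E₀ hs s ((basicOpen_eq_bot_iff _).1 ?_)
      exact Opens.ext (Set.image_eq_empty.1 (Set.not_nonempty_iff_eq_empty.1 hne))⟩
  exact NoZeroDivisors.to_isDomain _

theorem exists_gsectEt (c : ∀ E : EtOver X, Γ(E.obj.left.left, ⊤))
    (hc : ∀ {E E' : EtOver X} (g : E ⟶ E'), g.hom.left.left.appTop (c E') = c E) :
    ∃ s : ↥(gsectEt (OEt X)), ∀ E, val s E = c E := by
  let F := (OEt X).obj ⋙ forget CommRingCat.{u + 1}
  have hl := isLimitOfPreserves (forget CommRingCat.{u + 1}) (limit.isLimit (OEt X).obj)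
  let sec : F.sections := ⟨fun E => ULift.up (c E.unop), fun {E E'} g => by
    exact ULift.down_injective (hc g.unop)⟩
  refine ⟨(Types.isLimitEquivSections hl).symm sec, fun E => ?_⟩
  exact congrArg ULift.down (congrFun (congrArg Subtype.val
    ((Types.isLimitEquivSections hl).apply_symm_apply sec)) (op E))

/-- Flat ring maps preserve regular elements. -/
theorem isRegular_map_of_flat {A B : Type u} [CommRing A] [CommRing B] (φ : A →+* B) (hφ : φ.Flat) {x : A}
    (hx : IsRegular x) : IsRegular (φ x) := by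
  letI := φ.toAlgebra
  haveI : Module.Flat A B := hφ
  have h : IsSMulRegular B (φ x) :=
    IsSMulRegular.of_flat (S := B) (show IsSMulRegular A x from hx.left)
  exact ⟨h, fun y z e => h (show φ x * y = φ x * z by rw [mul_comm, mul_comm (φ x)]; exact e)⟩

/-- The ring-theoretic part: a quotient which is integral over the global functions is a global function. -/
theorem exists_mul_eq (hX : IsAlgSpace X) (E₀ : EtOver X)
    (hs : Function.Surjective (Points.ofPt E₀.obj.hom))
    (a b : ↥(gsectEt (OEt X)))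
    (hreg : ∀ u, IsRegular (germV b E₀ u)) (hmem : ∀ u, germV b E₀ u ∣ germV a E₀ u) :
    ∃ c : ↥(gsectEt (OEt X)), b * c = a := by
  have key : ∀ (E : EtOver X) (e : E.obj.left.left), IsRegular (germV b E e) ∧ germV b E e ∣ germV a E e := by
    intro E e
    obtain ⟨u, hu⟩ := hs (Points.ofPt E.obj.hom e)
    obtain ⟨W, g₁, g₂, w, rfl, rfl, hg₁, hg₂⟩ := exists_common hX E₀ E u e hu
    have h1 : IsRegular (germV b W w) := by
      rw [← germV_map b g₁ w]
      exact isRegular_map_of_flat _ (Flat.stalkMap g₁.hom.left.left w) (hreg _)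
    have h2 : germV b W w ∣ germV a W w := by
      rw [← germV_map b g₁ w, ← germV_map a g₁ w]
      exact map_dvd _ (hmem _)
    rw [← germV_map b g₂ w] at h1 h2
    rw [← germV_map a g₂ w] at h2
    have hi := stalkMap_injective g₂.hom.left.left w
    refine ⟨⟨fun x y hxy => hi (h1.left (by simpa using congrArg (g₂.hom.left.left.stalkMap w).hom hxy)),
      fun x y hxy => hi (h1.right (by simpa using congrArg (g₂.hom.left.left.stalkMap w).hom hxy))⟩, ?_⟩
    letI := (g₂.hom.left.left.stalkMap w).hom.toAlgebra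
    haveI := faithfullyFlat_stalkMap g₂.hom.left.left w
    rw [← Ideal.mem_span_singleton] at h2 ⊢
    rw [← Ideal.comap_map_eq_self_of_faithfullyFlat (B := W.obj.left.left.presheaf.stalk w)
      (Ideal.span {germV b E (g₂.hom.left.left w)}), Ideal.mem_comap, Ideal.map_span, Set.image_singleton]
    exact h2
  have huniq : ∀ (E : EtOver X) (V : E.obj.left.left.Opens) (x y : Γ(E.obj.left.left, V)),
      E.obj.left.left.presheaf.map (homOfLE (le_top : V ≤ ⊤)).op (val b E) * x =
        E.obj.left.left.presheaf.map (homOfLE (le_top : V ≤ ⊤)).op (val b E) * y → x = y := by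
    intro E V x y hxy
    refine TopCat.Presheaf.section_ext E.obj.left.left.sheaf V x y fun e he => ?_
    have h := congrArg (E.obj.left.left.presheaf.germ V e he) hxy
    rw [map_mul, map_mul, TopCat.Presheaf.germ_res_apply] at h
    exact (key E e).1.left h
  have hex : ∀ E : EtOver X, ∃ c : Γ(E.obj.left.left, ⊤), val b E * c = val a E := by
    intro E
    let T := E.obj.left.left
    have hloc : ∀ e : T, ∃ (V : T.Opens) (c : Γ(T, V)), e ∈ V ∧
        T.presheaf.map (homOfLE (le_top : V ≤ ⊤)).op (val b E) * c =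
          T.presheaf.map (homOfLE (le_top : V ≤ ⊤)).op (val a E) := by
      intro e
      obtain ⟨q, hq⟩ := (key E e).2
      obtain ⟨V₁, heV₁, c₁, rfl⟩ := T.presheaf.exists_germ_eq q
      have heq : T.presheaf.germ V₁ e heV₁ (T.presheaf.map (homOfLE (le_top : V₁ ≤ ⊤)).op (val a E)) =
          T.presheaf.germ V₁ e heV₁ (T.presheaf.map (homOfLE (le_top : V₁ ≤ ⊤)).op (val b E) * c₁) := by
        rw [map_mul, TopCat.Presheaf.germ_res_apply, TopCat.Presheaf.germ_res_apply]
        exact hq
      obtain ⟨V, heV, i, i', hij⟩ := T.presheaf.germ_eq e heV₁ heV₁ _ _ heq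
      refine ⟨V, T.presheaf.map i.op c₁, heV, ?_⟩
      rw [Subsingleton.elim i' i, map_mul] at hij
      simp only [← ConcreteCategory.comp_apply, ← Functor.map_comp] at hij
      exact hij.symm
    choose V c heV hc using hloc
    have hcompat : TopCat.Presheaf.IsCompatible T.presheaf V c := fun e e' => by
      refine huniq E _ _ _ ?_
      have h1 := congrArg (T.presheaf.map (Opens.infLELeft (V e) (V e')).op) (hc e)
      have h2 := congrArg (T.presheaf.map (Opens.infLERight (V e) (V e')).op) (hc e')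
      rw [map_mul] at h1 h2
      simp only [← ConcreteCategory.comp_apply, ← Functor.map_comp] at h1 h2
      exact h1.trans h2.symm
    obtain ⟨(cc : Γ(T, ⊤)), hcc, -⟩ := T.sheaf.existsUnique_gluing' V ⊤ (fun e => homOfLE le_top)
      (fun e _ => Opens.mem_iSup.2 ⟨e, heV e⟩) c hcompat
    refine ⟨cc, ?_⟩
    refine T.sheaf.eq_of_locally_eq' V ⊤ (fun e => homOfLE le_top) (fun e _ => Opens.mem_iSup.2 ⟨e, heV e⟩)
      _ _ fun e => ?_
    show T.presheaf.map _ (val b E * cc) = T.presheaf.map _ (val a E)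
    rw [map_mul, show T.presheaf.map (homOfLE (le_top : V e ≤ ⊤)).op cc = c e from hcc e]
    exact hc e
  choose c hc using hex
  obtain ⟨s, hs'⟩ := exists_gsectEt c fun {E E'} g => by
    refine huniq E ⊤ _ _ ?_
    have hid : (homOfLE (le_top : (⊤ : E.obj.left.left.Opens) ≤ ⊤)).op = 𝟙 _ := Subsingleton.elim _ _
    rw [hid, CategoryTheory.Functor.map_id]
    show val b E * g.hom.left.left.appTop (c E') = val b E * c E
    rw [hc, ← val_natural b g, ← map_mul, hc, val_natural a g]
  exact ⟨s, ext' _ _ fun E => by rw [val_mul, hs', hc]⟩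

/-- Global functions on a normal integral space form an integrally closed domain. -/
theorem isIntegrallyClosed_gsectEt (hX : IsAlgSpace X) (h : IsIntegralSp X)
    (hn : EtaleLocally (fun U => ∀ u : ↥U, IsDomain ↥(U.presheaf.stalk u) ∧
      IsIntegrallyClosed ↥(U.presheaf.stalk u)) X) :
    IsDomain ↥(gsectEt (OEt X)) ∧ IsIntegrallyClosed ↥(gsectEt (OEt X)) := by
  haveI hdom := isDomain_gsectEt hX h
  refine ⟨hdom, ?_⟩
  obtain ⟨U, p, hp, hps, hU⟩ := hn
  let E₀ : EtOver X := EtOver.mk p hp
  have hs : Function.Surjective (Points.ofPt E₀.obj.hom) := H12AlgSp.surjective_ofPt_of_repWith le_rfl hps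
  have ho : IsOpenMap (Points.ofPt E₀.obj.hom) :=
    H12AlgSp.isOpenMap_ofPt_of_repWith H12AlgSp.etale_le_universallyOpen hp
  haveI := h.2.2.toPreirreducibleSpace
  let T := E₀.obj.left.left
  haveI : ∀ u : T, IsDomain (T.presheaf.stalk u) := fun u => (hU u).1
  haveI : ∀ u : T, IsIntegrallyClosed (T.presheaf.stalk u) := fun u => (hU u).2
  haveI : ∀ u : T, _root_.IsReduced (T.presheaf.stalk u) := fun u => inferInstance
  haveI : IsReduced T := isReduced_of_isReduced_stalk _
  rw [isIntegrallyClosed_iff (FractionRing ↥(gsectEt (OEt X)))]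
  intro z hz
  obtain ⟨a, b, hb, rfl⟩ := IsFractionRing.div_surjective ↥(gsectEt (OEt X)) z
  have hb0 : b ≠ 0 := nonZeroDivisors.ne_zero hb
  have hne : ∀ u : T, germV b E₀ u ≠ 0 := by
    intro u hu
    obtain ⟨N, huN, i, i', hN⟩ := T.presheaf.germ_eq u (show u ∈ (⊤ : T.Opens) from trivial) (show u ∈ (⊤ : T.Opens) from trivial) (val b E₀) 0
      (hu.trans (map_zero _).symm)
    rw [map_zero] at hN
    have hne : (Points.ofPt E₀.obj.hom '' (T.basicOpen (val b E₀) : Set T)).Nonempty := by
      refine Set.Nonempty.image _ (Set.nonempty_iff_ne_empty.2 fun hempty => hb0 ?_)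
      exact eq_zero_of_atlas hX E₀ hs b ((basicOpen_eq_bot_iff _).1 (Opens.ext hempty))
    obtain ⟨_, ⟨v, hv, rfl⟩, v', hv', hvv⟩ := nonempty_preirreducible_inter (ho _ (T.basicOpen (val b E₀)).isOpen)
      (ho _ N.isOpen) hne ⟨_, u, huN, rfl⟩
    obtain ⟨W, g₁, g₂, w, rfl, rfl, -, -⟩ := exists_common hX E₀ E₀ v' v hvv
    have h1 : IsUnit (germV b W w) := by
      rw [← germV_map b g₂ w]
      exact ((Scheme.mem_basicOpen_top _ _ _).mp hv).map _
    have h2 : germV b E₀ (g₁.hom.left.left w) = 0 := by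
      have := congrArg (T.presheaf.germ N _ hv') hN
      rw [map_zero, TopCat.Presheaf.germ_res_apply] at this
      exact this
    rw [← germV_map b g₁ w, h2, map_zero] at h1
    exact not_isUnit_zero h1
  have hmem : ∀ u : T, germV b E₀ u ∣ germV a E₀ u := by
    intro u
    let ψ : ↥(gsectEt (OEt X)) →+* T.presheaf.stalk u :=
      (T.presheaf.germ ⊤ u trivial).hom.comp (valHom E₀)
    let K := FractionRing (T.presheaf.stalk u)
    obtain ⟨P, hP, hP'⟩ := hz
    have hbK : algebraMap (T.presheaf.stalk u) K (ψ b) ≠ 0 :=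
      (map_ne_zero_iff _ (IsFractionRing.injective (T.presheaf.stalk u) K)).2 (hne u)
    have hint : IsIntegral (T.presheaf.stalk u)
        (algebraMap _ K (ψ a) / algebraMap _ K (ψ b)) := by
      refine ⟨P.map ψ, hP.map ψ, ?_⟩
      rw [Polynomial.eval₂_map]
      -- both sides are the image of the homogenised equation
      let φ : ↥(gsectEt (OEt X)) →+* K := (algebraMap (T.presheaf.stalk u) K).comp ψ
      have h1 := Polynomial.scaleRoots_eval₂_mul (p := P)
        (algebraMap _ (FractionRing ↥(gsectEt (OEt X))))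
        (algebraMap _ _ a / algebraMap _ (FractionRing ↥(gsectEt (OEt X))) b) b
      rw [hP', mul_zero, mul_div_cancel₀ _ (IsFractionRing.to_map_ne_zero_of_mem_nonZeroDivisors hb),
        Polynomial.eval₂_at_apply] at h1
      have h2 : (Polynomial.scaleRoots P b).eval a = 0 :=
        IsFractionRing.injective ↥(gsectEt (OEt X)) (FractionRing ↥(gsectEt (OEt X))) (h1.trans (map_zero _).symm)
      have h3 := Polynomial.scaleRoots_eval₂_mul (p := P) φ (φ a / φ b) b
      rw [mul_div_cancel₀ _ (show φ b ≠ 0 from hbK), Polynomial.eval₂_at_apply, h2, map_zero] at h3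
      exact (mul_eq_zero.1 h3.symm).resolve_left (pow_ne_zero _ (show φ b ≠ 0 from hbK))
    obtain ⟨y, hy⟩ := IsIntegrallyClosed.isIntegral_iff.1 hint
    refine ⟨y, IsFractionRing.injective (T.presheaf.stalk u) K ?_⟩
    show algebraMap _ K (ψ a) = algebraMap _ K (ψ b * y)
    rw [map_mul, hy, mul_div_cancel₀ _ hbK]
  obtain ⟨c, hc⟩ := exists_mul_eq hX E₀ hs a b (fun u => .of_ne_zero (hne u)) hmem
  refine ⟨c, ?_⟩
  rw [eq_div_iff (IsFractionRing.to_map_ne_zero_of_mem_nonZeroDivisors hb), ← map_mul, mul_comm, hc]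

end Groth.Agent.H13AlgSp.GlobalFun
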