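import Groth.Agent.H13AlgSp.GlueCharts
import Groth.Agent.H13AlgSp.AffineDescent
import Mathlib.RingTheory.Localization.BaseChange

/-!
Affine charts over a fixed affine base, as rings.
-/

set_option autoImplicit false
set_option linter.style.haveILetI false
set_option backward.isDefEq.respectTransparency false

universe u

open CategoryTheory CategoryTheory.Limits AlgebraicGeometry TensorProduct
open AlgSp Groth.Agent.H12AlgSp

namespace Groth.Agent.H13AlgSp.GlueAff

open GlueEq

variable {R : Type u} [CommRing R]

local notation "X₀" => Spec (CommRingCat.of R)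

section sp

variable {A B C : Type u} [CommRing A] [Algebra R A] [CommRing B] [Algebra R B] [CommRing C] [Algebra R C]

/-- The map of affine `R`-schemes of an algebra map. -/
noncomputable def sp (φ : A →ₐ[R] B) : specOver R B ⟶ specOver R A :=
  specHom φ.toRingHom φ.comp_algebraMap

theorem sp_left (φ : A →ₐ[R] B) : (sp φ).left = Spec.map (CommRingCat.ofHom φ.toRingHom) := rfl

theorem sp_comp (φ : A →ₐ[R] B) (ψ : B →ₐ[R] C) : sp (ψ.comp φ) = sp ψ ≫ sp φ := by
  refine Over.OverMorphism.ext ?_
  rw [Over.comp_left, sp_left, sp_left, sp_left, ← Spec.map_comp]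
  rfl

theorem sp_id : sp (AlgHom.id R A) = 𝟙 _ := by
  refine Over.OverMorphism.ext ?_
  rw [sp_left, Over.id_left]
  exact Spec.map_id _

theorem sp_inj {φ ψ : A →ₐ[R] B} (h : sp φ = sp ψ) : φ = ψ := by
  have := Spec.map_injective ((sp_left φ).symm.trans ((congrArg (fun k => k.left) h).trans (sp_left ψ)))
  exact AlgHom.ext fun a => congrArg (fun k => k.hom a) this

theorem sp_surj (k : specOver R B ⟶ specOver R A) : ∃ φ : A →ₐ[R] B, sp φ = k := by
  have h := Over.w k
  simp only [Over.mk_hom] at h
  rw [← Spec.map_preimage k.left, ← Spec.map_comp] at h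
  have h' := Spec.map_injective h
  refine ⟨{ toRingHom := (Spec.preimage k.left).hom
            commutes' := fun r => congrArg (fun t => t.hom r) h' }, Over.OverMorphism.ext ?_⟩
  rw [sp_left]
  exact Spec.map_preimage k.left

theorem sp_surjective_iff (φ : A →ₐ[R] B) :
    Surjective (sp φ).left ↔ Function.Surjective (PrimeSpectrum.comap φ.toRingHom) :=
  ⟨fun h => h.surj, fun h => ⟨h⟩⟩

theorem sp_etale_iff (φ : A →ₐ[R] B) : Etale (sp φ).left ↔ φ.toRingHom.Etale :=
  HasRingHomProperty.Spec_iff (P := @Etale)

end sp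

theorem exists_spec (P : Over X₀) [IsAffine P.left] :
    ∃ (B : Type u) (_ : CommRing B) (_ : Algebra R B), Nonempty (specOver R B ≅ P) := by
  letI alg : Algebra R Γ(P.left, ⊤) :=
    ((Scheme.ΓSpecIso (CommRingCat.of R)).inv ≫ P.hom.appTop).hom.toAlgebra
  have hT : P.left.isoSpec.hom ≫ (specOver R Γ(P.left, ⊤)).hom = P.hom := by
    rw [Scheme.isoSpec_hom]
    exact (GlueIso.eq_toSpecΓ_SpecMap P.hom).symm
  exact ⟨Γ(P.left, ⊤), inferInstance, alg, ⟨(Over.isoMk P.left.isoSpec hT).symm⟩⟩

theorem isPullback_sp {A B C D : Type u} [CommRing A] [Algebra R A] [CommRing B] [Algebra R B]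
    [CommRing C] [Algebra R C] [CommRing D] [Algebra R D]
    {f : A →ₐ[R] B} {g : A →ₐ[R] C} {inl : B →ₐ[R] D} {inr : C →ₐ[R] D}
    (h : IsPushout (CommRingCat.ofHom f.toRingHom) (CommRingCat.ofHom g.toRingHom)
      (CommRingCat.ofHom inl.toRingHom) (CommRingCat.ofHom inr.toRingHom)) :
    IsPullback (sp inl) (sp inr) (sp f) (sp g) := by
  refine IsPullback.of_map (Over.forget X₀) ?_ (isPullback_SpecMap_of_isPushout _ _ _ _ h)
  rw [← sp_comp, ← sp_comp]
  refine congrArg sp (AlgHom.ext fun a => ?_)
  exact congrArg (fun t => t.hom a) h.w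

theorem isPullback_sp_tensor (A B C : Type u) [CommRing A] [Algebra R A] [CommRing B] [Algebra R B]
    [Algebra A B] [IsScalarTower R A B] [CommRing C] [Algebra R C] [Algebra A C] [IsScalarTower R A C] :
    IsPullback (sp ((Algebra.TensorProduct.includeLeft : B →ₐ[A] B ⊗[A] C).restrictScalars R))
      (sp ((Algebra.TensorProduct.includeRight : C →ₐ[A] B ⊗[A] C).restrictScalars R))
      (sp (IsScalarTower.toAlgHom R A B)) (sp (IsScalarTower.toAlgHom R A C)) :=
  isPullback_sp (CommRingCat.isPushout_tensorProduct A B C)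

section away

variable (A : Type u) [CommRing A] [Algebra R A] (g : A) (C : Type u) [CommRing C] [Algebra R C]
  [Algebra A C] [IsScalarTower R A C]

/-- `A_g → C_g`. -/
noncomputable def locMap : Localization.Away g →ₐ[R] Localization.Away (algebraMap A C g) :=
  { toRingHom := IsLocalization.Away.lift g
      (g := (algebraMap C (Localization.Away (algebraMap A C g))).comp (algebraMap A C))
      (IsLocalization.Away.algebraMap_isUnit (S := Localization.Away (algebraMap A C g)) (algebraMap A C g))
    commutes' := fun r => by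
      change IsLocalization.Away.lift g _ (algebraMap R (Localization.Away g) r) = _
      rw [IsScalarTower.algebraMap_apply R A (Localization.Away g), IsLocalization.Away.lift_eq,
        RingHom.comp_apply, ← IsScalarTower.algebraMap_apply R A C, ← IsScalarTower.algebraMap_apply] }

theorem locMap_algebraMap (a : A) :
    locMap (R := R) A g C (algebraMap A _ a) =
      algebraMap C (Localization.Away (algebraMap A C g)) (algebraMap A C a) :=
  IsLocalization.Away.lift_eq g (g := (algebraMap C (Localization.Away (algebraMap A C g))).comp (algebraMap A C))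
    (IsLocalization.Away.algebraMap_isUnit (S := Localization.Away (algebraMap A C g)) (algebraMap A C g)) a

theorem isPullback_sp_away :
    IsPullback (sp (IsScalarTower.toAlgHom R C (Localization.Away (algebraMap A C g))))
      (sp (locMap (R := R) A g C)) (sp (IsScalarTower.toAlgHom R A C))
      (sp (IsScalarTower.toAlgHom R A (Localization.Away g))) := by
  refine isPullback_sp ?_
  letI : Algebra (Localization.Away g) (Localization.Away (algebraMap A C g)) :=
    (locMap (R := R) A g C).toRingHom.toAlgebra
  haveI : IsScalarTower A (Localization.Away g) (Localization.Away (algebraMap A C g)) :=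
    IsScalarTower.of_algebraMap_eq fun a => by
      rw [RingHom.algebraMap_toAlgebra]
      exact ((IsScalarTower.algebraMap_apply A C (Localization.Away (algebraMap A C g)) a)).trans
        (locMap_algebraMap A g C a).symm
  haveI : IsLocalization (Algebra.algebraMapSubmonoid C (Submonoid.powers g))
      (Localization.Away (algebraMap A C g)) := by
    rw [Algebra.algebraMapSubmonoid, Submonoid.map_powers]; infer_instance
  haveI : Algebra.IsPushout A C (Localization.Away g) (Localization.Away (algebraMap A C g)) :=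
    Algebra.isPushout_of_isLocalization (Submonoid.powers g) _ _ _
  exact CommRingCat.isPushout_of_isPushout A C (Localization.Away g) (Localization.Away (algebraMap A C g))

end away

theorem isAffine_prod (U V : Over X₀) [IsAffine U.left] [IsAffine V.left] : IsAffine (U ⨯ V).left :=
  IsAffine.of_isIso (Over.prodLeftIsoPullback U V).hom

/-- An étale affine scheme over a space with affine diagonal, pulled back to an affine scheme. -/
theorem exists_chart {Z : Sp X₀} (hZd : IsAffineMor (Limits.diag Z)) {W : Over X₀} [IsAffine W.left]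
    {w : (yon X₀).obj W ⟶ Z} (hw : RepWith @Etale w) {A : Type u} [CommRing A] [Algebra R A]
    (a : (yon X₀).obj (specOver R A) ⟶ Z)
    (hr : Set.range (Points.map a) ⊆ Set.range (Points.map w)) :
    ∃ (B : Type u) (_ : CommRing B) (_ : Algebra R B) (_ : Algebra A B) (_ : IsScalarTower R A B)
      (k : specOver R B ⟶ W),
      IsPullback ((yon X₀).map k) ((yon X₀).map (sp (IsScalarTower.toAlgHom R A B))) w a ∧
        Algebra.Etale A B ∧ Function.Surjective (PrimeSpectrum.comap (algebraMap A B)) := by
  obtain ⟨P, v, k', sq⟩ := hw.rep a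
  obtain ⟨k, rfl⟩ := (yon X₀).map_surjective k'
  have hve : Etale v.left := hw.property a _ v sq
  have hP : IsAffine P.left := by
    haveI : IsAffine (specOver R A).left := inferInstanceAs (IsAffine (Spec (CommRingCat.of A)))
    haveI : IsAffine (W ⨯ specOver R A).left := isAffine_prod _ _
    obtain ⟨P', i, fst, sq', hP'⟩ := hZd (Z := W ⨯ specOver R A) inferInstance (prodHom w a)
    let e := (isPullback_diag_prodHom sq).isoIsPullback _ _ sq'
    obtain ⟨e₀, he₀⟩ := (yon X₀).map_surjective e.hom
    haveI : IsIso ((yon X₀).map e₀) := by rw [he₀]; infer_instance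
    haveI : IsIso e₀ := isIso_of_reflects_iso e₀ (yon X₀)
    haveI : IsIso e₀.left := inferInstanceAs (IsIso ((Over.forget X₀).map e₀))
    exact IsAffine.of_isIso e₀.left
  have hvs : Surjective v.left := ⟨fun p => by
    obtain ⟨z, hz⟩ := hr ⟨Points.ofScheme _ p, rfl⟩
    obtain ⟨q, -, hq⟩ := exists_point_of_isPullback sq z _ hz
    obtain ⟨x, rfl⟩ := (Points.schemeEquiv P).surjective q
    refine ⟨x, (Points.schemeEquiv (specOver R A)).injective ?_⟩
    change Points.ofScheme (specOver R A) (v.left x) = Points.ofScheme (specOver R A) p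
    rw [← hq]
    change _ = Points.map ((yon X₀).map v) (Points.ofScheme P x)
    rw [← Points.ofPt_eq_map_ofScheme]
    have := ofPt_map v (𝟙 _) x
    rw [Category.comp_id] at this
    exact this.symm⟩
  obtain ⟨B, _, _, ⟨e⟩⟩ := exists_spec P
  obtain ⟨φ, hφ⟩ := sp_surj (e.hom ≫ v)
  letI : Algebra A B := φ.toRingHom.toAlgebra
  haveI : IsScalarTower R A B := IsScalarTower.of_algebraMap_eq fun r => (φ.commutes r).symm
  have hid : IsScalarTower.toAlgHom R A B = φ := AlgHom.ext fun a => rfl
  refine ⟨B, inferInstance, inferInstance, inferInstance, inferInstance, e.hom ≫ k, ?_, ?_, ?_⟩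
  · rw [hid, hφ]
    exact IsPullback.of_iso sq ((yon X₀).mapIso e.symm) (Iso.refl _) (Iso.refl _) (Iso.refl _)
      (by simp) (by simp) (by simp) (by simp)
  · haveI : IsIso e.hom.left := inferInstanceAs (IsIso ((Over.forget X₀).map e.hom))
    have h : Etale (sp φ).left := by rw [hφ, Over.comp_left]; infer_instance
    exact RingHom.etale_algebraMap.1 ((sp_etale_iff φ).1 h)
  · haveI : IsIso e.hom.left := inferInstanceAs (IsIso ((Over.forget X₀).map e.hom))
    have h : Surjective (sp φ).left := by rw [hφ, Over.comp_left]; infer_instance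
    exact (sp_surjective_iff φ).1 h

/-- An affine étale scheme covering the images of two affine schemes. -/
theorem exists_affine_cover {Z : Sp X₀} (hZ : IsAlgSpace Z) {T₁ T₂ : Over X₀} [CompactSpace T₁.left]
    [CompactSpace T₂.left] (a : (yon X₀).obj T₁ ⟶ Z) (b : (yon X₀).obj T₂ ⟶ Z) :
    ∃ (W : Over X₀) (w : (yon X₀).obj W ⟶ Z), IsAffine W.left ∧ RepWith @Etale w ∧
      Set.range (Points.map a) ⊆ Set.range (Points.map w) ∧
      Set.range (Points.map b) ⊆ Set.range (Points.map w) := by
  obtain ⟨U₀, d₀, hde, hds⟩ := hZ.atlas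
  have hopen := isOpenMap_ofPt_of_repWith etale_le_universallyOpen hde
  have hcomp : IsCompact (Set.range (Points.ofPt a) ∪ Set.range (Points.ofPt b)) :=
    (isCompact_range (Points.continuous_ofPt a)).union (isCompact_range (Points.continuous_ofPt b))
  obtain ⟨t, ht⟩ := hcomp.elim_finite_subcover
    (fun V : U₀.left.affineOpens => Points.ofPt d₀ '' (V.1 : Set U₀.left))
    (fun V => hopen _ V.1.isOpen)
    (fun x _ => by
      obtain ⟨u, hu⟩ := surjective_ofPt_of_repWith le_rfl hds x
      obtain ⟨V, hV⟩ := TopologicalSpace.Opens.mem_iSup.1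
        ((iSup_affineOpens_eq_top U₀.left).ge (Set.mem_univ u))
      exact Set.mem_iUnion.2 ⟨V, u, hV, hu⟩)
  let σ : (∐ fun V : t => V.1.1.toScheme) ⟶ U₀.left := Sigma.desc fun V => V.1.1.ι
  have : ∀ V : t, IsAffine V.1.1.toScheme := fun V => V.1.2
  have hσ : Etale σ := IsZariskiLocalAtSource.sigmaDesc (P := @Etale) fun V => inferInstance
  let W : Over X₀ := Over.mk (σ ≫ U₀.hom)
  let σ' : W ⟶ U₀ := Over.homMk σ rfl
  have key : Set.range (Points.ofPt a) ∪ Set.range (Points.ofPt b) ⊆
      Set.range (Points.map ((yon X₀).map σ' ≫ d₀)) := by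
    intro x hx
    obtain ⟨V, hV, u, hu, e⟩ := Set.mem_iUnion₂.1 (ht hx)
    rw [range_map_yon]
    let v : W.left := Sigma.ι (fun V : t => V.1.1.toScheme) ⟨V, hV⟩ ⟨u, hu⟩
    refine ⟨v, ?_⟩
    rw [ofPt_map]
    refine Eq.trans ?_ e
    refine congrArg (Points.ofPt d₀) ?_
    change σ (Sigma.ι (fun V : t => V.1.1.toScheme) ⟨V, hV⟩ ⟨u, hu⟩) = u
    rw [← Scheme.Hom.comp_apply, Sigma.ι_desc]
    rfl
  refine ⟨W, (yon X₀).map σ' ≫ d₀, inferInstanceAs (IsAffine (∐ fun V : t => V.1.1.toScheme)),
    repWith_comp ((repWith_yon_map_iff _ σ').2 hσ) hde, ?_, ?_⟩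
  · rw [range_map_yon a]; exact Set.subset_union_left.trans key
  · rw [range_map_yon b]; exact Set.subset_union_right.trans key

end Groth.Agent.H13AlgSp.GlueAff
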