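import Groth.Agent.H13AlgSp.GlueIso
import Groth.Agent.H13AlgSp.Cover
import Groth.Agent.H12AlgSp.Presentation
import Groth.Agent.H12AlgSp.Sep

/-!
Morphisms of algebraic spaces are equal if they agree on both members of a glueing pair.
-/

set_option autoImplicit false
set_option linter.style.haveILetI false
set_option backward.isDefEq.respectTransparency false

universe u

open CategoryTheory CategoryTheory.Limits AlgebraicGeometry TensorProduct
open AlgSp Groth.Agent.H12AlgSp

namespace Groth.Agent.H13AlgSp.GlueEq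

variable {R : Type u} [CommRing R]

local notation "X₀" => Spec (CommRingCat.of R)

variable (R) in
/-- The affine `R`-scheme of an algebra. -/
noncomputable abbrev specOver (A : Type u) [CommRing A] [Algebra R A] : Over X₀ :=
  Over.mk (Spec.map (CommRingCat.ofHom (algebraMap R A)))

/-- A map of affine `R`-schemes. -/
noncomputable def specHom {A B : Type u} [CommRing A] [Algebra R A] [CommRing B] [Algebra R B]
    (φ : A →+* B) (h : φ.comp (algebraMap R A) = algebraMap R B) : specOver R B ⟶ specOver R A :=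
  Over.homMk (Spec.map (CommRingCat.ofHom φ))
    (by simp only [Over.mk_hom]; rw [← Spec.map_comp, ← CommRingCat.ofHom_comp, h])

theorem eq_terminal {T : Over X₀}
    (m n : (yon X₀).obj T ⟶ (yon X₀).obj (Over.mk (𝟙 X₀))) : m = n := by
  obtain ⟨m, rfl⟩ := (yon X₀).map_surjective m
  obtain ⟨n, rfl⟩ := (yon X₀).map_surjective n
  refine congrArg _ (Over.OverMorphism.ext ?_)
  have h1 := Over.w m
  have h2 := Over.w n
  simp only [Over.mk_hom, Category.comp_id] at h1 h2
  exact h1.trans h2.symm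

/-- Étale affine charts detect equality of morphisms. -/
theorem eq_of_charts {F G : Sp X₀} (hF : IsAlgSpace F) (a b : F ⟶ G)
    (h : ∀ (A : Type u) [CommRing A] [Algebra R A] (g : (yon X₀).obj (specOver R A) ⟶ F),
      RepWith @Etale g → g ≫ a = g ≫ b) : a = b := by
  obtain ⟨U, p, hp, hps⟩ := hF.atlas
  have := epi_of_etale_surjective hp hps
  rw [← cancel_epi p]
  let T : U.left.affineOpens → Over X₀ := fun i => Over.mk (i.1.ι ≫ U.hom)
  let j : ∀ i, T i ⟶ U := fun i => Over.homMk i.1.ι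
  refine hom_ext_of_cover j (ofArrows_mem_J _
    (fun i => inferInstanceAs (Flat i.1.ι))
    (fun i => inferInstanceAs (LocallyOfFinitePresentation i.1.ι)) fun x => ?_) fun i => ?_
  · obtain ⟨O, hO, hx, -⟩ := TopologicalSpace.Opens.isBasis_iff_nbhd.mp U.left.isBasis_affineOpens
      (TopologicalSpace.Opens.mem_top x)
    exact ⟨⟨O, hO⟩, ⟨x, hx⟩, rfl⟩
  haveI : IsAffine (T i).left := i.2
  letI alg : Algebra R Γ((T i).left, ⊤) :=
    ((Scheme.ΓSpecIso (CommRingCat.of R)).inv ≫ (T i).hom.appTop).hom.toAlgebra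
  have hT : (T i).left.isoSpec.hom ≫ (specOver R Γ((T i).left, ⊤)).hom = (T i).hom := by
    rw [Scheme.isoSpec_hom]
    exact (GlueIso.eq_toSpecΓ_SpecMap (T i).hom).symm
  let ι : T i ≅ specOver R Γ((T i).left, ⊤) := Over.isoMk (T i).left.isoSpec hT
  have he : RepWith @Etale ((yon X₀).map ι.inv ≫ (yon X₀).map (j i) ≫ p) := by
    have : IsIso ι.inv.left := inferInstanceAs (IsIso ((Over.forget _).map ι.inv))
    exact repWith_comp ((repWith_yon_map_iff _ _).2 (inferInstanceAs (Etale ι.inv.left)))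
      (repWith_comp ((repWith_yon_map_iff _ _).2 (inferInstanceAs (Etale i.1.ι))) hp)
  have := h _ _ he
  simp only [Category.assoc] at this
  exact (cancel_epi ((yon X₀).map ι.inv)).1 this

variable {R' : Type u} [CommRing R'] [Algebra R R'] {f : R}

/-- A monomorphism of finite type: agreement on both members of the glueing pair gives equality. -/
theorem eq_on_chart (hq : EtGlue.QuotPowBijective R R' f) {A : Type u} [CommRing A] [Algebra R A]
    (hA : EtGlue.IsGlueable R R' f A) {Z : Sp X₀} (hZ : IsAlgSpace Z)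
    (a b : (yon X₀).obj (specOver R A) ⟶ Z)
    (j₁ : specOver R (R' ⊗[R] A) ⟶ specOver R A)
    (hj₁ : j₁.left = Spec.map (CommRingCat.ofHom (GlueIso.incR R R' A)))
    (j₂ : specOver R (GlueIso.Aaway f A) ⟶ specOver R A)
    (hj₂ : j₂.left = Spec.map (CommRingCat.ofHom (algebraMap A (GlueIso.Aaway f A))))
    (h₁ : (yon X₀).map j₁ ≫ a = (yon X₀).map j₁ ≫ b)
    (h₂ : (yon X₀).map j₂ ≫ a = (yon X₀).map j₂ ≫ b) : a = b := by
  obtain ⟨W, v, k, sq⟩ := (repWith_mono_diag hZ).rep (prod.lift a b)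
  haveI : Mono v.left := (repWith_mono_diag hZ).property _ k v sq
  haveI : LocallyOfFiniteType v.left := (repWith_lft_diag hZ).property _ k v sq
  have lift_of : ∀ {T : Over X₀} (j : T ⟶ specOver R A), (yon X₀).map j ≫ a = (yon X₀).map j ≫ b →
      ∃ s : T ⟶ W, s ≫ v = j := fun {T} j hj => by
    obtain ⟨s, hs⟩ := (yon X₀).map_surjective (sq.lift ((yon X₀).map j ≫ a) ((yon X₀).map j) (by
      apply Limits.prod.hom_ext <;> simp [hj]))
    exact ⟨s, (yon X₀).map_injective (by rw [Functor.map_comp, hs, sq.lift_snd])⟩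
  obtain ⟨s₁, hs₁⟩ := lift_of j₁ h₁
  obtain ⟨s₂, hs₂⟩ := lift_of j₂ h₂
  haveI : IsIso v.left := GlueIso.isIso_of_sections A hq hA v.left
    s₁.left (by rw [← Over.comp_left, hs₁, hj₁]) s₂.left (by rw [← Over.comp_left, hs₂, hj₂])
  haveI : IsIso ((Over.forget X₀).map v) := ‹IsIso v.left›
  haveI : IsIso v := isIso_of_reflects_iso v (Over.forget X₀)
  rw [← cancel_epi ((yon X₀).map v)]
  have e1 := sq.w =≫ prod.fst
  have e2 := sq.w =≫ prod.snd
  simp only [Category.assoc, prod.lift_fst, prod.lift_snd, Category.comp_id] at e1 e2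
  rw [← e1, ← e2]

/-- Two morphisms agreeing on both members of a glueing pair are equal. -/
theorem eq_of_glueingPair (hq : EtGlue.QuotPowBijective R R' f) {Y YU YX' Z : Sp X₀}
    (hY : IsAlgSpace Y) (hZ : IsAlgSpace Z)
    (hgl : ∀ (A : Type u) [CommRing A] [Algebra R A] (g : (yon X₀).obj (specOver R A) ⟶ Y),
      RepWith @Etale g → EtGlue.IsGlueable R R' f A)
    (a b : Y ⟶ Z) (π : Y ⟶ (yon X₀).obj (Over.mk (𝟙 X₀)))
    {inU : specOver R (Localization.Away f) ⟶ Over.mk (𝟙 X₀)}
    {uY : YU ⟶ Y} {vY : YU ⟶ (yon X₀).obj (specOver R (Localization.Away f))}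
    (hYU : IsPullback uY vY π ((yon X₀).map inU))
    {inX' : specOver R R' ⟶ Over.mk (𝟙 X₀)}
    {uY' : YX' ⟶ Y} {vY' : YX' ⟶ (yon X₀).obj (specOver R R')}
    (hYX' : IsPullback uY' vY' π ((yon X₀).map inX'))
    (haU : uY ≫ a = uY ≫ b) (haX' : uY' ≫ a = uY' ≫ b) : a = b := by
  refine eq_of_charts hY a b fun A _ _ g hg => ?_
  let j₁ : specOver R (R' ⊗[R] A) ⟶ specOver R A := specHom (GlueIso.incR R R' A)
    (RingHom.ext fun r => (Algebra.TensorProduct.includeRight : A →ₐ[R] R' ⊗[R] A).commutes r)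
  let k₁ : specOver R (R' ⊗[R] A) ⟶ specOver R R' :=
    specHom (Algebra.TensorProduct.includeLeftRingHom) (RingHom.ext fun r => rfl)
  let j₂ : specOver R (GlueIso.Aaway f A) ⟶ specOver R A := specHom (algebraMap A _)
    (IsScalarTower.algebraMap_eq _ _ _).symm
  let k₂ : specOver R (GlueIso.Aaway f A) ⟶ specOver R (Localization.Away f) :=
    specHom (IsLocalization.Away.lift f (g := algebraMap R (GlueIso.Aaway f A))
      (by rw [IsScalarTower.algebraMap_apply R A (GlueIso.Aaway f A)]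
          exact IsLocalization.Away.algebraMap_isUnit _))
      (IsLocalization.Away.lift_comp _ _)
  refine eq_on_chart hq (hgl A g hg) hZ _ _ j₁ rfl j₂ rfl ?_ ?_
  · let l := hYX'.lift ((yon X₀).map j₁ ≫ g) ((yon X₀).map k₁) (eq_terminal _ _)
    have hl : l ≫ uY' = (yon X₀).map j₁ ≫ g := hYX'.lift_fst _ _ _
    rw [← reassoc_of% hl, ← reassoc_of% hl, haX']
  · let l := hYU.lift ((yon X₀).map j₂ ≫ g) ((yon X₀).map k₂) (eq_terminal _ _)
    have hl : l ≫ uY = (yon X₀).map j₂ ≫ g := hYU.lift_fst _ _ _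
    rw [← reassoc_of% hl, ← reassoc_of% hl, haU]

end Groth.Agent.H13AlgSp.GlueEq
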