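import Groth.Agent.H13AlgSp.GlueLocal
import Groth.Agent.H13AlgSp.GlueEq
import Groth.Agent.H12AlgSp.Univ

/-!
Glueability of affine étale charts can be tested on one covering.
-/

set_option autoImplicit false
set_option linter.style.haveILetI false
set_option backward.isDefEq.respectTransparency false

universe u

open CategoryTheory CategoryTheory.Limits AlgebraicGeometry TensorProduct
open AlgSp Groth.Agent.H12AlgSp Groth.Agent.H9Hens

namespace Groth.Agent.H13AlgSp.GlueCharts

open GlueEq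

variable {R : Type u} [CommRing R] {R' : Type u} [CommRing R'] [Algebra R R'] {f : R}

local notation "X₀" => Spec (CommRingCat.of R)

theorem torInj_of_covering {Y : Sp X₀} {A : Type u} [CommRing A] [Algebra R A]
    (g : (yon X₀).obj (specOver R A) ⟶ Y) (hg : RepWith @Etale g)
    {ι : Type u} (Ak : ι → Type u) [∀ k, CommRing (Ak k)] [∀ k, Algebra R (Ak k)]
    (gk : ∀ k, (yon X₀).obj (specOver R (Ak k)) ⟶ Y) (hgk : ∀ k, RepWith @Etale (gk k))
    (hcov : ∀ y : Points Y, ∃ k, y ∈ Set.range (Points.map (gk k)))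
    (hk : ∀ k, Glue.TorInj R' f (Ak k)) : Glue.TorInj R' f A := by
  choose W v w sq using fun k => (hgk k).rep g
  choose w' hw' using fun k => (yon X₀).map_surjective (w k)
  have hv : ∀ k, Etale (v k).left := fun k => (hgk k).property g (w k) (v k) (sq k)
  have hw : ∀ k, Etale (w' k).left := fun k => by
    have s := (sq k).flip
    rw [← hw' k] at s
    exact hg.property (gk k) _ (w' k) s
  let κ := Σ k, (W k).left.affineOpens
  let a : ∀ e : κ, (e.2.1 : Scheme.{u}) ⟶ Spec (CommRingCat.of A) := fun e => e.2.1.ι ≫ (v e.1).left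
  let b : ∀ e : κ, (e.2.1 : Scheme.{u}) ⟶ Spec (CommRingCat.of (Ak e.1)) :=
    fun e => e.2.1.ι ≫ (w' e.1).left
  let α : ∀ e : κ, CommRingCat.of A ⟶ Γ(e.2.1, ⊤) := fun e =>
    (Scheme.ΓSpecIso _).inv ≫ (a e).appTop
  let β : ∀ e : κ, CommRingCat.of (Ak e.1) ⟶ Γ(e.2.1, ⊤) := fun e =>
    (Scheme.ΓSpecIso _).inv ≫ (b e).appTop
  have haff : ∀ e : κ, IsAffine (e.2.1 : Scheme.{u}) := fun e => e.2.2
  have ha : ∀ e : κ, Spec.map (α e) = (e.2.1 : Scheme.{u}).isoSpec.inv ≫ a e := fun e => by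
    rw [Iso.eq_inv_comp, Scheme.isoSpec_hom, ← GlueIso.eq_toSpecΓ_SpecMap]
  have hb : ∀ e : κ, Spec.map (β e) = (e.2.1 : Scheme.{u}).isoSpec.inv ≫ b e := fun e => by
    rw [Iso.eq_inv_comp, Scheme.isoSpec_hom, ← GlueIso.eq_toSpecΓ_SpecMap]
  have hab : ∀ e : κ, CommRingCat.ofHom (algebraMap R (Ak e.1)) ≫ β e =
      CommRingCat.ofHom (algebraMap R A) ≫ α e := fun e => by
    apply Spec.map_injective
    rw [Spec.map_comp _ (β e), Spec.map_comp _ (α e), ha, hb]
    simp only [b, a, Category.assoc]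
    refine congrArg _ (congrArg _ ?_)
    exact (Over.w (w' e.1)).trans (Over.w (v e.1)).symm
  letI iA : ∀ e : κ, Algebra A Γ(e.2.1, ⊤) := fun e => (α e).hom.toAlgebra
  letI iR : ∀ e : κ, Algebra R Γ(e.2.1, ⊤) := fun e =>
    ((α e).hom.comp (algebraMap R A)).toAlgebra
  haveI : ∀ e : κ, IsScalarTower R A Γ(e.2.1, ⊤) := fun e => IsScalarTower.of_algebraMap_eq fun _ => rfl
  haveI hflat : ∀ e : κ, Module.Flat A Γ(e.2.1, ⊤) := fun e => by
    haveI := haff e
    haveI := hv e.1
    have h : Flat (Spec.map (α e)) := by rw [ha]; infer_instance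
    exact (HasRingHomProperty.Spec_iff (P := @Flat)).1 h
  refine GlueLocal.torInj_of_cover (fun e : κ => Γ(e.2.1, ⊤)) (fun p => ?_) fun e => ?_
  · obtain ⟨k, z, hz⟩ := hcov (Points.map g (Points.ofScheme (specOver R A) p))
    obtain ⟨q, -, hq⟩ := exists_point_of_isPullback (sq k) z _ hz
    obtain ⟨x, rfl⟩ := (Points.schemeEquiv (W k)).surjective q
    change Points.map ((yon X₀).map (v k)) (Points.ofScheme (W k) x) = _ at hq
    have hvx : (v k).left x = p := by
      apply (Points.schemeEquiv (specOver R A)).injective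
      change Points.ofScheme (specOver R A) ((v k).left x) = Points.ofScheme (specOver R A) p
      rw [← hq, ← Points.ofPt_eq_map_ofScheme]
      have := ofPt_map (v k) (𝟙 _) x
      rw [Category.comp_id] at this
      exact this.symm
    obtain ⟨O, hO, hxO, -⟩ := TopologicalSpace.Opens.isBasis_iff_nbhd.mp (W k).left.isBasis_affineOpens
      (TopologicalSpace.Opens.mem_top x)
    let e : κ := ⟨k, O, hO⟩
    haveI := haff e
    refine ⟨e, (e.2.1 : Scheme.{u}).isoSpec.hom ⟨x, hxO⟩, ?_⟩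
    change Spec.map (α e) _ = p
    rw [ha, ← Scheme.Hom.comp_apply, Iso.hom_inv_id_assoc]
    exact hvx
  · letI : Algebra (Ak e.1) Γ(e.2.1, ⊤) := (β e).hom.toAlgebra
    haveI : IsScalarTower R (Ak e.1) Γ(e.2.1, ⊤) := IsScalarTower.of_algebraMap_eq fun r =>
      (congrArg (fun t => t.hom r) (hab e)).symm
    haveI : Module.Flat (Ak e.1) Γ(e.2.1, ⊤) := by
      haveI := haff e
      haveI := hw e.1
      have h : Flat (Spec.map (β e)) := by rw [hb]; infer_instance
      exact (HasRingHomProperty.Spec_iff (P := @Flat)).1 h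
    exact GlueLocal.torInj_of_flat (hk e.1) _

theorem exists_covering {Y : Sp X₀} (hY : IsAlgSpace Y)
    (hgl : ∀ (A : Type u) [CommRing A] [Algebra R A] (g : (yon X₀).obj (specOver R A) ⟶ Y),
      RepWith @Etale g → EtGlue.IsGlueable R R' f A) :
    ∃ (ι : Type u) (A : ι → Type u) (_ : ∀ k, CommRing (A k)) (_ : ∀ k, Algebra R (A k))
      (g : ∀ k, (yon X₀).obj (specOver R (A k)) ⟶ Y),
      (∀ k, RepWith @Etale (g k)) ∧ (∀ y : Points Y, ∃ k, y ∈ Set.range (Points.map (g k))) ∧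
        ∀ k, EtGlue.IsGlueable R R' f (A k) := by
  obtain ⟨ι, T, a, hT, hae, -, hac⟩ := exists_affine_family hY
  let str : ∀ i, R →+* Γ((T i).left, ⊤) := fun i =>
    ((Scheme.ΓSpecIso (CommRingCat.of R)).inv ≫ (T i).hom.appTop).hom
  letI alg : ∀ i, Algebra R Γ((T i).left, ⊤) := fun i => (str i).toAlgebra
  have hiso : ∀ i, (T i).left.isoSpec.hom ≫ (specOver R Γ((T i).left, ⊤)).hom = (T i).hom := fun i => by
    rw [Scheme.isoSpec_hom]
    exact (GlueIso.eq_toSpecΓ_SpecMap (T i).hom).symm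
  let e : ∀ i, T i ≅ specOver R Γ((T i).left, ⊤) := fun i => Over.isoMk (T i).left.isoSpec (hiso i)
  have het : ∀ i, RepWith @Etale ((yon X₀).map (e i).inv ≫ a i) := fun i => by
    have : IsIso (e i).inv.left := inferInstanceAs (IsIso ((Over.forget _).map (e i).inv))
    exact repWith_comp ((repWith_yon_map_iff _ _).2 (inferInstanceAs (Etale (e i).inv.left))) (hae i)
  refine ⟨ι, fun i => Γ((T i).left, ⊤), inferInstance, alg, fun i => (yon X₀).map (e i).inv ≫ a i,
    het, fun y => ?_, fun i => hgl _ _ (het i)⟩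
  obtain ⟨i, z, hz⟩ := hac y
  refine ⟨i, Points.map ((yon X₀).map (e i).hom) z, ?_⟩
  rw [← hz, ← Points.map_comp, ← Functor.map_comp_assoc, Iso.hom_inv_id,
    CategoryTheory.Functor.map_id, Category.id_comp]

end Groth.Agent.H13AlgSp.GlueCharts
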