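import Groth.Agent.H13AlgSp.GlueAff
import Groth.Agent.H9Hens.GlueAlg
import Groth.Agent.S10727

/-!
Morphisms into a space with affine diagonal glue along a glueing pair: affine source.
-/

set_option autoImplicit false
set_option linter.style.haveILetI false
set_option backward.isDefEq.respectTransparency false

universe u

open CategoryTheory CategoryTheory.Limits AlgebraicGeometry TensorProduct
open AlgSp Groth.Agent.H12AlgSp Groth.Agent.H9Hens

namespace Groth.Agent.H13AlgSp.GlueExist

open GlueEq GlueAff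

attribute [local instance] Algebra.TensorProduct.rightAlgebra

/-- A pair of compatible elements comes from a glued algebra. -/
theorem pair_lift {A : Type u} [CommRing A] {T : Type u} [CommRing T] [Algebra A T] {g : A}
    {A' : Type u} [CommRing A'] [Algebra A A'] [Algebra T A'] [IsScalarTower A T A']
    {A₁ : Type u} [CommRing A₁] [Algebra A A₁]
    (φ : Localization.Away (algebraMap A A' g) ≃ₐ[T] T ⊗[A] A₁)
    {B : Type u} [CommRing B] [Algebra A B] (hB : EtGlue.IsGlueable A T g B)
    (e₁ : Localization.Away (algebraMap A B g) ≃ₐ[A] A₁) (e' : T ⊗[A] B ≃ₐ[T] A')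
    (he : ∀ b : B, φ (algebraMap A' (Localization.Away (algebraMap A A' g)) (e' ((1 : T) ⊗ₜ[A] b))) =
      (1 : T) ⊗ₜ[A] e₁ (algebraMap B (Localization.Away (algebraMap A B g)) b)) :
    (∀ b c : B, e' ((1 : T) ⊗ₜ[A] b) = e' ((1 : T) ⊗ₜ[A] c) →
      e₁ (algebraMap B _ b) = e₁ (algebraMap B _ c) → b = c) ∧
    ∀ (x : A') (y : A₁), φ (algebraMap A' (Localization.Away (algebraMap A A' g)) x) = (1 : T) ⊗ₜ[A] y →
      ∃ b : B, e' ((1 : T) ⊗ₜ[A] b) = x ∧ e₁ (algebraMap B _ b) = y := by
  obtain ⟨huniq, hex⟩ := GlueIso.glue_rings (R := A) (R' := T) (f := g) B hB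
  refine ⟨fun b c h h' => huniq b c (e'.injective h) (e₁.injective h'), fun x y hxy => ?_⟩
  have hH : Submonoid.map e'.toRingEquiv.toMonoidHom (Submonoid.powers (algebraMap A (T ⊗[A] B) g)) =
      Submonoid.powers (algebraMap A A' g) := by
    rw [Submonoid.map_powers]
    exact congrArg Submonoid.powers ((e'.restrictScalars A).commutes g)
  let E : GlueIso.Taway T g B ≃+* Localization.Away (algebraMap A A' g) :=
    IsLocalization.ringEquivOfRingEquiv (M := Submonoid.powers (algebraMap A (T ⊗[A] B) g))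
      (T := Submonoid.powers (algebraMap A A' g)) _ _ e'.toRingEquiv hH
  have hE : ∀ z, E (algebraMap (T ⊗[A] B) _ z) = algebraMap A' _ (e' z) := fun z =>
    IsLocalization.ringEquivOfRingEquiv_eq hH z
  have key : ∀ y₀, φ (E (GlueIso.locInc T g B y₀)) = (1 : T) ⊗ₜ[A] e₁ y₀ := by
    have h : (φ.toRingHom.comp E.toRingHom).comp (GlueIso.locInc T g B) =
        (Algebra.TensorProduct.includeRight : A₁ →ₐ[A] T ⊗[A] A₁).toRingHom.comp e₁.toRingHom := by
      refine IsLocalization.ringHom_ext (Submonoid.powers (algebraMap A B g)) (RingHom.ext fun b => ?_)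
      simp only [RingHom.comp_apply]
      rw [GlueIso.locInc_algebraMap]
      change φ (E _) = _
      rw [hE]
      exact he b
    exact fun y₀ => congrArg (fun k => k y₀) h
  obtain ⟨b, hb₁, hb₂⟩ := hex (e'.symm x) (e₁.symm y) (E.injective (φ.injective (by
    rw [key, hE, e'.apply_symm_apply, e₁.apply_symm_apply, hxy])))
  refine ⟨b, ?_, ?_⟩
  · exact (congrArg e' hb₁).trans (e'.apply_symm_apply x)
  · exact (congrArg e₁ hb₂).trans (e₁.apply_symm_apply y)

variable {R : Type u} [CommRing R] {R' : Type u} [CommRing R'] [Algebra R R'] {f : R}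

local notation "X₀" => Spec (CommRingCat.of R)
set_option quotPrecheck false in
local notation "𝐲" => CategoryTheory.Functor.map (yon X₀)

theorem ymap_comp {A B C : Type u} [CommRing A] [Algebra R A] [CommRing B] [Algebra R B] [CommRing C]
    [Algebra R C] (φ : A →ₐ[R] B) (ψ : B →ₐ[R] C) : 𝐲 (sp (ψ.comp φ)) = 𝐲 (sp ψ) ≫ 𝐲 (sp φ) := by
  rw [sp_comp, Functor.map_comp]

theorem repWith_ymap {A B : Type u} [CommRing A] [Algebra R A] [CommRing B] [Algebra R B] [Algebra A B]
    [IsScalarTower R A B] [Algebra.Etale A B] (hs : Function.Surjective (PrimeSpectrum.comap (algebraMap A B))) :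
    RepWith @Etale (𝐲 (sp (IsScalarTower.toAlgHom R A B))) ∧
      RepWith @Surjective (𝐲 (sp (IsScalarTower.toAlgHom R A B))) :=
  ⟨(repWith_yon_map_iff _ _).2 ((sp_etale_iff _).2 (RingHom.etale_algebraMap.2 ‹_›)),
    (repWith_yon_map_iff _ _).2 ((sp_surjective_iff _).2 hs)⟩

set_option maxHeartbeats 1000000 in
theorem exists_affine_glue (h : EtGlue.IsGlueingPair R R' f) {A : Type u} [CommRing A] [Algebra R A]
    (hA : EtGlue.IsGlueable R R' f A) {Z : Sp X₀} (hZ : IsAlgSpace Z)
    (hZd : IsAffineMor (Limits.diag Z))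
    (a : (yon X₀).obj (specOver R (GlueIso.Aaway f A)) ⟶ Z)
    (b : (yon X₀).obj (specOver R (R' ⊗[R] A)) ⟶ Z)
    (hab : ∀ (D : Type u) [CommRing D] [Algebra R D] (φ₁ : R' ⊗[R] A →ₐ[R] D)
      (φ₂ : GlueIso.Aaway f A →ₐ[R] D),
      φ₁.comp Algebra.TensorProduct.includeRight =
        φ₂.comp (IsScalarTower.toAlgHom R A (GlueIso.Aaway f A)) →
      𝐲 (sp φ₁) ≫ b = 𝐲 (sp φ₂) ≫ a) :
    ∃ φ : (yon X₀).obj (specOver R A) ⟶ Z,
      𝐲 (sp (IsScalarTower.toAlgHom R A (GlueIso.Aaway f A))) ≫ φ = a ∧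
      𝐲 (sp (Algebra.TensorProduct.includeRight : A →ₐ[R] R' ⊗[R] A)) ≫ φ = b := by
  haveI htT : IsScalarTower R A (R' ⊗[R] A) := IsScalarTower.of_algebraMap_eq fun r =>
    ((Algebra.TensorProduct.includeRight : A →ₐ[R] R' ⊗[R] A).commutes r).symm
  haveI : IsAffine (specOver R (GlueIso.Aaway f A)).left := inferInstanceAs (IsAffine (Spec _))
  haveI : IsAffine (specOver R (R' ⊗[R] A)).left := inferInstanceAs (IsAffine (Spec _))
  obtain ⟨W, w, hW, hwe, hra, hrb⟩ := exists_affine_cover hZ a b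
  obtain ⟨C, _, _, ⟨e⟩⟩ := exists_spec W
  obtain ⟨A₁, _, _, _, _, k₂, sq₂, hA₁e, hA₁s⟩ := exists_chart hZd hwe a hra
  obtain ⟨A', _, _, _, _, k₁, sq₁, hA'e, hA's⟩ := exists_chart hZd hwe b hrb
  letI : Algebra A A' := Algebra.compHom A' (algebraMap A (R' ⊗[R] A))
  haveI : IsScalarTower A (R' ⊗[R] A) A' := IsScalarTower.of_algebraMap_eq fun _ => rfl
  haveI : IsScalarTower R A A' := IsScalarTower.of_algebraMap_eq fun r => by
    rw [IsScalarTower.algebraMap_apply A (R' ⊗[R] A) A', ← IsScalarTower.algebraMap_apply R A (R' ⊗[R] A),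
      ← IsScalarTower.algebraMap_apply]
  letI : Algebra A A₁ := Algebra.compHom A₁ (algebraMap A (GlueIso.Aaway f A))
  haveI : IsScalarTower A (GlueIso.Aaway f A) A₁ := IsScalarTower.of_algebraMap_eq fun _ => rfl
  haveI : IsScalarTower R A A₁ := IsScalarTower.of_algebraMap_eq fun r => by
    rw [IsScalarTower.algebraMap_apply A (GlueIso.Aaway f A) A₁,
      ← IsScalarTower.algebraMap_apply R A (GlueIso.Aaway f A), ← IsScalarTower.algebraMap_apply]
  set T := R' ⊗[R] A with hT
  set g := algebraMap R A f with hg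
  set Af := GlueIso.Aaway f A with hAf
  have h₁ : IsUnit (algebraMap A A₁ g) := by
    rw [IsScalarTower.algebraMap_apply A Af A₁]
    exact (IsLocalization.Away.algebraMap_isUnit (S := Af) g).map _
  have hgp : EtGlue.IsGlueingPair A T g := Glue.isGlueingPair_tensor A h.1 hA
  -- the comparison of the two charts over the overlap
  let L₁ := Localization.Away (algebraMap A A' g)
  let L₂ := T ⊗[A] A₁
  let ι₁ : A' →ₐ[R] L₁ := IsScalarTower.toAlgHom R A' L₁
  let τ₁ : T →ₐ[R] A' := IsScalarTower.toAlgHom R T A'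
  let τ₂ : Af →ₐ[R] A₁ := IsScalarTower.toAlgHom R Af A₁
  let il : T →ₐ[R] L₂ := (Algebra.TensorProduct.includeLeft : T →ₐ[A] L₂).restrictScalars R
  let ir : A₁ →ₐ[R] L₂ := (Algebra.TensorProduct.includeRight : A₁ →ₐ[A] L₂).restrictScalars R
  obtain ⟨ρ, hρk, hρτ⟩ : ∃ ρ : A₁ →ₐ[R] L₁, sp ρ ≫ k₂ = sp ι₁ ≫ k₁ ∧
      ρ.comp τ₂ = locMap A g A' := by
    obtain ⟨l, hl⟩ := (yon X₀).map_surjective (sq₂.lift (𝐲 (sp ι₁) ≫ 𝐲 k₁) (𝐲 (sp (locMap A g A'))) (by
      rw [Category.assoc, sq₁.w, ← Category.assoc, ← ymap_comp]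
      refine hab _ _ _ (AlgHom.ext fun x => ?_)
      simp only [AlgHom.comp_apply, IsScalarTower.coe_toAlgHom']
      rw [locMap_algebraMap]
      exact congrArg ι₁ (IsScalarTower.algebraMap_apply A T A' x).symm))
    obtain ⟨ρ, rfl⟩ := sp_surj l
    refine ⟨ρ, (yon X₀).map_injective ?_, sp_inj ((yon X₀).map_injective ?_)⟩
    · rw [Functor.map_comp, Functor.map_comp, hl, sq₂.lift_fst]
    · rw [ymap_comp, hl, sq₂.lift_snd]
  obtain ⟨μ, hμk, hμτ⟩ : ∃ μ : A' →ₐ[R] L₂, sp μ ≫ k₁ = sp ir ≫ k₂ ∧ μ.comp τ₁ = il := by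
    obtain ⟨l, hl⟩ := (yon X₀).map_surjective (sq₁.lift (𝐲 (sp ir) ≫ 𝐲 k₂) (𝐲 (sp il)) (by
      rw [Category.assoc, sq₂.w, ← Category.assoc, ← ymap_comp]
      refine (hab _ _ _ (AlgHom.ext fun x => ?_)).symm
      simp only [AlgHom.comp_apply, IsScalarTower.coe_toAlgHom', il, ir, AlgHom.restrictScalars_apply,
        Algebra.TensorProduct.includeRight_apply]
      rw [← IsScalarTower.algebraMap_apply A Af A₁]
      change (algebraMap A T x) ⊗ₜ[A] (1 : A₁) = (1 : T) ⊗ₜ[A] algebraMap A A₁ x
      rw [Algebra.algebraMap_eq_smul_one, Algebra.algebraMap_eq_smul_one, TensorProduct.smul_tmul]))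
    obtain ⟨μ, rfl⟩ := sp_surj l
    refine ⟨μ, (yon X₀).map_injective ?_, sp_inj ((yon X₀).map_injective ?_)⟩
    · rw [Functor.map_comp, Functor.map_comp, hl, sq₁.lift_fst]
    · rw [ymap_comp, hl, sq₁.lift_snd]
  have hμT : ∀ t : T, μ (algebraMap T A' t) = algebraMap T L₂ t := fun t => by
    have := congrArg (fun k => k t) hμτ
    exact this
  let μT : A' →ₐ[T] L₂ := { μ.toRingHom with commutes' := hμT }
  have hunit : IsUnit (μT (algebraMap A A' g)) := by
    rw [IsScalarTower.algebraMap_apply A T A', μT.commutes, ← IsScalarTower.algebraMap_apply A T L₂,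
      ← (Algebra.TensorProduct.includeRight : A₁ →ₐ[A] L₂).commutes g]
    exact h₁.map _
  let μ' : L₁ →ₐ[T] L₂ :=
    { toRingHom := IsLocalization.Away.lift (algebraMap A A' g) (g := μT.toRingHom) hunit
      commutes' := fun t => by
        change IsLocalization.Away.lift _ _ (algebraMap T L₁ t) = _
        rw [IsScalarTower.algebraMap_apply T A' L₁, IsLocalization.Away.lift_eq]
        exact hμT t }
  have hμ' : ∀ x, μ' (algebraMap A' L₁ x) = μ x := fun x => IsLocalization.Away.lift_eq _ hunit x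
  have hρA : ∀ x : A, ρ (algebraMap A A₁ x) = algebraMap A L₁ x := fun x => by
    rw [IsScalarTower.algebraMap_apply A Af A₁]
    have := congrArg (fun k => k (algebraMap A Af x)) hρτ
    refine this.trans ?_
    rw [locMap_algebraMap, ← IsScalarTower.algebraMap_apply]
  let ρA : A₁ →ₐ[A] L₁ := { ρ.toRingHom with commutes' := hρA }
  let ω : L₂ →ₐ[T] L₁ := Algebra.TensorProduct.lift (Algebra.ofId T L₁) ρA (fun _ _ => Commute.all _ _)
  have hωr : ∀ x, ω (ir x) = ρ x := fun x => by
    show ω ((1 : T) ⊗ₜ[A] x) = _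
    refine (Algebra.TensorProduct.lift_tmul _ _ _ _ _).trans ?_
    rw [map_one, one_mul]
    rfl
  have hω₁ : ω.comp μ' = AlgHom.id T L₁ := by
    apply AlgHom.coe_ringHom_injective
    refine IsLocalization.ringHom_ext (Submonoid.powers (algebraMap A A' g)) (RingHom.ext fun x => ?_)
    change ω (μ' (algebraMap A' L₁ x)) = algebraMap A' L₁ x
    rw [hμ']
    have : (ω.restrictScalars R).comp μ = ι₁ := by
      apply sp_inj
      apply (yon X₀).map_injective
      apply sq₁.hom_ext
      · rw [← Functor.map_comp, ← Functor.map_comp, sp_comp, Category.assoc, hμk, ← Category.assoc,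
          ← sp_comp, ← hρk]
        exact congrArg (fun k => 𝐲 (k ≫ k₂)) (congrArg sp (AlgHom.ext hωr))
      · rw [← ymap_comp, ← ymap_comp, AlgHom.comp_assoc, hμτ]
        refine congrArg (fun k => 𝐲 (sp k)) (AlgHom.ext fun t => ?_)
        show ω (t ⊗ₜ[A] (1 : A₁)) = algebraMap A' L₁ (algebraMap T A' t)
        refine (Algebra.TensorProduct.lift_tmul _ _ _ _ _).trans ?_
        rw [map_one, mul_one]
        exact IsScalarTower.algebraMap_apply T A' L₁ t
    exact congrArg (fun k => k x) this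
  have hω₂ : μ'.comp ω = AlgHom.id T L₂ := by
    refine Algebra.TensorProduct.ext (Subsingleton.elim _ _) (AlgHom.ext fun x => ?_)
    change μ' (ω (ir x)) = ir x
    rw [hωr]
    have : (μ'.restrictScalars R).comp ρ = ir := by
      apply sp_inj
      apply (yon X₀).map_injective
      apply sq₂.hom_ext
      · rw [← Functor.map_comp, ← Functor.map_comp, sp_comp, Category.assoc, hρk, ← Category.assoc,
          ← sp_comp, ← hμk]
        exact congrArg (fun k => 𝐲 (k ≫ k₁)) (congrArg sp (AlgHom.ext hμ'))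
      · rw [← ymap_comp, ← ymap_comp, AlgHom.comp_assoc, hρτ]
        refine congrArg (fun k => 𝐲 (sp k)) (AlgHom.coe_ringHom_injective ?_)
        refine IsLocalization.ringHom_ext (Submonoid.powers g) (RingHom.ext fun y => ?_)
        change μ' (locMap (R := R) A g A' (algebraMap A Af y)) = ir (algebraMap Af A₁ (algebraMap A Af y))
        rw [locMap_algebraMap, ← IsScalarTower.algebraMap_apply A A' L₁,
          ← IsScalarTower.algebraMap_apply A Af A₁]
        refine ((μ'.restrictScalars A).commutes y).trans ?_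
        exact ((Algebra.TensorProduct.includeRight : A₁ →ₐ[A] L₂).commutes y).symm
    exact congrArg (fun k => k x) this
  let φ : L₁ ≃ₐ[T] L₂ := AlgEquiv.ofAlgHom μ' ω hω₂ hω₁
  obtain ⟨B, _, _, hB, e₁, e', he⟩ := S10727.result A T g hgp A₁ h₁ A' φ
  letI : Algebra R B := Algebra.compHom B (algebraMap R A)
  haveI : IsScalarTower R A B := IsScalarTower.of_algebraMap_eq fun _ => rfl
  obtain ⟨huniq, hpair⟩ := pair_lift φ hB e₁ e' he
  -- the chart of the glued algebra
  obtain ⟨u₁, hu₁⟩ := sp_surj (k₂ ≫ e.inv)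
  obtain ⟨u', hu'⟩ := sp_surj (k₁ ≫ e.inv)
  have hu : μ.comp u' = ir.comp u₁ := sp_inj (by
    rw [sp_comp, sp_comp, hu', hu₁, ← Category.assoc, hμk, Category.assoc])
  choose v hv' hv₁ using fun c : C => hpair (u' c) (u₁ c) (by
    change μ' (algebraMap A' L₁ (u' c)) = _
    rw [hμ']
    exact congrArg (fun k => k c) hu)
  let q' : B →+* A' := e'.toRingEquiv.toRingHom.comp
    (Algebra.TensorProduct.includeRight : B →ₐ[A] T ⊗[A] B).toRingHom
  let q₁ : B →ₐ[R] A₁ := (e₁.toAlgHom.restrictScalars R).comp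
    (IsScalarTower.toAlgHom R B (Localization.Away (algebraMap A B g)))
  let lam : C →ₐ[R] B :=
    { toFun := v
      map_one' := huniq _ _ ((hv' 1).trans ((map_one u').trans (map_one q').symm))
        ((hv₁ 1).trans ((map_one u₁).trans (map_one q₁).symm))
      map_mul' := fun x y => huniq _ _
        ((hv' _).trans ((map_mul u' x y).trans ((congrArg₂ (· * ·) (hv' x).symm (hv' y).symm).trans (map_mul q' (v x) (v y)).symm)))
        ((hv₁ _).trans ((map_mul u₁ x y).trans ((congrArg₂ (· * ·) (hv₁ x).symm (hv₁ y).symm).trans (map_mul q₁ (v x) (v y)).symm)))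
      map_zero' := huniq _ _ ((hv' 0).trans ((map_zero u').trans (map_zero q').symm))
        ((hv₁ 0).trans ((map_zero u₁).trans (map_zero q₁).symm))
      map_add' := fun x y => huniq _ _
        ((hv' _).trans ((map_add u' x y).trans ((congrArg₂ (· + ·) (hv' x).symm (hv' y).symm).trans (map_add q' (v x) (v y)).symm)))
        ((hv₁ _).trans ((map_add u₁ x y).trans ((congrArg₂ (· + ·) (hv₁ x).symm (hv₁ y).symm).trans (map_add q₁ (v x) (v y)).symm)))
      commutes' := fun r => huniq _ _
        ((hv' _).trans ((u'.commutes r).trans (by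
          rw [IsScalarTower.algebraMap_apply R A B, IsScalarTower.algebraMap_apply R A A']
          exact ((e'.toAlgHom.restrictScalars A).comp
            (Algebra.TensorProduct.includeRight : B →ₐ[A] T ⊗[A] B)).commutes _ |>.symm)))
        ((hv₁ _).trans ((u₁.commutes r).trans (q₁.commutes r).symm)) }
  let m : (yon X₀).obj (specOver R B) ⟶ Z := 𝐲 (sp lam ≫ e.hom) ≫ w
  -- its restrictions
  have H₂ : ∀ (D : Type u) [CommRing D] [Algebra R D] (φ₂ : Af →ₐ[R] D) (ψ : B →ₐ[R] D),
      ψ.comp (IsScalarTower.toAlgHom R A B) = φ₂.comp (IsScalarTower.toAlgHom R A Af) →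
      𝐲 (sp ψ) ≫ m = 𝐲 (sp φ₂) ≫ a := by
    intro D _ _ φ₂ ψ hψ
    have hu : IsUnit (ψ.toRingHom (algebraMap A B g)) := by
      have := congrArg (fun k => k g) hψ
      simp only [AlgHom.comp_apply, IsScalarTower.coe_toAlgHom'] at this
      rw [show ψ.toRingHom (algebraMap A B g) = ψ (algebraMap A B g) from rfl, this]
      exact (IsLocalization.Away.algebraMap_isUnit (S := Af) g).map φ₂
    let ψG : Localization.Away (algebraMap A B g) →+* D :=
      IsLocalization.Away.lift (algebraMap A B g) (g := ψ.toRingHom) hu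
    have hψG : ∀ x, ψG (algebraMap B _ x) = ψ x := fun x => IsLocalization.Away.lift_eq _ hu x
    have hG : ∀ x, ψG (e₁.symm (q₁ x)) = ψ x := fun x => by
      rw [show q₁ x = e₁ (algebraMap B _ x) from rfl, e₁.symm_apply_apply, hψG]
    let ψ₁ : A₁ →ₐ[R] D :=
      { ψG.comp e₁.symm.toRingEquiv.toRingHom with
        commutes' := fun r => by
          change ψG (e₁.symm (algebraMap R A₁ r)) = _
          rw [← q₁.commutes r, hG, ψ.commutes] }
    have hψ₁ : ψ₁.comp τ₂ = φ₂ := by
      refine AlgHom.coe_ringHom_injective (IsLocalization.ringHom_ext (Submonoid.powers g)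
        (RingHom.ext fun x => ?_))
      change ψG (e₁.symm (algebraMap Af A₁ (algebraMap A Af x))) = φ₂ (algebraMap A Af x)
      rw [← IsScalarTower.algebraMap_apply A Af A₁, e₁.symm.commutes,
        IsScalarTower.algebraMap_apply A B (Localization.Away (algebraMap A B g)), hψG]
      exact congrArg (fun k => k x) hψ
    have hl : ψ.comp lam = ψ₁.comp u₁ := AlgHom.ext fun c => by
      change ψ (v c) = ψG (e₁.symm (u₁ c))
      rw [← hv₁ c]
      exact (hG (v c)).symm
    rw [← hψ₁, ymap_comp, Category.assoc, ← sq₂.w]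
    change 𝐲 (sp ψ) ≫ 𝐲 (sp lam ≫ e.hom) ≫ w = 𝐲 (sp ψ₁) ≫ 𝐲 k₂ ≫ w
    rw [← Category.assoc, ← Functor.map_comp, ← Category.assoc, ← sp_comp, hl, sp_comp, hu₁]
    simp only [Category.assoc, Iso.inv_hom_id, Category.comp_id, Functor.map_comp]
  have H₁ : ∀ (D : Type u) [CommRing D] [Algebra R D] (φ₁ : T →ₐ[R] D) (ψ : B →ₐ[R] D),
      ψ.comp (IsScalarTower.toAlgHom R A B) = φ₁.comp Algebra.TensorProduct.includeRight →
      𝐲 (sp ψ) ≫ m = 𝐲 (sp φ₁) ≫ b := by
    intro D _ _ φ₁ ψ hψ
    letI : Algebra T D := φ₁.toRingHom.toAlgebra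
    letI : Algebra A D := (φ₁.toRingHom.comp (algebraMap A T)).toAlgebra
    haveI : IsScalarTower A T D := IsScalarTower.of_algebraMap_eq fun _ => rfl
    let ψA : B →ₐ[A] D := { ψ.toRingHom with commutes' := fun x => congrArg (fun k => k x) hψ }
    let ψT : T ⊗[A] B →ₐ[T] D := Algebra.TensorProduct.lift (Algebra.ofId T D) ψA (fun _ _ => Commute.all _ _)
    have hψT : ∀ x : B, ψT ((1 : T) ⊗ₜ[A] x) = ψ x := fun x => by
      simp only [ψT, Algebra.TensorProduct.lift_tmul, map_one, one_mul]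
      rfl
    let ψ' : A' →ₐ[R] D :=
      { (ψT.comp e'.symm.toAlgHom).toRingHom with
        commutes' := fun r => by
          change ψT (e'.symm (algebraMap R A' r)) = _
          rw [IsScalarTower.algebraMap_apply R T A', e'.symm.commutes, ψT.commutes]
          exact φ₁.commutes r }
    have hψ' : ψ'.comp τ₁ = φ₁ := AlgHom.ext fun t => by
      change ψT (e'.symm (algebraMap T A' t)) = φ₁ t
      rw [e'.symm.commutes, ψT.commutes]
      rfl
    have hl : ψ.comp lam = ψ'.comp u' := AlgHom.ext fun c => by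
      change ψ (v c) = ψT (e'.symm (u' c))
      rw [← hv' c, e'.symm_apply_apply, hψT]
    rw [← hψ', ymap_comp, Category.assoc, ← sq₁.w]
    change 𝐲 (sp ψ) ≫ 𝐲 (sp lam ≫ e.hom) ≫ w = 𝐲 (sp ψ') ≫ 𝐲 k₁ ≫ w
    rw [← Category.assoc, ← Functor.map_comp, ← Category.assoc, ← sp_comp, hl, sp_comp, hu']
    simp only [Category.assoc, Iso.inv_hom_id, Category.comp_id, Functor.map_comp]
  -- the glued algebra is an étale cover
  haveI : Algebra.Etale T (T ⊗[A] B) := Algebra.Etale.of_equiv e'.symm
  haveI : Algebra.Etale Af (Af ⊗[A] B) := by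
    letI : Algebra B A₁ := q₁.toRingHom.toAlgebra
    let eB : Localization.Away (algebraMap A B g) ≃ₐ[B] A₁ :=
      { e₁.toRingEquiv with commutes' := fun _ => rfl }
    haveI : IsScalarTower A B A₁ := IsScalarTower.of_algebraMap_eq fun x => by
      exact ((e₁.toAlgHom.comp (IsScalarTower.toAlgHom A B (Localization.Away (algebraMap A B g)))).commutes x).symm
    haveI : IsLocalization (Algebra.algebraMapSubmonoid B (Submonoid.powers g)) A₁ := by
      rw [Algebra.algebraMapSubmonoid, Submonoid.map_powers]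
      exact IsLocalization.isLocalization_of_algEquiv _ eB
    haveI : Algebra.IsPushout A B Af A₁ := Algebra.isPushout_of_isLocalization (Submonoid.powers g) _ _ _
    haveI : Algebra.IsPushout A Af B A₁ := Algebra.IsPushout.symm inferInstance
    exact Algebra.Etale.of_equiv (Algebra.IsPushout.equiv A Af B A₁).symm
  haveI hBe : Algebra.Etale A B := Glue.algebra_etale_of_baseChange hgp
  have hBs : Function.Surjective (PrimeSpectrum.comap (algebraMap A B)) := fun p => by
    rcases GlueIso.exists_preimage (R' := R') (f := f) A h.1 p with ⟨z, hz⟩ | ⟨z, hz⟩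
    · obtain ⟨y, rfl⟩ := hA's z
      refine ⟨PrimeSpectrum.comap q' y, hz ▸ ?_⟩
      have : q'.comp (algebraMap A B) = (algebraMap T A').comp (algebraMap A T) := RingHom.ext fun x => by
        exact (((e'.toAlgHom.restrictScalars A).comp
            (Algebra.TensorProduct.includeRight : B →ₐ[A] T ⊗[A] B)).commutes x).trans
          (IsScalarTower.algebraMap_apply A T A' x)
      rw [← PrimeSpectrum.comap_comp_apply, ← PrimeSpectrum.comap_comp_apply, this]
      rfl
    · obtain ⟨y, rfl⟩ := hA₁s z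
      refine ⟨PrimeSpectrum.comap q₁.toRingHom y, hz ▸ ?_⟩
      have : q₁.toRingHom.comp (algebraMap A B) = (algebraMap Af A₁).comp (algebraMap A Af) := RingHom.ext fun x => by
        exact ((e₁.toAlgHom.comp (IsScalarTower.toAlgHom A B (Localization.Away (algebraMap A B g)))).commutes x).trans
          (IsScalarTower.algebraMap_apply A Af A₁ x)
      rw [← PrimeSpectrum.comap_comp_apply, ← PrimeSpectrum.comap_comp_apply, this]
  obtain ⟨hpe, hps⟩ := repWith_ymap (R := R) hBs
  -- descent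
  let D := B ⊗[A] B
  let dl : B →ₐ[R] D := (Algebra.TensorProduct.includeLeft : B →ₐ[A] D).restrictScalars R
  let dr : B →ₐ[R] D := (Algebra.TensorProduct.includeRight : B →ₐ[A] D).restrictScalars R
  have sqD : IsPullback (𝐲 (sp dl)) (𝐲 (sp dr)) (𝐲 (sp (IsScalarTower.toAlgHom R A B)))
      (𝐲 (sp (IsScalarTower.toAlgHom R A B))) := (isPullback_sp_tensor A B B).map (yon X₀)
  have hD : EtGlue.IsGlueable R R' f D := (Glue.isGlueable_iff h.1).2
    ⟨GlueLocal.torInj_of_flat ((Glue.isGlueable_iff h.1).1 hA).1 D, Glue.torSurj_of_isGlueingPair h⟩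
  let ad : A →ₐ[R] D := IsScalarTower.toAlgHom R A D
  have hdl : ∀ x : A, dl (algebraMap A B x) = algebraMap A D x := fun x =>
    (Algebra.TensorProduct.includeLeft : B →ₐ[A] D).commutes x
  have hdr : ∀ x : A, dr (algebraMap A B x) = algebraMap A D x := fun x =>
    (Algebra.TensorProduct.includeRight : B →ₐ[A] D).commutes x
  let dT : T →ₐ[R] R' ⊗[R] D := Algebra.TensorProduct.map (AlgHom.id R R') ad
  let dA : Af →ₐ[R] GlueIso.Aaway f D :=
    { toRingHom := IsLocalization.Away.lift g
        (g := (algebraMap D (GlueIso.Aaway f D)).comp ad.toRingHom) (by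
          change IsUnit (algebraMap D (GlueIso.Aaway f D) (ad (algebraMap R A f)))
          rw [ad.commutes]
          exact IsLocalization.Away.algebraMap_isUnit _)
      commutes' := fun r => by
        change IsLocalization.Away.lift g _ (algebraMap R Af r) = _
        rw [IsScalarTower.algebraMap_apply R A Af, IsLocalization.Away.lift_eq,
          IsScalarTower.algebraMap_apply R D (GlueIso.Aaway f D)]
        exact congrArg (algebraMap D _) (ad.commutes r) }
  have hdA : ∀ x : A, dA (algebraMap A Af x) = algebraMap D (GlueIso.Aaway f D) (algebraMap A D x) :=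
    fun x => IsLocalization.Away.lift_eq (S := Af) g
      (g := (algebraMap D (GlueIso.Aaway f D)).comp ad.toRingHom) (by
        change IsUnit (algebraMap D (GlueIso.Aaway f D) (ad (algebraMap R A f)))
        rw [ad.commutes]
        exact IsLocalization.Away.algebraMap_isUnit _) x
  have hdesc : 𝐲 (sp dl) ≫ m = 𝐲 (sp dr) ≫ m := by
    refine GlueEq.eq_on_chart h.1 hD hZ _ _ (sp Algebra.TensorProduct.includeRight) rfl
      (sp (IsScalarTower.toAlgHom R D (GlueIso.Aaway f D))) rfl ?_ ?_
    · rw [← Category.assoc _ (𝐲 (sp dl)) m, ← Category.assoc _ (𝐲 (sp dr)) m, ← ymap_comp, ← ymap_comp, H₁ _ dT, H₁ _ dT] <;>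
        refine AlgHom.ext fun x => ?_
      · show (1 : R') ⊗ₜ[R] dr (algebraMap A B x) = _
        rw [hdr]; rfl
      · show (1 : R') ⊗ₜ[R] dl (algebraMap A B x) = _
        rw [hdl]; rfl
    · rw [← Category.assoc _ (𝐲 (sp dl)) m, ← Category.assoc _ (𝐲 (sp dr)) m, ← ymap_comp, ← ymap_comp, H₂ _ dA, H₂ _ dA] <;>
        refine AlgHom.ext fun x => ?_
      · show algebraMap D _ (dr (algebraMap A B x)) = dA.toRingHom (algebraMap A Af x)
        rw [hdr]
        exact (hdA x).symm
      · show algebraMap D _ (dl (algebraMap A B x)) = dA.toRingHom (algebraMap A Af x)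
        rw [hdl]
        exact (hdA x).symm
  obtain ⟨hc⟩ := nonempty_isColimit_of_atlas hpe hps sqD
  refine ⟨hc.desc (Cofork.ofπ m hdesc), ?_, ?_⟩
  · haveI := epi_of_etale_surjective (repWith_ymap (R := R) (A := Af) hA₁s).1 (repWith_ymap (R := R) (A := Af) hA₁s).2
    rw [← cancel_epi (𝐲 (sp (IsScalarTower.toAlgHom R Af A₁))), ← Category.assoc, ← ymap_comp]
    have hfac : (IsScalarTower.toAlgHom R Af A₁).comp (IsScalarTower.toAlgHom R A Af) =
        q₁.comp (IsScalarTower.toAlgHom R A B) := AlgHom.ext fun x => by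
      exact (IsScalarTower.algebraMap_apply A Af A₁ x).symm.trans
        ((e₁.toAlgHom.comp (IsScalarTower.toAlgHom A B (Localization.Away (algebraMap A B g)))).commutes x).symm
    have hπ : 𝐲 (sp (IsScalarTower.toAlgHom R A B)) ≫ hc.desc (Cofork.ofπ m hdesc) = m :=
      hc.fac (Cofork.ofπ m hdesc) WalkingParallelPair.one
    rw [hfac, ymap_comp, Category.assoc, hπ]
    exact H₂ _ τ₂ q₁ hfac.symm
  · haveI := epi_of_etale_surjective (repWith_ymap (R := R) (A := T) hA's).1 (repWith_ymap (R := R) (A := T) hA's).2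
    rw [← cancel_epi (𝐲 (sp (IsScalarTower.toAlgHom R T A'))), ← Category.assoc, ← ymap_comp]
    let q'R : B →ₐ[R] A' :=
      (((e'.toAlgHom.restrictScalars A).comp
        (Algebra.TensorProduct.includeRight : B →ₐ[A] T ⊗[A] B))).restrictScalars R
    have hfac : (IsScalarTower.toAlgHom R T A').comp Algebra.TensorProduct.includeRight =
        q'R.comp (IsScalarTower.toAlgHom R A B) := AlgHom.ext fun x => by
      show algebraMap T A' (algebraMap A T x) = _
      rw [← IsScalarTower.algebraMap_apply]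
      exact (((e'.toAlgHom.restrictScalars A).comp
        (Algebra.TensorProduct.includeRight : B →ₐ[A] T ⊗[A] B)).commutes x).symm
    have hπ : 𝐲 (sp (IsScalarTower.toAlgHom R A B)) ≫ hc.desc (Cofork.ofπ m hdesc) = m :=
      hc.fac (Cofork.ofπ m hdesc) WalkingParallelPair.one
    rw [hfac, ymap_comp, Category.assoc, hπ]
    exact H₁ _ τ₁ q'R hfac.symm

end Groth.Agent.H13AlgSp.GlueExist
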