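import Groth.Agent.H13AlgSp.GlueExist
import Groth.Agent.H12AlgSp.OpenCover

/-!
Morphisms into a space with affine diagonal glue along a glueing pair.
-/

set_option autoImplicit false
set_option linter.style.haveILetI false
set_option backward.isDefEq.respectTransparency false

universe u

open CategoryTheory CategoryTheory.Limits AlgebraicGeometry TensorProduct
open AlgSp Groth.Agent.H12AlgSp

namespace Groth.Agent.H13AlgSp.GlueGlobal

open GlueEq GlueAff

variable {R : Type u} [CommRing R]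

local notation "X₀" => Spec (CommRingCat.of R)
set_option quotPrecheck false in
local notation "𝐲" => CategoryTheory.Functor.map (yon X₀)

theorem eq_specOver_base {T : Over X₀} (m n : T ⟶ specOver R R) : m = n := by
  refine Over.OverMorphism.ext ?_
  have h1 := Over.w m
  have h2 := Over.w n
  simp only [Over.mk_hom, Algebra.algebraMap_self, CommRingCat.ofHom_id, Spec.map_id] at h1 h2
  exact (Category.comp_id m.left).symm.trans ((h1.trans h2.symm).trans (Category.comp_id n.left))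

variable {Y YU YX Z : Sp (Spec (CommRingCat.of R))}

/-- `ψ` restricts to the two given morphisms. -/
def Comp (uY : YU ⟶ Y) (xY : YX ⟶ Y) (aU : YU ⟶ Z) (bX : YX ⟶ Z) {T : Over X₀} (q : (yon X₀).obj T ⟶ Y) (ψ : (yon X₀).obj T ⟶ Z) : Prop :=
  (∀ (T' : Over X₀) (t : T' ⟶ T) (l : (yon X₀).obj T' ⟶ YU), 𝐲 t ≫ q = l ≫ uY → 𝐲 t ≫ ψ = l ≫ aU) ∧
  ∀ (T' : Over X₀) (t : T' ⟶ T) (l : (yon X₀).obj T' ⟶ YX), 𝐲 t ≫ q = l ≫ xY → 𝐲 t ≫ ψ = l ≫ bX

variable {uY : YU ⟶ Y} {xY : YX ⟶ Y} {aU : YU ⟶ Z} {bX : YX ⟶ Z}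

theorem Comp.comp {T T' : Over X₀} {q : (yon X₀).obj T ⟶ Y} {ψ : (yon X₀).obj T ⟶ Z}
    (h : Comp uY xY aU bX q ψ) (s : T' ⟶ T) : Comp uY xY aU bX (𝐲 s ≫ q) (𝐲 s ≫ ψ) :=
  ⟨fun V t l e => by
      rw [← Category.assoc, ← Functor.map_comp] at e ⊢
      exact h.1 V (t ≫ s) l e,
    fun V t l e => by
      rw [← Category.assoc, ← Functor.map_comp] at e ⊢
      exact h.2 V (t ≫ s) l e⟩

variable {R' : Type u} [CommRing R'] [Algebra R R'] {f : R}

/-- The data of two morphisms on the members of a glueing pair. -/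
structure Data (R' : Type u) [CommRing R'] [Algebra R R'] (f : R) (uY : YU ⟶ Y) (xY : YX ⟶ Y)
    (aU : YU ⟶ Z) (bX : YX ⟶ Z) : Prop where
  isPair : EtGlue.IsGlueingPair R R' f
  isSpace : IsAlgSpace Y
  isSpaceZ : IsAlgSpace Z
  affDiag : IsAffineMor (Limits.diag Z)
  glueable : ∀ (A : Type u) [CommRing A] [Algebra R A] (g : (yon X₀).obj (specOver R A) ⟶ Y),
    RepWith @Etale g → EtGlue.IsGlueable R R' f A
  pullU : ∃ (π : Y ⟶ (yon X₀).obj (Over.mk (𝟙 X₀)))
    (inU : specOver R (Localization.Away f) ⟶ Over.mk (𝟙 X₀))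
    (vY : YU ⟶ (yon X₀).obj (specOver R (Localization.Away f))), IsPullback uY vY π (𝐲 inU)
  pullX : ∃ (π : Y ⟶ (yon X₀).obj (Over.mk (𝟙 X₀))) (inX : specOver R R' ⟶ Over.mk (𝟙 X₀))
    (vY : YX ⟶ (yon X₀).obj (specOver R R')), IsPullback xY vY π (𝐲 inX)
  agree : ∀ (T : Over X₀) (p : (yon X₀).obj T ⟶ YU) (q : (yon X₀).obj T ⟶ YX),
    p ≫ uY = q ≫ xY → p ≫ aU = q ≫ bX

variable (d : Data R' f uY xY aU bX)
include d

theorem eq_affine {A : Type u} [CommRing A] [Algebra R A] {g : (yon X₀).obj (specOver R A) ⟶ Y}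
    (hg : RepWith @Etale g) {ψ ψ' : (yon X₀).obj (specOver R A) ⟶ Z} (h : Comp uY xY aU bX g ψ)
    (h' : Comp uY xY aU bX g ψ') : ψ = ψ' := by
  obtain ⟨π, inU, vY, hU⟩ := d.pullU
  obtain ⟨π', inX, vY', hX⟩ := d.pullX
  refine eq_on_chart d.isPair.1 (d.glueable A g hg) d.isSpaceZ _ _
    (sp Algebra.TensorProduct.includeRight) rfl
    (sp (IsScalarTower.toAlgHom R A (GlueIso.Aaway f A))) rfl ?_ ?_
  · let l := hX.lift (𝐲 (sp Algebra.TensorProduct.includeRight) ≫ g)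
      (𝐲 (sp (Algebra.TensorProduct.includeLeft : R' →ₐ[R] R' ⊗[R] A))) (eq_terminal _ _)
    rw [h.2 _ _ l (hX.lift_fst _ _ _).symm, h'.2 _ _ l (hX.lift_fst _ _ _).symm]
  · let l := hU.lift (𝐲 (sp (IsScalarTower.toAlgHom R A (GlueIso.Aaway f A))) ≫ g)
      (𝐲 (sp (locMap R f A))) (eq_terminal _ _)
    rw [h.1 _ _ l (hU.lift_fst _ _ _).symm, h'.1 _ _ l (hU.lift_fst _ _ _).symm]

theorem eq_scheme {T : Over X₀} {q : (yon X₀).obj T ⟶ Y} (hq : RepWith @Etale q)
    {ψ ψ' : (yon X₀).obj T ⟶ Z} (h : Comp uY xY aU bX q ψ) (h' : Comp uY xY aU bX q ψ') : ψ = ψ' := by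
  let C : T.left.affineOpens → Over X₀ := fun i => Over.mk (i.1.ι ≫ T.hom)
  let j : ∀ i, C i ⟶ T := fun i => Over.homMk i.1.ι
  refine hom_ext_of_cover j (ofArrows_mem_J _
    (fun i => inferInstanceAs (Flat i.1.ι))
    (fun i => inferInstanceAs (LocallyOfFinitePresentation i.1.ι)) fun x => ?_) fun i => ?_
  · obtain ⟨O, hO, hx, -⟩ := TopologicalSpace.Opens.isBasis_iff_nbhd.mp T.left.isBasis_affineOpens
      (TopologicalSpace.Opens.mem_top x)
    exact ⟨⟨O, hO⟩, ⟨x, hx⟩, rfl⟩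
  haveI : IsAffine (C i).left := i.2
  obtain ⟨A, _, _, ⟨e⟩⟩ := exists_spec (C i)
  rw [← cancel_epi (𝐲 e.hom), ← Category.assoc, ← Category.assoc, ← Functor.map_comp]
  refine eq_affine d (g := 𝐲 (e.hom ≫ j i) ≫ q) ?_ (h.comp _) (h'.comp _)
  have : IsIso e.hom.left := inferInstanceAs (IsIso ((Over.forget _).map e.hom))
  refine repWith_comp ((repWith_yon_map_iff _ _).2 ?_) hq
  rw [Over.comp_left]
  change Etale (e.hom.left ≫ i.1.ι)
  infer_instance

theorem exists_chartHom {A : Type u} [CommRing A] [Algebra R A] {g : (yon X₀).obj (specOver R A) ⟶ Y}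
    (hg : RepWith @Etale g) : ∃ ψ : (yon X₀).obj (specOver R A) ⟶ Z, Comp uY xY aU bX g ψ := by
  obtain ⟨π, inU, vY, hU⟩ := d.pullU
  obtain ⟨π', inX, vY', hX⟩ := d.pullX
  let j₁ : specOver R (R' ⊗[R] A) ⟶ specOver R A := sp Algebra.TensorProduct.includeRight
  let k₁ : specOver R (R' ⊗[R] A) ⟶ specOver R R' :=
    sp (Algebra.TensorProduct.includeLeft : R' →ₐ[R] R' ⊗[R] A)
  let j₂ : specOver R (GlueIso.Aaway f A) ⟶ specOver R A :=
    sp (IsScalarTower.toAlgHom R A (GlueIso.Aaway f A))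
  let k₂ : specOver R (GlueIso.Aaway f A) ⟶ specOver R (Localization.Away f) := sp (locMap R f A)
  let lX := hX.lift (𝐲 j₁ ≫ g) (𝐲 k₁) (eq_terminal _ _)
  let lU := hU.lift (𝐲 j₂ ≫ g) (𝐲 k₂) (eq_terminal _ _)
  have hlX : lX ≫ xY = 𝐲 j₁ ≫ g := hX.lift_fst _ _ _
  have hlU : lU ≫ uY = 𝐲 j₂ ≫ g := hU.lift_fst _ _ _
  obtain ⟨ψ, hψ₂, hψ₁⟩ := GlueExist.exists_affine_glue d.isPair (d.glueable A g hg) d.isSpaceZ d.affDiag
    (lU ≫ aU) (lX ≫ bX) fun D _ _ φ₁ φ₂ hφ => by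
      rw [← Category.assoc, ← Category.assoc]
      refine (d.agree _ _ _ ?_).symm
      rw [Category.assoc, Category.assoc, hlX, hlU, ← Category.assoc, ← Category.assoc,
        ← Functor.map_comp, ← Functor.map_comp, ← sp_comp, ← sp_comp, hφ]
  refine ⟨ψ, fun T' t l e => ?_, fun T' t l e => ?_⟩
  · obtain ⟨m, hm⟩ := (yon X₀).map_surjective (l ≫ vY)
    let s := (isPullback_sp_away (R := R) R f A).lift t m (eq_specOver_base _ _)
    have hs₁ : s ≫ j₂ = t := (isPullback_sp_away (R := R) R f A).lift_fst _ _ _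
    have hs₂ : s ≫ k₂ = m := (isPullback_sp_away (R := R) R f A).lift_snd _ _ _
    have hl : 𝐲 s ≫ lU = l := hU.hom_ext
      (by rw [Category.assoc, hlU, ← Category.assoc, ← Functor.map_comp, hs₁, e])
      (by rw [Category.assoc, hU.lift_snd, ← Functor.map_comp, hs₂, hm])
    rw [← hs₁, Functor.map_comp, Category.assoc, hψ₂, ← Category.assoc, hl]
  · obtain ⟨m, hm⟩ := (yon X₀).map_surjective (l ≫ vY')
    let s := (isPullback_sp_tensor (R := R) R R' A).lift m t (eq_specOver_base _ _)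
    have hs₁ : s ≫ j₁ = t := (isPullback_sp_tensor (R := R) R R' A).lift_snd _ _ _
    have hs₂ : s ≫ k₁ = m := (isPullback_sp_tensor (R := R) R R' A).lift_fst _ _ _
    have hl : 𝐲 s ≫ lX = l := hX.hom_ext
      (by rw [Category.assoc, hlX, ← Category.assoc, ← Functor.map_comp, hs₁, e])
      (by rw [Category.assoc, hX.lift_snd, ← Functor.map_comp, hs₂, hm])
    rw [← hs₁, Functor.map_comp, Category.assoc, hψ₁, ← Category.assoc, hl]

theorem exists_schemeHom {U : Over X₀} {p : (yon X₀).obj U ⟶ Y} (hp : RepWith @Etale p) :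
    ∃ ψ : (yon X₀).obj U ⟶ Z, Comp uY xY aU bX p ψ := by
  let C : U.left.affineOpens → Over X₀ := fun i => Over.mk (i.1.ι ≫ U.hom)
  let j : ∀ i, C i ⟶ U := fun i => Over.homMk i.1.ι
  have haff : ∀ i, IsAffine (C i).left := fun i => i.2
  choose A iA iA' e using fun i => (haveI := haff i; exists_spec (C i))
  have hfi : ∀ i, ∃ ψ, Comp uY xY aU bX (𝐲 (j i) ≫ p) ψ := fun i => by
    letI := iA i; letI := iA' i
    obtain ⟨e⟩ := e i
    have : IsIso e.hom.left := inferInstanceAs (IsIso ((Over.forget _).map e.hom))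
    have he : RepWith @Etale (𝐲 (e.hom ≫ j i) ≫ p) := by
      refine repWith_comp ((repWith_yon_map_iff _ _).2 ?_) hp
      rw [Over.comp_left]
      change Etale (e.hom.left ≫ i.1.ι)
      infer_instance
    obtain ⟨ψ, hψ⟩ := exists_chartHom d he
    refine ⟨𝐲 e.inv ≫ ψ, ?_⟩
    have := hψ.comp e.inv
    rwa [← Category.assoc, ← Functor.map_comp, Iso.inv_hom_id_assoc] at this
  choose fi hfi using hfi
  obtain ⟨ψ, hψ⟩ := exists_glue j (ofArrows_mem_J _
    (fun i => inferInstanceAs (Flat i.1.ι))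
    (fun i => inferInstanceAs (LocallyOfFinitePresentation i.1.ι)) fun x => by
      obtain ⟨O, hO, hx, -⟩ := TopologicalSpace.Opens.isBasis_iff_nbhd.mp U.left.isBasis_affineOpens
        (TopologicalSpace.Opens.mem_top x)
      exact ⟨⟨O, hO⟩, ⟨x, hx⟩, rfl⟩) fi fun i k W a b hab => by
    let P : Over X₀ := pullback (j i) (j k)
    let h : W ⟶ P := pullback.lift a b hab
    have key : 𝐲 (pullback.fst (j i) (j k)) ≫ fi i = 𝐲 (pullback.snd (j i) (j k)) ≫ fi k := by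
      have sq : IsPullback (pullback.fst (j i) (j k)).left (pullback.snd (j i) (j k)).left
          (j i).left (j k).left := (IsPullback.of_hasPullback (j i) (j k)).map (Over.forget X₀)
      have hf : Etale (pullback.fst (j i) (j k) ≫ j i).left := by
        haveI : Etale (pullback.fst (j i) (j k)).left :=
          MorphismProperty.of_isPullback (P := @Etale) sq.flip (inferInstanceAs (Etale k.1.ι))
        rw [Over.comp_left]
        change Etale ((pullback.fst (j i) (j k)).left ≫ i.1.ι)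
        infer_instance
      refine eq_scheme d (q := 𝐲 (pullback.fst (j i) (j k) ≫ j i) ≫ p)
        (repWith_comp ((repWith_yon_map_iff _ _).2 hf) hp) ?_ ?_
      · have := (hfi i).comp (pullback.fst (j i) (j k))
        rwa [← Category.assoc, ← Functor.map_comp] at this
      · have := (hfi k).comp (pullback.snd (j i) (j k))
        rwa [← Category.assoc, ← Functor.map_comp, ← pullback.condition] at this
    have ha : h ≫ pullback.fst (j i) (j k) = a := pullback.lift_fst _ _ _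
    have hb : h ≫ pullback.snd (j i) (j k) = b := pullback.lift_snd _ _ _
    rw [← ha, ← hb, Functor.map_comp, Functor.map_comp, Category.assoc, Category.assoc, key]
  have hloc : ∀ (T' : Over X₀) (t : T' ⟶ U) {P : Sp X₀} (u : P ⟶ Y) (c : P ⟶ Z)
      (_hc : ∀ i (V : Over X₀) (s : V ⟶ C i) (l : (yon X₀).obj V ⟶ P),
        𝐲 s ≫ 𝐲 (j i) ≫ p = l ≫ u → 𝐲 s ≫ fi i = l ≫ c)
      (l : (yon X₀).obj T' ⟶ P), 𝐲 t ≫ p = l ≫ u → 𝐲 t ≫ ψ = l ≫ c := by
    intro T' t P u c hc l e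
    let V : U.left.affineOpens → Over X₀ := fun i => Over.mk ((t.left ⁻¹ᵁ i.1).ι ≫ T'.hom)
    let v : ∀ i, V i ⟶ T' := fun i => Over.homMk (t.left ⁻¹ᵁ i.1).ι
    let s : ∀ i, V i ⟶ C i := fun i => Over.homMk (t.left ∣_ i.1) (by
      simp only [C, V, Over.mk_hom]
      rw [morphismRestrict_ι_assoc, Over.w])
    refine hom_ext_of_cover v (ofArrows_mem_J _
      (fun i => inferInstanceAs (Flat (t.left ⁻¹ᵁ i.1).ι))
      (fun i => inferInstanceAs (LocallyOfFinitePresentation (t.left ⁻¹ᵁ i.1).ι)) fun x => ?_) fun i => ?_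
    · obtain ⟨O, hO, hx, -⟩ := TopologicalSpace.Opens.isBasis_iff_nbhd.mp U.left.isBasis_affineOpens
        (TopologicalSpace.Opens.mem_top (t.left x))
      exact ⟨⟨O, hO⟩, ⟨x, hx⟩, rfl⟩
    have hvs : v i ≫ t = s i ≫ j i := Over.OverMorphism.ext (morphismRestrict_ι t.left i.1).symm
    rw [← Category.assoc, ← Functor.map_comp, hvs, Functor.map_comp, Category.assoc, hψ, ← Category.assoc]
    refine hc i _ (s i) _ ?_
    rw [← Category.assoc, ← Functor.map_comp, ← hvs, Functor.map_comp, Category.assoc, e, Category.assoc]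
  exact ⟨ψ, fun T' t l e => hloc T' t uY aU (fun i V s l e => (hfi i).1 V s l e) l e,
    fun T' t l e => hloc T' t xY bX (fun i V s l e => (hfi i).2 V s l e) l e⟩

theorem exists_hom : ∃ φ : Y ⟶ Z, uY ≫ φ = aU ∧ xY ≫ φ = bX := by
  obtain ⟨U, p, hp, hps⟩ := d.isSpace.atlas
  obtain ⟨ψ, hψ⟩ := exists_schemeHom d hp
  obtain ⟨Q, s', t', sq⟩ := hp.rep p
  obtain ⟨t', rfl⟩ := (yon X₀).map_surjective t'
  have hs : Etale s'.left := hp.property p _ s' sq
  have hdesc : 𝐲 t' ≫ ψ = 𝐲 s' ≫ ψ := by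
    refine eq_scheme d (q := 𝐲 s' ≫ p) (repWith_comp ((repWith_yon_map_iff _ _).2 hs) hp) ?_ (hψ.comp s')
    have := hψ.comp t'
    rwa [sq.w] at this
  obtain ⟨hc⟩ := nonempty_isColimit_of_atlas hp hps sq
  let φ : Y ⟶ Z := hc.desc (Cofork.ofπ ψ hdesc)
  have hφ : p ≫ φ = ψ := hc.fac (Cofork.ofπ ψ hdesc) WalkingParallelPair.one
  have key : ∀ {P : Sp X₀} (u : P ⟶ Y) (c : P ⟶ Z),
      (∀ (T' : Over X₀) (t : T' ⟶ U) (l : (yon X₀).obj T' ⟶ P), 𝐲 t ≫ p = l ≫ u → 𝐲 t ≫ ψ = l ≫ c) →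
      u ≫ φ = c := by
    intro P u c hc
    refine hom_ext_yon fun T y => ?_
    obtain ⟨V, v, k', sqV⟩ := hp.rep (y ≫ u)
    obtain ⟨k', rfl⟩ := (yon X₀).map_surjective k'
    have hv : Etale v.left := hp.property _ _ v sqV
    have hvs : Surjective v.left := hps.property _ _ v sqV
    haveI := epi_of_etale_surjective ((repWith_yon_map_iff _ v).2 hv) ((repWith_yon_map_iff _ v).2 hvs)
    rw [← cancel_epi (𝐲 v)]
    have := hc V k' (𝐲 v ≫ y) (by rw [Category.assoc]; exact sqV.w)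
    rw [Category.assoc] at this
    rw [← this, ← hφ, ← Category.assoc (𝐲 k'), sqV.w]
    simp only [Category.assoc]
  exact ⟨φ, key uY aU hψ.1, key xY bX hψ.2⟩

end Groth.Agent.H13AlgSp.GlueGlobal
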