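import Groth.Agent.H9Hens.Glue
import Mathlib.AlgebraicGeometry.ZariskisMainTheorem
import Mathlib.AlgebraicGeometry.QuasiAffine
import Mathlib.AlgebraicGeometry.Morphisms.UniversallyInjective

/-!
A monomorphism locally of finite type into the spectrum of a glueable algebra which is split over both
members of a glueing pair is an isomorphism.
-/

set_option autoImplicit false
set_option linter.style.haveILetI false

universe u

open CategoryTheory CategoryTheory.Limits AlgebraicGeometry TensorProduct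

namespace Groth.Agent.H13AlgSp.GlueIso

open Groth.Agent.H9Hens

variable {R R' : Type u} [CommRing R] [CommRing R'] [Algebra R R'] {f : R}
variable (A : Type u) [CommRing A] [Algebra R A]

variable (R R') in
/-- `A → (R' ⊗ A)`. -/
noncomputable abbrev incR : A →+* R' ⊗[R] A :=
  (Algebra.TensorProduct.includeRight : A →ₐ[R] R' ⊗[R] A).toRingHom

variable (f) in
abbrev Aaway : Type u := Localization.Away (algebraMap R A f)

variable (R' f) in
abbrev Taway : Type u := Localization.Away (algebraMap R (R' ⊗[R] A) f)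

variable (R' f) in
/-- `A_f → (R' ⊗ A)_f`. -/
noncomputable def locInc : Aaway f A →+* Taway R' f A :=
  IsLocalization.Away.lift (algebraMap R A f)
    (g := (algebraMap (R' ⊗[R] A) (Taway R' f A)).comp (incR R R' A)) (by
      rw [RingHom.comp_apply]
      have h : incR R R' A (algebraMap R A f) = algebraMap R (R' ⊗[R] A) f := AlgHom.commutes _ f
      rw [h]
      exact IsLocalization.Away.algebraMap_isUnit _)

theorem locInc_algebraMap (a : A) :
    locInc R' f A (algebraMap A (Aaway f A) a) =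
      algebraMap (R' ⊗[R] A) (Taway R' f A) (incR R R' A a) :=
  IsLocalization.Away.lift_eq _ _ a

/-- Glueability of an algebra, in terms of rings. -/
theorem glue_rings (h : EtGlue.IsGlueable R R' f A) :
    (∀ a b : A, incR R R' A a = incR R R' A b → algebraMap A (Aaway f A) a = algebraMap A (Aaway f A) b → a = b) ∧
      ∀ (x : R' ⊗[R] A) (y : Aaway f A),
        algebraMap (R' ⊗[R] A) (Taway R' f A) x = locInc R' f A y →
          ∃ a : A, incR R R' A a = x ∧ algebraMap A (Aaway f A) a = y := by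
  set lA : A →ₗ[R] Aaway f A := (IsScalarTower.toAlgHom R A (Aaway f A)).toLinearMap with hlA
  set lT : R' ⊗[R] A →ₗ[R] Taway R' f A :=
    (IsScalarTower.toAlgHom R (R' ⊗[R] A) (Taway R' f A)).toLinearMap with hlT
  haveI : IsLocalization (Algebra.algebraMapSubmonoid A (Submonoid.powers f)) (Aaway f A) := by
    rw [Algebra.algebraMapSubmonoid, Submonoid.map_powers]; infer_instance
  haveI : IsLocalization (Algebra.algebraMapSubmonoid (R' ⊗[R] A) (Submonoid.powers f)) (Taway R' f A) := by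
    rw [Algebra.algebraMapSubmonoid, Submonoid.map_powers]; infer_instance
  haveI : IsLocalizedModule (Submonoid.powers f) lA := isLocalizedModule_iff_isLocalization.mpr ‹_›
  haveI : IsLocalizedModule (Submonoid.powers f) lT := isLocalizedModule_iff_isLocalization.mpr ‹_›
  let e₁ := IsLocalizedModule.iso (Submonoid.powers f) lA
  let e₂ := IsLocalizedModule.iso (Submonoid.powers f) lT
  have he₁ : ∀ a, e₁ (LocalizedModule.mkLinearMap (Submonoid.powers f) A a) = lA a := fun a =>
    IsLocalizedModule.iso_mk_one (Submonoid.powers f) lA a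
  have he₂ : ∀ a, e₂ (LocalizedModule.mkLinearMap (Submonoid.powers f) (R' ⊗[R] A) a) = lT a := fun a =>
    IsLocalizedModule.iso_mk_one (Submonoid.powers f) lT a
  let φ : Aaway f A →ₗ[R] Taway R' f A :=
    { toFun := locInc R' f A
      map_add' := map_add _
      map_smul' := fun r y => by
        rw [RingHom.id_apply, Algebra.smul_def, Algebra.smul_def, map_mul,
          IsScalarTower.algebraMap_apply R A (Aaway f A), locInc_algebraMap,
          IsScalarTower.algebraMap_apply R (R' ⊗[R] A) (Taway R' f A)]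
        exact congrArg (fun t => algebraMap _ (Taway R' f A) t * _) (AlgHom.commutes _ r) }
  have key : e₂.toLinearMap ∘ₗ EtGlue.tensorOfLoc R R' f A = φ ∘ₗ e₁.toLinearMap := by
    refine IsLocalizedModule.ext (Submonoid.powers f) (LocalizedModule.mkLinearMap (Submonoid.powers f) A)
      (fun s => IsLocalizedModule.map_units lT s) ?_
    refine LinearMap.ext fun a => ?_
    simp only [LinearMap.comp_apply, LinearEquiv.coe_coe]
    rw [IsLocalizedModule.map_apply, he₁, he₂]
    exact (locInc_algebraMap A a).symm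
  obtain ⟨h1, h2⟩ := h
  refine ⟨fun a b ha hb => h1 (Prod.ext ha (e₁.injective ?_)), fun x y hxy => ?_⟩
  · rw [he₁, he₁]; exact hb
  · have hcond : EtGlue.locOfTensor R R' f A x = EtGlue.tensorOfLoc R R' f A (e₁.symm y) := by
      refine e₂.injective ?_
      refine (he₂ x).trans ?_
      have hk := LinearMap.congr_fun key (e₁.symm y)
      simp only [LinearMap.comp_apply, LinearEquiv.coe_coe, LinearEquiv.apply_symm_apply] at hk
      exact hxy.trans hk.symm
    obtain ⟨a, ha, hb⟩ := h2 x (e₁.symm y) hcond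
    refine ⟨a, ha, ?_⟩
    have hb' := congrArg e₁ hb
    rw [LinearEquiv.apply_symm_apply] at hb'
    exact (he₁ a).symm.trans hb'

/-- `Spec (R' ⊗ A) ⊔ Spec A_f → Spec A` is surjective. -/
theorem exists_preimage (hq : EtGlue.QuotPowBijective R R' f) (p : PrimeSpectrum A) :
    p ∈ Set.range (PrimeSpectrum.comap (incR R R' A)) ∨
      p ∈ Set.range (PrimeSpectrum.comap (algebraMap A (Aaway f A))) := by
  by_cases hf : algebraMap R A f ∈ p.asIdeal
  · refine .inl ?_
    have htor : ∀ m : p.asIdeal.ResidueField, ∃ n : ℕ, f ^ n • m = 0 := fun m => ⟨1, by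
      rw [pow_one, Algebra.smul_def, IsScalarTower.algebraMap_apply R A p.asIdeal.ResidueField,
        Ideal.algebraMap_residueField_eq_zero.mpr hf, zero_mul]⟩
    have hbij := Glue.bijective_mk_of_torsion (R' := R') hq htor
    let ι : p.asIdeal.ResidueField ≃ₐ[R] R' ⊗[R] p.asIdeal.ResidueField :=
      AlgEquiv.ofBijective Algebra.TensorProduct.includeRight hbij
    let φ : R' ⊗[R] A →+* p.asIdeal.ResidueField :=
      ι.symm.toAlgHom.toRingHom.comp (Algebra.TensorProduct.map (AlgHom.id R R')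
        (IsScalarTower.toAlgHom R A p.asIdeal.ResidueField)).toRingHom
    refine ⟨PrimeSpectrum.comap φ ⊥, PrimeSpectrum.ext ?_⟩
    ext a
    have hφ : φ (incR R R' A a) = algebraMap A p.asIdeal.ResidueField a := by
      change ι.symm ((Algebra.TensorProduct.map (AlgHom.id R R') _) (1 ⊗ₜ[R] a)) = _
      rw [Algebra.TensorProduct.map_tmul]
      exact ι.symm_apply_apply _
    rw [PrimeSpectrum.comap_asIdeal, PrimeSpectrum.comap_asIdeal, Ideal.mem_comap, Ideal.mem_comap, hφ]
    exact (Ideal.mem_bot.trans Ideal.algebraMap_residueField_eq_zero)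
  · refine .inr ?_
    rw [PrimeSpectrum.localization_away_comap_range (Aaway f A) (algebraMap R A f)]
    exact hf

theorem eq_toSpecΓ_SpecMap {E : Scheme.{u}} {B : CommRingCat.{u}} (e : E ⟶ Spec B) :
    e = E.toSpecΓ ≫ Spec.map ((Scheme.ΓSpecIso B).inv ≫ e.appTop) := by
  rw [Spec.map_comp, ← Scheme.toSpecΓ_naturality_assoc, toSpecΓ_SpecMap_ΓSpecIso_inv, Category.comp_id]

theorem comp_toSpecΓ {E : Scheme.{u}} {B : CommRingCat.{u}} (s : Spec B ⟶ E) :
    s ≫ E.toSpecΓ = Spec.map (s.appTop ≫ (Scheme.ΓSpecIso B).hom) := by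
  rw [Scheme.toSpecΓ_naturality, Spec.map_comp, SpecMap_ΓSpecIso_hom]

/-- A monomorphism locally of finite type onto a glueable spectrum, split over both pieces. -/
theorem isIso_of_sections (hq : EtGlue.QuotPowBijective R R' f) (h : EtGlue.IsGlueable R R' f A)
    {E : Scheme.{u}} (e : E ⟶ Spec (CommRingCat.of A)) [Mono e] [LocallyOfFiniteType e]
    (s₁ : Spec (CommRingCat.of (R' ⊗[R] A)) ⟶ E) (hs₁ : s₁ ≫ e = Spec.map (CommRingCat.ofHom (incR R R' A)))
    (s₂ : Spec (CommRingCat.of (Aaway f A)) ⟶ E)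
    (hs₂ : s₂ ≫ e = Spec.map (CommRingCat.ofHom (algebraMap A (Aaway f A)))) : IsIso e := by
  have hsurj : ∀ p : Spec (CommRingCat.of A),
      (∃ z, e (s₁ z) = p) ∨ ∃ z, e (s₂ z) = p := by
    intro p
    rcases exists_preimage (R' := R') (f := f) A hq p with ⟨z, rfl⟩ | ⟨z, rfl⟩
    · exact .inl ⟨z, by rw [← Scheme.Hom.comp_apply, hs₁]; rfl⟩
    · exact .inr ⟨z, by rw [← Scheme.Hom.comp_apply, hs₂]; rfl⟩
  haveI : CompactSpace E := by
    refine ⟨?_⟩
    have hc := (isCompact_range s₁.continuous).union (isCompact_range s₂.continuous)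
    convert hc using 1
    refine Set.eq_univ_of_forall (fun x => ?_) |>.symm
    rcases hsurj (e x) with ⟨z, hz⟩ | ⟨z, hz⟩
    · exact .inl ⟨z, e.injective hz⟩
    · exact .inr ⟨z, e.injective hz⟩
  haveI : QuasiCompact e := quasiCompact_of_compactSpace e
  haveI : LocallyQuasiFinite e := LocallyQuasiFinite.of_injective e.injective
  haveI : IsSeparated e := inferInstance
  haveI : IsAffine e.normalization := isAffine_of_isAffineHom e.fromNormalization
  haveI : E.IsQuasiAffine := Scheme.IsQuasiAffine.of_isImmersion e.toNormalization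
  set α : CommRingCat.of A ⟶ Γ(E, ⊤) := (Scheme.ΓSpecIso _).inv ≫ e.appTop with hα
  set γ₁ : Γ(E, ⊤) ⟶ CommRingCat.of (R' ⊗[R] A) := s₁.appTop ≫ (Scheme.ΓSpecIso _).hom with hγ₁
  set γ₂ : Γ(E, ⊤) ⟶ CommRingCat.of (Aaway f A) := s₂.appTop ≫ (Scheme.ΓSpecIso _).hom with hγ₂
  have hc₁ : ∀ a, γ₁ (α a) = incR R R' A a := fun a => by
    have := Spec.map_injective (a₁ := α ≫ γ₁) (a₂ := CommRingCat.ofHom (incR R R' A)) (by
      rw [Spec.map_comp, hγ₁, ← comp_toSpecΓ, Category.assoc, ← eq_toSpecΓ_SpecMap, hs₁])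
    exact congrArg (fun k => k.hom a) this
  have hc₂ : ∀ a, γ₂ (α a) = algebraMap A (Aaway f A) a := fun a => by
    have := Spec.map_injective (a₁ := α ≫ γ₂) (a₂ := CommRingCat.ofHom (algebraMap A (Aaway f A))) (by
      rw [Spec.map_comp, hγ₂, ← comp_toSpecΓ, Category.assoc, ← eq_toSpecΓ_SpecMap, hs₂])
    exact congrArg (fun k => k.hom a) this
  have hcompat : ∀ c, algebraMap (R' ⊗[R] A) (Taway R' f A) (γ₁ c) = locInc R' f A (γ₂ c) := by
    let u : CommRingCat.of (R' ⊗[R] A) ⟶ CommRingCat.of (Taway R' f A) :=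
      CommRingCat.ofHom (algebraMap _ _)
    let v : CommRingCat.of (Aaway f A) ⟶ CommRingCat.of (Taway R' f A) :=
      CommRingCat.ofHom (locInc R' f A)
    have huv : Spec.map u ≫ s₁ = Spec.map v ≫ s₂ := by
      rw [← cancel_mono e, Category.assoc, Category.assoc, hs₁, hs₂, ← Spec.map_comp, ← Spec.map_comp]
      refine congrArg Spec.map (CommRingCat.hom_ext (RingHom.ext fun a => ?_))
      exact (locInc_algebraMap A a).symm
    have := Spec.map_injective (a₁ := γ₁ ≫ u) (a₂ := γ₂ ≫ v) (by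
      rw [Spec.map_comp γ₁ u, Spec.map_comp γ₂ v]
      calc _ = Spec.map u ≫ (s₁ ≫ E.toSpecΓ) := by rw [comp_toSpecΓ]
        _ = Spec.map v ≫ (s₂ ≫ E.toSpecΓ) := by rw [reassoc_of% huv]
        _ = _ := by rw [comp_toSpecΓ])
    exact fun c => congrArg (fun k => k.hom c) this
  obtain ⟨huniq, hex⟩ := glue_rings A h
  choose π hπ₁ hπ₂ using fun c => hex _ _ (hcompat c)
  let π' : Γ(E, ⊤) →+* A :=
    { toFun := π
      map_one' := huniq _ _ (by rw [hπ₁, map_one, map_one]) (by rw [hπ₂, map_one, map_one])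
      map_mul' := fun x y => huniq _ _ (by rw [hπ₁, map_mul, map_mul, hπ₁, hπ₁])
        (by rw [hπ₂, map_mul, map_mul, hπ₂, hπ₂])
      map_zero' := huniq _ _ (by rw [hπ₁, map_zero, map_zero]) (by rw [hπ₂, map_zero, map_zero])
      map_add' := fun x y => huniq _ _ (by rw [hπ₁, map_add, map_add, hπ₁, hπ₁])
        (by rw [hπ₂, map_add, map_add, hπ₂, hπ₂]) }
  let σ : Spec (CommRingCat.of A) ⟶ Spec Γ(E, ⊤) := Spec.map (CommRingCat.ofHom π')
  have hσ₁ : Spec.map (CommRingCat.ofHom (incR R R' A)) ≫ σ = s₁ ≫ E.toSpecΓ := by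
    rw [comp_toSpecΓ, ← Spec.map_comp]
    exact congrArg Spec.map (CommRingCat.hom_ext (RingHom.ext hπ₁))
  have hσ₂ : Spec.map (CommRingCat.ofHom (algebraMap A (Aaway f A))) ≫ σ = s₂ ≫ E.toSpecΓ := by
    rw [comp_toSpecΓ, ← Spec.map_comp]
    exact congrArg Spec.map (CommRingCat.hom_ext (RingHom.ext hπ₂))
  have hrange : Set.range σ ⊆ Set.range E.toSpecΓ := by
    rintro _ ⟨p, rfl⟩
    rcases hsurj p with ⟨z, rfl⟩ | ⟨z, rfl⟩
    · refine ⟨s₁ z, ?_⟩
      rw [← Scheme.Hom.comp_apply, ← hσ₁, ← hs₁, Category.assoc, Scheme.Hom.comp_apply,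
        Scheme.Hom.comp_apply]
    · refine ⟨s₂ z, ?_⟩
      rw [← Scheme.Hom.comp_apply, ← hσ₂, ← hs₂, Category.assoc, Scheme.Hom.comp_apply,
        Scheme.Hom.comp_apply]
  let t : Spec (CommRingCat.of A) ⟶ E := IsOpenImmersion.lift E.toSpecΓ σ hrange
  have ht : t ≫ e = 𝟙 _ := by
    rw [eq_toSpecΓ_SpecMap e, IsOpenImmersion.lift_fac_assoc, ← Spec.map_comp, ← Spec.map_id]
    refine congrArg Spec.map (CommRingCat.hom_ext (RingHom.ext fun a => ?_))
    exact huniq _ _ ((hπ₁ (α a)).trans (hc₁ a)) ((hπ₂ (α a)).trans (hc₂ a))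
  haveI : IsSplitEpi e := ⟨⟨⟨t, ht⟩⟩⟩
  exact isIso_of_mono_of_isSplitEpi e

end Groth.Agent.H13AlgSp.GlueIso
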