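import Groth.Agent.H9Hens.Glue
import Mathlib.RingTheory.Flat.Basic
import Mathlib.RingTheory.Etale.Basic
import Mathlib.RingTheory.TensorProduct.Maps
import Mathlib.RingTheory.Spectrum.Prime.RingHom

/-!
Glueability is local for flat covers.
-/

set_option autoImplicit false
set_option linter.style.haveILetI false

universe u

open TensorProduct Groth.Agent.H9Hens

namespace Groth.Agent.H13AlgSp.GlueLocal

variable {R R' : Type u} [CommRing R] [CommRing R'] [Algebra R R'] {f : R}
variable {A : Type u} [CommRing A] [Algebra R A]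

/-- A flat algebra over an algebra injective on torsion is injective on torsion. -/
theorem torInj_of_flat (hA : Glue.TorInj R' f A) (B : Type u) [CommRing B] [Algebra R B] [Algebra A B]
    [IsScalarTower R A B] [Module.Flat A B] : Glue.TorInj R' f B := by
  intro m ⟨n, hn⟩ h0
  letI : Algebra A (R' ⊗[R] A) := Algebra.TensorProduct.rightAlgebra
  let ι : A →ₗ[A] (R' ⊗[R] A) × Localization.Away (algebraMap R A f) :=
    (Algebra.linearMap A (R' ⊗[R] A)).prod (Algebra.linearMap A _)
  have hι : Function.Injective ι := fun a b h => by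
    have h1 : (1 : R') ⊗ₜ[R] a = (1 : R') ⊗ₜ[R] b := congrArg Prod.fst h
    have h2 : algebraMap A (Localization.Away (algebraMap R A f)) a = algebraMap A _ b := congrArg Prod.snd h
    rw [← sub_eq_zero]
    refine hA _ ?_ (by rw [TensorProduct.tmul_sub, h1, sub_self])
    rw [← sub_eq_zero, ← map_sub, Glue.algebraMap_away_eq_zero_iff] at h2
    obtain ⟨k, hk⟩ := h2
    exact ⟨k, by rw [Algebra.smul_def, map_pow, hk]⟩
  have hinj := Module.Flat.lTensor_preserves_injective_linearMap (M := B) ι hι
  have hzero : ι.lTensor B (m ⊗ₜ[A] 1) = 0 := by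
    apply (TensorProduct.prodRight A A B (R' ⊗[R] A) (Localization.Away (algebraMap R A f))).injective
    rw [LinearMap.lTensor_tmul, map_zero]
    refine Prod.ext ?_ ?_
    · let ψ : R' →ₗ[R] B →ₗ[R] B ⊗[A] (R' ⊗[R] A) :=
        LinearMap.mk₂ R (fun r b => b ⊗ₜ[A] (r ⊗ₜ[R] (1 : A)))
          (fun r s b => by rw [TensorProduct.add_tmul, TensorProduct.tmul_add])
          (fun c r b => by rw [← TensorProduct.smul_tmul', TensorProduct.tmul_smul])
          (fun r b b' => TensorProduct.add_tmul _ _ _)
          (fun c r b => (TensorProduct.smul_tmul' c b _).symm)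
      have := congrArg (TensorProduct.lift ψ) h0
      rw [map_zero, TensorProduct.lift.tmul] at this
      exact this
    · show m ⊗ₜ[A] (algebraMap A (Localization.Away (algebraMap R A f)) 1) = 0
      obtain ⟨u, hu⟩ := ((IsLocalization.Away.algebraMap_isUnit (S := Localization.Away (algebraMap R A f))
        (algebraMap R A f)).pow n).exists_left_inv
      have : (1 : Localization.Away (algebraMap R A f)) = (algebraMap R A f) ^ n • u := by
        rw [Algebra.smul_def, map_pow, mul_comm, hu]
      rw [map_one, this, TensorProduct.tmul_smul, TensorProduct.smul_tmul', ← map_pow,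
        algebraMap_smul, hn, TensorProduct.zero_tmul]
  have := hinj (hzero.trans (map_zero _).symm)
  simpa using congrArg (TensorProduct.rid A B) this

/-- If an element dies in a flat algebra then its annihilator avoids the primes in the image. -/
theorem exists_ann {B : Type u} [CommRing B] [Algebra A B] [Module.Flat A B] {m : A}
    (hm : algebraMap A B m = 0) (q : PrimeSpectrum B) :
    ∃ a : A, a ∉ (PrimeSpectrum.comap (algebraMap A B) q).asIdeal ∧ a * m = 0 := by
  by_contra! hcon
  let μ : A →ₗ[A] A := LinearMap.mulRight A m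
  have hex : Function.Exact (LinearMap.ker μ).subtype μ := LinearMap.exact_subtype_ker_map μ
  obtain ⟨t, ht⟩ := (Module.Flat.lTensor_exact B hex ((1 : B) ⊗ₜ[A] (1 : A))).1 (by
    apply (TensorProduct.rid A B).injective
    rw [LinearMap.lTensor_tmul, TensorProduct.rid_tmul, map_zero]
    simp [μ, Algebra.smul_def, hm])
  have key : ∀ t : B ⊗[A] LinearMap.ker μ,
      TensorProduct.rid A B ((LinearMap.ker μ).subtype.lTensor B t) ∈ q.asIdeal := by
    intro t
    induction t using TensorProduct.induction_on with
    | zero => simp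
    | tmul b a =>
      rw [LinearMap.lTensor_tmul, TensorProduct.rid_tmul, Algebra.smul_def]
      refine Ideal.mul_mem_right _ _ ?_
      by_contra hna
      exact hcon a.1 hna a.2
    | add x y hx hy => rw [map_add, map_add]; exact add_mem hx hy
  have := key t
  rw [ht, TensorProduct.rid_tmul, one_smul] at this
  exact q.2.ne_top ((Ideal.eq_top_iff_one _).2 this)

/-- Injectivity on torsion descends along flat covers. -/
theorem torInj_of_cover {κ : Type*} (B : κ → Type u) [∀ k, CommRing (B k)] [∀ k, Algebra R (B k)]
    [∀ k, Algebra A (B k)] [∀ k, IsScalarTower R A (B k)] [∀ k, Module.Flat A (B k)]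
    (hcov : ∀ p : PrimeSpectrum A, ∃ k q, PrimeSpectrum.comap (algebraMap A (B k)) q = p)
    (hB : ∀ k, Glue.TorInj R' f (B k)) : Glue.TorInj R' f A := by
  intro m ⟨n, hn⟩ h0
  have hk : ∀ k, algebraMap A (B k) m = 0 := fun k => by
    refine hB k _ ⟨n, ?_⟩ ?_
    · rw [← IsScalarTower.coe_toAlgHom' R A (B k), ← map_smul, hn, map_zero]
    · have := congrArg (Algebra.TensorProduct.map (AlgHom.id R R') (IsScalarTower.toAlgHom R A (B k))) h0
      rw [map_zero, Algebra.TensorProduct.map_tmul] at this
      exact this
  by_contra hm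
  have hI : (LinearMap.ker (LinearMap.mulRight A m) : Ideal A) ≠ ⊤ := fun h => hm (by
    have := (Ideal.eq_top_iff_one _).1 h
    simpa using this)
  obtain ⟨M, hM, hle⟩ := Ideal.exists_le_maximal _ hI
  obtain ⟨k, q, hq⟩ := hcov ⟨M, hM.isPrime⟩
  obtain ⟨a, ha, ha'⟩ := exists_ann (hk k) q
  rw [hq] at ha
  exact ha (hle ha')

end Groth.Agent.H13AlgSp.GlueLocal
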