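import Groth.Agent.H12AlgSp.RelDim
import Groth.Agent.H12AlgSp.NbhdLoci
import Groth.Agent.H13AlgSp.FibreSpaces
import Groth.Agent.H25Gor.Scheme
import Groth.Agent.H7Flat.CMFieldExt
import Groth.Agent.H17.Fibre
import Groth.Agent.H12AlgSp.RelDimApps
import Groth.Agent.S3625
import Groth.Agent.S3627
import Groth.Agent.S0342

/-!
The Gorenstein locus of a morphism of algebraic spaces.
-/

set_option backward.isDefEq.respectTransparency false

universe u

open CategoryTheory CategoryTheory.Limits AlgebraicGeometry Topology IsLocalRing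
open AlgSp Groth.Agent.H12AlgSp

namespace Groth.Agent.H13AlgSp

/-- All fibres are locally Noetherian. -/
abbrev NoethFib : MorphismProperty Scheme.{u} := fun _ V h => ∀ v : V, IsLocallyNoetherian (h.fiber v)

theorem isGorensteinAt_of_etale {W U : Scheme.{u}} (g : W ⟶ U) [Etale g] (w : W) :
    Dual3.IsGorensteinAt g w := by
  refine (H25Gor.isGorensteinAt_iff g w).2 ⟨Flat.stalkMap g w, ?_⟩
  letI := (g.stalkMap w).hom.toAlgebra
  haveI : IsLocalHom (algebraMap (U.presheaf.stalk (g w)) (W.presheaf.stalk w)) :=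
    inferInstanceAs (IsLocalHom (g.stalkMap w).hom)
  haveI : Algebra.EssFiniteType (U.presheaf.stalk (g w)) (W.presheaf.stalk w) :=
    LocallyOfFiniteType.stalkMap g w
  haveI : Algebra.FormallyUnramified (U.presheaf.stalk (g w)) (W.presheaf.stalk w) :=
    RingHom.formallyUnramified_algebraMap.mp (FormallyUnramified.stalkMap g w)
  rw [show (maximalIdeal (U.presheaf.stalk (g w))).map (g.stalkMap w).hom = maximalIdeal (W.presheaf.stalk w) from
    Algebra.FormallyUnramified.map_maximalIdeal (R := U.presheaf.stalk (g w))]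
  letI : Field (W.presheaf.stalk w ⧸ maximalIdeal (W.presheaf.stalk w)) := Ideal.Quotient.field _
  exact Groth.Agent.S0342.result _

theorem noethFib_of_lft {U V : Scheme.{u}} (f : U ⟶ V) [LocallyOfFiniteType f] : NoethFib f :=
  fun v => H17.isLocallyNoetherian_fiber f v

theorem noethFib_etale_precomp {W U V : Scheme.{u}} (g : W ⟶ U) (f : U ⟶ V) [LocallyOfFiniteType g]
    (hf : NoethFib f) : NoethFib (g ≫ f) := fun v => by
  have := hf v
  let π : (g ≫ f).fiber v ⟶ f.fiber v :=
    pullback.map (g ≫ f) (V.fromSpecResidueField v) f (V.fromSpecResidueField v) g (𝟙 _) (𝟙 _) (by simp) (by simp)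
  have hπ : IsPullback π ((g ≫ f).fiberι v) (f.fiberι v) g :=
    IsPullback.of_right (h₁₂ := f.fiberToSpecResidueField v) (v₁₃ := V.fromSpecResidueField v) (h₂₂ := f)
      (by
        rw [show π ≫ f.fiberToSpecResidueField v = (g ≫ f).fiberToSpecResidueField v from
          (pullback.lift_snd _ _ _).trans (Category.comp_id _)]
        exact (IsPullback.of_hasPullback (g ≫ f) (V.fromSpecResidueField v)).flip)
      (pullback.lift_fst _ _ _) (IsPullback.of_hasPullback f _).flip
  have : LocallyOfFiniteType π := MorphismProperty.of_isPullback hπ.flip ‹_›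
  exact LocallyOfFiniteType.isLocallyNoetherian π

theorem gorensteinAt_etale_precomp {W U V : Scheme.{u}} (g : W ⟶ U) (f : U ⟶ V) [Etale g]
    (hf : NoethFib f) (w : W) : Dual3.IsGorensteinAt (g ≫ f) w ↔ Dual3.IsGorensteinAt f (g w) := by
  obtain ⟨h1, h2⟩ := S3627.result _ _ _ g f (noethFib_of_lft g) hf (noethFib_etale_precomp g f hf) w
  exact ⟨fun h => (h2 h (Flat.stalkMap g w)).2, fun h => h1 (isGorensteinAt_of_etale g w) h⟩

theorem noethFib_etale_postcomp {U V V' : Scheme.{u}} (f : U ⟶ V) (g : V ⟶ V') [Etale g]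
    (hf : NoethFib (f ≫ g)) : NoethFib f := by
  obtain ⟨σ, hσ, hσ₁, hσ₂⟩ := exists_etale_graph f g
  rw [← hσ₂]
  exact noethFib_etale_precomp σ _
    (H7Flat.CMBC.isLocallyNoetherian_fibres_baseChange (IsPullback.of_hasPullback (f ≫ g) g) hf)

theorem gorensteinAt_etale_postcomp {U V V' : Scheme.{u}} (f : U ⟶ V) (g : V ⟶ V') [Etale g]
    (hfg : NoethFib (f ≫ g)) (u : U) : Dual3.IsGorensteinAt (f ≫ g) u ↔ Dual3.IsGorensteinAt f u := by
  have hf := noethFib_etale_postcomp f g hfg
  obtain ⟨h1, -⟩ := S3627.result _ _ _ f g hf (noethFib_of_lft g) hfg u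
  refine ⟨fun h => ?_, fun h => h1 h (isGorensteinAt_of_etale g _)⟩
  obtain ⟨σ, hσ, hσ₁, hσ₂⟩ := exists_etale_graph f g
  have hb := (S3625.result _ _ _ _ (f ≫ g) g _ _ (IsPullback.of_hasPullback (f ≫ g) g) hfg (σ u)).1
    (by rw [← Scheme.Hom.comp_apply, hσ₁]; exact h)
  have hsnd := H7Flat.CMBC.isLocallyNoetherian_fibres_baseChange (IsPullback.of_hasPullback (f ≫ g) g) hfg
  have := (S3627.result _ _ _ σ _ (noethFib_of_lft σ) hsnd (noethFib_etale_precomp σ _ hsnd) u).1
    (isGorensteinAt_of_etale σ u) hb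
  rwa [hσ₂] at this

variable {S : Scheme.{u}} {X Y : Sp S}

/-- The Gorenstein condition does not depend on the chart diagram. -/
theorem gorensteinAt_chart_iff {f : X ⟶ Y} (hf : LocP NoethFib f) {U V U' V' : Over S}
    {a : (yon S).obj U ⟶ X} {b : (yon S).obj V ⟶ Y} {a' : (yon S).obj U' ⟶ X} {b' : (yon S).obj V' ⟶ Y}
    {h : U ⟶ V} {h' : U' ⟶ V'}
    (ha : RepWith @Etale a) (hb : RepWith @Etale b) (ha' : RepWith @Etale a') (hb' : RepWith @Etale b')
    (w : a ≫ f = (yon S).map h ≫ b) (w' : a' ≫ f = (yon S).map h' ≫ b') {u : U.left} {u' : U'.left}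
    (e : Points.ofPt a u = Points.ofPt a' u') :
    Dual3.IsGorensteinAt h.left u ↔ Dual3.IsGorensteinAt h'.left u' := by
  obtain ⟨W, g, hW, sq⟩ := ha.rep a'
  obtain ⟨hW, rfl⟩ := (yon S).map_surjective hW
  obtain ⟨R, r₁, r₂, sqR⟩ := hb.rep b'
  obtain ⟨r₂, rfl⟩ := (yon S).map_surjective r₂
  have h₁ : Etale r₁.left := hb.property b' _ r₁ sqR
  have h₂ : Etale r₂.left := hb'.property b ((yon S).map r₁) r₂ sqR.flip
  have hg : Etale g.left := ha.property a' _ g sq
  have hk : Etale hW.left := ha'.property a ((yon S).map g) hW sq.flip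
  obtain ⟨p, hp₁, hp₂⟩ := exists_point_of_isPullback sq (Points.ofScheme U u) (Points.ofScheme U' u')
    (by rw [← Points.ofPt_eq_map_ofScheme, ← Points.ofPt_eq_map_ofScheme, e])
  obtain ⟨x, rfl⟩ : ∃ x : W.left, Points.ofScheme W x = p :=
    (Points.schemeHomeo W).surjective p
  obtain ⟨r₀, hr₀₁, hr₀₂⟩ := sqR.exists_lift ((yon S).map (hW ≫ h)) ((yon S).map (g ≫ h')) (by
    simp only [Functor.map_comp, Category.assoc, ← w, ← w']
    rw [← Category.assoc, sq.w, Category.assoc])
  obtain ⟨r, rfl⟩ := (yon S).map_surjective r₀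
  have e1 : r ≫ r₂ = hW ≫ h := (yon S).map_injective (by rw [Functor.map_comp, hr₀₁])
  have e2 : r ≫ r₁ = g ≫ h' := (yon S).map_injective (by rw [Functor.map_comp, hr₀₂])
  have hPh : NoethFib h.left := hf a b h ha hb w
  have hPh' : NoethFib h'.left := hf a' b' h' ha' hb' w'
  have hux : hW.left x = u := by
    have := hp₁
    rw [← Points.ofPt_eq_map_ofScheme, ← Category.comp_id ((yon S).map hW), ofPt_map] at this
    exact (Points.schemeHomeo U).injective this
  have hu'x : g.left x = u' := by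
    have := hp₂
    rw [← Points.ofPt_eq_map_ofScheme, ← Category.comp_id ((yon S).map g), ofPt_map] at this
    exact (Points.schemeHomeo U').injective this
  have hc₁ : NoethFib (r.left ≫ r₂.left) := by
    rw [← Over.comp_left, e1, Over.comp_left]; exact noethFib_etale_precomp hW.left h.left hPh
  have hc₂ : NoethFib (r.left ≫ r₁.left) := by
    rw [← Over.comp_left, e2, Over.comp_left]; exact noethFib_etale_precomp g.left h'.left hPh'
  rw [← hux, ← hu'x, ← gorensteinAt_etale_precomp hW.left h.left hPh x,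
    ← gorensteinAt_etale_precomp g.left h'.left hPh' x, ← Over.comp_left, ← Over.comp_left, ← e1, ← e2,
    Over.comp_left, Over.comp_left, gorensteinAt_etale_postcomp r.left r₂.left hc₁ x,
    gorensteinAt_etale_postcomp r.left r₁.left hc₂ x]

theorem locP_noethFib (hX : IsAlgSpace X) (hY : IsAlgSpace Y) {f : X ⟶ Y}
    (hf : ∀ (k : FieldPt Y) (Xk : Sp S) (a : Xk ⟶ X) (b : Xk ⟶ (yon S).obj k.pt),
      IsPullback a b f k.toHom → IsLocNoethSp Xk) : LocP NoethFib f := by
  intro U T a b h ha hb w v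
  have sqT := IsPullback.of_hasPullback f b
  let k := FieldPt.ofPt b v
  let Z : Over S := k.pt
  obtain ⟨i, hi, hki⟩ : ∃ i : Z ⟶ T, i.left = T.left.fromSpecResidueField v ∧ k.toHom = (yon S).map i ≫ b :=
    ⟨_, rfl, FieldPt.toHom_ofPt b v⟩
  let F : Over S := pullback h i
  have sqF := (IsPullback.of_hasPullback h i).map (yon S)
  let Xk := pullback f k.toHom
  have hXk : IsAlgSpace Xk := isAlgSpace_pullback hY.diag hX (IsAlgSpace.yon_obj Z) _ _
  let l := sqT.lift a ((yon S).map h) w
  have hT := isAlgSpace_pullback hY.diag hX (IsAlgSpace.yon_obj T) f b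
  have hl : RepWith @Etale l := repWith_of_locP etLocal_etale hT (hT.representable_from_yon l)
    (locP_of_postcomp (g := pullback.fst f b) etLocal_etale
      (fun _ _ _ f g (h : Etale (f ≫ g)) (_ : Etale g) => Etale.of_comp f g) hX
      (by rw [sqT.lift_fst]; exact locP_of_repWith etLocal_etale ha)
      (locP_of_repWith etLocal_etale (repWith_of_isPullback sqT.flip hb)))
  obtain ⟨m, hm⟩ : ∃ m : Xk ⟶ pullback f b, m = sqT.lift (pullback.fst f k.toHom)
      (pullback.snd f k.toHom ≫ (yon S).map i) (by rw [Category.assoc, ← hki]; exact pullback.condition) :=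
    ⟨_, rfl⟩
  have sqm : IsPullback m (pullback.snd f k.toHom) (pullback.snd f b) ((yon S).map i) := by
    refine IsPullback.of_right ?_ (hm ▸ sqT.lift_snd _ _ _) sqT
    rw [hm, sqT.lift_fst, ← hki]
    exact IsPullback.of_hasPullback _ _
  obtain ⟨χ, hχ₁, hχ₂⟩ := sqm.exists_lift ((yon S).map (pullback.fst h i) ≫ l) ((yon S).map (pullback.snd h i))
    (by rw [Category.assoc, sqT.lift_snd]; exact sqF.w)
  have sqχ : IsPullback ((yon S).map (pullback.fst h i)) χ l m := by
    refine IsPullback.of_bot ?_ hχ₁.symm sqm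
    rw [hχ₂, sqT.lift_snd]
    exact sqF
  have hn := isLocallyNoetherian_chart hXk (hf k Xk _ _ (IsPullback.of_hasPullback f k.toHom))
    (repWith_of_isPullback sqχ hl)
  have sq' : IsPullback (pullback.fst h i).left (pullback.snd h i).left h.left (T.left.fromSpecResidueField v) := by
    rw [← hi]
    exact (IsPullback.of_hasPullback h i).map (Over.forget S)
  exact isLocallyNoetherian_of_isOpenImmersion sq'.isoPullback.inv

theorem gorAt_iff (hX : IsAlgSpace X) (hY : IsAlgSpace Y) {f : X ⟶ Y} (hf : LocP NoethFib f)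
    {U V : Over S} {a : (yon S).obj U ⟶ X} {b : (yon S).obj V ⟶ Y} {h : U ⟶ V}
    (ha : RepWith @Etale a) (hb : RepWith @Etale b) (w : a ≫ f = (yon S).map h ≫ b) (u : U.left) :
    LocPAt (fun h u => Dual3.IsGorensteinAt h u) f (Points.ofPt a u) ↔ Dual3.IsGorensteinAt h.left u :=
  ⟨fun H => H a b h u ha hb w rfl, fun hu _ _ a' b' h' u' ha' hb' w' e =>
    (gorensteinAt_chart_iff hf ha hb ha' hb' w w' e.symm).1 hu⟩

/-- A chart diagram of a base change through a given point, over a chart diagram of the original map. -/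
theorem exists_baseChange_chart_lft_at {X Y Y' X' : Sp S} {f : X ⟶ Y} {g : Y' ⟶ Y} {fst : X' ⟶ X}
    {f' : X' ⟶ Y'} (sq : IsPullback fst f' f g) (hX : IsAlgSpace X) (hY : IsAlgSpace Y)
    (hY' : IsAlgSpace Y') (x' : Points X') :
    ∃ (U V O T : Over S) (a : (yon S).obj U ⟶ X) (b : (yon S).obj V ⟶ Y) (h : U ⟶ V)
      (a' : (yon S).obj O ⟶ X') (b' : (yon S).obj T ⟶ Y') (m : O ⟶ U) (h' : O ⟶ T) (k : T ⟶ V)
      (o : O.left),
      RepWith @Etale a ∧ RepWith @Etale b ∧ a ≫ f = (yon S).map h ≫ b ∧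
        RepWith @Etale a' ∧ RepWith @Etale b' ∧ a' ≫ f' = (yon S).map h' ≫ b' ∧
        IsPullback m.left h'.left h.left k.left ∧ Points.ofPt a' o = x' ∧
        Points.ofPt a (m.left o) = Points.map fst x' ∧ b' ≫ g = (yon S).map k ≫ b := by
  obtain ⟨V, q, hq, hqs⟩ := hY.atlas
  obtain ⟨U, p, hp, hps⟩ := (isAlgSpace_pullback hY.diag hX (IsAlgSpace.yon_obj V) f q).atlas
  obtain ⟨h, hh⟩ := (yon S).map_surjective (p ≫ pullback.snd f q)
  obtain ⟨V₀, b₀, hb₀, hb₀s⟩ := hY'.atlas
  obtain ⟨T, t, k, sqT⟩ := hq.rep (b₀ ≫ g)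
  obtain ⟨k, rfl⟩ := (yon S).map_surjective k
  obtain ⟨b, hbdef⟩ : ∃ b : (yon S).obj T ⟶ Y', b = (yon S).map t ≫ b₀ := ⟨_, rfl⟩
  have hb : RepWith @Etale b := hbdef ▸
    repWith_comp ((repWith_yon_map_iff _ _).2 (hq.property _ _ t sqT)) hb₀
  have hbs : RepWith @Surjective b := hbdef ▸
    repWith_comp ((repWith_yon_map_iff _ _).2 (hqs.property _ _ t sqT)) hb₀s
  have hkb : (yon S).map k ≫ q = b ≫ g := by simpa [hbdef] using sqT.w
  let n : pullback f' b ⟶ pullback f q :=
    pullback.lift (pullback.fst f' b ≫ fst) (pullback.snd f' b ≫ (yon S).map k) (by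
      rw [Category.assoc, sq.w, pullback.condition_assoc, Category.assoc, hkb])
  have hn : IsPullback n (pullback.snd f' b) (pullback.snd f q) ((yon S).map k) := by
    refine IsPullback.of_right ?_ (pullback.lift_snd _ _ _) (IsPullback.of_hasPullback f q)
    have := (IsPullback.of_hasPullback f' b).paste_horiz sq
    rw [← hkb] at this
    rwa [show n ≫ pullback.fst f q = pullback.fst f' b ≫ fst from pullback.lift_fst _ _ _]
  have sqO : IsPullback (pullback.fst h k) (pullback.snd h k) h k := IsPullback.of_hasPullback h k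
  have sqY := sqO.map (yon S)
  obtain ⟨m, hm₁, hm₂⟩ := hn.exists_lift ((yon S).map (pullback.fst h k) ≫ p)
    ((yon S).map (pullback.snd h k)) (by rw [Category.assoc, ← hh]; exact sqY.w)
  have sqm : IsPullback ((yon S).map (pullback.fst h k)) m p n := by
    refine IsPullback.of_bot ?_ hm₁.symm hn
    rw [hm₂, ← hh]
    exact sqY
  obtain ⟨o, ho⟩ := surjective_ofPt_of_repWith le_rfl (repWith_comp (repWith_of_isPullback sqm hps)
    (repWith_of_isPullback (IsPullback.of_hasPullback f' b).flip hbs)) x'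
  refine ⟨U, V, pullback h k, T, p ≫ pullback.fst f q, q, h, m ≫ pullback.fst f' b, b,
    pullback.fst h k, pullback.snd h k, k, o,
    repWith_comp hp (repWith_of_isPullback (IsPullback.of_hasPullback f q).flip hq), hq, ?_,
    repWith_comp (repWith_of_isPullback sqm hp)
      (repWith_of_isPullback (IsPullback.of_hasPullback f' b).flip hb), hb, ?_,
    sqO.map (Over.forget S), ho, ?_, hkb.symm⟩
  · rw [hh, Category.assoc, Category.assoc, pullback.condition]
  · rw [Category.assoc, pullback.condition, ← Category.assoc, hm₂]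
  · rw [← ho, Points.map_ofPt, ← ofPt_map]
    congr 1
    rw [Category.assoc, ← Category.assoc, ← hm₁, Category.assoc]
    exact congrArg (m ≫ ·) (pullback.lift_fst _ _ _)

end Groth.Agent.H13AlgSp
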