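import Groth.Agent.H25Gor.Scheme
import Groth.Agent.H9Hens.BranchSum
import Groth.Agent.H1CAlg.IndEtale
import Groth.Agent.H8Props.FlatDiagonal
import Groth.Agent.S12237
import Groth.Agent.S0538
import Groth.Agent.S0539
import Groth.Agent.S0540
import Groth.Agent.H06Desc.FlatAlg
import Groth.Agent.S0342

/-!
Flatness and the Gorenstein condition on the closed fibre pass to strict henselizations.
-/

universe u

open IsLocalRing

namespace Groth.Agent.H13AlgSp

theorem gor_hensel_iff {A B A' B' : Type u} [CommRing A] [IsLocalRing A] [CommRing B] [IsLocalRing B]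
    (θ : A →+* B) [IsLocalHom θ] [CommRing A'] [IsLocalRing A'] [Algebra A A'] [IsLocalHom (algebraMap A A')]
    [Hensel.IsStrictHenselization A A']
    [CommRing B'] [IsLocalRing B'] [Algebra B B'] [IsLocalHom (algebraMap B B')] [Hensel.IsStrictHenselization B B']
    (φ : A' →+* B') (hφ : φ.comp (algebraMap A A') = (algebraMap B B').comp θ)
    (hN : IsNoetherianRing (B ⧸ (maximalIdeal A).map θ)) :
    (θ.Flat ∧ LocCoh.IsGorensteinLocalRing (B ⧸ (maximalIdeal A).map θ)) ↔
      (φ.Flat ∧ LocCoh.IsGorensteinLocalRing (B' ⧸ (maximalIdeal A').map φ)) := by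
  have hA := S0539.result A A'
  have hB := S0539.result B B'
  have hfA : (algebraMap A A').Flat := RingHom.flat_algebraMap_iff.mpr inferInstance
  have hfB : (algebraMap B B').Flat := RingHom.flat_algebraMap_iff.mpr inferInstance
  have key : (maximalIdeal A').map φ = ((maximalIdeal A).map θ).map (algebraMap B B') := by
    rw [← S0538.result A A', Ideal.map_map, Ideal.map_map, hφ]
  have hflat : θ.Flat ↔ φ.Flat := by
    constructor
    · intro h
      letI := φ.toAlgebra
      letI := (φ.comp (algebraMap A A')).toAlgebra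
      haveI : IsScalarTower A A' B' := .of_algebraMap_eq' rfl
      haveI : Module.Flat A B' := by
        rw [← RingHom.flat_algebraMap_iff, RingHom.algebraMap_toAlgebra, hφ]
        exact h.comp hfB
      have := H1CAlg.IndEtale.weaklyEtale_of_isIndEtale (S12237.result A A')
      exact H8Props.FlatDiagonal.flat_of_flat_mul A A' (Algebra.WeaklyEtale.flat_lmul' A A') B'
    · intro h
      have h2 : ((algebraMap B B').comp θ).Flat := hφ ▸ hfA.comp h
      letI := θ.toAlgebra
      letI := ((algebraMap B B').comp θ).toAlgebra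
      haveI : IsScalarTower A B B' := .of_algebraMap_eq' rfl
      haveI : Module.Flat A B' := h2
      exact H06Desc.flat_of_faithfullyFlat_top (R := A) (S := B) (T := B')
  refine and_congr hflat ?_
  have hne : (maximalIdeal A).map θ ≠ ⊤ := fun e =>
    (maximalIdeal.isMaximal B).ne_top (top_le_iff.1 (e ▸ ((local_hom_TFAE θ).out 0 2).1 ‹IsLocalHom θ›))
  let I := (maximalIdeal A).map θ
  have hne' : I.map (algebraMap B B') ≠ ⊤ := fun e =>
    (maximalIdeal.isMaximal B').ne_top (top_le_iff.1 (e ▸ H9Hens.map_le_maximalIdeal I hne))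
  haveI : IsLocalRing (B ⧸ I) := H9Hens.isLocalRing_quotient hne
  haveI : IsLocalRing (B' ⧸ I.map (algebraMap B B')) := H9Hens.isLocalRing_quotient hne'
  haveI : IsLocalHom (algebraMap (B ⧸ I) (B' ⧸ I.map (algebraMap B B'))) := H9Hens.isLocalHom_quotient I
  haveI := H9Hens.isStrictHenselization_quotient (A := B) (S := B') I
  haveI := (S0540.result (B ⧸ I) (B' ⧸ I.map (algebraMap B B'))).1 hN
  haveI := S0539.result (B ⧸ I) (B' ⧸ I.map (algebraMap B B'))
  haveI : IsNoetherianRing (B ⧸ I) := hN
  have hm := S0538.result (B ⧸ I) (B' ⧸ I.map (algebraMap B B'))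
  have hg : LocCoh.IsGorensteinLocalRing ((B' ⧸ I.map (algebraMap B B')) ⧸
      (maximalIdeal (B ⧸ I)).map (algebraMap (B ⧸ I) (B' ⧸ I.map (algebraMap B B')))) := by
    rw [hm]
    letI := Ideal.Quotient.field (maximalIdeal (B' ⧸ I.map (algebraMap B B')))
    exact S0342.result _
  rw [key]
  exact ⟨fun h => (H02CA.GorFlat.gor_iff_of_flat_local (B ⧸ I) _).mpr ⟨h, hg⟩,
    fun h => ((H02CA.GorFlat.gor_iff_of_flat_local (B ⧸ I) _).mp h).1⟩

end Groth.Agent.H13AlgSp
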