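import Groth.Agent.H13AlgSp.LargestOpen
import Groth.Prelude.Def_AlgSpGpd

/-!
Largest opens of properties local on the base are invariant under groupoids.
-/

universe u

open CategoryTheory CategoryTheory.Limits AlgebraicGeometry Opposite
open AlgSp Groth.Agent.H12AlgSp

namespace Groth.Agent.H13AlgSp

variable {S : Scheme.{u}} {P Q : MorphismProperty (Sp S)}

theorem respects_of_localOnBase (hQ : CovClass Q)
    (hP : IsLocalOnBase (fun _ _ Yi g => IsCover Q Yi g : CovNotion S) P) {X X' Y : Sp S} (hX : IsAlgSpace X)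
    (hX' : IsAlgSpace X') (hY : IsAlgSpace Y) {f : X ⟶ Y} {f' : X' ⟶ Y} (e : X' ⟶ X) [IsIso e] (h : e ≫ f = f') :
    P f ↔ P f' :=
  (hP (fun _ : PUnit.{u + 1} => Y) (fun _ => 𝟙 Y) hY (fun _ => hY)
    ⟨fun _ => hQ.openImm hY hY _ (repWith_of_isIso _), fun y => ⟨⟨⟩, y, Points.map_id y⟩⟩ f hX
    (fun _ => X') (fun _ => f') (fun _ => e) (fun _ => hX')
    fun _ => IsPullback.of_horiz_isIso ⟨by rw [Category.comp_id, h]⟩).trans
    ⟨fun h => h ⟨⟩, fun h _ => h⟩

theorem isInvariant_of_iso {B : Sp S} (hB : IsAlgSpace B) (G : GroupoidSp B) (hU : IsAlgSpace G.U)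
    (hR : IsAlgSpace G.R) (hQ : CovClass Q)
    (hP : IsLocalOnBase (fun _ _ Yi g => IsCover Q Yi g : CovNotion S) P) (hs : Q G.s) (ht : Q G.t)
    {W : Sp S} (hW : IsAlgSpace W) (w : W ⟶ G.U) (hw : RepWith @IsOpenImmersion w) {X : Sp S}
    (hX : IsAlgSpace X) (f : X ⟶ G.U)
    (hmax : ∀ (W' : Sp S) (w' : W' ⟶ G.U), IsAlgSpace W' → RepWith @IsOpenImmersion w' →
      (P (pullback.snd f w') ↔ ∃ k : W' ⟶ W, k ≫ w = w'))
    (θ : pullback f G.t ≅ pullback f G.s) (hθ : θ.hom ≫ pullback.snd f G.s = pullback.snd f G.t) :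
    G.IsInvariant w := by
  obtain ⟨W₁, h1, h2, -, h4⟩ := exists_largest_open f hQ hP hX hU
  have hwo : IsOpen (Set.range (Points.map w)) := isOpen_range_of_univOpen hU
    (isUnivOpenMor_of_flat_lfp hW hU
      (locP_of_repWith etLocal_flat (repWith_le (fun _ _ g (_ : IsOpenImmersion g) => inferInstanceAs (Flat g)) hw))
      (locP_of_repWith etLocal_lfp (repWith_le (fun _ _ g (_ : IsOpenImmersion g) =>
        inferInstanceAs (LocallyOfFinitePresentation g)) hw)))
  have hWW : (W₁ : Set (Points G.U)) = Set.range (Points.map w) := by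
    apply Set.Subset.antisymm
    · obtain ⟨V₀, j, hV₀, hj, hjr⟩ := exists_open_subspace hU W₁.2
      have hXV := isAlgSpace_pullback hU.diag hX hV₀ f j
      obtain ⟨k, hk⟩ := (hmax V₀ j hV₀ hj).1 (h1 _ _ j _ _ hV₀ hXV hj hjr (IsPullback.of_hasPullback f j))
      intro y hy
      obtain ⟨v, rfl⟩ := hjr.ge hy
      exact ⟨Points.map k v, by rw [← Points.map_comp, hk]⟩
    · refine h2 ⟨_, hwo⟩ fun W₀ X₀ j₀ j₀' f₀ hW₀ hX₀ hj₀ hr₀ sq₀ => ?_
      obtain ⟨k, hk⟩ := exists_factor_open hw j₀ hr₀.le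
      exact (respects_of_localOnBase hQ hP (isAlgSpace_pullback hU.diag hX hW₀ f j₀) hX₀ hW₀
        sq₀.isoPullback.hom sq₀.isoPullback_hom_snd).1 ((hmax W₀ j₀ hW₀ hj₀).2 ⟨k, hk⟩)
  have hXR := isAlgSpace_pullback hU.diag hX hR f G.s
  have sqt : IsPullback (θ.inv ≫ pullback.fst f G.t) (pullback.snd f G.s) f G.t :=
    (IsPullback.of_hasPullback f G.t).of_iso θ (Iso.refl _) (Iso.refl _) (Iso.refl _)
      (by simp) (by simp [hθ]) (by simp) (by simp)
  obtain ⟨V, hV, hVmax, -, -⟩ := exists_largest_open (pullback.snd f G.s) hQ hP hXR hR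
  have e₁ := h4 _ _ G.s _ _ hR hXR hs (IsPullback.of_hasPullback f G.s) V hV hVmax
  have e₂ := h4 _ _ G.t _ _ hR hXR ht sqt V hV hVmax
  rw [hWW] at e₁ e₂
  intro T r
  have key : ∀ {p : G.R ⟶ G.U}, (∃ a, a ≫ w = r ≫ p) ↔
      Set.range (Points.map r) ⊆ Points.map p ⁻¹' Set.range (Points.map w) := fun {p} => by
    constructor
    · rintro ⟨a, ha⟩ _ ⟨z, rfl⟩
      exact ⟨Points.map a z, by rw [← Points.map_comp, ha, Points.map_comp]⟩
    · intro h
      exact exists_factor_open hw _ (by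
        rintro _ ⟨z, rfl⟩
        rw [Points.map_comp]
        exact h ⟨z, rfl⟩)
  rw [key, key, ← e₂, e₁]

section Conj

variable {B : Sp S} (G : GroupoidSp B)

/-- Composition of arrows. -/
noncomputable def gcomp {T : Sp S} (α β : T ⟶ G.R) (h : α ≫ G.s = β ≫ G.t) : T ⟶ G.R :=
  pullback.lift α β h ≫ G.c

theorem gcomp_s {T : Sp S} (α β : T ⟶ G.R) (h : α ≫ G.s = β ≫ G.t) : gcomp G α β h ≫ G.s = β ≫ G.s :=
  G.comp_s α β h

theorem gcomp_t {T : Sp S} (α β : T ⟶ G.R) (h : α ≫ G.s = β ≫ G.t) : gcomp G α β h ≫ G.t = α ≫ G.t :=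
  G.comp_t α β h

theorem comp_gcomp {T T' : Sp S} (k : T' ⟶ T) (α β : T ⟶ G.R) (h : α ≫ G.s = β ≫ G.t) :
    k ≫ gcomp G α β h = gcomp G (k ≫ α) (k ≫ β) (by rw [Category.assoc, h, Category.assoc]) := by
  rw [gcomp, gcomp, ← Category.assoc]
  congr 1
  apply pullback.hom_ext <;> simp [Limits.pullback.lift_fst, Limits.pullback.lift_snd]

theorem gcomp_congr {T : Sp S} {α α' β β' : T ⟶ G.R} (ha : α = α') (hb : β = β') (h : α ≫ G.s = β ≫ G.t) :
    gcomp G α β h = gcomp G α' β' (ha ▸ hb ▸ h) := by subst ha; subst hb; rfl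

theorem gcomp_inv_right {T : Sp S} (α β : T ⟶ G.R) (h : α ≫ G.s = β ≫ G.t) :
    gcomp G (gcomp G α β h) (β ≫ G.i) (by rw [gcomp_s, Category.assoc, G.i_t]) = α :=
  (G.assoc α β (β ≫ G.i) h (by rw [Category.assoc, G.i_t])).trans
    ((gcomp_congr G rfl (G.comp_i β) (h.trans (G.comp_t β (β ≫ G.i) _).symm)).trans
      ((gcomp_congr G rfl (show β ≫ G.t ≫ G.e = α ≫ G.s ≫ G.e by rw [← Category.assoc, ← h, Category.assoc]) _).trans
        (G.comp_e α)))

theorem gcomp_inv_right' {T : Sp S} (α β : T ⟶ G.R) (h : α ≫ G.s = β ≫ G.s) :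
    gcomp G (gcomp G α (β ≫ G.i) (by rw [Category.assoc, G.i_t, h])) β (by rw [gcomp_s, Category.assoc, G.i_s]) = α :=
  (G.assoc α (β ≫ G.i) β _ (by rw [Category.assoc, G.i_s])).trans
    ((gcomp_congr G rfl (G.i_comp β) _).trans
      ((gcomp_congr G rfl (show β ≫ G.s ≫ G.e = α ≫ G.s ≫ G.e by rw [← Category.assoc, ← h, Category.assoc]) _).trans
        (G.comp_e α)))

theorem gcomp_inv_left {T : Sp S} (α β : T ⟶ G.R) (h : α ≫ G.s = β ≫ G.t) :
    gcomp G (α ≫ G.i) (gcomp G α β h) (by rw [gcomp_t, Category.assoc, G.i_s]) = β :=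
  (G.assoc (α ≫ G.i) α β (by rw [Category.assoc, G.i_s]) h).symm.trans
    ((gcomp_congr G (G.i_comp α) rfl _).trans
      ((gcomp_congr G (show α ≫ G.s ≫ G.e = β ≫ G.t ≫ G.e by rw [← Category.assoc, h, Category.assoc]) rfl _).trans
        (G.e_comp β)))

theorem gcomp_inv_left' {T : Sp S} (α β : T ⟶ G.R) (h : α ≫ G.t = β ≫ G.t) :
    gcomp G α (gcomp G (α ≫ G.i) β (by rw [Category.assoc, G.i_s, h])) (by rw [gcomp_t, Category.assoc, G.i_t]) = β :=
  (G.assoc α (α ≫ G.i) β (by rw [Category.assoc, G.i_t]) _).symm.trans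
    ((gcomp_congr G (G.comp_i α) rfl _).trans
      ((gcomp_congr G (show α ≫ G.t ≫ G.e = β ≫ G.t ≫ G.e by rw [← Category.assoc, h, Category.assoc]) rfl _).trans
        (G.e_comp β)))

/-- Composing with the second arrow. -/
noncomputable def pairIso : pullback G.s G.t ≅ pullback G.s G.s where
  hom := pullback.lift (gcomp G (pullback.fst G.s G.t) (pullback.snd G.s G.t) pullback.condition)
    (pullback.snd G.s G.t) (gcomp_s G _ _ _)
  inv := pullback.lift (gcomp G (pullback.fst G.s G.s) (pullback.snd G.s G.s ≫ G.i)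
      (by rw [Category.assoc, G.i_t, pullback.condition])) (pullback.snd G.s G.s)
    (by rw [gcomp_s, Category.assoc, G.i_s])
  hom_inv_id := by
    apply pullback.hom_ext
    · rw [Category.assoc, pullback.lift_fst, comp_gcomp, Category.id_comp,
        gcomp_congr G (pullback.lift_fst _ _ _) (show _ = pullback.snd G.s G.t ≫ G.i by
          rw [← Category.assoc, pullback.lift_snd])]
      exact gcomp_inv_right G _ _ pullback.condition
    · simp [Limits.pullback.lift_snd]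
  inv_hom_id := by
    apply pullback.hom_ext
    · rw [Category.assoc, pullback.lift_fst, comp_gcomp, Category.id_comp,
        gcomp_congr G (pullback.lift_fst _ _ _) (pullback.lift_snd _ _ _)]
      exact gcomp_inv_right' G _ _ pullback.condition
    · simp [Limits.pullback.lift_snd]

theorem stabι_s : G.stabilizerι ≫ G.s = G.stabilizerToU := by
  have h := pullback.condition (f := G.j) (g := G.diag) =≫ pullback.snd G.pU G.pU
  rw [Category.assoc, Category.assoc, G.j_snd, GroupoidSp.diag, pullback.lift_snd, Category.comp_id] at h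
  exact h

theorem stabι_t : G.stabilizerι ≫ G.t = G.stabilizerToU := by
  have h := pullback.condition (f := G.j) (g := G.diag) =≫ pullback.fst G.pU G.pU
  rw [Category.assoc, Category.assoc, G.j_fst, GroupoidSp.diag, pullback.lift_fst, Category.comp_id] at h
  exact h

/-- A loop as a point of the stabilizer. -/
noncomputable def toStab {T : Sp S} (γ : T ⟶ G.R) (h : γ ≫ G.t = γ ≫ G.s) : T ⟶ G.stabilizer :=
  pullback.lift γ (γ ≫ G.s) (by
    apply pullback.hom_ext
    · simp [GroupoidSp.diag, h, Limits.pullback.lift_fst]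
    · simp [GroupoidSp.diag, Limits.pullback.lift_snd])

@[reassoc] theorem toStab_ι {T : Sp S} (γ : T ⟶ G.R) (h : γ ≫ G.t = γ ≫ G.s) : toStab G γ h ≫ G.stabilizerι = γ :=
  pullback.lift_fst _ _ _

theorem toStab_toU {T : Sp S} (γ : T ⟶ G.R) (h : γ ≫ G.t = γ ≫ G.s) :
    toStab G γ h ≫ G.stabilizerToU = γ ≫ G.s :=
  pullback.lift_snd _ _ _

theorem stab_hom_ext {T : Sp S} {a b : T ⟶ G.stabilizer} (h : a ≫ G.stabilizerι = b ≫ G.stabilizerι) : a = b :=
  pullback.hom_ext h (by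
    change a ≫ G.stabilizerToU = b ≫ G.stabilizerToU
    rw [← stabι_s, ← Category.assoc, h, Category.assoc])

/-- The conjugate of a loop by an arrow. -/
noncomputable def conjR {T : Sp S} (γ β : T ⟶ G.R) (h : γ ≫ G.s = β ≫ G.t) (l : γ ≫ G.t = γ ≫ G.s) : T ⟶ G.R :=
  gcomp G (β ≫ G.i) (gcomp G γ β h) (by rw [gcomp_t, Category.assoc, G.i_s, l, h])

theorem conjR_s {T : Sp S} (γ β : T ⟶ G.R) (h : γ ≫ G.s = β ≫ G.t) (l : γ ≫ G.t = γ ≫ G.s) :
    conjR G γ β h l ≫ G.s = β ≫ G.s := by rw [conjR, gcomp_s, gcomp_s]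

theorem conjR_t {T : Sp S} (γ β : T ⟶ G.R) (h : γ ≫ G.s = β ≫ G.t) (l : γ ≫ G.t = γ ≫ G.s) :
    conjR G γ β h l ≫ G.t = β ≫ G.s := by rw [conjR, gcomp_t, Category.assoc, G.i_t]

/-- The conjugate of a loop at the source of an arrow. -/
noncomputable def conjL {T : Sp S} (δ β : T ⟶ G.R) (h : δ ≫ G.s = β ≫ G.s) (l : δ ≫ G.t = δ ≫ G.s) : T ⟶ G.R :=
  gcomp G β (gcomp G δ (β ≫ G.i) (by rw [Category.assoc, G.i_t, h])) (by rw [gcomp_t, l, h])

theorem conjL_s {T : Sp S} (δ β : T ⟶ G.R) (h : δ ≫ G.s = β ≫ G.s) (l : δ ≫ G.t = δ ≫ G.s) :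
    conjL G δ β h l ≫ G.s = β ≫ G.t := by rw [conjL, gcomp_s, gcomp_s, Category.assoc, G.i_s]

theorem conjL_t {T : Sp S} (δ β : T ⟶ G.R) (h : δ ≫ G.s = β ≫ G.s) (l : δ ≫ G.t = δ ≫ G.s) :
    conjL G δ β h l ≫ G.t = β ≫ G.t := by rw [conjL, gcomp_t]

theorem comp_conjR {T T' : Sp S} (k : T' ⟶ T) (γ β : T ⟶ G.R) (h : γ ≫ G.s = β ≫ G.t) (l : γ ≫ G.t = γ ≫ G.s) :
    k ≫ conjR G γ β h l = conjR G (k ≫ γ) (k ≫ β) (by rw [Category.assoc, h, Category.assoc])
      (by rw [Category.assoc, l, Category.assoc]) := by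
  rw [conjR, comp_gcomp]
  exact gcomp_congr G (Category.assoc _ _ _).symm (comp_gcomp G k γ β h) _

theorem comp_conjL {T T' : Sp S} (k : T' ⟶ T) (δ β : T ⟶ G.R) (h : δ ≫ G.s = β ≫ G.s) (l : δ ≫ G.t = δ ≫ G.s) :
    k ≫ conjL G δ β h l = conjL G (k ≫ δ) (k ≫ β) (by rw [Category.assoc, h, Category.assoc])
      (by rw [Category.assoc, l, Category.assoc]) := by
  rw [conjL, comp_gcomp]
  exact gcomp_congr G rfl ((comp_gcomp G k δ (β ≫ G.i) _).trans
    (gcomp_congr G rfl (Category.assoc _ _ _).symm _)) _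

theorem conjL_conjR {T : Sp S} (γ β : T ⟶ G.R) (h : γ ≫ G.s = β ≫ G.t) (l : γ ≫ G.t = γ ≫ G.s) :
    conjL G (conjR G γ β h l) β (conjR_s G γ β h l) ((conjR_t G γ β h l).trans (conjR_s G γ β h l).symm) = γ := by
  refine (gcomp_congr G rfl ((G.assoc (β ≫ G.i) (gcomp G γ β h) (β ≫ G.i)
    (by rw [gcomp_t, Category.assoc, G.i_s, l, h]) (by rw [gcomp_s, Category.assoc, G.i_t])).trans
      (gcomp_congr G rfl (gcomp_inv_right G γ β h) _)) _).trans ?_
  exact gcomp_inv_left' G β γ (by rw [l, h])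

theorem conjR_conjL {T : Sp S} (δ β : T ⟶ G.R) (h : δ ≫ G.s = β ≫ G.s) (l : δ ≫ G.t = δ ≫ G.s) :
    conjR G (conjL G δ β h l) β (conjL_s G δ β h l) ((conjL_t G δ β h l).trans (conjL_s G δ β h l).symm) = δ := by
  refine (gcomp_congr G rfl ((G.assoc β (gcomp G δ (β ≫ G.i) (by rw [Category.assoc, G.i_t, h])) β
    (by rw [gcomp_t, l, h]) (by rw [gcomp_s, Category.assoc, G.i_s])).trans
      (gcomp_congr G rfl (gcomp_inv_right' G δ β h) _)) _).trans ?_
  exact gcomp_inv_left G β δ (by rw [l, h])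

theorem conjR_congr {T : Sp S} {γ γ' β β' : T ⟶ G.R} (ha : γ = γ') (hb : β = β') (h : γ ≫ G.s = β ≫ G.t)
    (l : γ ≫ G.t = γ ≫ G.s) : conjR G γ β h l = conjR G γ' β' (ha ▸ hb ▸ h) (ha ▸ l) := by
  subst ha; subst hb; rfl

theorem conjL_congr {T : Sp S} {γ γ' β β' : T ⟶ G.R} (ha : γ = γ') (hb : β = β') (h : γ ≫ G.s = β ≫ G.s)
    (l : γ ≫ G.t = γ ≫ G.s) : conjL G γ β h l = conjL G γ' β' (ha ▸ hb ▸ h) (ha ▸ l) := by
  subst ha; subst hb; rfl

theorem hom_ext_stab {T : Sp S} {p : G.R ⟶ G.U} {a b : T ⟶ pullback G.stabilizerToU p}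
    (h₁ : a ≫ pullback.fst G.stabilizerToU p ≫ G.stabilizerι = b ≫ pullback.fst G.stabilizerToU p ≫ G.stabilizerι)
    (h₂ : a ≫ pullback.snd G.stabilizerToU p = b ≫ pullback.snd G.stabilizerToU p) : a = b :=
  pullback.hom_ext (stab_hom_ext G (by simpa only [Category.assoc] using h₁)) h₂

/-- The loop underlying a point of a base change of the stabilizer. -/
noncomputable def loop (p : G.R ⟶ G.U) : pullback G.stabilizerToU p ⟶ G.R :=
  pullback.fst G.stabilizerToU p ≫ G.stabilizerι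

theorem loop_t_eq (p : G.R ⟶ G.U) : loop G p ≫ G.t = loop G p ≫ G.s := by
  rw [loop, Category.assoc, Category.assoc, stabι_t, stabι_s]

theorem loop_s (p : G.R ⟶ G.U) : loop G p ≫ G.s = pullback.snd G.stabilizerToU p ≫ p := by
  rw [loop, Category.assoc, stabι_s, pullback.condition]

/-- A morphism to a base change of the stabilizer from a loop and an arrow. -/
noncomputable def loopLift {T : Sp S} (p : G.R ⟶ G.U) (γ β : T ⟶ G.R) (h : γ ≫ G.t = γ ≫ G.s)
    (h' : γ ≫ G.s = β ≫ p) : T ⟶ pullback G.stabilizerToU p :=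
  pullback.lift (toStab G γ h) β ((toStab_toU G γ h).trans h')

theorem loopLift_loop {T : Sp S} (p : G.R ⟶ G.U) (γ β : T ⟶ G.R) (h : γ ≫ G.t = γ ≫ G.s) (h' : γ ≫ G.s = β ≫ p) :
    loopLift G p γ β h h' ≫ loop G p = γ := by
  rw [loopLift, loop, pullback.lift_fst_assoc, toStab_ι]

theorem loopLift_snd {T : Sp S} (p : G.R ⟶ G.U) (γ β : T ⟶ G.R) (h : γ ≫ G.t = γ ≫ G.s) (h' : γ ≫ G.s = β ≫ p) :
    loopLift G p γ β h h' ≫ pullback.snd G.stabilizerToU p = β := pullback.lift_snd _ _ _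

attribute [local irreducible] loop loopLift conjR conjL

/-- Conjugation to the source. -/
noncomputable def toSrc : pullback G.stabilizerToU G.t ⟶ pullback G.stabilizerToU G.s :=
  loopLift G G.s (conjR G (loop G G.t) (pullback.snd G.stabilizerToU G.t) (loop_s G G.t) (loop_t_eq G G.t))
    (pullback.snd G.stabilizerToU G.t) ((conjR_t G _ _ _ _).trans (conjR_s G _ _ _ _).symm) (conjR_s G _ _ _ _)

/-- Conjugation to the target. -/
noncomputable def toTgt : pullback G.stabilizerToU G.s ⟶ pullback G.stabilizerToU G.t :=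
  loopLift G G.t (conjL G (loop G G.s) (pullback.snd G.stabilizerToU G.s) (loop_s G G.s) (loop_t_eq G G.s))
    (pullback.snd G.stabilizerToU G.s) ((conjL_t G _ _ _ _).trans (conjL_s G _ _ _ _).symm) (conjL_s G _ _ _ _)

theorem toSrc_loop : toSrc G ≫ loop G G.s =
    conjR G (loop G G.t) (pullback.snd G.stabilizerToU G.t) (loop_s G G.t) (loop_t_eq G G.t) := loopLift_loop G _ _ _ _ _

theorem toTgt_loop : toTgt G ≫ loop G G.t =
    conjL G (loop G G.s) (pullback.snd G.stabilizerToU G.s) (loop_s G G.s) (loop_t_eq G G.s) := loopLift_loop G _ _ _ _ _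

theorem toSrc_snd : toSrc G ≫ pullback.snd G.stabilizerToU G.s = pullback.snd G.stabilizerToU G.t :=
  loopLift_snd G _ _ _ _ _

theorem toTgt_snd : toTgt G ≫ pullback.snd G.stabilizerToU G.t = pullback.snd G.stabilizerToU G.s :=
  loopLift_snd G _ _ _ _ _

theorem toSrc_toTgt_loop : toSrc G ≫ toTgt G ≫ loop G G.t = loop G G.t := by
  rw [toTgt_loop, comp_conjL, conjL_congr G (toSrc_loop G) (toSrc_snd G)]
  exact conjL_conjR G _ _ _ _

theorem toTgt_toSrc_loop : toTgt G ≫ toSrc G ≫ loop G G.s = loop G G.s := by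
  rw [toSrc_loop, comp_conjR, conjR_congr G (toTgt_loop G) (toTgt_snd G)]
  exact conjR_conjL G _ _ _ _

/-- Conjugation identifies the two base changes of the stabilizer. -/
noncomputable def stabIso : pullback G.stabilizerToU G.t ≅ pullback G.stabilizerToU G.s where
  hom := toSrc G
  inv := toTgt G
  hom_inv_id := hom_ext_stab G
    (by have h := toSrc_toTgt_loop G; unfold loop at h; rw [Category.assoc, Category.id_comp]; exact h)
    (by rw [Category.assoc, toTgt_snd, toSrc_snd, Category.id_comp])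
  inv_hom_id := hom_ext_stab G
    (by have h := toTgt_toSrc_loop G; unfold loop at h; rw [Category.assoc, Category.id_comp]; exact h)
    (by rw [Category.assoc, toSrc_snd, toTgt_snd, Category.id_comp])

theorem isAlgSpace_stabilizer (hB : IsAlgSpace B) (hU : IsAlgSpace G.U) (hR : IsAlgSpace G.R) :
    IsAlgSpace G.stabilizer :=
  isAlgSpace_pullback (isAlgSpace_pullback hB.diag hU hU G.pU G.pU).diag hR hU G.j G.diag

end Conj

end Groth.Agent.H13AlgSp
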