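import Groth.Agent.H13AlgSp.PullFP
import Groth.Agent.H13AlgSp.AffColim
import Mathlib.CategoryTheory.Limits.Types.Filtered

/-!
Morphisms out of modules of finite presentation commute with directed colimits.
-/

set_option autoImplicit false
set_option backward.isDefEq.respectTransparency false
set_option linter.style.haveILetI false
set_option linter.unusedVariables false
set_option linter.unusedSectionVars false

universe u

open CategoryTheory CategoryTheory.Limits AlgebraicGeometry Opposite
open AlgSp Groth.Agent.H12AlgSp Groth.Agent.H12AlgSp.BCMod Groth.Agent.H13EtMod Groth.Agent.H13AlgSp.PullFP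
open scoped TensorProduct

namespace Groth.Agent.H13AlgSp.HomFP

variable {S : Scheme.{u}} {X : Sp S}

section Extend

variable {B : EtOver X} [hBa : IsAffine B.obj.left.left]
  {G F : ModEt X} (hG : IsBCEt G) (ψ : (pm G).obj (op B) →ₗ[OSec B] (pm F).obj (op B))

/-- The linear map on sections over the identity. -/
noncomputable def ψL : Sec (pm G) (𝟙 B) →ₗ[OSec B] Sec (pm F) (𝟙 B) where
  toFun z := toSec (pm F) (𝟙 B) (ψ (ofSec (pm G) z))
  map_add' a b := map_add ψ (ofSec (pm G) a) (ofSec (pm G) b)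
  map_smul' a z := ψ.map_smul (((OEt X).obj.map (𝟙 B).op).hom a) (ofSec (pm G) z)

/-- The base change of `ψ` along `b`. -/
noncomputable def U {W : EtOver X} (hW : IsAffine W.obj.left.left) (b : W ⟶ B) :
    (pm G).obj (op W) →+ (pm F).obj (op W) where
  toFun x := ofSec (pm F) (ext (pm F) b ((ψL ψ).lTensor (RingOf (OEt X).obj b)
    ((LinearEquiv.ofBijective (ext (pm G) b) (hG b hW hBa)).symm (toSec (pm G) b x))))
  map_zero' := by
    change ext (pm F) b _ = 0
    rw [show toSec (pm G) b (0 : (pm G).obj (op W)) = 0 from rfl]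
    simp
  map_add' x y := by
    change ext (pm F) b _ = ext (pm F) b _ + ext (pm F) b _
    rw [show toSec (pm G) b (x + y) = toSec (pm G) b x + toSec (pm G) b y from rfl, map_add, map_add, map_add]

/-- Restriction from the chart. -/
noncomputable abbrev rB (P : ModEt X) {W : EtOver X} (b : W ⟶ B) (z : (pm P).obj (op B)) : (pm P).obj (op W) :=
  ((pm P).map b.op).hom z

theorem U_tmul {W : EtOver X} (hW : IsAffine W.obj.left.left) (b : W ⟶ B) (c : OSec W)
    (z : (pm G).obj (op B)) : U hG ψ hW b (c • rB G b z) = c • rB F b (ψ z) := by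
  have h : (LinearEquiv.ofBijective (ext (pm G) b) (hG b hW hBa)).symm (toSec (pm G) b (c • rB G b z)) =
      toRing b c ⊗ₜ[OSec B] toSec (pm G) (𝟙 B) z := by
    rw [LinearEquiv.symm_apply_eq, LinearEquiv.ofBijective_apply, ext_tmul]
    rfl
  change ext (pm F) b _ = _
  rw [h, LinearMap.lTensor_tmul, ext_tmul]
  rfl

include hG in
theorem sec_induction {W : EtOver X} (hW : IsAffine W.obj.left.left) (b : W ⟶ B)
    {P : (pm G).obj (op W) → Prop} (h0 : P 0) (hadd : ∀ x y, P x → P y → P (x + y))
    (ht : ∀ (c : OSec W) z, P (c • rB G b z)) (x : (pm G).obj (op W)) : P x := by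
  obtain ⟨t, ht'⟩ := (hG b hW hBa).2 (toSec (pm G) b x)
  have key : ∀ t, P (ofSec (pm G) (ext (pm G) b t)) := fun t => by
    induction t with
    | zero => rw [map_zero]; exact h0
    | add p q hp hq => rw [map_add]; exact hadd _ _ hp hq
    | tmul c z => rw [ext_tmul]; exact ht c (ofSec (pm G) z)
  have := key t
  rw [ht'] at this
  exact this

theorem U_smul {W : EtOver X} (hW : IsAffine W.obj.left.left) (b : W ⟶ B) (c : OSec W)
    (x : (pm G).obj (op W)) : U hG ψ hW b (c • x) = c • U hG ψ hW b x := by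
  refine sec_induction hG hW b (P := fun x => U hG ψ hW b (c • x) = c • U hG ψ hW b x) ?_ ?_ ?_ x
  · simp
  · intro x y hx hy; rw [smul_add, map_add, map_add, hx, hy, smul_add]
  · intro d z; rw [smul_smul, U_tmul, U_tmul, mul_smul]

theorem U_res {W W' : EtOver X} (hW : IsAffine W.obj.left.left) (hW' : IsAffine W'.obj.left.left)
    (h : W' ⟶ W) (b : W ⟶ B) (b' : W' ⟶ B) (e : h ≫ b = b') (x : (pm G).obj (op W)) :
    ((pm F).map h.op).hom (U hG ψ hW b x) = U hG ψ hW' b' (((pm G).map h.op).hom x) := by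
  subst e
  refine sec_induction hG hW b
    (P := fun x => ((pm F).map h.op).hom (U hG ψ hW b x) = U hG ψ hW' (h ≫ b) (((pm G).map h.op).hom x)) ?_ ?_ ?_ x
  · rw [map_zero, map_zero, map_zero, map_zero]
  · intro x y hx hy; rw [map_add, map_add, map_add, map_add, hx, hy]
  · intro c z
    rw [U_tmul, map_smul_sec, map_smul_sec]
    simp only [rB, map_comp_sec]
    exact (U_tmul hG ψ hW' (h ≫ b) _ z).symm

/-- Independence of the map to the chart. -/
def Indep : Prop :=
  ∀ (W : EtOver X) (hW : IsAffine W.obj.left.left) (b b' : W ⟶ B) (z : (pm G).obj (op B)),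
    U hG ψ hW b (rB G b' z) = rB F b' (ψ z)

theorem U_eq (hI : Indep hG ψ) {W : EtOver X} (hW : IsAffine W.obj.left.left) (b b' : W ⟶ B)
    (x : (pm G).obj (op W)) : U hG ψ hW b x = U hG ψ hW b' x := by
  refine sec_induction hG hW b' (P := fun x => U hG ψ hW b x = U hG ψ hW b' x) ?_ ?_ ?_ x
  · simp
  · intro x y hx hy; rw [map_add, map_add, hx, hy]
  · intro c z; rw [U_smul, hI W hW b b' z, U_tmul]

variable (hB : (etTop X).CoversTop fun _ : Unit => B)

/-- The property determining the value of the extension. -/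
def IsVal (E : EtOver X) (x : (pm G).obj (op E)) (y : (pm F).obj (op E)) : Prop :=
  ∀ (W : EtOver X) (hW : IsAffine W.obj.left.left) (g : W ⟶ E) (b : W ⟶ B),
    ((pm F).map g.op).hom y = U hG ψ hW b (((pm G).map g.op).hom x)

include hB in
theorem existsUnique_val (hI : Indep hG ψ) (E : EtOver X) (x : (pm G).obj (op E)) :
    ∃! y, IsVal hG ψ E x y := by
  let κ := Σ W : EtOver X, PLift (IsAffine W.obj.left.left) × (W ⟶ E) × (W ⟶ B)
  let Z : κ → EtOver X := fun i => i.1
  let π : ∀ i : κ, Z i ⟶ E := fun i => i.2.2.1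
  have hR : Sieve.ofArrows Z π ∈ etTop X E := mem_etTop_of_forall_point _ fun p => by
    obtain ⟨W, g, b, w, hW, hw⟩ := exists_affine_to hB E p
    exact ⟨W, g, w, Sieve.ofArrows_mk Z π ⟨W, ⟨hW⟩, g, b⟩, hw⟩
  have hsh : Presieve.IsSheafFor ((pm F).presheaf ⋙ CategoryTheory.forget AddCommGrpCat.{u + 1})
      (Presieve.ofArrows Z π) := by
    rw [Presieve.isSheafFor_iff_generate]
    exact isSheaf_types (P := pm F) F.isSheaf _ hR
  let r : ∀ i : κ, (pm F).obj (op (Z i)) := fun i => U hG ψ i.2.1.down i.2.2.2 (((pm G).map (π i).op).hom x)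
  have hr : Presieve.Arrows.Compatible ((pm F).presheaf ⋙ CategoryTheory.forget AddCommGrpCat.{u + 1}) π r := by
    intro i j V gi gj hV
    change ((pm F).map gi.op).hom (r i) = ((pm F).map gj.op).hom (r j)
    refine sheaf_ext (Rc := (OEt X).obj) (P := pm F) F.isSheaf
      (R := Sieve.ofArrows (fun i : Σ W : EtOver X, PLift (IsAffine W.obj.left.left) × (W ⟶ V) => i.1) fun i => i.2.2)
      (mem_etTop_of_forall_point _ fun p => by
        obtain ⟨W, g, -, w, hW, hw⟩ := exists_affine_to hB V p
        exact ⟨W, g, w, Sieve.ofArrows_mk (fun i : Σ W : EtOver X, PLift (IsAffine W.obj.left.left) × (W ⟶ V) => i.1)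
          (fun i => i.2.2) ⟨W, ⟨hW⟩, g⟩, hw⟩) _ _ ?_
    rintro T t ⟨_, l, _, ⟨m⟩, rfl⟩
    rw [← map_comp_sec, ← map_comp_sec]
    refine congrArg ((pm F).map l.op).hom ?_
    rw [map_comp_sec, map_comp_sec, U_res hG ψ i.2.1.down m.2.1.down _ _ _ rfl,
      U_res hG ψ j.2.1.down m.2.1.down _ _ _ rfl, map_comp_sec, map_comp_sec]
    rw [show (m.2.2 ≫ gi) ≫ π i = (m.2.2 ≫ gj) ≫ π j by rw [Category.assoc, Category.assoc, hV]]
    exact U_eq hG ψ hI _ _ _ _
  obtain ⟨y, hy, hu⟩ := (Presieve.isSheafFor_arrows_iff _ _).1 hsh r hr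
  exact ⟨y, fun W hW g b => hy ⟨W, ⟨hW⟩, g, b⟩, fun y' hy' => hu y' fun i => hy' _ i.2.1.down _ _⟩

include hB in
theorem exists_hom (hI : Indep hG ψ) : ∃ χ : G ⟶ F, ∀ z, appE χ B z = ψ z := by
  have H := existsUnique_val hG ψ hB hI
  let v : ∀ E x, (pm F).obj (op E) := fun E x => (H E x).exists.choose
  have hv : ∀ E x, IsVal hG ψ E x (v E x) := fun E x => (H E x).exists.choose_spec
  have eqv : ∀ E x y, IsVal hG ψ E x y → v E x = y := fun E x y h => (H E x).unique (hv E x) h
  have hadd : ∀ E x x', v E (x + x') = v E x + v E x' := fun E x x' => eqv _ _ _ fun W hW g b => by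
    rw [map_add, map_add, map_add, hv E x W hW g b, hv E x' W hW g b]
  have hsmul : ∀ E (c : OSec E) x, v E (c • x) = c • v E x := fun E c x => eqv _ _ _ fun W hW g b => by
    rw [map_smul_sec, map_smul_sec, U_smul, hv E x W hW g b]
  let φ : (pm G).presheaf ⟶ (pm F).presheaf :=
    { app := fun E => AddCommGrpCat.ofHom (AddMonoidHom.mk' (v E.unop) (hadd E.unop))
      naturality := fun E E' g => ConcreteCategory.hom_ext _ _ fun x => by
        change v E'.unop (((pm G).map g).hom x) = ((pm F).map g).hom (v E.unop x)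
        refine eqv _ _ _ fun W hW k b => ?_
        change ((pm F).map k.op).hom (((pm F).map g.unop.op).hom (v E.unop x)) = _
        rw [map_comp_sec, hv E.unop x W hW (k ≫ g.unop) b]
        exact congrArg _ (map_comp_sec (M := G) g.unop k x).symm }
  refine ⟨⟨PresheafOfModules.homMk φ fun E c x => hsmul E.unop c x⟩, fun z => ?_⟩
  refine eqv _ _ _ fun W hW g b => ?_
  rw [hI W hW b g z]

end Extend

section Colim

variable [QuasiSeparatedSpace S] (X : Space S) (hqc : IsQuasiCompactSp X.obj) (hqs : IsQuasiSeparatedSp X.obj)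
  {I : Type (u + 1)} [Preorder I] [IsDirected I (· ≤ ·)] [Nonempty I]

include hqc hqs in
theorem exists_chart : ∃ (B : EtOver X.obj) (_ : IsAffine B.obj.left.left),
    (etTop X.obj).CoversTop (fun _ : Unit => B) ∧ CompactSpace (EtOver.prodObj B B).obj.left.left := by
  obtain ⟨T, a, hT, ha, hs⟩ := exists_affine_chart X.property isOpen_univ
    (isCompact_univ_iff.2 ((isQuasiCompactSp_iff X.property).1 hqc))
  let B : EtOver X.obj := EtOver.mk a ha
  haveI : IsAffine B.obj.left.left := hT
  refine ⟨B, hT, coversTop_of_range B hs, ?_⟩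
  haveI := hT
  have hfc : IsQuasiCompactMor a := isQuasiCompactMor_of_qc_qs (IsAlgSpace.yon_obj T) X.property a
    (isQuasiCompactSp_yon_iff.2 inferInstance) hqs
  haveI : QuasiCompact (ha.1.snd a).left :=
    (repWith_quasiCompact_of_mor ha.1 hfc).property _ _ _ (ha.1.isPullback a)
  exact QuasiCompact.compactSpace_of_compactSpace (ha.1.snd a).left

/-- The canonical map to the colimit on sections over an affine object is injective up to a stage. -/
theorem exists_stage_zero (D : I ⥤ ModEt X.obj) {c : Cocone D} (hc : IsColimit c) {E : EtOver X.obj}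
    (hE : IsAffine E.obj.left.left) {j : I} (s : (pm (D.obj j)).obj (op E)) (h : appE (c.ι.app j) E s = 0) :
    ∃ (k : I) (f : j ⟶ k), appE (D.map f) E s = 0 := by
  haveI := preservesColimitsOfShape_toSheaf_modEt X.obj I
  let e := (isColimitOfPreserves (toAbEt X.obj) hc).coconePointUniqueUpToIso (colimit.isColimit (D ⋙ toAbEt X.obj))
  refine AffColim.colim_inj (A := etAff X.obj) (D ⋙ toAbEt X.obj) hE (j := j) s ?_
  have he := (isColimitOfPreserves (toAbEt X.obj) hc).comp_coconePointUniqueUpToIso_hom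
    (colimit.isColimit (D ⋙ toAbEt X.obj)) j
  refine (congrArg (fun m : (D ⋙ toAbEt X.obj).obj j ⟶ _ => m.hom.app (op E) s) he).symm.trans ?_
  exact (congrArg (e.hom.hom.app (op E)) h).trans (map_zero _)

theorem exists_stage_lift (D : I ⥤ ModEt X.obj) {c : Cocone D} (hc : IsColimit c) {E : EtOver X.obj}
    (hE : IsAffine E.obj.left.left) (s : (pm c.pt).obj (op E)) :
    ∃ (j : I) (t : (pm (D.obj j)).obj (op E)), appE (c.ι.app j) E t = s := by
  haveI := preservesColimitsOfShape_toSheaf_modEt X.obj I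
  let e := (isColimitOfPreserves (toAbEt X.obj) hc).coconePointUniqueUpToIso (colimit.isColimit (D ⋙ toAbEt X.obj))
  obtain ⟨j, t, ht⟩ := AffColim.colim_surj (A := etAff X.obj) (D ⋙ toAbEt X.obj) hE (e.hom.hom.app (op E) s)
  refine ⟨j, t, ?_⟩
  have he := (isColimitOfPreserves (toAbEt X.obj) hc).comp_coconePointUniqueUpToIso_inv
    (colimit.isColimit (D ⋙ toAbEt X.obj)) j
  refine (congrArg (fun m : (D ⋙ toAbEt X.obj).obj j ⟶ _ => m.hom.app (op E) t) he).symm.trans ?_
  refine (congrArg (e.inv.hom.app (op E)) ht).trans ?_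
  exact congrArg (fun m : (toAbEt X.obj).obj c.pt ⟶ _ => m.hom.app (op E) s) e.hom_inv_id

/-- Finitely many sections dying in the colimit die at a common stage. -/
theorem exists_stage_zero_finite (D : I ⥤ ModEt X.obj) {c : Cocone D} (hc : IsColimit c) {κ : Type*} [Finite κ]
    (E : κ → EtOver X.obj) (hE : ∀ i, IsAffine (E i).obj.left.left) {j : I}
    (s : ∀ i, (pm (D.obj j)).obj (op (E i))) (h : ∀ i, appE (c.ι.app j) (E i) (s i) = 0) :
    ∃ (k : I) (f : j ⟶ k), ∀ i, appE (D.map f) (E i) (s i) = 0 :=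
  AffColim.exists_common_stage (fun i k f => appE (D.map f) (E i) (s i) = 0)
    (fun i => exists_stage_zero X D hc (hE i) (s i) (h i)) fun i k l f g e => by
    rw [D.map_comp]
    exact (congrArg (appE (D.map g) (E i)) e).trans (map_zero _)

set_option maxHeartbeats 800000 in
include hqc hqs in
theorem preservesColimitsOfShape_coyoneda (G : ModEt X.obj) [G.IsFinitePresentation] :
    PreservesColimitsOfShape I (coyoneda.obj (op G)) := by
  classical
  obtain ⟨B, hBa, hB, hP⟩ := exists_chart X hqc hqs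
  haveI := hBa
  have hG : IsBCEt G := isBCEt_of_fp G
  haveI : IsDirectedOrder I := ‹_›
  obtain ⟨m, hm⟩ : ∃ m : ℕ, ∃ Z : Fin m → (EtOver.prodObj B B).obj.left.left.Opens,
      (∀ i, IsAffineOpen (Z i)) ∧ ∀ p, ∃ i, p ∈ Z i := by
    choose W hW hxW using fun p : (EtOver.prodObj B B).obj.left.left =>
      (EtOver.prodObj B B).obj.left.left.isBasis_affineOpens.exists_subset_of_mem_open (Set.mem_univ p) isOpen_univ
    choose W' hW' hWe using hW
    haveI := hP
    obtain ⟨s, hs⟩ := isCompact_univ.elim_finite_subcover W (fun p => hWe p ▸ (W' p).isOpen)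
      fun p _ => Set.mem_iUnion.2 ⟨p, (hxW p).1⟩
    refine ⟨s.card, fun i => W' (s.equivFin.symm i).1, fun i => hW' _, fun p => ?_⟩
    obtain ⟨q, hq, hp⟩ := Set.mem_iUnion₂.1 (hs (Set.mem_univ p))
    exact ⟨s.equivFin ⟨q, hq⟩, by simp only [Equiv.symm_apply_apply]; rw [← hWe q] at hp; exact hp⟩
  obtain ⟨Z, hZ, hZc⟩ := hm
  refine ⟨fun {D} => ⟨fun {c} hc => ⟨?_⟩⟩⟩
  haveI := isFinitePresentation_iff (M := G) inferInstance
  haveI : Module.FinitePresentation (OSec B) ((pm G).obj (op B)) :=
    (isFinitePresentation_iff (M := G) inferInstance).1 ‹_› B hBa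
  refine Types.FilteredColimit.isColimitOf' _ _ (fun φ => ?_) (fun i φ φ' h => ?_)
  · change G ⟶ c.pt at φ
    obtain ⟨n, K, e, hK⟩ := Module.FinitePresentation.exists_fin (OSec B) ((pm G).obj (op B))
    obtain ⟨σ, hσ⟩ := hK
    let gen : Fin n → (pm G).obj (op B) := fun a => e.symm (Submodule.Quotient.mk (Pi.single a 1))
    choose j₀ t₀ ht₀ using fun a => exists_stage_lift X D hc hBa (appE φ B (gen a))
    obtain ⟨j, hj⟩ := IsFiltered.sup_objs_exists (Finset.univ.image j₀)
    let up : ∀ a, j₀ a ⟶ j := fun a => (hj (Finset.mem_image_of_mem j₀ (Finset.mem_univ a))).some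
    let L : (Fin n → OSec B) →ₗ[OSec B] (pm (D.obj j)).obj (op B) :=
      Fintype.linearCombination (OSec B) fun a => appE (D.map (up a)) B (t₀ a)
    have hL : ∀ v, appE (c.ι.app j) B (L v) = appE φ B (e.symm (Submodule.Quotient.mk v)) := by
      intro v
      have : (appE (c.ι.app j) B).comp L = ((appE φ B).comp e.symm.toLinearMap).comp K.mkQ := by
        refine LinearMap.pi_ext' fun a => LinearMap.ext_ring ?_
        change appE (c.ι.app j) B (L (Pi.single a 1)) = appE φ B (gen a)
        rw [show L (Pi.single a 1) = appE (D.map (up a)) B (t₀ a) by simp [L]]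
        exact (congrArg (fun m => appE m B (t₀ a)) (c.w (up a))).trans (ht₀ a)
      exact LinearMap.congr_fun this v
    obtain ⟨k, f, hk⟩ := exists_stage_zero_finite X D hc (fun _ : σ => B) (fun _ => hBa) (fun v => L v.1)
      fun v => by
        rw [hL, (Submodule.Quotient.mk_eq_zero K).2 (hσ.le (Submodule.subset_span v.2)), map_zero, map_zero]
    have hLK : K ≤ LinearMap.ker ((appE (D.map f) B).comp L) := by
      rw [← hσ, Submodule.span_le]
      exact fun v hv => hk ⟨v, hv⟩
    let ψ₀ : (pm G).obj (op B) →ₗ[OSec B] (pm (D.obj k)).obj (op B) := (K.liftQ _ hLK).comp e.toLinearMap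
    have hψ₀ : ∀ z, appE (c.ι.app k) B (ψ₀ z) = appE φ B z := by
      intro z
      obtain ⟨v, hv⟩ := Submodule.Quotient.mk_surjective K (e z)
      change appE (c.ι.app k) B (K.liftQ _ hLK (e z)) = _
      rw [← hv, Submodule.liftQ_apply]
      refine (congrArg (fun m => appE m B (L v)) (c.w f)).trans ((hL v).trans ?_)
      rw [hv, e.symm_apply_apply]
    let Zo : Fin m → EtOver X.obj := fun a => etOpen (EtOver.prodObj B B) (Z a)
    have hZo : ∀ a, IsAffine (Zo a).obj.left.left := hZ
    let q₁ : ∀ a, Zo a ⟶ B := fun a => etOpenι _ (Z a) ≫ EtOver.prodFst B B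
    let q₂ : ∀ a, Zo a ⟶ B := fun a => etOpenι _ (Z a) ≫ EtOver.prodSnd B B
    obtain ⟨s, hs⟩ := Module.finite_def.1 (finite_sec G B)
    have hcomm : ∀ (a : Fin m) z,
        appE (c.ι.app k) (Zo a) (U hG ψ₀ (hZo a) (q₁ a) (rB G (q₂ a) z)) = appE φ (Zo a) (rB G (q₂ a) z) := by
      intro a z
      refine sec_induction hG (hZo a) (q₁ a)
        (P := fun x => appE (c.ι.app k) (Zo a) (U hG ψ₀ (hZo a) (q₁ a) x) = appE φ (Zo a) x) ?_ ?_ ?_ _
      · rw [map_zero, map_zero, map_zero]
      · intro x y hx hy; rw [map_add, map_add, map_add, hx, hy]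
      · intro d w
        rw [U_tmul, LinearMap.map_smul, LinearMap.map_smul]
        refine congrArg (d • ·) ?_
        refine (PresheafOfModules.naturality_apply (c.ι.app k).val (q₁ a).op (ψ₀ w)).trans ?_
        exact (congrArg ((pm c.pt).map (q₁ a).op).hom (hψ₀ w)).trans
          (PresheafOfModules.naturality_apply φ.val (q₁ a).op w).symm
    obtain ⟨l, g, hl⟩ := exists_stage_zero_finite X D hc (fun p : Fin m × s => Zo p.1) (fun p => hZo p.1)
      (fun p => U hG ψ₀ (hZo p.1) (q₁ p.1) (rB G (q₂ p.1) p.2.1) - rB (D.obj k) (q₂ p.1) (ψ₀ p.2.1)) fun p => by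
        rw [map_sub, hcomm, sub_eq_zero]
        refine Eq.trans ?_ (PresheafOfModules.naturality_apply (c.ι.app k).val (q₂ p.1).op (ψ₀ p.2.1)).symm
        exact (PresheafOfModules.naturality_apply φ.val (q₂ p.1).op p.2.1).trans
          (congrArg ((pm c.pt).map (q₂ p.1).op).hom (hψ₀ p.2.1).symm)
    let ψ : (pm G).obj (op B) →ₗ[OSec B] (pm (D.obj l)).obj (op B) := (appE (D.map g) B).comp ψ₀
    have hU : ∀ {W : EtOver X.obj} (hW : IsAffine W.obj.left.left) (b : W ⟶ B) x,
        U hG ψ hW b x = appE (D.map g) W (U hG ψ₀ hW b x) := by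
      intro W hW b x
      refine sec_induction hG hW b (P := fun x => U hG ψ hW b x = appE (D.map g) W (U hG ψ₀ hW b x)) ?_ ?_ ?_ x
      · rw [map_zero, map_zero, map_zero]
      · intro x y hx hy; rw [map_add, map_add, map_add, hx, hy]
      · intro d w
        rw [U_tmul, U_tmul, LinearMap.map_smul]
        exact congrArg (d • ·) (PresheafOfModules.naturality_apply (D.map g).val b.op (ψ₀ w)).symm
    have hI : Indep hG ψ := by
      intro W hW b b'
      have hlin : ∀ z, z ∈ Submodule.span (OSec B) (s : Set ((pm G).obj (op B))) →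
          U hG ψ hW b (rB G b' z) = rB (D.obj l) b' (ψ z) := by
        intro z hz
        induction hz using Submodule.span_induction with
        | mem z hz =>
          let t : W ⟶ EtOver.prodObj B B := (BinaryFan.IsLimit.lift' (EtOver.prodIsLimit B B) b b').1
          have ht1 : t ≫ EtOver.prodFst B B = b := (BinaryFan.IsLimit.lift' (EtOver.prodIsLimit B B) b b').2.1
          have ht2 : t ≫ EtOver.prodSnd B B = b' := (BinaryFan.IsLimit.lift' (EtOver.prodIsLimit B B) b b').2.2
          refine sheaf_ext (Rc := (OEt X.obj).obj) (P := pm (D.obj l)) (D.obj l).isSheaf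
            (R := { arrows := fun V v => ∃ (T : EtOver X.obj) (_ : IsAffine T.obj.left.left) (p : V ⟶ T)
                      (r : T ⟶ W) (a : Fin m) (o : T ⟶ Zo a), p ≫ r = v ∧ o ≫ etOpenι _ (Z a) = r ≫ t
                    downward_closed := fun {V V' v} ⟨T, hT, p, r, a, o, e₁, e₂⟩ k =>
                      ⟨T, hT, k ≫ p, r, a, o, by rw [Category.assoc, e₁], e₂⟩ }) ?_ _ _ ?_
          · refine mem_etTop_of_forall_point _ fun x => ?_
            obtain ⟨a, ha⟩ := hZc (t.hom.left.left x)
            let V := t.hom.left.left ⁻¹ᵁ Z a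
            obtain ⟨_, ⟨V', hV', rfl⟩, hxV, hle⟩ :=
              W.obj.left.left.isBasis_affineOpens.exists_subset_of_mem_open (show x ∈ (V : Set _) from ha) V.isOpen
            exact ⟨etOpen W V', etOpenι W V', (⟨x, hxV⟩ : V'),
              ⟨etOpen W V', hV', 𝟙 _, etOpenι W V', a, etOpenLE W hle ≫ BCMod.etPre t (Z a), Category.id_comp _, by
                rw [Category.assoc, etPre_ι, ← Category.assoc, etOpenLE_ι]⟩, rfl⟩
          · rintro V v ⟨T, hT, p, r, a, o, rfl, e₂⟩
            rw [← map_comp_sec, ← map_comp_sec]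
            refine congrArg ((pm (D.obj l)).map p.op).hom ?_
            have e1 : o ≫ q₁ a = r ≫ b := by
              change o ≫ etOpenι _ (Z a) ≫ _ = _
              rw [reassoc_of% e₂, ht1]
            have e2 : o ≫ q₂ a = r ≫ b' := by
              change o ≫ etOpenι _ (Z a) ≫ _ = _
              rw [reassoc_of% e₂, ht2]
            rw [U_res hG ψ hW hT r b _ rfl, map_comp_sec, map_comp_sec, ← e1, ← e2, ← map_comp_sec, ← map_comp_sec,
              ← U_res hG ψ (hZo a) hT o (q₁ a) _ rfl, hU (hZo a)]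
            refine (congrArg ((pm (D.obj l)).map o.op).hom ?_).trans (map_comp_sec (q₂ a) o (ψ z))
            rw [map_comp_sec]
            refine (sub_eq_zero.1 ((map_sub (appE (D.map g) (Zo a)) _ _).symm.trans (hl (a, ⟨z, hz⟩)))).trans ?_
            exact PresheafOfModules.naturality_apply (D.map g).val (q₂ a).op (ψ₀ z)
        | zero => simp
        | add p q _ _ hp hq => simp only [rB] at hp hq ⊢; rw [map_add, map_add, map_add, map_add, hp, hq]
        | smul r p _ hp => simp only [rB] at hp ⊢; rw [map_smul_sec, U_smul, hp, LinearMap.map_smul, map_smul_sec]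
      exact fun z => hlin z (hs.ge trivial)
    obtain ⟨χ, hχ⟩ := exists_hom hG ψ hB hI
    refine ⟨l, χ, ?_⟩
    change φ = χ ≫ c.ι.app l
    let χ' : G ⟶ c.pt := χ ≫ c.ι.app l
    refine (sub_eq_zero.1 (zero_of_chart hB (φ - χ') fun z => ?_))
    change appE φ B z - appE χ' B z = 0
    rw [sub_eq_zero]
    exact ((congrArg (appE (c.ι.app l) B) (hχ z)).trans
      ((congrArg (fun m => appE m B (ψ₀ z)) (c.w g)).trans (hψ₀ z))).symm
  · change G ⟶ D.obj i at φ φ'
    change φ ≫ c.ι.app i = φ' ≫ c.ι.app i at h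
    obtain ⟨s, hs⟩ := Module.finite_def.1 (finite_sec G B)
    obtain ⟨k, f, hk⟩ := exists_stage_zero_finite X D hc (fun _ : s => B) (fun _ => hBa)
      (fun z => appE φ B z.1 - appE φ' B z.1) fun z => by
        rw [map_sub, sub_eq_zero]
        exact congrArg (fun m => appE m B z.1) h
    refine ⟨k, f, ?_⟩
    change φ ≫ D.map f = φ' ≫ D.map f
    refine sub_eq_zero.1 (zero_of_chart hB _ fun z => ?_)
    have hz : z ∈ Submodule.span (OSec B) (s : Set ((pm G).obj (op B))) := hs.ge trivial
    refine (Submodule.span_le (p := LinearMap.ker (appE (φ ≫ D.map f - φ' ≫ D.map f) B))).2 (fun w hw => ?_) hz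
    exact (map_sub (appE (D.map f) B) _ _).symm.trans (hk ⟨w, hw⟩)

end Colim

end Groth.Agent.H13AlgSp.HomFP
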