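import Groth.Agent.H12AlgSp.Immersion
import Groth.Agent.H13AlgSp.AffineLocal
import Groth.Agent.S10505

/-!
Immersions descend along fppf coverings.
-/

universe u

open CategoryTheory CategoryTheory.Limits AlgebraicGeometry Opposite Topology MorphismProperty
open AlgSp Groth.Agent.H12AlgSp

namespace Groth.Agent.H13AlgSp

variable {S : Scheme.{u}}

theorem isOpenMap_map_of_flat_lfp {F G : Sp S} (hF : IsAlgSpace F) (hG : IsAlgSpace G) {g : F ⟶ G}
    (hf : LocP @Flat g) (hp : LocP @LocallyOfFinitePresentation g) : IsOpenMap (Points.map g) := by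
  obtain ⟨V, q, hq, hqs⟩ := hG.atlas
  have sq := IsPullback.of_hasPullback g q
  obtain ⟨C, d, hde, hds⟩ := (isAlgSpace_of_isPullback hG.diag hF (IsAlgSpace.yon_obj V) sq).atlas
  obtain ⟨t, ht⟩ := (yon S).map_surjective (d ≫ pullback.snd g q)
  have : Flat t.left := etaleFibre_of_locP hF hG hf q _ _ sq d t hde ht.symm
  have : LocallyOfFinitePresentation t.left := etaleFibre_of_locP hF hG hp q _ _ sq d t hde ht.symm
  intro W hW
  rw [← (isQuotientMap_ofPt hq hqs).isOpen_preimage]
  have e : Points.ofPt q ⁻¹' (Points.map g '' W) =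
      t.left '' (Points.ofPt (d ≫ pullback.fst g q) ⁻¹' W) := by
    ext v
    constructor
    · rintro ⟨x, hx, hxv⟩
      obtain ⟨r, hr1, hr2⟩ := exists_point_of_isPullback sq x (Points.ofScheme V v)
        (by rw [hxv, ← Points.ofPt_eq_map_ofScheme])
      obtain ⟨w, rfl⟩ := surjective_ofPt_of_repWith le_rfl hds r
      refine ⟨w, ?_, (Points.schemeEquiv V).injective (Eq.trans ?_ hr2)⟩
      · show Points.ofPt _ w ∈ W
        rw [← Points.map_ofPt, hr1]
        exact hx
      · rw [Points.map_ofPt, ← ht, ← Category.comp_id ((yon S).map t), ofPt_map]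
        rfl
    · rintro ⟨w, hw, rfl⟩
      refine ⟨_, hw, ?_⟩
      rw [Points.map_ofPt, Category.assoc, sq.w, ← Category.assoc, ← ht, ofPt_map]
  rw [e]
  exact t.left.isOpenMap _ (hW.preimage (Points.continuous_ofPt _))

theorem repWith_isImmersion_of_fppf {X Y : Sp S} (hX : IsAlgSpace X) (hY : IsAlgSpace Y) {f : X ⟶ Y}
    {ι : Type u} {Yi : ι → Sp S} (hYi : ∀ i, IsAlgSpace (Yi i)) {g : ∀ i, Yi i ⟶ Y}
    (hg : IsFppfCover Yi g) {Xi : ι → Sp S} {p : ∀ i, Xi i ⟶ Yi i} {q : ∀ i, Xi i ⟶ X}
    (sq : ∀ i, IsPullback (q i) (p i) f (g i)) (h : ∀ i, RepWith @IsImmersion (p i)) :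
    RepWith @IsImmersion f := by
  have hfq : IsFpqcCover Yi g :=
    Groth.Agent.S10505.result ⟨Y, hY⟩ (fun i => ⟨Yi i, hYi i⟩) (fun i => ⟨g i⟩) hg
  have : Mono f := mono_of_fpqc hX.diag hfq sq fun i =>
    mono_of_repWith (fun _ _ k (_ : IsImmersion k) => (inferInstance : Mono k)) (h i)
  have ho : ∀ i, IsOpenMap (Points.map (g i)) := fun i =>
    isOpenMap_map_of_flat_lfp (hYi i) hY (hg.1 i).1 (hg.1 i).2
  have hlc : IsLocallyClosed (Set.range (Points.map f)) := by
    rw [isLocallyClosed_iff_isOpen_coborder, isOpen_iff_mem_nhds]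
    intro y hy
    obtain ⟨i, z, rfl⟩ := hg.2 y
    have h1 : IsLocallyClosed (Points.map (g i) ⁻¹' Set.range (Points.map f)) := by
      rw [← range_snd_of_isPullback (sq i)]
      exact (isEmbedding_of_immersion (hYi i) (p i) (h i)).2
    have h2 := isLocallyClosed_iff_isOpen_coborder.1 h1
    rw [coborder_preimage (ho i) (Points.continuous_map (g i))] at h2
    exact Filter.mem_of_superset ((ho i _ h2).mem_nhds ⟨z, hy, rfl⟩)
      (Set.image_preimage_subset _ _)
  obtain ⟨X', j, hX', hj, hr⟩ := exists_open_subspace hY (isLocallyClosed_iff_isOpen_coborder.1 hlc)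
  have := mono_of_openImmersion hj
  obtain ⟨k, hk⟩ := exists_factor_open hj f (by rw [hr]; exact subset_coborder)
  have hclosed : IsClosed (Set.range (Points.map k)) := by
    have e : Set.range (Points.map k) = Points.map j ⁻¹' closure (Set.range (Points.map f)) := by
      ext y
      constructor
      · rintro ⟨x, rfl⟩
        refine subset_closure ⟨x, ?_⟩
        rw [← Points.map_comp, hk]
      · intro hy
        obtain ⟨x, hx⟩ : Points.map j y ∈ Set.range (Points.map f) := by
          rw [← closure_inter_coborder (s := Set.range (Points.map f))]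
          exact ⟨hy, hr.le ⟨y, rfl⟩⟩
        exact ⟨x, injective_map_of_mono j (by rw [← Points.map_comp, hk, hx])⟩
    rw [e]
    exact isClosed_closure.preimage (Points.continuous_map j)
  have sqJ := fun i => IsPullback.of_hasPullback j (g i)
  have hJ := fun i => isAlgSpace_of_isPullback hY.diag hX' (hYi i) (sqJ i)
  have hfst : ∀ i, LocP @Flat (pullback.fst j (g i)) := fun i =>
    Groth.Agent.H12AlgSp.locP_of_isPullback etLocal_flat (sqJ i).flip (hYi i) hY hX' (hg.1 i).1
  have hlfp : ∀ i, LocP @LocallyOfFinitePresentation (pullback.fst j (g i)) := fun i =>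
    Groth.Agent.H12AlgSp.locP_of_isPullback etLocal_lfp (sqJ i).flip (hYi i) hY hX' (hg.1 i).2
  have hcov : IsFppfCover (fun i => pullback j (g i)) (fun i => pullback.fst j (g i)) := by
    refine ⟨fun i => ⟨hfst i, hlfp i⟩, fun y => ?_⟩
    obtain ⟨i, z, hz⟩ := hg.2 (Points.map j y)
    obtain ⟨r, hr1, -⟩ := exists_point_of_isPullback (sqJ i) y z hz.symm
    exact ⟨i, r, hr1⟩
  have sqk := fun i => IsPullback.of_hasPullback k (pullback.fst j (g i))
  have hkc : ∀ i, RepWith @IsClosedImmersion (pullback.snd k (pullback.fst j (g i))) := fun i => by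
    have sq₁ : IsPullback (𝟙 X) k f j := IsPullback.of_horiz_isIso_mono ⟨by rw [Category.id_comp, hk]⟩
    have sq₂ : IsPullback (pullback.fst k (pullback.fst j (g i))) (pullback.snd k (pullback.fst j (g i)))
        f (pullback.snd j (g i) ≫ g i) := by
      have := (sqk i).paste_horiz sq₁
      rw [Category.comp_id, (sqJ i).w] at this
      exact this
    have sq₃ : IsPullback ((sq i).lift (pullback.fst k (pullback.fst j (g i)))
        (pullback.snd k (pullback.fst j (g i)) ≫ pullback.snd j (g i))
        (by rw [Category.assoc]; exact sq₂.w))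
        (pullback.snd k (pullback.fst j (g i))) (p i) (pullback.snd j (g i)) :=
      IsPullback.of_right (by rw [(sq i).lift_fst]; exact sq₂) ((sq i).lift_snd _ _ _) (sq i)
    have hi : RepWith @IsImmersion (pullback.snd k (pullback.fst j (g i))) :=
      repWith_of_isPullback sq₃ (h i)
    refine repWith_of_snd hi.1 fun T x => ?_
    have : IsImmersion (hi.1.snd x).left := hi.property_snd x
    refine IsClosedImmersion.of_isPreimmersion _ ?_
    rw [← preimage_ofPt_range (hi.1.isPullback x), range_snd_of_isPullback (sqk i)]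
    exact (hclosed.preimage (Points.continuous_map _)).preimage (Points.continuous_ofPt x)
  have hkc' : RepWith @IsClosedImmersion k :=
    repWith_of_fpqc (fun _ _ i (_ : IsClosedImmersion i) => inferInstanceAs (IsAffineHom i)) hX hX'
      (Groth.Agent.S10505.result ⟨X', hX'⟩ (fun i => ⟨_, hJ i⟩) (fun i => ⟨pullback.fst j (g i)⟩) hcov)
      sqk hkc
  rw [← hk]
  exact repWith_comp (repWith_le (fun _ _ i (_ : IsClosedImmersion i) => inferInstanceAs (IsImmersion i)) hkc')
    (repWith_le (fun _ _ i (_ : IsOpenImmersion i) => inferInstanceAs (IsImmersion i)) hj)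

end Groth.Agent.H13AlgSp
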