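import Groth.Agent.H12AlgSp.EtaleNbhdRadicial
import Groth.Agent.H12AlgSp.UnivInj
import Groth.Agent.H12AlgSp.Univ
import Groth.Agent.H12AlgSp.AffineMor
import Groth.Agent.H13AlgSp.LocP
import Groth.Agent.H17.Fibre
import Mathlib.AlgebraicGeometry.Morphisms.QuasiFinite

/-!
Morphisms locally of finite type which are injective after all etale base changes are universally injective.
-/

universe u

open CategoryTheory CategoryTheory.Limits AlgebraicGeometry Opposite
open AlgSp Groth.Agent.H12AlgSp

namespace Groth.Agent.H13AlgSp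

variable {S : Scheme.{u}}

/-- In a fibre, residue fields are algebraic as soon as this holds after a further map. -/
theorem isIntegral_residueFieldMap_left {A B C : Scheme.{u}} (h : A ⟶ B) (g : B ⟶ C) (a : A)
    (H : ((h ≫ g).residueFieldMap a).hom.IsIntegral) : (g.residueFieldMap (h a)).hom.IsIntegral := by
  intro x
  have H' : (CommRingCat.Hom.hom (g.residueFieldMap (h a) ≫ h.residueFieldMap a)).IsIntegral := by
    rw [← Scheme.residueFieldMap_comp]; exact H
  obtain ⟨P, hP, hx⟩ := H' ((h.residueFieldMap a).hom x)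
  refine ⟨P, hP, (h.residueFieldMap a).hom.injective ?_⟩
  rw [Polynomial.hom_eval₂, map_zero]
  exact hx

theorem isClosed_asFiber_iff {U T : Scheme.{u}} (f : U ⟶ T) {v : T} (z : f.fiber v) {x : U}
    (hz : f.fiberι v z = x) :
    IsClosed ({f.asFiber x} : Set (f.fiber (f x))) ↔ IsClosed ({z} : Set (f.fiber v)) := by
  have hx : f x = v := hz ▸ (f.fiberHomeo v z).2
  subst hx
  rw [show f.asFiber x = z from (f.fiberι _).isEmbedding.injective ((f.fiberι_asFiber x).trans hz.symm)]

/-- A fibre in which every point is related by etale maps to one closed point is discrete. -/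
theorem isDiscrete_fibre_of_linked {U R T : Scheme.{u}} (s t : R ⟶ U) [Etale s] (f : U ⟶ T)
    [LocallyOfFiniteType f] [QuasiCompact f] (e : s ≫ f = t ≫ f) (v : T)
    (hlink : ∀ x y : U, f x = v → f y = v → ∃ r, s r = x ∧ t r = y) : _root_.IsDiscrete (f ⁻¹' {v}) := by
  have := Groth.Agent.H13AlgSp.locallyQuasiFinite_of_etale s
  have := Groth.Agent.H17.isLocallyNoetherian_fiber f v
  cases isEmpty_or_nonempty (f.fiber v) with
  | inl h =>
    have : IsEmpty (f ⁻¹' {v} : Set U) := (f.fiberHomeo v).symm.toEquiv.isEmpty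
    exact ⟨inferInstance⟩
  | inr h =>
    obtain ⟨z, -, hz⟩ := isClosed_univ.exists_closed_singleton (X := f.fiber v) Set.univ_nonempty
    have hint : (f.residueFieldMap (f.fiberι v z)).hom.IsIntegral :=
      (Groth.Agent.H17.finite_residueFieldMap f _ ((isClosed_asFiber_iff f z rfl).2 hz)).to_isIntegral
    have hall : ∀ y : f.fiber v, IsClosed ({y} : Set (f.fiber v)) := fun y => by
      obtain ⟨r, hr₁, hr₂⟩ := hlink _ _ (f.fiberHomeo v z).2 (f.fiberHomeo v y).2
      have hs : (s.residueFieldMap r).hom.IsIntegral :=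
        (Groth.Agent.H17.finite_residueFieldMap s r
          ((Groth.Agent.H17.quasiFiniteAt_iff_isClosed_and_max s r).1 (s.quasiFiniteAt r)).1).to_isIntegral
      have hcomp : ((s ≫ f).residueFieldMap r).hom.IsIntegral := by
        rw [Scheme.residueFieldMap_comp]
        have hint' : (f.residueFieldMap (s r)).hom.IsIntegral := by rw [hr₁]; exact hint
        exact RingHom.IsIntegral.trans (f.residueFieldMap (s r)).hom (s.residueFieldMap r).hom hint' hs
      have hy : (f.residueFieldMap (t r)).hom.IsIntegral := by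
        refine isIntegral_residueFieldMap_left t f r ?_
        revert hcomp
        rw [e]
        exact id
      exact (isClosed_asFiber_iff f y (x := t r) hr₂.symm).1
        (Groth.Agent.H17.isClosed_singleton_asFiber f _ hy)
    have := Groth.Agent.H17.discreteTopology_of_isClosed_singleton hall
    exact ⟨(f.fiberHomeo v).discreteTopology⟩

/-- A field-valued point lifts to a chart through a given point, after extending the field. -/
theorem exists_extension_lift {F : Sp S} {C : Over S} {c : (yon S).obj C ⟶ F} (hc : Representable c)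
    {K : Type u} [Field K] {str : Spec (CommRingCat.of K) ⟶ S} (y : (yon S).obj (Over.mk str) ⟶ F) (Q : C.left)
    (hQ : Points.ofPt c Q = Points.ofPt y (IsLocalRing.closedPoint K)) :
    ∃ (L : Type u) (_ : Field L) (str' : Spec (CommRingCat.of L) ⟶ S) (j : Over.mk str' ⟶ Over.mk str)
      (l : Over.mk str' ⟶ C), (yon S).map l ≫ c = (yon S).map j ≫ y ∧ l.left (IsLocalRing.closedPoint L) = Q := by
  obtain ⟨M, snd, fst', sq⟩ := hc y
  obtain ⟨fst, rfl⟩ := (yon S).map_surjective fst'
  obtain ⟨z, hz₁, -⟩ := exists_point_of_isPullback sq (Points.ofScheme C Q)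
    (Points.ofScheme (Over.mk str) (IsLocalRing.closedPoint K))
    (by rw [← Points.ofPt_eq_map_ofScheme, ← Points.ofPt_eq_map_ofScheme, hQ])
  obtain ⟨m, rfl⟩ := (Points.schemeEquiv M).surjective z
  let pM : Over.mk (M.left.fromSpecResidueField m ≫ M.hom) ⟶ M := Over.homMk (M.left.fromSpecResidueField m) rfl
  refine ⟨M.left.residueField m, inferInstance, _, pM ≫ snd, pM ≫ fst, ?_, ?_⟩
  · simp only [Functor.map_comp, Category.assoc, sq.w]
  · apply (Points.schemeEquiv C).injective
    refine Eq.trans ?_ hz₁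
    refine (congrArg (Points.schemeEquiv C) (?_ : _ = fst.left m)).trans (Points.map_yon_map_apply fst m).symm
    exact congrArg fst.left (Scheme.fromSpecResidueField_apply m _)

theorem ker_eq_of_closedPoint {R L : Type u} [CommRing R] [Field L] (φ : CommRingCat.of R ⟶ CommRingCat.of L)
    (P : PrimeSpectrum R) (h : Spec.map φ (IsLocalRing.closedPoint L) = P) : RingHom.ker φ.hom = P.asIdeal := by
  rw [← h]
  change RingHom.ker φ.hom = (IsLocalRing.maximalIdeal L).comap φ.hom
  rw [IsLocalRing.maximalIdeal_eq_bot]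
  rfl

/-- Over an affine base, injectivity after etale base changes gives injectivity on field-valued points. -/
theorem eq_of_injective_etale_affine {X : Sp S} (hX : IsAlgSpace X) {T : Over S} [IsAffine T.left]
    (f : X ⟶ (yon S).obj T) (hft : LocP @LocallyOfFiniteType f)
    (H : ∀ (T' : Over S) (g : T' ⟶ T), Etale g.left →
      Function.Injective (Points.map (pullback.snd f ((yon S).map g))))
    {K : Type u} [Field K] {str : Spec (CommRingCat.of K) ⟶ S} (a b : (yon S).obj (Over.mk str) ⟶ X)
    (e : a ≫ f = b ≫ f) : a = b := by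
  have inj : Function.Injective (Points.map f) := fun x y hxy => by
    have h := H T (𝟙 T) (inferInstanceAs (Etale (𝟙 T.left)))
    have sq := IsPullback.of_hasPullback f ((yon S).map (𝟙 T))
    obtain ⟨x', hx₁, hx₂⟩ := exists_point_of_isPullback sq x (Points.map f x) (by
      rw [CategoryTheory.Functor.map_id, Points.map_id])
    obtain ⟨y', hy₁, hy₂⟩ := exists_point_of_isPullback sq y (Points.map f y) (by
      rw [CategoryTheory.Functor.map_id, Points.map_id])
    rw [← hx₁, ← hy₁, h (hx₂.trans (hxy.trans hy₂.symm))]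
  let pt : (Over.mk str).left := IsLocalRing.closedPoint K
  obtain ⟨ι, Us, as, hUs, hae, -, hac⟩ := exists_affine_family hX
  obtain ⟨i, hi⟩ := hac (Points.ofPt a pt)
  rw [range_map_yon] at hi
  obtain ⟨u, hu⟩ := hi
  have := hUs i
  obtain ⟨fU, hfU⟩ := (yon S).map_surjective (as i ≫ f)
  have hft' : LocallyOfFiniteType fU.left :=
    hft (as i) (𝟙 _) fU (hae i) (repWith_id _ T) (by rw [Category.comp_id, hfU])
  obtain ⟨R, s, t', sqR⟩ := (hae i).rep (as i)
  obtain ⟨t, rfl⟩ := (yon S).map_surjective t'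
  have : Etale s.left := (hae i).property _ _ s sqR
  have hst : s ≫ fU = t ≫ fU := (yon S).map_injective (by
    rw [Functor.map_comp, Functor.map_comp, hfU, ← Category.assoc, ← Category.assoc, sqR.w])
  have hlink : ∀ x y : (Us i).left, fU.left x = fU.left y → ∃ r, s.left r = x ∧ t.left r = y := fun x y hxy => by
    have h1 : Points.ofPt (as i) y = Points.ofPt (as i) x := by
      apply inj
      rw [Points.map_ofPt, Points.map_ofPt, ← hfU, Points.ofPt_eq_map_ofScheme, Points.ofPt_eq_map_ofScheme]
      refine ((Points.map_yon_map_apply fU y).trans ?_).trans (Points.map_yon_map_apply fU x).symm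
      rw [hxy]
    obtain ⟨z, hz₁, hz₂⟩ := exists_point_of_isPullback sqR (Points.ofScheme _ y) (Points.ofScheme _ x)
      (by rw [← Points.ofPt_eq_map_ofScheme, ← Points.ofPt_eq_map_ofScheme, h1])
    obtain ⟨r, rfl⟩ := (Points.schemeEquiv R).surjective z
    exact ⟨r, (Points.schemeEquiv (Us i)).injective ((Points.map_yon_map_apply s r).symm.trans hz₂),
      (Points.schemeEquiv (Us i)).injective ((Points.map_yon_map_apply t r).symm.trans hz₁)⟩
  have hq : LocallyQuasiFinite fU.left := by
    rw [locallyQuasiFinite_iff_isDiscrete_preimage_singleton]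
    exact fun v => isDiscrete_fibre_of_linked s.left t.left fU.left (congrArg (fun k => Over.Hom.left k) hst) v
      fun x y hx hy => hlink x y (hx.trans hy.symm)
  let A := Γ(T.left, ⊤)
  let B := Γ((Us i).left, ⊤)
  letI : Algebra A B := fU.left.appTop.hom.toAlgebra
  have : Algebra.FiniteType A B := (HasRingHomProperty.iff_of_isAffine (P := @LocallyOfFiniteType)).1 hft'
  have : Algebra.QuasiFinite A B := (HasRingHomProperty.iff_of_isAffine (P := @LocallyQuasiFinite)).1 hq
  obtain ⟨R', _, _, _, P, _, C, _, gR, gB, hcomm, -, -, ⟨Q, _, hQB, hQR⟩, hrad⟩ :=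
    exists_radicial_nbhd (R := A) (q := ((Us i).left.isoSpec.hom u).asIdeal)
  let T' : Over S := Over.mk (Spec.map (CommRingCat.ofHom (algebraMap A R')) ≫ T.left.isoSpec.inv ≫ T.hom)
  let g : T' ⟶ T := Over.homMk (Spec.map (CommRingCat.ofHom (algebraMap A R')) ≫ T.left.isoSpec.inv)
    (Category.assoc _ _ _)
  have hge : Etale g.left := by
    have : Etale (Spec.map (CommRingCat.ofHom (algebraMap A R'))) :=
      HasRingHomProperty.Spec_iff.mpr (RingHom.etale_algebraMap.2 ‹_›)
    exact inferInstanceAs (Etale (Spec.map (CommRingCat.ofHom (algebraMap A R')) ≫ T.left.isoSpec.inv))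
  let V : Over S := Over.mk (Spec.map (CommRingCat.ofHom gB) ≫ (Us i).left.isoSpec.inv ≫ (Us i).hom)
  let jU : V ⟶ Us i := Over.homMk (Spec.map (CommRingCat.ofHom gB) ≫ (Us i).left.isoSpec.inv) (Category.assoc _ _ _)
  have hcl : (Spec.map (CommRingCat.ofHom gB) ≫ (Us i).left.isoSpec.inv) ≫ fU.left =
      Spec.map (CommRingCat.ofHom gR) ≫ Spec.map (CommRingCat.ofHom (algebraMap A R')) ≫ T.left.isoSpec.inv := by
    rw [Category.assoc, ← Scheme.isoSpec_inv_naturality, ← Spec.map_comp_assoc, ← Spec.map_comp_assoc,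
      ← CommRingCat.ofHom_comp, hcomm, CommRingCat.ofHom_comp]
    rfl
  let φ : V ⟶ T' := Over.homMk (Spec.map (CommRingCat.ofHom gR)) (by
    change Spec.map (CommRingCat.ofHom gR) ≫ Spec.map (CommRingCat.ofHom (algebraMap A R')) ≫
      T.left.isoSpec.inv ≫ T.hom = Spec.map (CommRingCat.ofHom gB) ≫ (Us i).left.isoSpec.inv ≫ (Us i).hom
    rw [← Over.w fU, ← reassoc_of% hcl])
  have hφg : jU ≫ fU = φ ≫ g := Over.OverMorphism.ext hcl
  have sqX := IsPullback.of_hasPullback f ((yon S).map g)
  have hX' : IsAlgSpace (pullback f ((yon S).map g)) :=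
    isAlgSpace_pullback (IsAlgSpace.yon_obj T).diag hX (IsAlgSpace.yon_obj T') _ _
  let c : (yon S).obj V ⟶ pullback f ((yon S).map g) := sqX.lift ((yon S).map jU ≫ as i) ((yon S).map φ)
    (by rw [Category.assoc, ← hfU, ← Functor.map_comp, ← Functor.map_comp, hφg])
  let Qp : V.left := (⟨Q, ‹Q.IsPrime›⟩ : PrimeSpectrum C)
  let Pp : T'.left := (⟨P, ‹P.IsPrime›⟩ : PrimeSpectrum R')
  have hφQ : φ.left Qp = Pp := PrimeSpectrum.ext hQR
  have hjQ : jU.left Qp = u := by
    change (Us i).left.isoSpec.inv (Spec.map (CommRingCat.ofHom gB) Qp) = u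
    have : Spec.map (CommRingCat.ofHom gB) Qp = (Us i).left.isoSpec.hom u := PrimeSpectrum.ext hQB
    rw [this, ← Scheme.Hom.comp_apply, Iso.hom_inv_id]
    rfl
  obtain ⟨γ, hγ⟩ := (yon S).map_surjective (a ≫ f)
  have hgP : g.left Pp = γ.left pt := by
    apply (Points.schemeEquiv T).injective
    calc Points.schemeEquiv T (g.left Pp) = Points.schemeEquiv T (fU.left u) := by
          rw [← hφQ, ← hjQ, ← Scheme.Hom.comp_apply, ← Scheme.Hom.comp_apply, ← Over.comp_left, ← Over.comp_left, hφg]
      _ = Points.map f (Points.ofPt (as i) u) := by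
          rw [Points.map_ofPt, ← hfU, Points.ofPt_eq_map_ofScheme]
          exact (Points.map_yon_map_apply fU u).symm
      _ = Points.schemeEquiv T (γ.left pt) := by
          rw [hu, Points.map_ofPt, ← hγ, Points.ofPt_eq_map_ofScheme]
          exact Points.map_yon_map_apply γ pt
  obtain ⟨L, _, str₁, j₁, l₁, hl₁, hl₁P⟩ := exists_extension_lift (representable_yon_map g)
    ((yon S).map γ) Pp (by
      rw [Points.ofPt_eq_map_ofScheme, Points.ofPt_eq_map_ofScheme]
      exact (Points.map_yon_map_apply g Pp).trans ((congrArg (Points.ofScheme T) hgP).trans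
        (Points.map_yon_map_apply γ pt).symm))
  let a₁ := sqX.lift ((yon S).map j₁ ≫ a) ((yon S).map l₁) (by rw [Category.assoc, ← hγ, hl₁])
  let b₁ := sqX.lift ((yon S).map j₁ ≫ b) ((yon S).map l₁) (by rw [Category.assoc, ← e, ← hγ, hl₁])
  have hpt : ∀ z : (yon S).obj (Over.mk str₁) ⟶ pullback f ((yon S).map g),
      z ≫ pullback.snd f ((yon S).map g) = (yon S).map l₁ →
        Points.ofPt c Qp = Points.ofPt z (IsLocalRing.closedPoint L) := fun z hz => by
    apply H T' g hge
    rw [Points.map_ofPt, Points.map_ofPt, hz, sqX.lift_snd, Points.ofPt_eq_map_ofScheme, Points.ofPt_eq_map_ofScheme]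
    exact (Points.map_yon_map_apply φ Qp).trans ((congrArg (Points.ofScheme T') (hφQ.trans hl₁P.symm)).trans
      (Points.map_yon_map_apply l₁ _).symm)
  obtain ⟨L₂, _, str₂, j₂, l₂, hl₂, -⟩ := exists_extension_lift (hX'.representable_from_yon c) a₁ Qp
    (hpt a₁ (sqX.lift_snd _ _ _))
  obtain ⟨L₃, _, str₃, j₃, l₃, hl₃, hl₃Q⟩ := exists_extension_lift (hX'.representable_from_yon c)
    ((yon S).map j₂ ≫ b₁) Qp (by
      rw [hpt b₁ (sqX.lift_snd _ _ _), ofPt_map]
      exact congrArg (Points.ofPt b₁) (@Subsingleton.elim _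
        (inferInstanceAs (Subsingleton (Spec (CommRingCat.of L)))) _ _))
  have hφeq : (j₃ ≫ l₂) ≫ φ = l₃ ≫ φ := (yon S).map_injective (by
    have h2 := hl₂ =≫ pullback.snd f ((yon S).map g)
    have h3 := hl₃ =≫ pullback.snd f ((yon S).map g)
    simp only [c, a₁, b₁, Category.assoc, IsPullback.lift_snd] at h2 h3
    simp only [Functor.map_comp, Category.assoc]
    rw [h2, h3])
  obtain ⟨c₁, hc₁⟩ := Spec.map_surjective (R := CommRingCat.of C) (S := CommRingCat.of L₃) (j₃ ≫ l₂).left
  obtain ⟨c₂, hc₂⟩ := Spec.map_surjective (R := CommRingCat.of C) (S := CommRingCat.of L₃) l₃.left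
  have h12 : CommRingCat.ofHom gR ≫ c₁ = CommRingCat.ofHom gR ≫ c₂ := Spec.map_injective (by
    rw [Spec.map_comp, Spec.map_comp, hc₁, hc₂]
    exact congrArg (fun k => Over.Hom.left k) hφeq)
  have hker : RingHom.ker (c₁.hom.comp gR) = P := by
    refine ker_eq_of_closedPoint (CommRingCat.ofHom gR ≫ c₁) ⟨P, ‹_›⟩ ?_
    rw [h12, Spec.map_comp, hc₂]
    change φ.left (l₃.left _) = Pp
    rw [hl₃Q, hφQ]
  have hc : c₁ = c₂ := CommRingCat.hom_ext
    (hrad L₃ c₁.hom c₂.hom (congrArg CommRingCat.Hom.hom h12) hker)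
  have hll : j₃ ≫ l₂ = l₃ := Over.OverMorphism.ext (by rw [← hc₁, ← hc₂, hc])
  have : Nonempty (Over.mk str₃).left := ⟨(IsLocalRing.closedPoint L₃ : Spec (CommRingCat.of L₃))⟩
  refine eq_of_field_extension hX f a b e (j₃ ≫ j₂ ≫ j₁) ?_
  have h2 := hl₂ =≫ pullback.fst f ((yon S).map g)
  have h3 := hl₃ =≫ pullback.fst f ((yon S).map g)
  rw [← hll, Functor.map_comp] at h3
  simp only [c, a₁, b₁, Category.assoc, IsPullback.lift_fst] at h2 h3
  simp only [Functor.map_comp, Category.assoc]
  rw [← h2]
  exact h3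

/-- Injectivity after etale base changes gives universal injectivity, over a scheme. -/
theorem isUnivInjectiveMor_of_injective_etale_scheme {X : Sp S} (hX : IsAlgSpace X) {W : Over S}
    (f : X ⟶ (yon S).obj W) (hft : LocP @LocallyOfFiniteType f)
    (H : ∀ (W' : Over S) (g : W' ⟶ W), Etale g.left →
      ∀ (P : Sp S) (fst : P ⟶ X) (snd : P ⟶ (yon S).obj W'), IsPullback fst snd f ((yon S).map g) →
        Function.Injective (Points.map snd)) : IsUnivInjectiveMor f := by
  refine isUnivInjectiveMor_of_injective_on_fields fun K _ str a b e => ?_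
  change a ≫ f = b ≫ f at e
  obtain ⟨γ, hγ⟩ := (yon S).map_surjective (a ≫ f)
  obtain ⟨O, hO, hwO, -⟩ := exists_isAffineOpen_mem_and_subset (U := (⊤ : W.left.Opens))
    (x := γ.left (IsLocalRing.closedPoint K)) trivial
  have : IsAffine (openOver W O).left := hO
  have hsub : Set.range γ.left ⊆ Set.range O.ι := by
    rw [Scheme.Opens.range_ι]
    rintro _ ⟨z, rfl⟩
    rw [show z = IsLocalRing.closedPoint K from @Subsingleton.elim (Spec (CommRingCat.of K)) inferInstance _ _]
    exact hwO
  let k : (Over.mk str).left ⟶ O.toScheme := IsOpenImmersion.lift O.ι γ.left hsub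
  have hk : k ≫ O.ι = γ.left := IsOpenImmersion.lift_fac _ _ _
  let γ' : Over.mk str ⟶ openOver W O := Over.homMk (U := Over.mk str) (V := openOver W O) k (by
    change k ≫ O.ι ≫ W.hom = str
    rw [reassoc_of% hk]
    exact Over.w γ)
  have hγ' : γ' ≫ openIncl W O = γ := Over.OverMorphism.ext hk
  have sq := IsPullback.of_hasPullback f ((yon S).map (openIncl W O))
  have hP := isAlgSpace_pullback (IsAlgSpace.yon_obj W).diag hX (IsAlgSpace.yon_obj (openOver W O)) f
    ((yon S).map (openIncl W O))
  let a' := sq.lift a ((yon S).map γ') (by rw [← Functor.map_comp, hγ', hγ])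
  let b' := sq.lift b ((yon S).map γ') (by rw [← Functor.map_comp, hγ', hγ, ← e])
  have key : a' = b' := by
    refine eq_of_injective_etale_affine hP (pullback.snd f ((yon S).map (openIncl W O)))
      (Groth.Agent.H12AlgSp.locP_of_isPullback etLocal_lft sq hX (IsAlgSpace.yon_obj W) (IsAlgSpace.yon_obj _) hft)
      (fun T' g hg => ?_) a' b' (by rw [sq.lift_snd, sq.lift_snd])
    have : Etale (openIncl W O).left := inferInstanceAs (Etale O.ι)
    refine H T' (g ≫ openIncl W O) (inferInstanceAs (Etale (g.left ≫ (openIncl W O).left)))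
      (pullback (pullback.snd f ((yon S).map (openIncl W O))) ((yon S).map g))
      (pullback.fst _ _ ≫ pullback.fst f ((yon S).map (openIncl W O))) (pullback.snd _ _) ?_
    rw [Functor.map_comp]
    exact (IsPullback.of_hasPullback (pullback.snd f ((yon S).map (openIncl W O))) ((yon S).map g)).paste_horiz sq
  have := key =≫ pullback.fst f ((yon S).map (openIncl W O))
  rwa [sq.lift_fst, sq.lift_fst] at this

end Groth.Agent.H13AlgSp
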