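import Groth.Agent.H13AlgSp.CodimOneQf
import Groth.Agent.H13AlgSp.FiniteMor
import Groth.Agent.H12AlgSp.OpenLoci
import Groth.Agent.H12AlgSp.OpenSub
import Groth.Agent.H12AlgSp.Proper

/-!
Proper morphisms are finite near points over which they are quasi-finite.
-/

universe u

open CategoryTheory CategoryTheory.Limits AlgebraicGeometry Opposite Topology
open AlgSp Groth.Agent.H12AlgSp

namespace Groth.Agent.H13AlgSp

variable {S : Scheme.{u}}

theorem locP_lqf_of_qfAt {X Y : Sp S} {f : X ⟶ Y} (hf : LocP @LocallyOfFiniteType f)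
    (h : ∀ x, QfAt f x) : LocP (@LocallyQuasiFinite ⊓ @LocallyOfFiniteType) f := by
  intro U V a b g ha hb w
  have : LocallyOfFiniteType g.left := hf a b g ha hb w
  refine ⟨(locallyQuasiFinite_iff_fibreDimAt g.left).2 fun u => ?_, this⟩
  have := (nbhd_hasAtMor_iff (etLocal_inf etLocal_lqf etLocal_lft) ha hb w u).1 (h (Points.ofPt a u))
  exact le_antisymm ((nbhd_lqf_iff g.left u).1 this) (H7Flat.fibreDimAt_nonneg g.left u)

theorem exists_finite_nhd_of_proper {X Y : Space S} (f : X ⟶ Y) (hp : IsProperMor f.hom)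
    (y : Points Y.obj) (hq : ∀ x, Points.map f.hom x = y → QfAt f.hom x) :
    ∃ (Y' : Space S) (j : Y' ⟶ Y), RepWith @IsOpenImmersion j.hom ∧
      y ∈ Set.range (Points.map j.hom) ∧
      ∀ (P : Space S) (fst : P ⟶ Y') (snd : P ⟶ X), IsPullback fst.hom snd.hom j.hom f.hom →
        IsFiniteMor fst.hom := by
  have hclosed : IsClosedMap (Points.map f.hom) :=
    hp.2.2 Y.property (𝟙 _) (𝟙 _) f.hom (IsPullback.of_horiz_isIso ⟨by simp⟩)
  let W : Set (Points Y.obj) := (Points.map f.hom '' {x | QfAt f.hom x}ᶜ)ᶜ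
  have hW : IsOpen W := (hclosed _ (isOpen_qfAt f.hom).isClosed_compl).isOpen_compl
  have hyW : y ∈ W := fun ⟨x, hx, e⟩ => hx (hq x e)
  let Y' : Space S := ⟨openSub W, isAlgSpace_of_representable _ (repWith_openSubι hW).1 Y.property⟩
  refine ⟨Y', ObjectProperty.homMk (openSubι W), repWith_openSubι hW, ?_, fun P fst snd sq => ?_⟩
  · show y ∈ Set.range (Points.map (openSubι W))
    rw [range_openSubι Y.property]
    exact hyW
  · have hfst := isProperMor_of_isPullback X.property Y.property Y'.property sq.flip hp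
    refine isFiniteMor_of_univClosed_lqf P.property Y'.property hfst.2.2 hfst.1
      (locP_lqf_of_qfAt hfst.2.1.1 fun z => ?_)
    refine (nbhd_lqf_baseChange sq.flip X.property Y.property Y'.property hp.2.1.1 z).2 ?_
    by_contra hx
    have hmem : Points.map f.hom (Points.map snd.hom z) ∈ W := by
      rw [← Points.map_comp, ← sq.w, Points.map_comp]
      have h1 : Points.map (openSubι W) (Points.map fst.hom z) ∈ Set.range (Points.map (openSubι W)) :=
        ⟨_, rfl⟩
      rwa [range_openSubι Y.property] at h1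
    exact hmem ⟨_, hx, rfl⟩

end Groth.Agent.H13AlgSp
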