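import Groth.Agent.H13AlgSp.DenseFinite
import Groth.Agent.H13AlgSp.ProperQf
import Groth.Agent.H13AlgSp.RedInduced
import Groth.Agent.H13AlgSp.DecentApps
import Groth.Agent.S2080

/-!
Integral spaces which are generically finite over their image.
-/

universe u

open CategoryTheory CategoryTheory.Limits AlgebraicGeometry Opposite Topology
open AlgSp Groth.Agent.H12AlgSp

namespace Groth.Agent.H13AlgSp.GenFinite

variable {S : Scheme.{u}} {X Y : Sp S}

theorem codimZero_iff_eq (hX : IsAlgSpace X) (hXi : IsIntegralSp X) {x : Points X}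
    (hx : IsGenericPoint x (Set.univ : Set (Points X))) (z : Points X) : CodimZero X z ↔ z = x := by
  have := hXi.2.2
  have := t0Space_points hX hXi.2.1
  have huniv : irreducibleComponents (Points X) = {Set.univ} := by
    ext T
    refine ⟨fun hT => Set.eq_univ_of_univ_subset
      (hT.2 (IrreducibleSpace.isIrreducible_univ _) (Set.subset_univ T)), ?_⟩
    rintro rfl
    exact ⟨(IrreducibleSpace.isIrreducible_univ _), fun T _ _ => Set.subset_univ T⟩
  rw [show CodimZero X z ↔ _ from (component_iff_hasAt hX hXi.2.1 z).symm, huniv]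
  refine ⟨?_, fun e => ⟨_, rfl, e ▸ hx⟩⟩
  rintro ⟨T, rfl : T = Set.univ, hz⟩
  exact hz.eq hx

theorem qfAt_of_isFiniteMor_pullback {V P : Sp S} (hX : IsAlgSpace X) (hY : IsAlgSpace Y)
    (hV : IsAlgSpace V) {f : X ⟶ Y} (hf : LocP @LocallyOfFiniteType f) {j : V ⟶ Y} {fst : P ⟶ X}
    {snd : P ⟶ V} (sq : IsPullback fst snd f j) (hfin : IsFiniteMor snd)
    {x : Points X} (hx : Points.map f x ∈ Set.range (Points.map j)) : QfAt f x := by
  obtain ⟨v, hv⟩ := hx
  obtain ⟨z, rfl, -⟩ := exists_point_of_isPullback sq x v hv.symm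
  refine (nbhd_lqf_baseChange sq hX hY hV hf z).1 ?_
  have hP := isAlgSpace_of_isPullback hY.diag hX hV sq
  obtain ⟨U, W, a, b, h, u, ha, hb, w, rfl⟩ := exists_chart_at hP hV snd z
  have hl : LocP (@LocallyQuasiFinite ⊓ @LocallyOfFiniteType) snd :=
    locP_of_repWith (etLocal_inf etLocal_lqf etLocal_lft) (repWith_le (fun _ _ g (_ : IsFinite g) =>
      ⟨inferInstanceAs (LocallyQuasiFinite g), inferInstanceAs (LocallyOfFiniteType g)⟩)
      (isFiniteMor_iff.1 hfin))
  obtain ⟨h1, h2⟩ := hl a b h ha hb w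
  have : LocallyQuasiFinite h.left := h1
  have : LocallyOfFiniteType h.left := h2
  exact ⟨U, W, a, b, h, u, ha, hb, w, rfl, ⊤, trivial, inferInstance, inferInstance⟩

theorem exists_affine_nhd_in (hY : IsAlgSpace Y) (hd : IsDecent Y)
    (hfin : {y : Points Y | CodimZero Y y}.Finite) {y : Points Y} (hy : CodimZero Y y)
    {O : Set (Points Y)} (hO : IsOpen O) (hyO : y ∈ O) :
    ∃ (V : Over S) (j : (yon S).obj V ⟶ Y) (v : V.left), IsAffine V.left ∧ RepWith @IsOpenImmersion j ∧
      Points.ofPt j v = y ∧ v ∈ genericPoints V.left ∧ ∀ w, Points.ofPt j w ∈ O := by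
  obtain ⟨V₀, j₀, v₀, -, hj₀, hjv, -⟩ :=
    Groth.Agent.H13AlgSp.DenseFinite.exists_affine_open_nhd hY hd hfin hy
  obtain ⟨_, ⟨(A : V₀.left.Opens), hA, rfl⟩, hvA, hAO⟩ :=
    V₀.left.isBasis_affineOpens.exists_subset_of_mem_open (a := v₀)
      (show v₀ ∈ Points.ofPt j₀ ⁻¹' O by simpa [hjv] using hyO) (hO.preimage (Points.continuous_ofPt j₀))
  let V : Over S := Over.mk (A.ι ≫ V₀.hom)
  let ι : V ⟶ V₀ := Over.homMk A.ι
  have hι : IsOpenImmersion ι.left := inferInstanceAs (IsOpenImmersion A.ι)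
  have hj : RepWith @IsOpenImmersion ((yon S).map ι ≫ j₀) := repWith_comp ((repWith_yon_map_iff _ ι).2 hι) hj₀
  have hv : Points.ofPt ((yon S).map ι ≫ j₀) ⟨v₀, hvA⟩ = y := by rw [ofPt_map, ← hjv]; rfl
  refine ⟨V, _, ⟨v₀, hvA⟩, hA, hj, hv, mem_genericPoints_of_codimZero hY hy
    (Groth.Agent.H13AlgSp.DenseFinite.repWith_etale_of_openImmersion hj) hv, fun w => ?_⟩
  rw [ofPt_map]
  exact hAO w.2

theorem exists_affine_finite_iff (hX : IsAlgSpace X) (hY : IsAlgSpace Y) (hXi : IsIntegralSp X)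
    (hYi : IsIntegralSp Y) {f : X ⟶ Y} (hft : LocP @LocallyOfFiniteType f) (hd : IsDominantMor f)
    {x : Points X} (hx : IsGenericPoint x (Set.univ : Set (Points X)))
    {y : Points Y} (hy : IsGenericPoint y (Set.univ : Set (Points Y))) :
    (∃ (U V : Over S) (a : (yon S).obj U ⟶ X) (b : (yon S).obj V ⟶ Y) (g : U ⟶ V),
      IsAffine U.left ∧ IsAffine V.left ∧ Nonempty ↥U.left ∧
        RepWith @IsOpenImmersion a ∧ RepWith @IsOpenImmersion b ∧
          a ≫ f = (yon S).map g ≫ b ∧ IsFinite g.left) ↔ (∀ x', Points.map f x' = y → x' = x) := by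
  have hxy : Points.map f x = y := map_generic hY hYi.2.1 hd hx hy
  have hcx := codimZero_iff_eq hX hXi hx
  have hcy := codimZero_iff_eq hY hYi hy
  constructor
  · rintro ⟨U, V, a, b, g, hU, hV, ⟨u₁⟩, ha, hb, w, hg⟩
    refine (qfAt_iff_fibre_eq hX hY hYi.2.1 hft hx hxy).1 ?_
    have hae := Groth.Agent.H13AlgSp.DenseFinite.repWith_etale_of_openImmersion ha
    have hbe := Groth.Agent.H13AlgSp.DenseFinite.repWith_etale_of_openImmersion hb
    obtain ⟨u, hu⟩ : x ∈ Set.range (Points.ofPt a) :=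
      (hx.specializes (Set.mem_univ _)).mem_open
        (isOpenMap_ofPt_of_repWith etale_le_universallyOpen hae).isOpen_range ⟨u₁, rfl⟩
    exact ⟨U, V, a, b, g, u, hae, hbe, w, hu, ⊤, trivial, inferInstance, inferInstance⟩
  · intro h
    have hYfin : {y' : Points Y | CodimZero Y y'}.Finite :=
      (Set.finite_singleton y).subset fun z hz => (hcy z).1 hz
    have hXfin : {x' : Points X | CodimZero X x'}.Finite :=
      (Set.finite_singleton x).subset fun z hz => (hcx z).1 hz
    obtain ⟨V₀, b₀, v₀, hV₀, hb₀, hbv, hv₀, -⟩ :=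
      exists_affine_nhd_in hY hYi.2.1 hYfin ((hcy y).2 rfl) isOpen_univ trivial
    have hbe := Groth.Agent.H13AlgSp.DenseFinite.repWith_etale_of_openImmersion hb₀
    have hbo : IsOpen (Set.range (Points.ofPt b₀)) :=
      (isOpenMap_ofPt_of_repWith etale_le_universallyOpen hbe).isOpen_range
    obtain ⟨U₀, a₀, u₀, hU₀, ha₀, hau, hu₀, hin⟩ :=
      exists_affine_nhd_in hX hXi.2.1 hXfin ((hcx x).2 rfl) (hbo.preimage (Points.continuous_map f))
        (show Points.map f x ∈ Set.range (Points.ofPt b₀) from ⟨v₀, hbv.trans hxy.symm⟩)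
    obtain ⟨l, hl⟩ := exists_factor_open hb₀ (a₀ ≫ f) (by
      rw [range_map_yon, range_map_yon]
      rintro _ ⟨t, rfl⟩
      rw [← Points.map_ofPt]
      exact hin t)
    obtain ⟨g, rfl⟩ := (yon S).map_surjective l
    have hae := Groth.Agent.H13AlgSp.DenseFinite.repWith_etale_of_openImmersion ha₀
    have := hft a₀ b₀ g hae hbe hl.symm
    have hgu : g.left u₀ = v₀ := by
      have : Mono b₀ := mono_of_openImmersion hb₀
      refine (Points.schemeHomeo V₀).injective (injective_map_of_mono b₀ ?_)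
      show Points.map b₀ (Points.ofScheme V₀ _) = Points.map b₀ (Points.ofScheme V₀ _)
      rw [← Points.ofPt_eq_map_ofScheme, ← Points.ofPt_eq_map_ofScheme, ← ofPt_map, hl, hbv,
        ← Points.map_ofPt, hau, hxy]
    have hfibre : ∀ u, g.left u = v₀ → u ∈ genericPoints U₀.left := fun u hu => by
      refine mem_genericPoints_of_codimZero hX ((hcx _).2 ?_) hae rfl
      refine h _ ?_
      rw [Points.map_ofPt, ← hl, ofPt_map, hu, hbv]
    obtain ⟨V₁, hV₁, hv₁, hfin⟩ := (Groth.Agent.S2080.result g.left v₀ hv₀).1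
      (Groth.Agent.H13AlgSp.QfFinite.finite_fibre_of_generic g.left v₀ hfibre)
    let V : Over S := Over.mk (V₁.ι ≫ V₀.hom)
    let U : Over S := Over.mk ((g.left ⁻¹ᵁ V₁).ι ≫ U₀.hom)
    let ιU : U ⟶ U₀ := Over.homMk (g.left ⁻¹ᵁ V₁).ι
    let ιV : V ⟶ V₀ := Over.homMk V₁.ι
    let k : U ⟶ V := Over.homMk (g.left ∣_ V₁) (by
      show (g.left ∣_ V₁) ≫ V₁.ι ≫ V₀.hom = (g.left ⁻¹ᵁ V₁).ι ≫ U₀.hom
      rw [← Category.assoc, morphismRestrict_ι, Category.assoc, Over.w g])
    have hιU : IsOpenImmersion ιU.left := inferInstanceAs (IsOpenImmersion (g.left ⁻¹ᵁ V₁).ι)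
    have hιV : IsOpenImmersion ιV.left := inferInstanceAs (IsOpenImmersion V₁.ι)
    have hk : ιU ≫ g = k ≫ ιV := by
      ext1
      exact (morphismRestrict_ι g.left V₁).symm
    haveI := hV₁
    haveI : IsAffine (V₁ : Scheme) := hV₁
    haveI : IsFinite (g.left ∣_ V₁) := hfin
    refine ⟨U, V, (yon S).map ιU ≫ a₀, (yon S).map ιV ≫ b₀, k, ?_, hV₁, ⟨⟨u₀, ?_⟩⟩,
      repWith_comp ((repWith_yon_map_iff _ _).2 hιU) ha₀, repWith_comp ((repWith_yon_map_iff _ _).2 hιV) hb₀,
      ?_, hfin⟩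
    · exact isAffine_of_isAffineHom (g.left ∣_ V₁)
    · show g.left u₀ ∈ V₁
      rw [hgu]; exact hv₁
    · rw [Category.assoc, ← hl, ← Category.assoc, ← Functor.map_comp, hk, Functor.map_comp, Category.assoc]

theorem exists_affine_finite_over_iff (hX : IsAlgSpace X) (hY : IsAlgSpace Y) (hXi : IsIntegralSp X)
    (hYi : IsIntegralSp Y) {f : X ⟶ Y} (hft : LocP @LocallyOfFiniteType f) (hd : IsDominantMor f)
    {x : Points X} (hx : IsGenericPoint x (Set.univ : Set (Points X)))
    {y : Points Y} (hy : IsGenericPoint y (Set.univ : Set (Points Y)))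
    (hsq : IsSeparatedMor f ∨ IsQuasiCompactMor f) :
    (∀ x', Points.map f x' = y → x' = x) ↔
      ∃ (V : Over S) (b : (yon S).obj V ⟶ Y) (U : Over S) (g : U ⟶ V) (a : (yon S).obj U ⟶ X),
        IsAffine V.left ∧ Nonempty ↥V.left ∧ RepWith @IsOpenImmersion b ∧
          IsPullback a ((yon S).map g) f b ∧ IsAffine U.left ∧ IsFinite g.left := by
  have hxy : Points.map f x = y := map_generic hY hYi.2.1 hd hx hy
  have hcx := codimZero_iff_eq hX hXi hx
  have hcy := codimZero_iff_eq hY hYi hy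
  constructor
  · intro h
    have hYfin : {y' : Points Y | CodimZero Y y'}.Finite :=
      (Set.finite_singleton y).subset fun z hz => (hcy z).1 hz
    obtain ⟨W, hW, hWd, hfin⟩ := Groth.Agent.H13AlgSp.DenseFinite.exists_dense_open_finite hX hY hft
      hYi.2.1 ((Set.finite_singleton x).subset fun z hz => (hcx z).1 hz) hYfin
      (fun z => by
        rw [hcx, hcy]
        exact ⟨fun e => e ▸ hxy, h z⟩) hsq.symm
    obtain ⟨w₀, hw₀⟩ := hWd.inter_open_nonempty Set.univ isOpen_univ ⟨y, trivial⟩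
    have hyW : y ∈ W := (hy.specializes (Set.mem_univ w₀)).mem_open hW hw₀.2
    obtain ⟨V, b, v, hV, hb, -, -, hin⟩ := exists_affine_nhd_in hY hYi.2.1 hYfin ((hcy y).2 rfl) hW hyW
    obtain ⟨l, hl⟩ := exists_factor_open (repWith_openSubι hW) b (by
      rw [range_openSubι hY W, range_map_yon]
      rintro _ ⟨t, rfl⟩
      exact hin t)
    obtain ⟨U, g, a, sq, hU, hg⟩ := hfin hV l
    have big := sq.paste_horiz (IsPullback.of_hasPullback (openSubι W) f).flip
    rw [hl] at big
    exact ⟨V, b, U, g, _, hV, ⟨v⟩, hb, big, hU, hg⟩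
  · rintro ⟨V, b, U, g, a, hV, ⟨v₁⟩, hb, sq, hU, hg⟩
    refine (qfAt_iff_fibre_eq hX hY hYi.2.1 hft hx hxy).1 ?_
    refine qfAt_of_isFiniteMor_pullback hX hY (IsAlgSpace.yon_obj V) hft sq
      (isFiniteMor_iff.2 ((repWith_yon_map_iff _ g).2 hg)) ?_
    rw [hxy, range_map_yon]
    exact (hy.specializes (Set.mem_univ _)).mem_open
      (isOpenMap_ofPt_of_repWith etale_le_universallyOpen
        (Groth.Agent.H13AlgSp.DenseFinite.repWith_etale_of_openImmersion hb)).isOpen_range ⟨v₁, rfl⟩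

theorem alteration_iff {X Y : Space S} (hXi : IsIntegralSp X.obj) (hYi : IsIntegralSp Y.obj) (f : X ⟶ Y)
    (hp : IsProperMor f.hom) (hd : IsDominantMor f.hom)
    {x : Points X.obj} (hx : IsGenericPoint x (Set.univ : Set (Points X.obj)))
    {y : Points Y.obj} (hy : IsGenericPoint y (Set.univ : Set (Points Y.obj))) :
    (∃ (V : Space S) (j : V ⟶ Y), RepWith @IsOpenImmersion j.hom ∧ Nonempty (Points V.obj) ∧
      ∀ (P : Space S) (fst : P ⟶ V) (snd : P ⟶ X), IsPullback fst.hom snd.hom j.hom f.hom →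
        IsFiniteMor fst.hom) ↔ (∀ x', Points.map f.hom x' = y → x' = x) := by
  have hxy : Points.map f.hom x = y := map_generic Y.property hYi.2.1 hd hx hy
  constructor
  · rintro ⟨V, j, hj, ⟨v₁⟩, hfin⟩
    refine (qfAt_iff_fibre_eq X.property Y.property hYi.2.1 hp.2.1.1 hx hxy).1 ?_
    have hP := isAlgSpace_pullback Y.property.diag V.property X.property j.hom f.hom
    have sq := IsPullback.of_hasPullback j.hom f.hom
    refine qfAt_of_isFiniteMor_pullback X.property Y.property V.property hp.2.1.1 sq.flip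
      (hfin ⟨_, hP⟩ (ObjectProperty.homMk (pullback.fst _ _)) (ObjectProperty.homMk (pullback.snd _ _)) sq) ?_
    rw [hxy]
    exact (hy.specializes (Set.mem_univ _)).mem_open
      (isOpenMap_map_of_repWith etale_le_universallyOpen
        (Groth.Agent.H13AlgSp.DenseFinite.repWith_etale_of_openImmersion hj)).isOpen_range ⟨v₁, rfl⟩
  · intro h
    obtain ⟨V, j, hj, hyj, hfin⟩ := exists_finite_nhd_of_proper f hp y fun x' hx' => by
      rw [h x' hx']
      exact (qfAt_iff_fibre_eq X.property Y.property hYi.2.1 hp.2.1.1 hx hxy).2 h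
    obtain ⟨v, -⟩ := hyj
    exact ⟨V, j, hj, ⟨v⟩, hfin⟩

/-- A proper surjection onto an integral space restricts to an alteration. -/
theorem exists_alteration {X Y : Space S} (f : X ⟶ Y) (hf : IsProperMor f.hom)
    (hs : IsSurjectiveMor f.hom) (hY : IsIntegralSp Y.obj) :
    ∃ (X' : Space S) (i : X' ⟶ X), RepWith @IsClosedImmersion i.hom ∧ IsIntegralSp X'.obj ∧
      IsProperMor (i ≫ f).hom ∧ IsDominantMor (i ≫ f).hom ∧
      ∃ (V : Space S) (j : V ⟶ Y), RepWith @IsOpenImmersion j.hom ∧ Nonempty (Points V.obj) ∧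
        ∀ (P : Space S) (fst : P ⟶ V) (snd : P ⟶ X'), IsPullback fst.hom snd.hom j.hom (i ≫ f).hom →
          IsFiniteMor fst.hom := by
  have := hY.2.2
  have := quasiSober_of_isDecent Y.property hY.2.1
  let y := genericPoint (Points Y.obj)
  have hy : IsGenericPoint y (Set.univ : Set (Points Y.obj)) := genericPoint_spec _
  have hXd : IsDecent X.obj := isDecent_of_isDecentMor f.hom
    (isDecentMor_of_isQuasiSeparatedMor X.property Y.property (isQuasiSeparatedMor_of_isSeparatedMor hf.1))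
    hY.2.1
  have := t0Space_points X.property hXd
  obtain ⟨r, X₀, fst, snd, φ, sq, hr, hX₀, -, -, -⟩ :=
    exists_fibre_homeo X.property Y.property hf.2.1.1 hY.2.1 y
  have : CompactSpace (Points X₀) := compactSpace_points_of_isQuasiCompactSp
    (hf.2.1.2 (IsAlgSpace.yon_obj r.pt) (isQuasiCompactSp_yon_iff.2
      (inferInstanceAs (CompactSpace (Spec (CommRingCat.of r.K))))) r.toHom fst snd sq)
  have : CompactSpace ↥(Points.map f.hom ⁻¹' {y}) := φ.compactSpace
  obtain ⟨p, -, hp⟩ := IsClosed.exists_closed_singleton (isClosed_univ (X := ↥(Points.map f.hom ⁻¹' {y}))) (by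
    obtain ⟨x₀, hx₀⟩ := hs y
    exact ⟨⟨x₀, hx₀⟩, trivial⟩)
  obtain ⟨Z, i, hZ, hi, hiT, hired⟩ := exists_isRedInduced X.property (isClosed_closure (s := {p.1}))
  let X' : Space S := ⟨Z, hZ⟩
  let i' : X' ⟶ X := ObjectProperty.homMk i
  haveI : Mono i := mono_of_repWith (fun _ _ j (_ : IsClosedImmersion j) => inferInstanceAs (Mono j)) hi
  have hip := isProperMor_of_isClosedImmersion X.property hi
  have hemb : IsClosedEmbedding (Points.map i) := by
    refine IsClosedEmbedding.of_continuous_injective_isClosedMap (Points.continuous_map i)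
      (injective_map_of_mono i) ?_
    exact hip.2.2 X.property (𝟙 _) (𝟙 _) i (IsPullback.of_horiz_isIso ⟨by simp⟩)
  obtain ⟨z, hz⟩ := hiT.ge (subset_closure rfl : p.1 ∈ closure {p.1})
  have hzgen : IsGenericPoint z (Set.univ : Set (Points Z)) := Set.eq_univ_of_forall fun w => by
    rw [← specializes_iff_mem_closure, ← hemb.isInducing.specializes_iff, hz,
      specializes_iff_mem_closure]
    exact hiT.le ⟨w, rfl⟩
  have hZi : IsIntegralSp Z := by
    refine ⟨hired, isDecent_of_isDecentMor i (isDecentMor_of_representable hi.1) hXd, ?_⟩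
    have h1 : IsIrreducible (Set.univ : Set (Points Z)) := hzgen ▸ isIrreducible_singleton.closure
    haveI : PreirreducibleSpace (Points Z) := ⟨h1.2⟩
    haveI : Nonempty (Points Z) := ⟨z⟩
    exact ⟨inferInstance⟩
  have hzy : Points.map (i' ≫ f).hom z = y := by
    show Points.map (i ≫ f.hom) z = y
    rw [Points.map_comp, hz]
    exact p.2
  have hprop : IsProperMor (i' ≫ f).hom := isProperMor_comp hZ X.property Y.property hip hf
  have hdom : IsDominantMor (i' ≫ f).hom := fun t => by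
    refine closure_mono (Set.singleton_subset_iff.2 (Set.mem_range_self z)) ?_
    rw [hzy]
    exact (hy.specializes (Set.mem_univ t)).mem_closure
  refine ⟨X', i', hi, hZi, hprop, hdom, (alteration_iff hZi hY (i' ≫ f) hprop hdom hzgen hy).2 fun w hw => ?_⟩
  refine injective_map_of_mono i ?_
  have h1 : p.1 ⤳ Points.map i w := specializes_iff_mem_closure.2 (hiT.le ⟨w, rfl⟩)
  have h2 : Points.map f.hom (Points.map i w) = y := by rw [← Points.map_comp]; exact hw
  have h3 : p ⤳ ⟨Points.map i w, h2⟩ := (subtype_specializes_iff _ _).2 h1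
  rw [hz]
  exact congrArg Subtype.val (Set.mem_singleton_iff.1 (h3.mem_closed hp (Set.mem_singleton p)))

end Groth.Agent.H13AlgSp.GenFinite
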