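import Groth.Agent.H13AlgSp.AffPush
import Groth.Agent.H12AlgSp.EtStalk
import Groth.Agent.H18Et.IntegralSection
import Mathlib.Algebra.Homology.ShortComplex.ExactFunctor

/-!
Direct images of abelian sheaves along integral morphisms are exact.
-/

set_option autoImplicit false
set_option backward.isDefEq.respectTransparency false
set_option linter.style.haveILetI false

universe w

open CategoryTheory CategoryTheory.Limits AlgebraicGeometry Opposite
open AlgSp Groth.Agent.H12AlgSp Groth.Agent.H12AlgSp.BCMod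

namespace Groth.Agent.H13AlgSp.IntegralPush

variable {S : Scheme.{w}} {X Y : Sp S} {f : X ⟶ Y} (hf : Representable f)

theorem isIntegralHom_snd (hint : IsIntegralMor f) {A : EtOver Y} (hA : IsAffine A.obj.left.left) :
    IsIntegralHom (hf.snd A.obj.hom).left := by
  obtain ⟨W, i, fst, sq, hW, hi⟩ := hint hA A.obj.hom
  let e : (yon S).obj W ≅ (yon S).obj ((EtOver.bc hf).obj A).obj.left :=
    sq.isoIsPullback _ _ (hf.isPullback A.obj.hom)
  have h : ((yon S).preimageIso e).hom ≫ hf.snd A.obj.hom = i := (yon S).map_injective (by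
    rw [Functor.map_comp, Functor.preimageIso_hom, Functor.map_preimage]
    exact sq.isoIsPullback_hom_snd _ _ (hf.isPullback A.obj.hom))
  have h' : hf.snd A.obj.hom = ((yon S).preimageIso e).inv ≫ i := by rw [← h, Iso.inv_hom_id_assoc]
  haveI : IsIso ((yon S).preimageIso e).inv.left :=
    inferInstanceAs (IsIso ((Over.forget S).map ((yon S).preimageIso e).inv))
  rw [h']
  exact (MorphismProperty.cancel_left_of_respectsIso @IsIntegralHom _ _).2 hi

theorem eq_of_isEmpty (F : AbEt X) {Z : EtOver X} [IsEmpty ↥Z.obj.left.left] (a b : F.obj.obj (op Z)) : a = b := by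
  have hs := (isSheaf_iff_isSheaf_of_type _ _).1
    (Presheaf.isSheaf_comp_of_isSheaf (etTop X) F.obj (CategoryTheory.forget AddCommGrpCat.{w + 1}) F.property)
  exact ((hs ⊥ (mem_etTop_of_forall_point _ fun x => isEmptyElim x)).isSeparatedFor).ext
    fun _ _ h => h.elim

theorem mono_etOpenι (E : EtOver X) (V : E.obj.left.left.Opens) : Mono (etOpenι E V) :=
  ⟨fun a b h => EtOver.hom_ext _ _ (Over.OverMorphism.ext
    ((cancel_mono V.ι).1 (congrArg (fun k => k.hom.left.left) h)))⟩

theorem exists_local_lift {F G : AbEt X} (φ : F ⟶ G) [Sheaf.IsLocallySurjective φ] (hint : IsIntegralMor f)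
    {A : EtOver Y} (hA : IsAffine A.obj.left.left) (t : G.obj.obj (op ((EtOver.bc hf).obj A))) :
    Presheaf.imageSieve ((pushEt hf AddCommGrpCat.{w + 1}).map φ).hom (U := A) t ∈ etTop Y A := by
  refine mem_etTop_of_forall_point _ fun y => ?_
  let B := (EtOver.bc hf).obj A
  haveI : IsIntegralHom (hf.snd A.obj.hom).left := isIntegralHom_snd hf hint hA
  have hsieve := Presheaf.imageSieve_mem (etTop X) φ.hom (U := op B) t
  choose U γ hγ z hz using fun p : ↥B.obj.left.left => jointly_surjective_of_mem_etTop hsieve p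
  choose s₀ hs₀ using hγ
  haveI : IsZariskiLocalAtSource (@Etale.{w}) := inferInstance
  let g : (∐ fun p => (U p).obj.left.left) ⟶ B.obj.left.left := Limits.Sigma.desc fun p => (γ p).hom.left.left
  haveI : Etale g := IsZariskiLocalAtSource.sigmaDesc (P := @Etale) fun p => EtOver.etale_left (γ p)
  obtain ⟨V', q, hq, ⟨y', hy'⟩, a, ha⟩ := Groth.Agent.H18Et.exists_etale_section (hf.snd A.obj.hom).left g y
    fun x _ => ⟨Limits.Sigma.ι (fun p => (U p).obj.left.left) x (z x), by
      rw [← Scheme.Hom.comp_apply, Limits.Sigma.ι_desc]; exact hz x⟩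
  let q' : Over.mk (q ≫ A.obj.left.hom) ⟶ A.obj.left := Over.homMk q rfl
  let A' : EtOver Y := EtOver.mk ((yon S).map q' ≫ A.obj.hom)
    ((repWith_isMultiplicative (S := S) @Etale).comp_mem _ _ ((repWith_yon_map_iff _ _).2 hq) A.property)
  let h : A' ⟶ A := EtOver.homMk q' rfl
  refine ⟨A', h, y', ?_, hy'⟩
  let T := (EtOver.bc hf).obj A'
  let π : T ⟶ B := (EtOver.bc hf).map h
  have hsq : (hf.snd A'.obj.hom).left ≫ q = π.hom.left.left ≫ (hf.snd A.obj.hom).left :=
    (congrArg (fun k => k.left) (EtOver.bcMap_snd hf h)).symm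
  let m : T.obj.left.left ⟶ ∐ fun p => (U p).obj.left.left :=
    pullback.lift (hf.snd A'.obj.hom).left π.hom.left.left hsq ≫ a
  have hm : m ≫ g = π.hom.left.left := by
    rw [Category.assoc, ha]
    exact pullback.lift_snd _ _ _
  let O : ↥B.obj.left.left → T.obj.left.left.Opens := fun p =>
    m ⁻¹ᵁ (Limits.Sigma.ι (fun p => (U p).obj.left.left) p).opensRange
  let b : ∀ p, (O p).toScheme ⟶ (U p).obj.left.left := fun p =>
    IsOpenImmersion.lift (Limits.Sigma.ι (fun p => (U p).obj.left.left) p) ((O p).ι ≫ m)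
      (by rintro _ ⟨x, rfl⟩; exact x.2)
  have hb : ∀ p, b p ≫ (γ p).hom.left.left = (O p).ι ≫ π.hom.left.left := fun p => by
    rw [← hm, ← Category.assoc, ← IsOpenImmersion.lift_fac (Limits.Sigma.ι (fun p => (U p).obj.left.left) p)
      ((O p).ι ≫ m) (by rintro _ ⟨x, rfl⟩; exact x.2), Category.assoc, Limits.Sigma.ι_desc]
  let b' : ∀ p, (etOpen T (O p)).obj.left ⟶ (U p).obj.left := fun p => Over.homMk (b p) (by
    have h1 := Over.w (γ p).hom.left
    have h2 := Over.w π.hom.left
    change b p ≫ (U p).obj.left.hom = (O p).ι ≫ T.obj.left.hom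
    rw [← h1, ← h2, ← Category.assoc, hb p, Category.assoc])
  have hb' : ∀ p, b' p ≫ (γ p).hom.left = (etOpenι T (O p) ≫ π).hom.left := fun p =>
    Over.OverMorphism.ext (hb p)
  let β : ∀ p, etOpen T (O p) ⟶ U p := fun p => EtOver.homMk (b' p) (by
    rw [← EtOver.w (γ p), ← EtOver.w (etOpenι T (O p) ≫ π), ← Category.assoc, ← Functor.map_comp, hb'])
  have hβ : ∀ p, β p ≫ γ p = etOpenι T (O p) ≫ π := fun p => EtOver.hom_ext _ _ (hb' p)
  let s : ∀ p, ToType (F.obj.obj (op (etOpen T (O p)))) := fun p => F.obj.map (β p).op (s₀ p)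
  have hcov : ∀ x : ↥T.obj.left.left, ∃ p, x ∈ Set.range (etOpenι T (O p)).hom.left.left := fun x => by
    obtain ⟨p, w, hw⟩ := (sigmaOpenCover fun p => (U p).obj.left.left).exists_eq (m x)
    refine ⟨p, ⟨x, ?_⟩, rfl⟩
    exact ⟨w, hw⟩
  have hmem : Sieve.ofArrows _ (fun p => etOpenι T (O p)) ∈ etTop X T := ofArrows_mem_etTop _ _ hcov
  have hsh : ∀ K : AbEt X, Presieve.IsSheafFor (K.obj ⋙ CategoryTheory.forget AddCommGrpCat.{w + 1})
      (Presieve.ofArrows _ fun p => etOpenι T (O p)) := fun K => by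
    rw [Presieve.isSheafFor_iff_generate]
    exact ((isSheaf_iff_isSheaf_of_type _ _).1
      (Presheaf.isSheaf_comp_of_isSheaf (etTop X) K.obj (CategoryTheory.forget AddCommGrpCat.{w + 1}) K.property)) _ hmem
  have hcomp : Presieve.Arrows.Compatible (F.obj ⋙ CategoryTheory.forget AddCommGrpCat.{w + 1})
      (fun p => etOpenι T (O p)) s := by
    intro p p' Z gp gp' hZ
    by_cases hpp : p = p'
    · subst hpp
      haveI := mono_etOpenι T (O p)
      rw [(cancel_mono (etOpenι T (O p))).1 hZ]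
    · haveI : IsEmpty ↥Z.obj.left.left := ⟨fun x => by
        have h1 : ((gp.hom.left.left x).1 : ↥T.obj.left.left) = (gp'.hom.left.left x).1 :=
          congrArg (fun k => k.hom.left.left x) hZ
        exact Set.disjoint_left.1
          (TopologicalSpace.Opens.coe_disjoint.2
            (disjoint_opensRange_sigmaι (fun p => (U p).obj.left.left) p p' hpp))
          (gp.hom.left.left x).2 ((congrArg (fun u => m u) h1).symm ▸ (gp'.hom.left.left x).2)⟩
      exact eq_of_isEmpty F (Z := Z) _ _
  obtain ⟨s', hs', -⟩ := (Presieve.isSheafFor_arrows_iff _ _).1 (hsh F) s hcomp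
  refine ⟨s', ?_⟩
  refine (hsh G).isSeparatedFor.ext ?_
  rintro Z k ⟨p⟩
  change G.obj.map (etOpenι T (O p)).op (φ.hom.app (op T) s') = G.obj.map (etOpenι T (O p)).op (G.obj.map π.op t)
  refine (NatTrans.naturality_apply φ.hom (etOpenι T (O p)).op s').symm.trans ?_
  refine (congrArg (φ.hom.app (op (etOpen T (O p)))) (hs' p)).trans ?_
  refine (NatTrans.naturality_apply φ.hom (β p).op (s₀ p)).trans ?_
  refine (congrArg (G.obj.map (β p).op) (hs₀ p)).trans ?_
  rw [← CategoryTheory.comp_apply, ← Functor.map_comp, ← op_comp, hβ, op_comp, Functor.map_comp,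
    CategoryTheory.comp_apply]

theorem preservesEpimorphisms_push (hint : IsIntegralMor f) :
    (pushEt hf AddCommGrpCat.{w + 1}).PreservesEpimorphisms := ⟨fun {F G} φ _ => by
  haveI : Sheaf.IsLocallySurjective φ := (Sheaf.isLocallySurjective_iff_epi' _ φ).2 inferInstance
  haveI : Sheaf.IsLocallySurjective ((pushEt hf AddCommGrpCat.{w + 1}).map φ) := by
    refine ⟨fun {E} t => ?_⟩
    obtain ⟨R, hR, hfac⟩ := (etAff Y).exists_affine_cover E
    refine (etTop Y).transitive hR _ fun V g hg => ?_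
    obtain ⟨A, a, b, hA, rfl⟩ := hfac g hg
    rw [Sieve.pullback_comp]
    refine (etTop Y).pullback_stable a ?_
    convert exists_local_lift hf φ hint hA (G.obj.map ((EtOver.bc hf).map b).op t) using 1
    ext Z k
    simp only [Sieve.pullback_apply, Presheaf.imageSieve_apply]
    refine exists_congr fun r => ?_
    rw [op_comp, Functor.map_comp, CategoryTheory.comp_apply]
    rfl
  exact Sheaf.epi_of_isLocallySurjective _⟩

theorem preservesFiniteColimits_push (hint : IsIntegralMor f) :
    PreservesFiniteColimits (pushEt hf AddCommGrpCat.{w + 1}) := by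
  haveI := preservesEpimorphisms_push hf hint
  haveI : (pushEt hf AddCommGrpCat.{w + 1}).IsRightAdjoint := ⟨_, ⟨pullPushAdjEt hf AddCommGrpCat.{w + 1}⟩⟩
  refine ((pushEt hf AddCommGrpCat.{w + 1}).preservesFiniteColimits_tfae.out 0 3 rfl rfl).1 fun T hT => ?_
  haveI := hT.epi_g
  haveI := hT.mono_f
  exact ⟨hT.exact.map_of_mono_of_preservesKernel _ inferInstance inferInstance, inferInstance⟩

theorem isZero_RpushEt (hint : IsIntegralMor f) (F : AbEt X) (n : ℕ) :
    IsZero ((RpushEt hf (n + 1)).obj F) := by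
  haveI := preservesEpimorphisms_push hf hint
  haveI : (pushEt hf AddCommGrpCat.{w + 1}).IsRightAdjoint := ⟨_, ⟨pullPushAdjEt hf AddCommGrpCat.{w + 1}⟩⟩
  exact AffVanish.isZero_rightDerived_of_epi (pushEt hf AddCommGrpCat.{w + 1}) (fun _ => True)
    (fun _ _ _ _ => trivial) (fun T hT _ => by haveI := hT.epi_g; exact Functor.map_epi _ _) trivial n

end Groth.Agent.H13AlgSp.IntegralPush
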