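import Mathlib.FieldTheory.PrimitiveElement
import Mathlib.FieldTheory.SeparableClosure
import Mathlib.FieldTheory.Normal.Basic
import Mathlib.FieldTheory.IsAlgClosed.AlgebraicClosure

/-!
The field of invariants of a finite etale equivalence relation on the spectrum of a field, read on
points with values in an algebraic closure.
-/

universe u

open Polynomial

namespace Groth.Agent.H13AlgSp

variable {κ Ω : Type u} [Field κ] [Field Ω] [Algebra κ Ω] [IsAlgClosure κ Ω]

/-- An element separable over `κ` with a single conjugate lies in `κ`. -/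
theorem mem_range_of_fixed {z : Ω} (hz : IsSeparable κ z) (h : ∀ σ : Ω ≃ₐ[κ] Ω, σ z = z) :
    z ∈ Set.range (algebraMap κ Ω) := by
  have : IsAlgClosed Ω := IsAlgClosure.isAlgClosed κ
  have : Algebra.IsAlgebraic κ Ω := IsAlgClosure.isAlgebraic
  have hroot : (minpoly κ z).rootSet Ω ⊆ {z} := by
    intro w hw
    rw [mem_rootSet] at hw
    obtain ⟨σ, hσ⟩ := minpoly.exists_algEquiv_of_root' (K := κ) (x := w) (y := z)
      (Algebra.IsAlgebraic.isAlgebraic z) hw.2
    rw [Set.mem_singleton_iff, ← hσ, h]
  have hint : IsIntegral κ z := hz.isIntegral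
  have hcard := card_rootSet_eq_natDegree (K := Ω) hz (IsAlgClosed.splits _)
  have h1 : (minpoly κ z).natDegree ≤ 1 := by
    rw [← hcard]
    exact (Fintype.card_le_one_iff).2 fun a b => Subtype.ext ((hroot a.2).trans (hroot b.2).symm)
  exact minpoly.natDegree_eq_one_iff.1 (le_antisymm h1 (minpoly.natDegree_pos hint))

theorem exists_extension {M : Type u} [Field M] [IsAlgClosed M] (ι : κ →+* M) :
    ∃ σ : Ω →+* M, σ.comp (algebraMap κ Ω) = ι := by
  have : Algebra.IsAlgebraic κ Ω := IsAlgClosure.isAlgebraic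
  let := ι.toAlgebra
  exact ⟨(IsAlgClosed.lift : Ω →ₐ[κ] M).toRingHom, AlgHom.comp_algebraMap _⟩

/-- A separable extension all of whose elements have bounded degree is finite. -/
theorem finiteDimensional_of_degree_bound {F E : Type u} [Field F] [Field E] [Algebra F E]
    [Algebra.IsSeparable F E] (n : ℕ) (hn : ∀ x : E, (minpoly F x).natDegree ≤ n) :
    FiniteDimensional F E ∧ ∃ x : E, IntermediateField.adjoin F {x} = ⊤ := by
  classical
  let P : ℕ → Prop := fun d => ∃ x : E, (minpoly F x).natDegree = d
  have hP : P (minpoly F (0 : E)).natDegree := ⟨0, rfl⟩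
  obtain ⟨x, hx⟩ := Nat.findGreatest_spec (P := P) (hn 0) hP
  have hint : ∀ a : E, IsIntegral F a := fun a => (Algebra.IsSeparable.isSeparable F a).isIntegral
  have htop : IntermediateField.adjoin F {x} = ⊤ := by
    refine eq_top_iff.2 fun y _ => ?_
    let M := IntermediateField.adjoin F ({x, y} : Set E)
    have : FiniteDimensional F M :=
      IntermediateField.finiteDimensional_adjoin (fun a _ => hint a)
    have : Algebra.IsSeparable F M := Algebra.isSeparable_tower_bot_of_isSeparable F M E
    obtain ⟨z, hz⟩ := Field.exists_primitive_element F M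
    have hzM : IntermediateField.adjoin F {(z : E)} = M := by
      have := congrArg IntermediateField.lift hz
      rwa [IntermediateField.lift_adjoin_simple, IntermediateField.lift_top] at this
    have hzx : (minpoly F (z : E)).natDegree ≤ (minpoly F x).natDegree :=
      hx ▸ Nat.le_findGreatest (hn _) ⟨_, rfl⟩
    have hle : IntermediateField.adjoin F {x} ≤ M :=
      IntermediateField.adjoin.mono _ _ _ (by simp)
    have heq : IntermediateField.adjoin F {x} = M := IntermediateField.eq_of_le_of_finrank_le hle (by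
      rw [IntermediateField.adjoin.finrank (hint x), ← hzM, IntermediateField.adjoin.finrank (hint _)]
      exact hzx)
    rw [heq]
    exact IntermediateField.subset_adjoin _ _ (by simp)
  have : FiniteDimensional F (IntermediateField.adjoin F ({x} : Set E)) :=
    IntermediateField.adjoin.finiteDimensional (hint x)
  rw [htop] at this
  exact ⟨Module.Finite.equiv (IntermediateField.topEquiv (F := F) (E := E)).toLinearEquiv, x, htop⟩

/-- The invariants of a finite stable set of embeddings: the extension is finite separable and the set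
consists of all embeddings trivial on the invariants. -/
theorem exists_invariant_subfield (E : Set (κ →+* Ω)) (hfin : E.Finite) (h1 : algebraMap κ Ω ∈ E)
    (hsep : ∀ ι ∈ E, ∀ x, IsSeparable κ (ι x))
    (hstab : ∀ σ : Ω →+* Ω, σ.comp (algebraMap κ Ω) ∈ E → ∀ ι ∈ E, σ.comp ι ∈ E) :
    ∃ k : Subfield κ, FiniteDimensional k κ ∧ Algebra.IsSeparable k κ ∧
      (∀ c, c ∈ k ↔ ∀ ι ∈ E, ι c = algebraMap κ Ω c) ∧
      ∀ e : κ →+* Ω, (∀ c ∈ k, e c = algebraMap κ Ω c) → e ∈ E := by
  classical
  have : IsAlgClosed Ω := IsAlgClosure.isAlgClosed κ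
  have : Algebra.IsAlgebraic κ Ω := IsAlgClosure.isAlgebraic
  let k : Subfield κ := ⨅ ι ∈ E, RingHom.eqLocusField ι (algebraMap κ Ω)
  have hk : ∀ c, c ∈ k ↔ ∀ ι ∈ E, ι c = algebraMap κ Ω c := fun c => by
    simp only [k, Subfield.mem_iInf]
    rfl
  have : Finite E := hfin
  let fE : Finset (κ →+* Ω) := hfin.toFinset
  let S : κ → Finset Ω := fun x => fE.image fun ι => ι x
  let f : κ → Ω[X] := fun x => ∏ z ∈ S x, (X - C z)
  -- the coefficients of `f x` are invariant
  have hinv : ∀ (σ : Ω →+* Ω), σ.comp (algebraMap κ Ω) ∈ E → ∀ x i, σ ((f x).coeff i) = (f x).coeff i := by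
    intro σ hσ x i
    have hsub : (S x).image σ ⊆ S x := fun w hw => by
      simp only [S, fE, Finset.mem_image, Set.Finite.mem_toFinset] at hw ⊢
      obtain ⟨_, ⟨ι, hι, rfl⟩, rfl⟩ := hw
      exact ⟨σ.comp ι, hstab σ hσ ι hι, rfl⟩
    have heq : (S x).image σ = S x := Finset.eq_of_subset_of_card_le hsub
      (Finset.card_image_of_injective _ σ.injective).ge
    have : (f x).map σ = f x := by
      simp only [f, Polynomial.map_prod, Polynomial.map_sub, Polynomial.map_X, Polynomial.map_C]
      conv_rhs => rw [← heq]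
      rw [Finset.prod_image σ.injective.injOn]
    conv_rhs => rw [← this, Polynomial.coeff_map]
  have hcoeff : ∀ x i, ∃ c ∈ k, algebraMap κ Ω c = (f x).coeff i := by
    intro x i
    have hsepc : IsSeparable κ ((f x).coeff i) := by
      refine mem_separableClosure_iff.1 ?_
      have hf : f x ∈ Polynomial.lifts (separableClosure κ Ω).val.toRingHom := by
        rw [Polynomial.lifts_iff_liftsRing]
        refine prod_mem fun z hz => ?_
        simp only [S, fE, Finset.mem_image, Set.Finite.mem_toFinset] at hz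
        obtain ⟨ι, hι, rfl⟩ := hz
        exact ⟨X - C ⟨_, mem_separableClosure_iff.2 (hsep ι hι x)⟩, by simp⟩
      obtain ⟨y, hy⟩ := (Polynomial.lifts_iff_coeff_lifts _).1 hf i
      rw [← hy]
      exact y.2
    obtain ⟨c, hc⟩ := mem_range_of_fixed hsepc fun σ => by
      refine hinv σ.toRingEquiv.toRingHom ?_ x i
      have : σ.toRingEquiv.toRingHom.comp (algebraMap κ Ω) = algebraMap κ Ω :=
        RingHom.ext fun y => σ.commutes y
      rwa [this]
    refine ⟨c, (hk c).2 fun ι hι => ?_, hc⟩
    obtain ⟨σ, hσ⟩ := exists_extension (Ω := Ω) ι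
    have := hinv σ (hσ ▸ hι) x i
    rw [← hc] at this
    rw [← hσ]
    exact this
  have hdeg : ∀ x : κ, IsSeparable k x ∧ (minpoly k x).natDegree ≤ fE.card ∧
      ∀ z : Ω, Polynomial.eval₂ ((algebraMap κ Ω).comp k.subtype) z (minpoly k x) = 0 → z ∈ S x := by
    intro x
    have hmem : f x ∈ Polynomial.lifts ((algebraMap κ Ω).comp k.subtype) := by
      refine (Polynomial.lifts_iff_coeff_lifts _).2 fun i => ?_
      obtain ⟨c, hc, hc'⟩ := hcoeff x i
      exact ⟨⟨c, hc⟩, hc'⟩
    have hmonic : (f x).Monic := monic_prod_of_monic _ _ fun z _ => monic_X_sub_C z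
    obtain ⟨g, hg, hgdeg, hgmon⟩ := lifts_and_natDegree_eq_and_monic hmem hmonic
    have hx0 : aeval x g = 0 := by
      apply (algebraMap κ Ω).injective
      rw [map_zero, aeval_def, hom_eval₂]
      change eval₂ ((algebraMap κ Ω).comp k.subtype) (algebraMap κ Ω x) g = 0
      rw [eval₂_eq_eval_map, hg]
      simp only [f, eval_prod]
      refine Finset.prod_eq_zero (i := algebraMap κ Ω x) ?_ (by simp)
      simp only [S, fE, Finset.mem_image, Set.Finite.mem_toFinset]
      exact ⟨_, h1, rfl⟩
    have hdvd : minpoly k x ∣ g := minpoly.dvd _ _ hx0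
    refine ⟨?_, ?_, fun z hz => ?_⟩
    · refine Polynomial.Separable.of_dvd ((separable_map ((algebraMap κ Ω).comp k.subtype)).1 ?_) hdvd
      rw [hg]
      exact separable_prod' (fun a _ b _ hab => isCoprime_X_sub_C_of_isUnit_sub (sub_ne_zero.2 hab).isUnit)
        (fun a _ => separable_X_sub_C)
    · refine (natDegree_le_of_dvd hdvd hgmon.ne_zero).trans ?_
      rw [hgdeg]
      simp only [f]
      rw [natDegree_finsetProd_X_sub_C_eq_card]
      exact Finset.card_image_le
    · have h0 : eval₂ ((algebraMap κ Ω).comp k.subtype) z g = 0 := eval₂_eq_zero_of_dvd_of_eval₂_eq_zero _ _ hdvd hz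
      rw [eval₂_eq_eval_map, hg] at h0
      simp only [f, eval_prod, Finset.prod_eq_zero_iff, eval_sub, eval_X, eval_C, sub_eq_zero] at h0
      obtain ⟨w, hw, rfl⟩ := h0
      exact hw
  have : Algebra.IsSeparable k κ := ⟨fun x => (hdeg x).1⟩
  obtain ⟨hfd, x, hx⟩ := finiteDimensional_of_degree_bound fE.card fun y => (hdeg y).2.1
  refine ⟨k, hfd, inferInstance, hk, fun e he => ?_⟩
  have hz : eval₂ ((algebraMap κ Ω).comp k.subtype) (e x) (minpoly k x) = 0 := by
    have : (algebraMap κ Ω).comp k.subtype = e.comp k.subtype := RingHom.ext fun c => (he c c.2).symm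
    rw [this, ← hom_eval₂]
    change e (aeval x (minpoly k x)) = 0
    rw [minpoly.aeval, map_zero]
  have hex := (hdeg x).2.2 _ hz
  simp only [S, fE, Finset.mem_image, Set.Finite.mem_toFinset] at hex
  obtain ⟨ι, hι, hιx⟩ := hex
  suffices e = ι by rwa [this]
  let agree : IntermediateField k κ :=
    { RingHom.eqLocusField e ι with
      algebraMap_mem' := fun c => (he c c.2).trans ((hk c).1 c.2 ι hι).symm }
  have htop : (⊤ : IntermediateField k κ) ≤ agree := by
    rw [← hx, IntermediateField.adjoin_le_iff]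
    exact Set.singleton_subset_iff.2 hιx.symm
  exact RingHom.ext fun y => htop (IntermediateField.mem_top (x := y))

end Groth.Agent.H13AlgSp
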