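import Groth.Agent.H12AlgSp.Codim
import Groth.Agent.H13AlgSp.EtaleLocally
import Mathlib.Topology.LocallyFinite

/-!
Locally finite components in locally Noetherian algebraic spaces.
-/

universe u

open CategoryTheory CategoryTheory.Limits AlgebraicGeometry Opposite Topology
open AlgSp Groth.Agent.H12AlgSp

namespace Groth.Agent.H13AlgSp

/-- A locally Noetherian topological space has locally finite components on closed subsets. -/
theorem locallyFinite_components {α : Type*} [TopologicalSpace α]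
    (h : ∀ x : α, ∃ W : Set α, IsOpen W ∧ x ∈ W ∧ TopologicalSpace.NoetherianSpace W) (T : Set α) :
    LocallyFinite (fun Z : ↥(irreducibleComponents ↥T) => ((↑) : ↥T → α) '' (Z : Set ↥T)) := by
  intro x
  obtain ⟨W, hW, hxW, hWn⟩ := h x
  refine ⟨W, hW.mem_nhds hxW, ?_⟩
  let T' : Set T := (↑) ⁻¹' W
  let g : T' → W := fun t => ⟨t.1.1, t.2⟩
  have hg : IsInducing g := by
    refine IsInducing.of_comp (by fun_prop) continuous_subtype_val ?_
    exact (IsInducing.subtypeVal (t := T)).comp (IsInducing.subtypeVal (t := T'))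
  have : TopologicalSpace.NoetherianSpace T' := hg.noetherianSpace
  have hT' : IsOpen T' := hW.preimage continuous_subtype_val
  have hfin : (irreducibleComponents ↥T').Finite := TopologicalSpace.NoetherianSpace.finite_irreducibleComponents
  refine Set.Finite.of_finite_image (f := fun Z : ↥(irreducibleComponents ↥T) => ((↑) : T' → T) ⁻¹' Z.1)
    (hfin.subset ?_) ?_
  · rintro _ ⟨Z, ⟨_, ⟨t, htZ, rfl⟩, htW⟩, rfl⟩
    exact preimage_mem_irreducibleComponents Z.2 hT'.isOpenEmbedding_subtypeVal
      ⟨t, htZ, by rw [Subtype.range_coe]; exact htW⟩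
  · rintro ⟨Z, hZ⟩ ⟨_, ⟨t, htZ, rfl⟩, htW⟩ ⟨Z', hZ'⟩ ⟨_, ⟨t', htZ', rfl⟩, htW'⟩ e
    have e' : Z ∩ T' = Z' ∩ T' := by
      have := congrArg (((↑) : T' → T) '' ·) e
      simpa [Set.image_preimage_eq_inter_range] using this
    refine Subtype.ext ?_
    have key : ∀ {Z₁ : Set T}, Z₁ ∈ irreducibleComponents T → (Z₁ ∩ T').Nonempty → closure (Z₁ ∩ T') = Z₁ := by
      intro Z₁ h₁ hne
      refine (closure_minimal Set.inter_subset_left (isClosed_of_mem_irreducibleComponents _ h₁)).antisymm ?_
      exact subset_closure_inter_of_isPreirreducible_of_isOpen h₁.1.2 hT' hne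
    exact (key hZ ⟨t, htZ, htW⟩).symm.trans ((congrArg closure e').trans (key hZ' ⟨t', htZ', htW'⟩))

variable {S : Scheme.{u}}

theorem exists_noetherian_nhd {X : Sp S} (hX : IsAlgSpace X) (hN : IsLocNoethSp X) (x : Points X) :
    ∃ W : Set (Points X), IsOpen W ∧ x ∈ W ∧ TopologicalSpace.NoetherianSpace W := by
  obtain ⟨U, a, ha, has, hU⟩ := hN
  have : IsLocallyNoetherian U.left := hU
  obtain ⟨u, rfl⟩ := surjective_ofPt_of_repWith le_rfl has x
  obtain ⟨A, hA, huA, -⟩ := exists_isAffineOpen_mem_and_subset (U := (⊤ : U.left.Opens)) (x := u) trivial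
  have : IsAffine A.toScheme := hA
  have : IsLocallyNoetherian A.toScheme := isLocallyNoetherian_of_etale A.ι
  refine ⟨Points.ofPt a '' A, isOpenMap_ofPt_of_repWith etale_le_universallyOpen ha _ A.isOpen, ⟨u, huA, rfl⟩, ?_⟩
  have hn : TopologicalSpace.NoetherianSpace A.toScheme := by
    have : IsNoetherian A.toScheme := {}
    infer_instance
  let f : A.toScheme → ↥(Points.ofPt a '' (A : Set U.left)) := fun w => ⟨Points.ofPt a (A.ι w), A.ι w, w.2, rfl⟩
  refine TopologicalSpace.noetherianSpace_of_surjective f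
    (((Points.continuous_ofPt a).comp A.ι.continuous).subtype_mk _) ?_
  rintro ⟨_, w, hw, rfl⟩
  exact ⟨⟨w, hw⟩, rfl⟩

end Groth.Agent.H13AlgSp
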