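import Groth.Agent.H13AlgSp.LocPDescent
import Groth.Agent.H12AlgSp.QC
import Groth.Prelude.Def_AlgSpCov
import Mathlib.AlgebraicGeometry.Sites.Fpqc
import Mathlib.AlgebraicGeometry.Sites.Etale

/-!
Properties of morphisms of schemes local on the source for a topology induce properties of
morphisms of algebraic spaces local on the source for that topology.
-/

universe u

open CategoryTheory CategoryTheory.Limits AlgebraicGeometry Opposite
open AlgSp Groth.Agent.H12AlgSp

namespace Groth.Agent.H13AlgSp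

variable {S : Scheme.{u}} {F G H : Sp S}

theorem surjective_left_of_repWith_sq {U D W : Over S} {Q : Sp S} {d : (yon S).obj D ⟶ Q}
    {r : (yon S).obj U ⟶ Q} {q : W ⟶ U} {w : (yon S).obj W ⟶ (yon S).obj D}
    (hd : RepWith @Surjective d) (sq : IsPullback w ((yon S).map q) d r) : Surjective q.left := by
  obtain ⟨W', q', w', sq'⟩ := hd.1 r
  obtain ⟨η, hη⟩ := (yon S).map_surjective (sq.isoIsPullback _ _ sq').hom
  have h2 : η ≫ q' = q := (yon S).map_injective (by
    rw [Functor.map_comp, hη, IsPullback.isoIsPullback_hom_snd])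
  have : IsIso ((yon S).map η) := by rw [hη]; infer_instance
  have : IsIso η := isIso_of_reflects_iso η (yon S)
  have : IsIso η.left := inferInstanceAs (IsIso ((Over.forget S).map η))
  have : Surjective q'.left := hd.2 r _ q' sq'
  rw [← h2]
  exact inferInstanceAs (Surjective (η.left ≫ q'.left))

/-- Local on the source: the property passes to composites with covering morphisms. -/
theorem locP_comp_of_isLocalAtSource {P P' : MorphismProperty Scheme.{u}} [EtaleLocalST P']
    {K : Precoverage Scheme.{u}} [P.IsLocalAtSource K]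
    (hetale : ∀ {A B : Scheme.{u}} (w : A ⟶ B), Etale w → Surjective w →
      Presieve.singleton w ∈ K B)
    (hpair : ∀ {A B : Scheme.{u}} (w : A ⟶ B), P' w →
      Presieve.ofArrows (fun b : ULift.{u} Bool => bif b.down then A else B)
        (fun b => match b with | ⟨true⟩ => w | ⟨false⟩ => 𝟙 B) ∈ K B)
    (hF : IsAlgSpace F) (hG : IsAlgSpace G) (hH : IsAlgSpace H) {g : F ⟶ G} {f : G ⟶ H}
    (hg : LocP P' g) (hf : LocP P f) : LocP P (g ≫ f) := by
  intro U V a b h ha hb e
  have sq := IsPullback.of_hasPullback f b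
  obtain ⟨D, d, hde, hds⟩ :=
    (isAlgSpace_of_isPullback hH.diag hG (IsAlgSpace.yon_obj V) sq).atlas
  obtain ⟨k, hk⟩ := (yon S).map_surjective (d ≫ pullback.snd f b)
  let r := sq.lift (a ≫ g) ((yon S).map h) (by rw [Category.assoc]; exact e)
  obtain ⟨W, q, w', sqW⟩ := hde.1 r
  obtain ⟨w, rfl⟩ := (yon S).map_surjective w'
  have hqe : Etale q.left := hde.2 r _ q sqW
  have hqs : Surjective q.left := surjective_left_of_repWith_sq hds sqW
  have hD : RepWith @Etale (d ≫ pullback.fst f b) :=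
    repWith_comp hde (repWith_of_isPullback sq.flip hb)
  have hk' : P k.left := hf _ b k hD hb (by rw [hk, Category.assoc, Category.assoc, sq.w])
  have hw : P' w.left := hg ((yon S).map q ≫ a) (d ≫ pullback.fst f b) w
    (repWith_comp ((repWith_yon_map_iff _ q).2 hqe) ha) hD (by
      rw [← Category.assoc ((yon S).map w), sqW.w, Category.assoc, Category.assoc, sq.lift_fst])
  have e' : q ≫ h = w ≫ k := (yon S).map_injective (by
    rw [Functor.map_comp, Functor.map_comp, hk, ← Category.assoc ((yon S).map w), sqW.w,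
      Category.assoc, sq.lift_snd])
  refine MorphismProperty.IsLocalAtSource.of_forall_comp (hetale q.left hqe hqs)
    fun _ g' hg' => ?_
  cases hg'
  have h1 : P (w.left ≫ k.left) :=
    MorphismProperty.IsLocalAtSource.comp (hpair w.left hw) w.left
      (Presieve.ofArrows.mk (ι := ULift.{u} Bool) ⟨true⟩) hk'
  rwa [← Over.comp_left, ← e', Over.comp_left] at h1

/-- The charts of the members of a family over a chart of the target. -/
theorem exists_source_charts {P' : MorphismProperty Scheme.{u}} [EtaleLocalST P'] (hG : IsAlgSpace G)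
    {ι : Type u} {Fi : ι → Sp S} (hFi : ∀ i, IsAlgSpace (Fi i)) {g : ∀ i, Fi i ⟶ G}
    (hg : ∀ i, LocP P' (g i)) (hpts : ∀ x : Points G, ∃ i, x ∈ Set.range (Points.map (g i)))
    {U : Over S} {a : (yon S).obj U ⟶ G} (ha : RepWith @Etale a) :
    ∃ (C : ι → Over S) (c : ∀ i, C i ⟶ U) (α : ∀ i, (yon S).obj (C i) ⟶ Fi i),
      (∀ i, RepWith @Etale (α i)) ∧ (∀ i, α i ≫ g i = (yon S).map (c i) ≫ a) ∧
      (∀ i, P' (c i).left) ∧ (∀ u : U.left, ∃ i, u ∈ Set.range (c i).left) ∧
      ∀ i (W : Over S) (z : W ⟶ U) (l : (yon S).obj W ⟶ Fi i), l ≫ g i = (yon S).map z ≫ a →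
        ∃ (W' : Over S) (q : W' ⟶ W) (m : W' ⟶ C i),
          Etale q.left ∧ Surjective q.left ∧ m ≫ c i = q ≫ z := by
  have sqR := fun i => IsPullback.of_hasPullback (g i) a
  have hR := fun i => isAlgSpace_of_isPullback hG.diag (hFi i) (IsAlgSpace.yon_obj U) (sqR i)
  choose C d hde hds using fun i => (hR i).atlas
  choose c hc using fun i => (yon S).map_surjective (d i ≫ pullback.snd (g i) a)
  have hα := fun i => repWith_comp (hde i) (repWith_of_isPullback (sqR i).flip ha)
  have hcomm : ∀ i, (d i ≫ pullback.fst (g i) a) ≫ g i = (yon S).map (c i) ≫ a := fun i => by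
    rw [hc, Category.assoc, Category.assoc, (sqR i).w]
  refine ⟨C, c, fun i => d i ≫ pullback.fst (g i) a, hα, hcomm,
    fun i => hg i _ a (c i) (hα i) ha (hcomm i), fun u => ?_, fun i W z l hl => ?_⟩
  · obtain ⟨i, y, hy⟩ := hpts (Points.ofPt a u)
    obtain ⟨r, -, hr⟩ := exists_point_of_isPullback (sqR i) y (Points.ofScheme U u)
      (by rw [hy, ← Points.ofPt_eq_map_ofScheme])
    obtain ⟨t, rfl⟩ := surjective_ofPt_of_repWith le_rfl (hds i) r
    refine ⟨i, t, (Points.schemeEquiv U).injective (Eq.trans ?_ hr)⟩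
    rw [Points.map_ofPt, ← hc, ← Category.comp_id ((yon S).map (c i)), ofPt_map]
    rfl
  · obtain ⟨W', q, m', sqW⟩ := (hde i).1 ((sqR i).lift l ((yon S).map z) hl)
    obtain ⟨m, rfl⟩ := (yon S).map_surjective m'
    refine ⟨W', q, m, (hde i).2 _ _ q sqW, surjective_left_of_repWith_sq (hds i) sqW,
      (yon S).map_injective ?_⟩
    rw [Functor.map_comp, Functor.map_comp, hc, ← Category.assoc, sqW.w, Category.assoc,
      (sqR i).lift_snd]

/-- Local on the source: descent from the members of a covering. -/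
theorem locP_of_isLocalAtSource {P P' : MorphismProperty Scheme.{u}} [EtaleLocalST P']
    {K : Precoverage Scheme.{u}} [P.IsLocalAtSource K]
    (hG : IsAlgSpace G)
    {ι : Type u} {Fi : ι → Sp S} (hFi : ∀ i, IsAlgSpace (Fi i)) {g : ∀ i, Fi i ⟶ G} {f : G ⟶ H}
    (hg : ∀ i, LocP P' (g i)) (hpts : ∀ x : Points G, ∃ i, x ∈ Set.range (Points.map (g i)))
    (hmem : ∀ {U : Over S} (a : (yon S).obj U ⟶ G) (C : ι → Over S) (c : ∀ i, C i ⟶ U),
      (∀ i, P' (c i).left) → (∀ u : U.left, ∃ i, u ∈ Set.range (c i).left) →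
      (∀ i (W : Over S) (z : W ⟶ U) (l : (yon S).obj W ⟶ Fi i), l ≫ g i = (yon S).map z ≫ a →
        ∃ (W' : Over S) (q : W' ⟶ W) (m : W' ⟶ C i),
          Etale q.left ∧ Surjective q.left ∧ m ≫ c i = q ≫ z) →
      Presieve.ofArrows (fun i => (C i).left) (fun i => (c i).left) ∈ K U.left)
    (h : ∀ i, LocP P (g i ≫ f)) : LocP P f := by
  intro U V a b k ha hb e
  obtain ⟨C, c, α, hα, hcomm, hc, hs, hl⟩ := exists_source_charts hG hFi hg hpts ha
  refine MorphismProperty.IsLocalAtSource.of_forall_comp (hmem a C c hc hs hl) fun _ g' hg' => ?_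
  obtain ⟨i⟩ := hg'
  exact h i (α i) b (c i ≫ k) (hα i) hb (by
    rw [← Category.assoc, hcomm, Category.assoc, e, Functor.map_comp, Category.assoc])

theorem isLocalOnSource_of_precoverage {P P' : MorphismProperty Scheme.{u}} [EtaleLocalST P']
    [P.IsLocalAtSource (Scheme.precoverage P')] {τ : CovNotion S}
    (hτ : ∀ {ι : Type u} {X : Sp S} (Xi : ι → Sp S) (g : ∀ i, Xi i ⟶ X), τ Xi g →
      (∀ i, LocP P' (g i)) ∧ ∀ x : Points X, ∃ i, x ∈ Set.range (Points.map (g i))) :
    IsLocalOnSource τ (LocP P) := by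
  intro ι X Xi g hX hXi hg Y f hY
  obtain ⟨h', hpts⟩ := hτ Xi g hg
  refine ⟨fun hf i => locP_comp_of_isLocalAtSource (P' := P') (K := Scheme.precoverage P')
      (fun w hw hs => ?_) (fun {A B} w hw => ?_) (hXi i) hX hY (h' i) hf,
    fun h => locP_of_isLocalAtSource (K := Scheme.precoverage P') hX hXi h' hpts
      (fun a C c hc hs _ => ?_) h⟩
  · rw [Scheme.singleton_mem_precoverage_iff]
    exact ⟨fun b => hs.surj b, EtaleLocalST.etale_le _ _ _ hw⟩
  · rw [Scheme.ofArrows_mem_precoverage_iff]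
    refine ⟨fun b => ⟨⟨false⟩, b, rfl⟩, ?_⟩
    rintro ⟨_ | _⟩
    · exact P'.id_mem B
    · exact hw
  · rw [Scheme.ofArrows_mem_precoverage_iff]
    exact ⟨hs, hc⟩

theorem mem_fpqcPrecoverage_of_flat {X : Scheme.{u}} {ι : Type u} {C : ι → Scheme.{u}}
    (c : ∀ i, C i ⟶ X) (hflat : ∀ i, Flat (c i)) (hs : ∀ x, ∃ i, x ∈ Set.range (c i))
    (hqc : ∀ Z : X.Opens, IsAffineOpen Z → IsCompactOpenCovered (fun i => ⇑(c i)) (Z : Set X)) :
    Presieve.ofArrows C c ∈ Scheme.fpqcPrecoverage X := by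
  let 𝒰 : Scheme.Cover.{u} (Scheme.precoverage @Flat) X :=
    { I₀ := ι
      X := C
      f := c
      mem₀ := by
        rw [Scheme.presieve₀_mem_precoverage_iff]
        exact ⟨hs, hflat⟩ }
  have : QuasiCompactCover 𝒰.toPreZeroHypercover := ⟨fun {Z} hZ => hqc Z hZ⟩
  exact ⟨Scheme.presieve₀_mem_qcPrecoverage_iff.2 this, 𝒰.mem₀⟩

theorem isLocalOnSource_fpqc {P : MorphismProperty Scheme.{u}}
    [P.IsLocalAtSource Scheme.fpqcPrecoverage] :
    IsLocalOnSource (IsFpqcCover (S := S)) (LocP P) := by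
  intro ι X Xi g hX hXi hg Y f hY
  refine ⟨fun hf i => locP_comp_of_isLocalAtSource (P' := @Flat) (K := Scheme.fpqcPrecoverage)
      (fun {A B} w hw hs => ?_) (fun {A B} w hw => ?_) (hXi i) hX hY (hg.1 i) hf,
    fun h => locP_of_isLocalAtSource (K := Scheme.fpqcPrecoverage) hX hXi hg.1
      (exists_point_of_fpqcCover hg) (fun {U} a C c hc hs hl => ?_) h⟩
  · rw [show Presieve.singleton w = Presieve.ofArrows (fun _ : PUnit.{u + 1} => A) (fun _ => w) from
      (Presieve.ofArrows_pUnit w).symm]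
    refine mem_fpqcPrecoverage_of_flat _ (fun _ => inferInstanceAs (Flat w))
      (fun b => ⟨PUnit.unit, hs.surj b⟩) fun Z hZ => ?_
    exact IsCompactOpenCovered.of_isOpenMap (fun _ => w.continuous) (fun _ => w.isOpenMap)
      (fun x _ => ⟨PUnit.unit, hs.surj x⟩) Z.2 hZ.isCompact
  · refine mem_fpqcPrecoverage_of_flat _ ?_ (fun b => ⟨⟨false⟩, b, rfl⟩) fun Z hZ => ?_
    · rintro ⟨_ | _⟩
      · exact inferInstanceAs (Flat (𝟙 B))
      · exact hw
    · refine IsCompactOpenCovered.of_finite (κ := PUnit.{1}) (fun _ => ⟨false⟩) (fun _ => Z)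
        (fun _ => hZ.isCompact) ?_
      simp
      exact Set.iUnion_const _
  · refine mem_fpqcPrecoverage_of_flat _ hc hs fun Z hZ => ?_
    let zO : Over S := Over.mk (Z.ι ≫ U.hom)
    let z : zO ⟶ U := Over.homMk Z.ι rfl
    obtain ⟨m, W, e, haff, -, hsurj, hlift⟩ := hg.2 zO hZ ((yon S).map z ≫ a)
    choose i l hl' using hlift
    choose W' q n hq hqs hn using fun j => hl (i j) (W j) (e j ≫ z) (l j)
      (by rw [hl' j, Functor.map_comp, Category.assoc])
    have hpt : ∀ j, ∀ w : (W' j).left, (c (i j)).left ((n j).left w) = Z.ι ((e j).left ((q j).left w)) :=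
      fun j w => by
      rw [← Scheme.Hom.comp_apply, ← Over.comp_left, hn j]
      rfl
    have hfin : ∀ j, ∃ s : Finset (W' j).left.affineOpens,
        ∀ w : (W j).left, ∃ A ∈ s, w ∈ (q j).left '' (A.1 : Set (W' j).left) := by
      intro j
      have := hq j
      have := haff j
      obtain ⟨s, hs⟩ := isCompact_univ.elim_finite_subcover _
        (fun A : (W' j).left.affineOpens => (q j).left.isOpenMap _ A.1.isOpen) (fun w _ => by
        obtain ⟨w', rfl⟩ := (hqs j).surj w
        obtain ⟨A, hA⟩ := TopologicalSpace.Opens.mem_iSup.1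
          ((iSup_affineOpens_eq_top (W' j).left).ge (Set.mem_univ w'))
        exact Set.mem_iUnion.2 ⟨A, w', hA, rfl⟩)
      exact ⟨s, fun w => by simpa using Set.mem_iUnion₂.1 (hs (Set.mem_univ w))⟩
    choose s hs' using hfin
    have hK : ∀ r : Σ j, s j, ∃ V : (C (i r.1)).left.Opens, IsCompact (V : Set (C (i r.1)).left) ∧
        (n r.1).left '' (r.2.1.1 : Set (W' r.1).left) ⊆ V ∧ V ≤ (c (i r.1)).left ⁻¹ᵁ Z := by
      intro r
      have hsub : (n r.1).left '' (r.2.1.1 : Set (W' r.1).left) ⊆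
          ((c (i r.1)).left ⁻¹ᵁ Z : Set (C (i r.1)).left) := by
        rintro _ ⟨w, -, rfl⟩
        change (c (i r.1)).left ((n r.1).left w) ∈ Z
        rw [hpt]
        exact ((e r.1).left ((q r.1).left w)).2
      let O := { O : (C (i r.1)).left.affineOpens // O.1 ≤ (c (i r.1)).left ⁻¹ᵁ Z }
      obtain ⟨t, ht⟩ := ((r.2.1.2.isCompact).image (n r.1).left.continuous).elim_finite_subcover
        (fun o : O => (o.1.1 : Set (C (i r.1)).left)) (fun o => o.1.1.isOpen) (fun x hx => by
        obtain ⟨A, hA, hxA, hAle⟩ := TopologicalSpace.Opens.isBasis_iff_nbhd.mp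
          (C (i r.1)).left.isBasis_affineOpens (hsub hx)
        exact Set.mem_iUnion.2 ⟨⟨⟨A, hA⟩, hAle⟩, hxA⟩)
      refine ⟨⨆ o ∈ t, o.1.1, ?_, ?_, iSup₂_le fun o _ => o.2⟩
      · simp only [TopologicalSpace.Opens.coe_iSup]
        exact t.finite_toSet.isCompact_biUnion fun o _ => o.1.2.isCompact
      · simpa only [TopologicalSpace.Opens.coe_iSup] using ht
    choose V hV hsub hle using hK
    refine IsCompactOpenCovered.of_finite (κ := Σ j, s j) (fun r => i r.1) V hV ?_
    refine subset_antisymm (Set.iUnion_subset fun r => ?_) fun x hx => ?_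
    · rintro _ ⟨y, hy, rfl⟩
      exact hle r hy
    · obtain ⟨j, w, hw⟩ := hsurj (⟨x, hx⟩ : Z.toScheme)
      obtain ⟨A, hA, w', hw', hqw⟩ := hs' j w
      refine Set.mem_iUnion.2 ⟨⟨j, A, hA⟩, (n j).left w', hsub ⟨j, A, hA⟩ ⟨w', hw', rfl⟩, ?_⟩
      rw [hpt, hqw, hw]
      rfl

end Groth.Agent.H13AlgSp
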