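import Groth.Agent.H13AlgSp.MayerVietorisSite
import Groth.Agent.H13AlgSp.DistSq
import Groth.Agent.H12AlgSp.EtStalk
import Groth.Prelude.Def_W4SpPerfMV

/-!
Elementary distinguished squares in the small etale site.
-/

set_option autoImplicit false
set_option backward.isDefEq.respectTransparency false

universe u

open CategoryTheory CategoryTheory.Limits AlgebraicGeometry Opposite
open AlgSp Groth.Agent.H12AlgSp

namespace Groth.Agent.H13AlgSp

variable {S : Scheme.{u}} {X : Sp S}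

theorem exists_open_eq_of_not_mem_range {U V : Sp S} {j : U ⟶ X} {f : V ⟶ X} (hsq : IsElemDistSq j f)
    (hV : IsAlgSpace V) (hX : IsAlgSpace X) {A : Over S} (x₁ x₂ : (yon S).obj A ⟶ V) (e : x₁ ≫ f = x₂ ≫ f)
    (t : A.left) (ht : Points.ofPt (x₁ ≫ f) t ∉ Set.range (Points.map j)) :
    ∃ (B : Over S) (β : B ⟶ A), IsOpenImmersion β.left ∧ t ∈ Set.range β.left ∧
      (yon S).map β ≫ x₁ = (yon S).map β ≫ x₂ := by
  have hd := isOpenImmersion_diagonal_of_etale hV hX (locP_etale_of_isEtaleMor hsq.2.1)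
  obtain ⟨E, ε, kE, sqE⟩ := hd.rep (pullback.lift x₁ x₂ e)
  have hoE : IsOpenImmersion ε.left := hd.property _ kE ε sqE
  have eE₁ : kE = (yon S).map ε ≫ x₁ := by simpa using congrArg (· ≫ pullback.fst f f) sqE.w
  have eE₂ : kE = (yon S).map ε ≫ x₂ := by simpa using congrArg (· ≫ pullback.snd f f) sqE.w
  refine ⟨E, ε, hoE, ?_, eE₁.symm.trans eE₂⟩
  let σ : Over.mk (A.left.fromSpecResidueField t ≫ A.hom) ⟶ A := Over.homMk (A.left.fromSpecResidueField t) rfl
  have hred : IsReduced (Over.mk (A.left.fromSpecResidueField t ≫ A.hom)).left :=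
    inferInstanceAs (IsReduced (Spec (A.left.residueField t)))
  have key : (yon S).map σ ≫ x₁ = (yon S).map σ ≫ x₂ := by
    refine eq_of_not_mem_range hsq _ _ (by rw [Category.assoc, Category.assoc, e]) ?_
    rw [range_map_yon]
    rintro _ ⟨s, rfl⟩ hs
    rw [Category.assoc, ofPt_map] at hs
    have hst : σ.left s = t := A.left.fromSpecResidueField_apply t s
    rw [hst] at hs
    exact ht hs
  obtain ⟨l, hl⟩ := (yon S).map_surjective (sqE.lift ((yon S).map σ ≫ x₁) ((yon S).map σ) (by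
    apply pullback.hom_ext <;> simp [key]))
  have hl' : l ≫ ε = σ := (yon S).map_injective (by rw [Functor.map_comp, hl, sqE.lift_snd])
  refine ⟨l.left (IsLocalRing.closedPoint _), ?_⟩
  rw [← Scheme.Hom.comp_apply, ← Over.comp_left, hl']
  exact A.left.fromSpecResidueField_apply t _

theorem exists_lift_of_mem_range (W U : EtOver X) (x : W.obj.left.left)
    (h : Points.ofPt W.obj.hom x ∈ Set.range (Points.map U.obj.hom)) :
    ∃ (E' : EtOver X) (g : E' ⟶ W) (y : E'.obj.left.left), Nonempty (E' ⟶ U) ∧ g.hom.left.left y = x := by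
  obtain ⟨y, hy⟩ := (preimage_ofPt_range (U.property.1.isPullback W.obj.hom)).le h
  exact ⟨_, EtOver.prodFst W U, y, ⟨EtOver.prodSnd W U⟩, hy⟩

theorem sq_of_isElemDistSq (hX : IsAlgSpace X) {U V : EtOver X} (hsq : IsElemDistSq U.obj.hom V.obj.hom) :
    MVSite.Sq (etTop X) U V where
  subterminal {Z} a b := by
    have := mono_of_openImmersion hsq.1
    refine EtOver.hom_ext _ _ ((yon S).map_injective ?_)
    rw [← cancel_mono U.obj.hom, EtOver.w a, EtOver.w b]
  cover W := by
    refine ⟨⟨fun Z _ => Nonempty (Z ⟶ U) ∨ Nonempty (Z ⟶ V), fun {Y Z} f hf g => ?_⟩,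
      mem_etTop_of_forall_point _ fun x => ?_, fun Z g hg => hg⟩
    · rcases hf with ⟨⟨t⟩⟩ | ⟨⟨v⟩⟩
      exacts [Or.inl ⟨g ≫ t⟩, Or.inr ⟨g ≫ v⟩]
    · rcases mem_range_map_of_elemDistSq hsq (Points.ofPt W.obj.hom x) with h | h
      · obtain ⟨E', g, y, hE, hy⟩ := exists_lift_of_mem_range W U x h
        exact ⟨E', g, y, Or.inl hE, hy⟩
      · obtain ⟨E', g, y, hE, hy⟩ := exists_lift_of_mem_range W V x h
        exact ⟨E', g, y, Or.inr hE, hy⟩
  sep {Z} a b := by
    refine ⟨⟨fun Z' g => Nonempty (Z' ⟶ U) ∨ g ≫ a = g ≫ b, fun {Y Z'} f hf g => ?_⟩,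
      mem_etTop_of_forall_point _ fun x => ?_, fun Z' g hg => hg⟩
    · rcases hf with ⟨⟨t⟩⟩ | h
      exacts [Or.inl ⟨g ≫ t⟩, Or.inr (by rw [Category.assoc, h, Category.assoc])]
    · by_cases h : Points.ofPt Z.obj.hom x ∈ Set.range (Points.map U.obj.hom)
      · obtain ⟨E', g, y, hE, hy⟩ := exists_lift_of_mem_range Z U x h
        exact ⟨E', g, y, Or.inl hE, hy⟩
      · obtain ⟨B, β, hβ, ⟨y, hy⟩, he⟩ := exists_open_eq_of_not_mem_range hsq (IsAlgSpace.yon_obj _) hX
          ((yon S).map a.hom.left) ((yon S).map b.hom.left) ((EtOver.w a).trans (EtOver.w b).symm) x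
          (by rwa [EtOver.w a])
        refine ⟨EtOver.mk ((yon S).map β ≫ Z.obj.hom) (repWith_comp
          ((repWith_yon_map_iff _ β).2 (inferInstance : Etale β.left)) Z.property),
          EtOver.homMk β rfl, y, Or.inr (EtOver.hom_ext _ _ ?_), hy⟩
        exact (yon S).map_injective (by rw [← Functor.map_comp, ← Functor.map_comp] at he; exact he)

end Groth.Agent.H13AlgSp
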