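import Mathlib.CategoryTheory.Adjunction.Mates
import Mathlib.Algebra.Homology.ShortComplex.ShortExact
import Mathlib.Algebra.Homology.ShortComplex.Abelian
import Mathlib.CategoryTheory.Preadditive.Injective.Basic

/-!
Passing a natural short exact sequence of right adjoints to the left adjoints.
-/

set_option autoImplicit false

universe v u

open CategoryTheory CategoryTheory.Limits

namespace Groth.Agent.H13AlgSp

theorem homEquiv_conjugate_comp {A : Type u} [Category.{v} A] {L L' R R' : A ⥤ A} (adj : L ⊣ R) (adj' : L' ⊣ R')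
    (α : R ⟶ R') {F G : A} (φ : L.obj F ⟶ G) :
    adj'.homEquiv F G (((conjugateEquiv adj adj').symm α).app F ≫ φ) = adj.homEquiv F G φ ≫ α.app G := by
  rw [Adjunction.homEquiv_unit, Adjunction.homEquiv_unit, Functor.map_comp, ← Category.assoc,
    ← unit_conjugateEquiv_symm adj adj' α F]
  exact (Category.assoc _ _ _).trans
    ((congrArg (adj.unit.app F ≫ ·) (α.naturality φ).symm).trans (Category.assoc _ _ _).symm)

section

variable {A : Type u} [Category.{v} A] [Abelian A] {L₁ L₂ L₃ T₁ T₂ T₃ : A ⥤ A}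
  [T₁.Additive] [T₂.Additive] [T₃.Additive]
  (a₁ : L₁ ⊣ T₁) (a₂ : L₂ ⊣ T₂) (a₃ : L₃ ⊣ T₃) (α₁ : T₁ ⟶ T₃) (α₂ : T₂ ⟶ T₃) (η₁ : 𝟭 A ⟶ T₁) (η₂ : 𝟭 A ⟶ T₂)
  (hz : ∀ G, biprod.lift (η₁.app G) (η₂.app G) ≫ biprod.desc (α₁.app G) (-(α₂.app G)) = 0)
  (hT : ∀ G, (ShortComplex.mk _ _ (hz G)).ShortExact)
  (ε₁ : L₁ ⟶ 𝟭 A) (ε₂ : L₂ ⟶ 𝟭 A)
  (h₁ : ∀ F, a₁.homEquiv F F (ε₁.app F) = η₁.app F) (h₂ : ∀ F, a₂.homEquiv F F (ε₂.app F) = η₂.app F)

include hT h₁ h₂ in
theorem shortExact_left_adjoints [EnoughInjectives A] (F : A) :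
    ∃ h : biprod.lift (((conjugateEquiv a₁ a₃).symm α₁).app F) (-(((conjugateEquiv a₂ a₃).symm α₂).app F)) ≫
        biprod.desc (ε₁.app F) (ε₂.app F) = 0,
      (ShortComplex.mk _ _ h).ShortExact := by
  have key₁ : ∀ {G : A} (φ : F ⟶ G), a₁.homEquiv F G (ε₁.app F ≫ φ) = φ ≫ η₁.app G := fun φ => by
    exact (a₁.homEquiv_naturality_right _ _).trans ((congrArg (· ≫ T₁.map φ) (h₁ F)).trans (η₁.naturality φ).symm)
  have key₂ : ∀ {G : A} (φ : F ⟶ G), a₂.homEquiv F G (ε₂.app F ≫ φ) = φ ≫ η₂.app G := fun φ => by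
    exact (a₂.homEquiv_naturality_right _ _).trans ((congrArg (· ≫ T₂.map φ) (h₂ F)).trans (η₂.naturality φ).symm)
  have hsub : ∀ {G : A} (x y : L₃.obj F ⟶ G),
      a₃.homEquiv F G (x - y) = a₃.homEquiv F G x - a₃.homEquiv F G y := fun x y => by
    simp only [Adjunction.homEquiv_unit, Functor.map_sub, Preadditive.comp_sub]
  have h0 : ∀ {G : A}, a₃.homEquiv F G 0 = 0 := fun {G} => by
    simp [Adjunction.homEquiv_unit, Functor.map_zero]
  have hcomb : ∀ {G : A} (ψ₁ : L₁.obj F ⟶ G) (ψ₂ : L₂.obj F ⟶ G),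
      a₃.homEquiv F G (biprod.lift (((conjugateEquiv a₁ a₃).symm α₁).app F)
        (-(((conjugateEquiv a₂ a₃).symm α₂).app F)) ≫ biprod.desc ψ₁ ψ₂) =
      biprod.lift (a₁.homEquiv F G ψ₁) (a₂.homEquiv F G ψ₂) ≫ biprod.desc (α₁.app G) (-(α₂.app G)) := by
    intro G ψ₁ ψ₂
    rw [biprod.lift_desc, biprod.lift_desc, Preadditive.neg_comp, ← sub_eq_add_neg, hsub,
      homEquiv_conjugate_comp, homEquiv_conjugate_comp, Preadditive.comp_neg, ← sub_eq_add_neg]
  have hw : biprod.lift (((conjugateEquiv a₁ a₃).symm α₁).app F) (-(((conjugateEquiv a₂ a₃).symm α₂).app F)) ≫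
      biprod.desc (ε₁.app F) (ε₂.app F) = 0 :=
    (a₃.homEquiv F F).injective (by rw [hcomb, h₁, h₂, hz, h0])
  let C := ShortComplex.mk _ _ hw
  have hepi : Epi C.g := Preadditive.epi_of_cancel_zero _ fun {G} φ hφ => by
    have e₁ : ε₁.app F ≫ φ = 0 := by
      have := congrArg (biprod.inl ≫ ·) hφ
      simpa [C] using this
    have e₂ : ε₂.app F ≫ φ = 0 := by
      have := congrArg (biprod.inr ≫ ·) hφ
      simpa [C] using this
    have := (hT G).mono_f
    refine zero_of_comp_mono (biprod.lift (η₁.app G) (η₂.app G)) (biprod.hom_ext _ _ ?_ ?_)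
    · rw [Category.assoc, biprod.lift_fst, ← key₁, e₁, zero_comp]
      simp [Adjunction.homEquiv_unit, Functor.map_zero]
    · rw [Category.assoc, biprod.lift_snd, ← key₂, e₂, zero_comp]
      simp [Adjunction.homEquiv_unit, Functor.map_zero]
  have hmono : Mono C.f := by
    let ι := Injective.ι (L₃.obj F)
    let I := Injective.under (L₃.obj F)
    let b := a₃.homEquiv F I ι
    have := (hT I).mono_f
    have := (hT I).epi_g
    let r : (ShortComplex.mk _ _ (hz I)).X₂ ⟶ I :=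
      Injective.factorThru (𝟙 I) (biprod.lift (η₁.app I) (η₂.app I))
    have hinj : Injective (ShortComplex.mk _ _ (hz I)).X₁ := inferInstanceAs (Injective (Injective.under (L₃.obj F)))
    let sp := ShortComplex.Splitting.ofExactOfRetraction _ (hT I).exact r (Injective.comp_factorThru _ _) this
    let a := b ≫ sp.s
    have ha : C.f ≫ biprod.desc ((a₁.homEquiv F I).symm (a ≫ biprod.fst))
        ((a₂.homEquiv F I).symm (a ≫ biprod.snd)) = ι := by
      apply (a₃.homEquiv F I).injective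
      rw [hcomb, Equiv.apply_symm_apply, Equiv.apply_symm_apply,
        show biprod.lift (a ≫ biprod.fst) (a ≫ biprod.snd) = a by apply biprod.hom_ext <;> simp]
      exact (Category.assoc _ _ _).trans ((congrArg (b ≫ ·) sp.s_g).trans (Category.comp_id b))
    have : Mono (C.f ≫ biprod.desc ((a₁.homEquiv F I).symm (a ≫ biprod.fst))
        ((a₂.homEquiv F I).symm (a ≫ biprod.snd))) := by rw [ha]; infer_instance
    exact mono_of_mono C.f (biprod.desc ((a₁.homEquiv F I).symm (a ≫ biprod.fst))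
        ((a₂.homEquiv F I).symm (a ≫ biprod.snd)))
  refine ⟨hw, { exact := C.exact_of_g_is_cokernel (CokernelCofork.IsColimit.ofπ' _ hw fun {G} ψ hψ => ?_) }⟩
  have hψ' : biprod.lift (a₁.homEquiv F G (biprod.inl ≫ ψ)) (a₂.homEquiv F G (biprod.inr ≫ ψ)) ≫
      biprod.desc (α₁.app G) (-(α₂.app G)) = 0 := by
    rw [← hcomb, show biprod.desc (biprod.inl ≫ ψ) (biprod.inr ≫ ψ) = ψ by apply biprod.hom_ext' <;> simp]
    exact (congrArg (a₃.homEquiv F G) hψ).trans h0
  have := (hT G).mono_f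
  let k := (hT G).exact.lift _ hψ'
  have hk : k ≫ biprod.lift (η₁.app G) (η₂.app G) =
      biprod.lift (a₁.homEquiv F G (biprod.inl ≫ ψ)) (a₂.homEquiv F G (biprod.inr ≫ ψ)) :=
    (hT G).exact.lift_f _ hψ'
  refine ⟨k, biprod.hom_ext' _ _ ((a₁.homEquiv F G).injective ?_) ((a₂.homEquiv F G).injective ?_)⟩
  · have := congrArg (· ≫ biprod.fst) hk
    simp only [Category.assoc, biprod.lift_fst] at this
    rw [← this, biprod.inl_desc_assoc, key₁]
  · have := congrArg (· ≫ biprod.snd) hk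
    simp only [Category.assoc, biprod.lift_snd] at this
    rw [← this, biprod.inr_desc_assoc, key₂]

end

end Groth.Agent.H13AlgSp
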