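import Mathlib.Algebra.Category.ModuleCat.Sheaf.Abelian
import Mathlib.Algebra.Category.ModuleCat.Sheaf.Limits
import Mathlib.Algebra.Category.Grp.Abelian
import Mathlib.CategoryTheory.Sites.LocallySurjective
import Mathlib.Algebra.Homology.ShortComplex.ShortExact

/-!
Mayer-Vietoris sequences on a site.
-/

set_option autoImplicit false
set_option backward.isDefEq.respectTransparency false

universe w v u

open CategoryTheory CategoryTheory.Limits Opposite

namespace Groth.Agent.H13AlgSp.MVSite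

variable {C : Type u} [Category.{v} C] {J : GrothendieckTopology C}

section Criterion

variable {R : Sheaf J RingCat.{w}} [HasSheafify J AddCommGrpCat.{w}] [J.WEqualsLocallyBijective AddCommGrpCat.{w}]

theorem shortExact_of_sections (T : ShortComplex (SheafOfModules.{w} R))
    (hinj : ∀ W, Function.Injective (T.f.val.app W).hom)
    (hex : ∀ W (y : T.X₂.val.obj W), T.g.val.app W y = 0 → ∃ x, T.f.val.app W x = y)
    (hsurj : ∀ (W : C) (z : T.X₃.val.obj (op W)), ∃ R ∈ J W, ∀ ⦃Z : C⦄ (g : Z ⟶ W), (R : Sieve W) g →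
      ∃ y, T.g.val.app (op Z) y = T.X₃.val.map g.op z) : T.ShortExact := by
  let θ : T.X₁ ⟶ kernel T.g := kernel.lift T.g T.f T.zero
  have hθ : IsIso θ := by
    have : ∀ W, IsIso (θ.val.app W) := fun W => by
      rw [ConcreteCategory.isIso_iff_bijective]
      let G := SheafOfModules.forget R ⋙ PresheafOfModules.evaluation _ W
      have hι : Function.Injective ((kernel.ι T.g).val.app W).hom := by
        have : Mono ((kernel.ι T.g).val.app W) := inferInstanceAs (Mono (G.map (kernel.ι T.g)))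
        exact (ModuleCat.mono_iff_injective _).1 this
      have hfac : ∀ x, (kernel.ι T.g).val.app W (θ.val.app W x) = T.f.val.app W x := fun x => by
        exact congrArg (fun φ : T.X₁ ⟶ T.X₂ => φ.val.app W x) (kernel.lift_ι T.g T.f T.zero)
      refine ⟨fun a b e => hinj W (by rw [← hfac, ← hfac]; exact congrArg _ e), fun y => ?_⟩
      obtain ⟨x, hx⟩ := hex W ((kernel.ι T.g).val.app W y) (by
        have := congrArg (fun φ : kernel T.g ⟶ T.X₃ => φ.val.app W y) (kernel.condition T.g)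
        simp only [SheafOfModules.comp_val, PresheafOfModules.comp_app, ModuleCat.comp_apply] at this
        exact this)
      exact ⟨x, hι ((hfac x).trans hx)⟩
    have : IsIso θ.val := by
      let e := PresheafOfModules.isoMk (fun W => asIso (θ.val.app W)) (fun _ _ f => θ.val.naturality f)
      exact inferInstanceAs (IsIso e.hom)
    have : IsIso ((SheafOfModules.forget R).map θ) := this
    exact isIso_of_reflects_iso θ (SheafOfModules.forget R)
  have hk : IsLimit (KernelFork.ofι T.f T.zero) :=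
    IsLimit.ofIsoLimit (kernelIsKernel T.g) (Fork.ext (asIso θ) (kernel.lift_ι _ _ _)).symm
  have : Mono T.f := mono_of_isLimit_fork hk
  have : Sheaf.IsLocallySurjective ((SheafOfModules.toSheaf R).map T.g) := ⟨fun {W} z => by
    obtain ⟨Rv, hRv, h⟩ := hsurj W z
    exact J.superset_covering (fun Z g hg => h g hg) hRv⟩
  have : Epi ((SheafOfModules.toSheaf R).map T.g) := Sheaf.epi_of_isLocallySurjective _
  have : Epi T.g := (SheafOfModules.toSheaf R).epi_of_epi_map this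
  exact { exact := T.exact_of_f_is_kernel hk }

end Criterion

/-- The site-theoretic conditions of an elementary distinguished square. -/
structure Sq (J : GrothendieckTopology C) (U V : C) : Prop where
  subterminal : ∀ {Z : C} (a b : Z ⟶ U), a = b
  cover : ∀ (W : C), ∃ R ∈ J W, ∀ ⦃Z : C⦄ (g : Z ⟶ W), (R : Sieve W) g → Nonempty (Z ⟶ U) ∨ Nonempty (Z ⟶ V)
  sep : ∀ {Z : C} (x y : Z ⟶ V), ∃ R ∈ J Z, ∀ ⦃Z' : C⦄ (g : Z' ⟶ Z), (R : Sieve Z) g →
    Nonempty (Z' ⟶ U) ∨ g ≫ x = g ≫ y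

variable [HasBinaryProducts C] {U V P : C} {p : P ⟶ U} {q : P ⟶ V}
  (hP : IsLimit (BinaryFan.mk p q)) (hsq : Sq J U V) {G : Cᵒᵖ ⥤ AddCommGrpCat.{w}} (hG : Presheaf.IsSheaf J G)

include hG in
theorem ext_of_cover {W : C} {R : Sieve W} (hR : R ∈ J W) {a b : G.obj (op W)}
    (h : ∀ ⦃Z : C⦄ (g : Z ⟶ W), R g → G.map g.op a = G.map g.op b) : a = b :=
  (((isSheaf_iff_isSheaf_of_type _ _).1
    (Presheaf.isSheaf_comp_of_isSheaf J G (forget AddCommGrpCat.{w}) hG)) R hR).isSeparatedFor.ext h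

include hsq hG in
theorem mv_injective {W : C} {s : G.obj (op W)} (hU : G.map (prod.snd : U ⨯ W ⟶ W).op s = 0)
    (hV : G.map (prod.snd : V ⨯ W ⟶ W).op s = 0) : s = 0 := by
  obtain ⟨R, hR, h⟩ := hsq.cover W
  refine ext_of_cover hG hR fun Z g hg => ?_
  rw [map_zero]
  rcases h g hg with ⟨⟨t⟩⟩ | ⟨⟨v⟩⟩
  · rw [← prod.lift_snd t g, op_comp, G.map_comp]; simp [hU]
  · rw [← prod.lift_snd v g, op_comp, G.map_comp]; simp [hV]

include hP hsq hG in
theorem mv_exact {W : C} (a : G.obj (op (U ⨯ W))) (b : G.obj (op (V ⨯ W)))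
    (h : G.map (prod.map p (𝟙 W)).op a = G.map (prod.map q (𝟙 W)).op b) :
    ∃ s : G.obj (op W), G.map (prod.snd : U ⨯ W ⟶ W).op s = a ∧ G.map (prod.snd : V ⨯ W ⟶ W).op s = b := by
  obtain ⟨R₀, hR₀, hc⟩ := hsq.cover W
  have hG' := (isSheaf_iff_isSheaf_of_type _ _).1
    (Presheaf.isSheaf_comp_of_isSheaf J G (forget AddCommGrpCat.{w}) hG)
  let R : Sieve W := ⟨fun Z _ => Nonempty (Z ⟶ U) ∨ Nonempty (Z ⟶ V), fun {Y Z} f hf g => by
    rcases hf with ⟨⟨t⟩⟩ | ⟨⟨v⟩⟩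
    exacts [Or.inl ⟨g ≫ t⟩, Or.inr ⟨g ≫ v⟩]⟩
  have hR : R ∈ J W := J.superset_covering (fun Z g hg => hc g hg) hR₀
  have huv : ∀ {Z : C} (g : Z ⟶ W) (t : Z ⟶ U) (v : Z ⟶ V),
      G.map (prod.lift t g).op a = G.map (prod.lift v g).op b := by
    intro Z g t v
    obtain ⟨z, hz₁, hz₂⟩ := BinaryFan.IsLimit.lift' hP t v
    have hz₁' : z ≫ p = t := hz₁
    have hz₂' : z ≫ q = v := hz₂
    have e₁ : prod.lift t g = prod.lift z g ≫ prod.map p (𝟙 W) := by
      apply prod.hom_ext <;> simp [hz₁']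
    have e₂ : prod.lift v g = prod.lift z g ≫ prod.map q (𝟙 W) := by
      apply prod.hom_ext <;> simp [hz₂']
    rw [e₁, e₂, op_comp, op_comp, G.map_comp, G.map_comp]
    exact congrArg (G.map (prod.lift z g).op) h
  have hvv : ∀ {Z : C} (g : Z ⟶ W) (v v' : Z ⟶ V),
      G.map (prod.lift v g).op b = G.map (prod.lift v' g).op b := by
    intro Z g v v'
    obtain ⟨R', hR', h'⟩ := hsq.sep v v'
    refine ext_of_cover hG hR' fun Z' k hk => ?_
    simp only [← ConcreteCategory.comp_apply, ← G.map_comp, ← op_comp, prod.comp_lift]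
    rcases h' k hk with ⟨⟨t⟩⟩ | he
    · rw [← huv _ t (k ≫ v), ← huv _ t (k ≫ v')]
    · rw [he]
  let Q : ∀ {Z : C}, (Z ⟶ W) → G.obj (op Z) → Prop := fun {Z} g e =>
    (∀ t : Z ⟶ U, e = G.map (prod.lift t g).op a) ∧ ∀ v : Z ⟶ V, e = G.map (prod.lift v g).op b
  have hQ : ∀ {Z : C} (g : Z ⟶ W), R g → ∃ e, Q g e := by
    intro Z g hg
    rcases hg with ⟨⟨t⟩⟩ | ⟨⟨v⟩⟩
    · exact ⟨G.map (prod.lift t g).op a, fun t' => by rw [hsq.subterminal t t'], fun v => huv g t v⟩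
    · exact ⟨G.map (prod.lift v g).op b, fun t => (huv g t v).symm, fun v' => hvv g v v'⟩
  choose e he using @hQ
  let fam : Presieve.FamilyOfElements (G ⋙ forget AddCommGrpCat.{w}) R.arrows := fun Z g hg => e g hg
  have hfam : fam.Compatible := by
    rw [Presieve.compatible_iff_sieveCompatible]
    intro Y Z g k hg
    change e (k ≫ g) _ = G.map k.op (e g hg)
    rcases id hg with ⟨⟨t⟩⟩ | ⟨⟨v⟩⟩
    · rw [(he g hg).1 t, (he (k ≫ g) _).1 (k ≫ t), ← prod.comp_lift, op_comp, G.map_comp]; rfl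
    · rw [(he g hg).2 v, (he (k ≫ g) _).2 (k ≫ v), ← prod.comp_lift, op_comp, G.map_comp]; rfl
  obtain ⟨s, hs, -⟩ := hG' R hR fam hfam
  refine ⟨s, ?_, ?_⟩
  · refine (hs (prod.snd : U ⨯ W ⟶ W) (Or.inl ⟨prod.fst⟩)).trans ?_
    exact ((he (prod.snd : U ⨯ W ⟶ W) _).1 prod.fst).trans (by rw [prod.lift_fst_snd]; simp)
  · refine (hs (prod.snd : V ⨯ W ⟶ W) (Or.inr ⟨prod.fst⟩)).trans ?_
    exact ((he (prod.snd : V ⨯ W ⟶ W) _).2 prod.fst).trans (by rw [prod.lift_fst_snd]; simp)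

include hP hsq hG in
theorem mv_locally_surjective {W : C} (s : G.obj (op (P ⨯ W))) : ∃ R ∈ J W, ∀ ⦃Z : C⦄ (g : Z ⟶ W), (R : Sieve W) g →
    ∃ (a : G.obj (op (U ⨯ Z))) (b : G.obj (op (V ⨯ Z))),
      G.map (prod.map p (𝟙 Z)).op a - G.map (prod.map q (𝟙 Z)).op b = G.map (prod.map (𝟙 P) g).op s := by
  obtain ⟨R, hR, hc⟩ := hsq.cover W
  refine ⟨R, hR, fun Z g hg => ?_⟩
  generalize hσ : G.map (prod.map (𝟙 P) g).op s = σ
  have key : ∀ {T : C} (z z' : T ⟶ P ⨯ Z), z ≫ prod.fst ≫ q = z' ≫ prod.fst ≫ q →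
      z ≫ prod.snd = z' ≫ prod.snd → z = z' := fun z z' h₁ h₂ => by
    apply prod.hom_ext
    · apply BinaryFan.IsLimit.hom_ext hP
      · exact hsq.subterminal _ _
      · change (z ≫ prod.fst) ≫ q = (z' ≫ prod.fst) ≫ q
        rw [Category.assoc, Category.assoc]; exact h₁
    · exact h₂
  rcases hc g hg with ⟨⟨t⟩⟩ | ⟨⟨v⟩⟩
  · obtain ⟨k, hk₁, hk₂⟩ := BinaryFan.IsLimit.lift' hP ((prod.snd : V ⨯ Z ⟶ Z) ≫ t) prod.fst
    simp only [BinaryFan.fst, BinaryFan.snd, BinaryFan.mk] at hk₁ hk₂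
    refine ⟨0, -G.map (prod.lift k prod.snd).op σ, ?_⟩
    rw [map_zero, map_neg, zero_sub, neg_neg, ← ConcreteCategory.comp_apply, ← G.map_comp, ← op_comp]
    have : prod.map q (𝟙 Z) ≫ prod.lift k prod.snd = 𝟙 (P ⨯ Z) := by
      apply key
      · have hk₂' : k ≫ q = prod.fst := hk₂
        simp [hk₂']
      · simp
    rw [this]; simp
  · obtain ⟨k, hk₁, hk₂⟩ := BinaryFan.IsLimit.lift' hP (prod.fst : U ⨯ Z ⟶ U) (prod.snd ≫ v)
    have hk₁' : k ≫ p = prod.fst := hk₁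
    have hk₂' : k ≫ q = prod.snd ≫ v := hk₂
    let τ : U ⨯ Z ⟶ P ⨯ Z := prod.lift k prod.snd
    let a := G.map τ.op σ
    let c := G.map (prod.map p (𝟙 Z)).op a - σ
    let ι : Z ⟶ V ⨯ Z := prod.lift v (𝟙 Z)
    let pr : P ⨯ Z ⟶ V ⨯ Z := prod.map q (𝟙 Z)
    have hG' := (isSheaf_iff_isSheaf_of_type _ _).1
      (Presheaf.isSheaf_comp_of_isSheaf J G (forget AddCommGrpCat.{w}) hG)
    let S : Sieve (V ⨯ Z) :=
      ⟨fun T f => (∃ z : T ⟶ P ⨯ Z, z ≫ pr = f) ∨ (f ≫ prod.fst = f ≫ prod.snd ≫ v), fun {Y T} f hf k => by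
        rcases hf with ⟨z, hz⟩ | he
        · exact Or.inl ⟨k ≫ z, by rw [Category.assoc, hz]⟩
        · exact Or.inr (by rw [Category.assoc, he, Category.assoc])⟩
    have hS : S ∈ J (V ⨯ Z) := by
      obtain ⟨R', hR', h'⟩ := hsq.sep (prod.fst : V ⨯ Z ⟶ V) (prod.snd ≫ v)
      refine J.superset_covering (fun T f hf => ?_) hR'
      rcases h' f hf with ⟨⟨t⟩⟩ | he
      · obtain ⟨l, hl₁, hl₂⟩ := BinaryFan.IsLimit.lift' hP t (f ≫ prod.fst)
        have hl₂' : l ≫ q = f ≫ prod.fst := hl₂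
        exact Or.inl ⟨prod.lift l (f ≫ prod.snd), by apply prod.hom_ext <;> simp [pr, hl₂']⟩
      · exact Or.inr he
    have hc0 : ∀ {T : C} (z : T ⟶ P ⨯ Z), z ≫ prod.fst ≫ q = z ≫ prod.snd ≫ v → G.map z.op c = 0 := by
      intro T z hz
      simp only [c, a, map_sub, ← ConcreteCategory.comp_apply, ← G.map_comp, ← op_comp]
      have : (z ≫ prod.map p (𝟙 Z)) ≫ τ = z := by
        apply key
        · simp [τ, hk₂', hz]
        · simp [τ]
      rw [← Category.assoc, this, sub_self]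
    let Q : ∀ {T : C}, (T ⟶ V ⨯ Z) → G.obj (op T) → Prop := fun {T} f e =>
      (∀ z : T ⟶ P ⨯ Z, z ≫ pr = f → e = G.map z.op c) ∧ (f ≫ prod.fst = f ≫ prod.snd ≫ v → e = 0)
    have hQ : ∀ {T : C} (f : T ⟶ V ⨯ Z), S f → ∃ e, Q f e := by
      intro T f hf
      by_cases he : f ≫ prod.fst = f ≫ prod.snd ≫ v
      · refine ⟨0, fun z hz => (hc0 z ?_).symm, fun _ => rfl⟩
        subst hz
        simpa [pr] using he
      · obtain ⟨z, hz⟩ := hf.resolve_right he
        refine ⟨G.map z.op c, fun z' hz' => ?_, fun h => absurd h he⟩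
        have e₁ := congrArg (· ≫ prod.fst) (hz.trans hz'.symm)
        have e₂ := congrArg (· ≫ prod.snd) (hz.trans hz'.symm)
        simp [pr] at e₁ e₂
        rw [key z z' e₁ e₂]
    choose e he using @hQ
    let fam : Presieve.FamilyOfElements (G ⋙ forget AddCommGrpCat.{w}) S.arrows := fun T f hf => e f hf
    have hfam : fam.Compatible := by
      rw [Presieve.compatible_iff_sieveCompatible]
      intro Y T f k hf
      change e (k ≫ f) _ = G.map k.op (e f hf)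
      rcases id hf with ⟨z, hz⟩ | h
      · rw [(he f hf).1 z hz, (he (k ≫ f) _).1 (k ≫ z) (by rw [Category.assoc, hz]), op_comp, G.map_comp]; rfl
      · rw [(he f hf).2 h, (he (k ≫ f) _).2 (by rw [Category.assoc, h, Category.assoc]), map_zero]
    obtain ⟨b, hb, -⟩ := hG' S hS fam hfam
    refine ⟨a, b, ?_⟩
    have hb' : G.map pr.op b = c :=
      (hb pr (Or.inl ⟨𝟙 _, Category.id_comp _⟩)).trans
        (((he pr _).1 (𝟙 _) (Category.id_comp _)).trans (by simp))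
    rw [hb']
    simp [c]

end Groth.Agent.H13AlgSp.MVSite
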