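import Groth.Agent.H13AlgSp.AffineLocal
import Groth.Agent.H13AlgSp.LocP
import Groth.Agent.H12AlgSp.LocPCancel
import Groth.Agent.H12AlgSp.OpenSub
import Groth.Agent.H12AlgSp.PointsTop
import Groth.Prelude.Def_AlgSp4

/-!
Glueing morphisms of etale spaces along a modification.
-/

set_option autoImplicit false
set_option linter.style.haveILetI false
set_option backward.isDefEq.respectTransparency false

universe u

open CategoryTheory CategoryTheory.Limits AlgebraicGeometry
open AlgSp Groth.Agent.H12AlgSp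

namespace Groth.Agent.H13AlgSp.ModifGlue

variable {S : Scheme.{u}}

theorem locP_etale_cancel {X Y Z : Sp S} (hZ : IsAlgSpace Z) {f : X ⟶ Y} {g : Y ⟶ Z}
    (h : LocP @Etale (f ≫ g)) (hg : LocP @Etale g) : LocP @Etale f :=
  Groth.Agent.H12AlgSp.locP_of_postcomp (R := @Etale) etLocal_etale
    (fun _ _ _ a b (hab : Etale (a ≫ b)) (hb : Etale b) => by
      haveI := hab; haveI := hb; exact Etale.of_comp a b) hZ h hg

theorem isIso_of_open_surjective {A B : Sp S} (hA : IsAlgSpace A) (hB : IsAlgSpace B) (q : A ⟶ B) [Mono q]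
    (he : LocP @Etale q) (hs : Function.Surjective (Points.map q)) : IsIso q := by
  obtain ⟨g, hg⟩ := exists_factor_open ((mono_iff_locP_openImmersion hA hB).2 ⟨‹Mono q›, he⟩) (𝟙 B)
    (fun x _ => hs x)
  haveI : IsSplitEpi q := ⟨⟨⟨g, hg⟩⟩⟩
  exact isIso_of_mono_of_isSplitEpi q

/-- An etale morphism which becomes an isomorphism on the members of a jointly surjective family is one. -/
theorem isIso_of_etale_pieces {A B : Sp S} (hA : IsAlgSpace A) (hB : IsAlgSpace B) (q : A ⟶ B)
    (he : LocP @Etale q) {ι : Type*} {C : ι → Sp S} (c : ∀ k, C k ⟶ B)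
    (hcov : ∀ x : Points B, ∃ k, x ∈ Set.range (Points.map (c k)))
    (hiso : ∀ k, IsIso (pullback.snd q (c k))) : IsIso q := by
  have hP : IsAlgSpace (pullback q q) := isAlgSpace_of_isPullback hB.diag hA hA (IsPullback.of_hasPullback _ _)
  let δ : A ⟶ pullback q q := pullback.diagonal q
  haveI : Mono δ := inferInstance
  have hδe : LocP @Etale δ := by
    refine locP_etale_cancel hA (g := pullback.fst q q) ?_
      (Groth.Agent.H12AlgSp.locP_of_isPullback etLocal_etale (IsPullback.of_hasPullback q q).flip hA hB hA he)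
    rw [pullback.diagonal_fst]
    exact locP_of_repWith etLocal_etale (repWith_of_isIso (P := @Etale) (𝟙 A))
  have hδs : Function.Surjective (Points.map δ) := fun x => by
    obtain ⟨k, z, hz⟩ := hcov (Points.map (pullback.fst q q ≫ q) x)
    obtain ⟨p, hp, -⟩ := exists_point_of_isPullback (IsPullback.of_hasPullback (pullback.fst q q ≫ q) (c k)) x z hz.symm
    let Q := pullback (pullback.fst q q ≫ q) (c k)
    let l₁ : Q ⟶ pullback q (c k) := pullback.lift (pullback.fst _ _ ≫ pullback.fst q q) (pullback.snd _ _)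
      (by rw [Category.assoc, pullback.condition])
    let l₂ : Q ⟶ pullback q (c k) := pullback.lift (pullback.fst _ _ ≫ pullback.snd q q) (pullback.snd _ _)
      (by rw [Category.assoc, ← pullback.condition (f := q) (g := q), pullback.condition])
    haveI := hiso k
    have hl : l₁ = l₂ := by
      rw [← cancel_mono (pullback.snd q (c k))]
      simp only [l₁, l₂, pullback.lift_snd]
    have key : (pullback.fst (pullback.fst q q ≫ q) (c k) ≫ pullback.fst q q) ≫ δ =
        pullback.fst (pullback.fst q q ≫ q) (c k) := by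
      have h' := congrArg (· ≫ pullback.fst q (c k)) hl
      simp only [l₁, l₂, pullback.lift_fst] at h'
      apply pullback.hom_ext
      · simp only [δ, Category.assoc, pullback.diagonal_fst, Category.comp_id]
      · simp only [δ, Category.assoc, pullback.diagonal_snd, Category.comp_id]
        exact h'
    exact ⟨Points.map (pullback.fst (pullback.fst q q ≫ q) (c k) ≫ pullback.fst q q) p,
      by rw [← Points.map_comp, key, hp]⟩
  haveI := isIso_of_open_surjective hA hP δ hδe hδs
  haveI : Mono q := ⟨fun {T} a b e => by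
    let s := pullback.lift a b e
    have h1 : (s ≫ inv δ) ≫ δ = s := by rw [Category.assoc, IsIso.inv_hom_id, Category.comp_id]
    have ha : a = s ≫ inv δ := by
      have h2 : ((s ≫ inv δ) ≫ δ) ≫ pullback.fst q q = s ≫ inv δ := by
        rw [Category.assoc, pullback.diagonal_fst, Category.comp_id]
      rw [h1] at h2
      exact (pullback.lift_fst a b e).symm.trans h2
    have hb : b = s ≫ inv δ := by
      have h2 : ((s ≫ inv δ) ≫ δ) ≫ pullback.snd q q = s ≫ inv δ := by
        rw [Category.assoc, pullback.diagonal_snd, Category.comp_id]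
      rw [h1] at h2
      exact (pullback.lift_snd a b e).symm.trans h2
    rw [ha, hb]⟩
  refine isIso_of_open_surjective hA hB q he fun x => ?_
  obtain ⟨k, z, rfl⟩ := hcov x
  haveI := hiso k
  exact ⟨Points.map (inv (pullback.snd q (c k)) ≫ pullback.fst q (c k)) z, by
    rw [← Points.map_comp, Category.assoc, pullback.condition, IsIso.inv_hom_id_assoc]⟩

variable {Y Y' Z E U U' V₁ V₂ V₁' W₁ P₁ : Sp S}

theorem existsUnique_hom (hY : IsAlgSpace Y) (hY' : IsAlgSpace Y') (hZ : IsAlgSpace Z) (hV₁ : IsAlgSpace V₁)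
    (hV₂ : IsAlgSpace V₂) (hV₁' : IsAlgSpace V₁') (hW₁ : IsAlgSpace W₁)
    {f : Y' ⟶ Y} (hf : IsUnivClosedMor f) {i : Z ⟶ Y} (hi : RepWith @IsClosedImmersion i) {j : E ⟶ Y'}
    {g : E ⟶ Z} (hE : IsPullback j g f i) {jU : U ⟶ Y} (hjU : RepWith @IsOpenImmersion jU)
    (hU : Set.range (Points.map jU) = (Set.range (Points.map i))ᶜ) {fU : U' ⟶ U} {jU' : U' ⟶ Y'}
    (hU' : IsPullback jU' fU f jU) [IsIso fU]
    {v₁ : V₁ ⟶ Y} {v₂ : V₂ ⟶ Y} (hv₁ : LocP @Etale v₁) (hv₂ : LocP @Etale v₂)
    {a₁ : V₁' ⟶ V₁} {p₁ : V₁' ⟶ Y'} (ha₁ : IsPullback a₁ p₁ v₁ f)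
    {b₁ : W₁ ⟶ V₁} {q₁ : W₁ ⟶ Z} (hb₁ : IsPullback b₁ q₁ v₁ i)
    {r₁ : P₁ ⟶ V₁'} {s₁ : P₁ ⟶ W₁} {e₁ : P₁ ⟶ E} (hr₁ : IsPullback r₁ e₁ p₁ j) (hs₁ : IsPullback s₁ e₁ q₁ g)
    (hP₁ : r₁ ≫ a₁ = s₁ ≫ b₁) (μ : V₁' ⟶ V₂) (hμ : μ ≫ v₂ = p₁ ≫ f) (ν : W₁ ⟶ V₂) (hν : ν ≫ v₂ = q₁ ≫ i)
    (hμν : r₁ ≫ μ = s₁ ≫ ν) :
    ∃! m : V₁ ⟶ V₂, m ≫ v₂ = v₁ ∧ a₁ ≫ m = μ ∧ b₁ ≫ m = ν := by
  let T := pullback v₁ v₂
  let π : T ⟶ Y := pullback.fst v₁ v₂ ≫ v₁
  have hT : IsAlgSpace T := isAlgSpace_of_isPullback hY.diag hV₁ hV₂ (IsPullback.of_hasPullback _ _)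
  have hfst : LocP @Etale (pullback.fst v₁ v₂) :=
    Groth.Agent.H12AlgSp.locP_of_isPullback etLocal_etale (IsPullback.of_hasPullback v₁ v₂).flip hV₂ hY hV₁ hv₂
  have hπ : LocP @Etale π := Groth.Agent.H12AlgSp.locP_comp etLocal_etale hT hV₁ hY hfst hv₁
  let γ : V₁' ⟶ T := pullback.lift a₁ μ (by rw [ha₁.w, hμ])
  let δ : W₁ ⟶ T := pullback.lift b₁ ν (by rw [hb₁.w, hν])
  have hγ1 : γ ≫ pullback.fst v₁ v₂ = a₁ := pullback.lift_fst _ _ _
  have hδ1 : δ ≫ pullback.fst v₁ v₂ = b₁ := pullback.lift_fst _ _ _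
  have hγδ : r₁ ≫ γ = s₁ ≫ δ := by
    apply pullback.hom_ext
    · rw [Category.assoc, Category.assoc, hγ1, hδ1, hP₁]
    · simp only [γ, δ, Category.assoc, pullback.lift_snd, hμν]
  -- graphs over `Y'` and over `Z`
  let T' := pullback π f
  let TZ := pullback π i
  have hT' : IsAlgSpace T' := isAlgSpace_of_isPullback hY.diag hT hY' (IsPullback.of_hasPullback _ _)
  have hTZ : IsAlgSpace TZ := isAlgSpace_of_isPullback hY.diag hT hZ (IsPullback.of_hasPullback _ _)
  have hγπ : γ ≫ π = p₁ ≫ f := by rw [← Category.assoc, hγ1, ha₁.w]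
  have hδπ : δ ≫ π = q₁ ≫ i := by rw [← Category.assoc, hδ1, hb₁.w]
  let γ' : V₁' ⟶ T' := pullback.lift γ p₁ hγπ
  let δ' : W₁ ⟶ TZ := pullback.lift δ q₁ hδπ
  have hγ'1 : γ' ≫ pullback.fst π f = γ := pullback.lift_fst _ _ _
  have hδ'1 : δ' ≫ pullback.fst π i = δ := pullback.lift_fst _ _ _
  have hp₁ : LocP @Etale p₁ := Groth.Agent.H12AlgSp.locP_of_isPullback etLocal_etale ha₁ hV₁ hY hY' hv₁
  have hq₁ : LocP @Etale q₁ := Groth.Agent.H12AlgSp.locP_of_isPullback etLocal_etale hb₁ hV₁ hY hZ hv₁
  have hγ'e : LocP @Etale γ' := locP_etale_cancel hY' (g := pullback.snd π f) (by rw [pullback.lift_snd]; exact hp₁)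
    (Groth.Agent.H12AlgSp.locP_of_isPullback etLocal_etale (IsPullback.of_hasPullback π f) hT hY hY' hπ)
  have hδ'e : LocP @Etale δ' := locP_etale_cancel hZ (g := pullback.snd π i) (by rw [pullback.lift_snd]; exact hq₁)
    (Groth.Agent.H12AlgSp.locP_of_isPullback etLocal_etale (IsPullback.of_hasPullback π i) hT hY hZ hπ)
  have hγ'o : IsOpen (Set.range (Points.map γ')) :=
    (Groth.Agent.H12AlgSp.isOpenMap_map_of_isEtaleMor hV₁' ((isEtaleMor_iff_locP hV₁' hT').2 hγ'e)).isOpen_range
  have hδ'o : IsOpen (Set.range (Points.map δ')) :=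
    (Groth.Agent.H12AlgSp.isOpenMap_map_of_isEtaleMor hW₁ ((isEtaleMor_iff_locP hW₁ hTZ).2 hδ'e)).isOpen_range
  have hmi : Mono i := mono_of_repWith (fun _ _ k (_ : IsClosedImmersion k) => inferInstanceAs (Mono k)) hi
  let Γ : Set (Points T) := Set.range (Points.map γ) ∪ Set.range (Points.map δ)
  -- points over `Z`
  have hdichZ : ∀ y : Points Y, y ∈ Set.range (Points.map i) ∨ y ∈ Set.range (Points.map jU) := fun y => by
    rw [hU]; exact em _
  have hoverZ : ∀ v : Points V₁', Points.map (γ ≫ π) v ∈ Set.range (Points.map i) →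
      ∃ w, Points.map δ w = Points.map γ v := fun v ⟨z, hz⟩ => by
    obtain ⟨e, he, -⟩ := exists_point_of_isPullback hE (Points.map p₁ v) z (by
      rw [← Points.map_comp, ← hγπ, hz])
    obtain ⟨p, hp, -⟩ := exists_point_of_isPullback hr₁ v e he.symm
    exact ⟨Points.map s₁ p, by rw [← Points.map_comp, ← hγδ, Points.map_comp, hp]⟩
  -- preimages
  have hpreZ : Points.map (pullback.fst π i) ⁻¹' Γ = Set.range (Points.map δ') := by
    ext x
    constructor
    · intro hx
      obtain ⟨w, hw⟩ : ∃ w, Points.map δ w = Points.map (pullback.fst π i) x := by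
        rcases hx with ⟨v, hv⟩ | hw
        · obtain ⟨w, hw⟩ := hoverZ v ⟨Points.map (pullback.snd π i) x, by
            rw [← Points.map_comp, ← pullback.condition, Points.map_comp, ← hv, ← Points.map_comp]⟩
          exact ⟨w, hw.trans hv⟩
        · exact hw
      exact ⟨w, injective_map_of_mono (pullback.fst π i) (by rw [← Points.map_comp, hδ'1, hw])⟩
    · rintro ⟨w, rfl⟩
      exact .inr ⟨w, by rw [← Points.map_comp, hδ'1]⟩
  have hpre' : Points.map (pullback.fst π f) ⁻¹' Γ = Set.range (Points.map γ') := by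
    ext x
    constructor
    · intro hx
      rcases hdichZ (Points.map (pullback.fst π f ≫ π) x) with hz | hu
      · -- over `Z`
        obtain ⟨w, hw⟩ : ∃ w, Points.map δ w = Points.map (pullback.fst π f) x := by
          rcases hx with ⟨v, hv⟩ | hw
          · obtain ⟨w, hw⟩ := hoverZ v (by rwa [Points.map_comp, hv, ← Points.map_comp])
            exact ⟨w, hw.trans hv⟩
          · exact hw
        obtain ⟨z, hz⟩ := hz
        obtain ⟨e, he, -⟩ := exists_point_of_isPullback hE (Points.map (pullback.snd π f) x) z (by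
          rw [← Points.map_comp, ← pullback.condition, hz])
        let TE := pullback (pullback.snd π f) j
        obtain ⟨xE, hxE, -⟩ := exists_point_of_isPullback (IsPullback.of_hasPullback (pullback.snd π f) j) x e he.symm
        let κ : TE ⟶ TZ := pullback.lift (pullback.fst _ _ ≫ pullback.fst π f) (pullback.snd _ _ ≫ g)
          (by rw [Category.assoc, pullback.condition, reassoc_of% (pullback.condition (f := pullback.snd π f) (g := j)),
            hE.w, Category.assoc])
        have hκ : κ ≫ pullback.fst π i = pullback.fst _ _ ≫ pullback.fst π f := pullback.lift_fst _ _ _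
        let ρ : P₁ ⟶ TE := pullback.lift (r₁ ≫ γ') e₁ (by
          rw [Category.assoc, pullback.lift_snd, hr₁.w])
        have sqρ : IsPullback s₁ ρ δ' κ := by
          have t : IsPullback κ (pullback.snd (pullback.snd π f) j) (pullback.snd π i) g := by
            refine IsPullback.of_right ?_ (pullback.lift_snd _ _ _) (IsPullback.of_hasPullback π i)
            have := (IsPullback.of_hasPullback (pullback.snd π f) j).paste_horiz (IsPullback.of_hasPullback π f)
            rw [hE.w] at this
            rw [hκ]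
            exact this
          refine IsPullback.of_bot (v₁₁ := ρ) (v₁₂ := δ') (v₂₁ := pullback.snd _ _) (v₂₂ := pullback.snd π i) ?_ ?_ t
          · simp only [ρ, δ', pullback.lift_snd]
            exact hs₁
          · apply pullback.hom_ext
            · rw [Category.assoc, Category.assoc, hδ'1, hκ]
              simp only [ρ, pullback.lift_fst_assoc, Category.assoc, hγ'1, hγδ]
            · simp only [κ, δ', ρ, Category.assoc, pullback.lift_snd, pullback.lift_snd_assoc, hs₁.w]
        obtain ⟨p, -, hp⟩ := exists_point_of_isPullback sqρ w xE (injective_map_of_mono (pullback.fst π i) (by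
          rw [← Points.map_comp, ← Points.map_comp, hδ'1, hκ, hw, Points.map_comp, hxE]))
        refine ⟨Points.map r₁ p, ?_⟩
        rw [← hxE, ← hp, ← Points.map_comp, ← Points.map_comp, pullback.lift_fst]
      · -- over `U`
        let TU := pullback π jU
        haveI hmU : Mono jU := mono_of_openImmersion hjU
        let κ : TU ⟶ T' := pullback.lift (pullback.fst _ _) (pullback.snd _ _ ≫ inv fU ≫ jU')
          (by rw [Category.assoc, Category.assoc, hU'.w, IsIso.inv_hom_id_assoc, pullback.condition])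
        have sqκ : IsPullback κ (pullback.snd π jU) (pullback.fst π f ≫ π) jU := by
          have e : κ ≫ pullback.fst π f = pullback.fst π jU := pullback.lift_fst _ _ _
          refine ⟨⟨by rw [← Category.assoc, e, pullback.condition]⟩, ⟨PullbackCone.IsLimit.mk _
            (fun s => pullback.lift (s.fst ≫ pullback.fst π f) s.snd (by rw [Category.assoc, s.condition]))
            (fun s => ?_) (fun s => pullback.lift_snd _ _ _) (fun s m h₁ h₂ => ?_)⟩⟩
          · apply pullback.hom_ext
            · rw [Category.assoc, e, pullback.lift_fst]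
            · simp only [κ, Category.assoc, pullback.lift_snd, pullback.lift_snd_assoc]
              have hc : (s.fst ≫ pullback.snd π f) ≫ f = s.snd ≫ jU := by
                rw [Category.assoc, ← pullback.condition, s.condition]
              rw [← hU'.lift_fst _ _ hc]
              have h2 := hU'.lift_snd _ _ hc
              rw [← reassoc_of% h2, IsIso.hom_inv_id_assoc]
          · apply pullback.hom_ext
            · rw [pullback.lift_fst, ← h₁, Category.assoc, e]
            · rw [pullback.lift_snd, h₂]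
        obtain ⟨u, hu⟩ := hu
        obtain ⟨a, ha, -⟩ := exists_point_of_isPullback sqκ x u hu.symm
        rcases hx with ⟨v, hv⟩ | ⟨w, hw⟩
        · obtain ⟨b, hb, -⟩ := exists_point_of_isPullback sqκ (Points.map γ' v) u (by
            rw [← Points.map_comp, ← Category.assoc, hγ'1, hu, Points.map_comp, hv, ← Points.map_comp])
          refine ⟨v, ?_⟩
          have hab : b = a := injective_map_of_mono (pullback.fst π jU) (by
            rw [show pullback.fst π jU = κ ≫ pullback.fst π f from (pullback.lift_fst _ _ _).symm,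
              Points.map_comp, Points.map_comp, hb, ha, ← Points.map_comp, hγ'1, hv])
          rw [← hb, hab, ha]
        · exfalso
          have h1 : Points.map jU u ∈ Set.range (Points.map i) := by
            refine ⟨Points.map q₁ w, ?_⟩
            rw [← Points.map_comp, ← hδπ, Points.map_comp, hw, ← Points.map_comp, hu]
          have h2 : Points.map jU u ∈ Set.range (Points.map jU) := ⟨u, rfl⟩
          rw [hU] at h2
          exact h2 h1
    · rintro ⟨v, rfl⟩
      exact .inl ⟨v, by rw [← Points.map_comp, hγ'1]⟩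
  -- the graph is open
  have hsurj : ∀ t : Points T, t ∈ Set.range (Points.map (pullback.fst π f)) ∨
      t ∈ Set.range (Points.map (pullback.fst π i)) := fun t => by
    rcases hdichZ (Points.map π t) with ⟨z, hz⟩ | ⟨u, hu⟩
    · obtain ⟨x, hx, -⟩ := exists_point_of_isPullback (IsPullback.of_hasPullback π i) t z hz.symm
      exact .inr ⟨x, hx⟩
    · obtain ⟨x, hx, -⟩ := exists_point_of_isPullback (IsPullback.of_hasPullback π f) t
        (Points.map (inv fU ≫ jU') u) (by
          rw [← Points.map_comp, Category.assoc, hU'.w, IsIso.inv_hom_id_assoc, hu])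
      exact .inl ⟨x, hx⟩
  have hΓ : IsOpen Γ := by
    rw [← isClosed_compl_iff]
    have e : Γᶜ = Points.map (pullback.fst π f) '' (Set.range (Points.map γ'))ᶜ ∪
        Points.map (pullback.fst π i) '' (Set.range (Points.map δ'))ᶜ := by
      rw [← hpre', ← hpreZ]
      ext t
      constructor
      · intro ht
        rcases hsurj t with ⟨x, rfl⟩ | ⟨x, rfl⟩
        · exact .inl ⟨x, ht, rfl⟩
        · exact .inr ⟨x, ht, rfl⟩
      · rintro (⟨x, hx, rfl⟩ | ⟨x, hx, rfl⟩) <;> exact hx
    rw [e]
    refine (hf hT π (pullback.snd π f ≫ 𝟙 Y') (pullback.fst π f) ?_ _ hγ'o.isClosed_compl).union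
      (isClosedMap_map_of_repWith (P := @IsClosedImmersion) (fun _ _ k (_ : IsClosedImmersion k) => inferInstanceAs (UniversallyClosed k))
        (repWith_of_isPullback (IsPullback.of_hasPullback π i).flip hi) _ hδ'o.isClosed_compl)
    rw [Category.comp_id]
    exact (IsPullback.of_hasPullback π f).flip
  obtain ⟨G, jG, hG, hjG, hr⟩ := exists_open_subspace hT hΓ
  have hmG : Mono jG := mono_of_openImmersion hjG
  have hjGe : LocP @Etale jG := ((mono_iff_locP_openImmersion hG hT).1 hjG).2
  let q := jG ≫ pullback.fst v₁ v₂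
  have hqe : LocP @Etale q := Groth.Agent.H12AlgSp.locP_comp etLocal_etale hG hT hV₁ hjGe hfst
  obtain ⟨γG, hγG⟩ := exists_factor_open hjG γ (by rw [hr]; exact fun x hx => Or.inl hx)
  obtain ⟨δG, hδG⟩ := exists_factor_open hjG δ (by rw [hr]; exact fun x hx => Or.inr hx)
  have hq1 : γG ≫ q = a₁ := by rw [← Category.assoc, hγG, hγ1]
  have hq2 : δG ≫ q = b₁ := by rw [← Category.assoc, hδG, hδ1]
  -- the projection of the graph becomes an isomorphism on both pieces
  have hpiece : ∀ {K C B' : Sp S} (hK : IsAlgSpace K) (c : K ⟶ V₁) (hc' : IsAlgSpace B') {m : B' ⟶ Y}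
      (pc : K ⟶ B') (sqc : IsPullback c pc v₁ m) (σ₀ : K ⟶ G) (hσ₀ : σ₀ ≫ q = c)
      (gr : K ⟶ pullback π m) (hgr : gr = pullback.lift (σ₀ ≫ jG) pc (by
        rw [← Category.assoc, Category.assoc σ₀, hσ₀, sqc.w]))
      (hpre : Points.map (pullback.fst π m) ⁻¹' Γ = Set.range (Points.map gr)),
      IsIso (pullback.snd q c) := by
    intro K C B' hK c hc' m pc sqc σ₀ hσ₀ gr hgr hpre
    let σ : K ⟶ pullback q c := pullback.lift σ₀ (𝟙 K) (by rw [hσ₀, Category.id_comp])
    have hσs : σ ≫ pullback.snd q c = 𝟙 K := pullback.lift_snd _ _ _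
    have hQ : IsAlgSpace (pullback q c) := isAlgSpace_of_isPullback hV₁.diag hG hK (IsPullback.of_hasPullback _ _)
    let η : pullback q c ⟶ pullback π m := pullback.lift (pullback.fst _ _ ≫ jG) (pullback.snd _ _ ≫ pc) (by
      simp only [π, Category.assoc]
      rw [← sqc.w]
      have := (reassoc_of% (pullback.condition (f := q) (g := c))) v₁
      simp only [q, Category.assoc] at this ⊢
      exact this)
    have hmη : Mono η := ⟨fun {W} x y e => by
      have h1 := congrArg (· ≫ pullback.fst π m) e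
      have h2 := congrArg (· ≫ pullback.snd π m) e
      simp only [η, Category.assoc, pullback.lift_fst, pullback.lift_snd] at h1 h2
      have h1' : x ≫ pullback.fst q c = y ≫ pullback.fst q c := by
        rw [← cancel_mono jG, Category.assoc, Category.assoc]; exact h1
      refine pullback.hom_ext h1' (sqc.hom_ext ?_ ?_)
      · simp only [Category.assoc, ← pullback.condition]
        rw [← Category.assoc, h1', Category.assoc]
      · simpa only [Category.assoc] using h2⟩
    have hση : σ ≫ η = gr := by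
      rw [hgr]
      apply pullback.hom_ext <;>
        simp only [σ, η, Category.assoc, pullback.lift_fst, pullback.lift_snd, pullback.lift_fst_assoc,
          pullback.lift_snd_assoc, Category.id_comp]
    haveI : IsSplitMono σ := ⟨⟨⟨_, hσs⟩⟩⟩
    have hσe : LocP @Etale σ := locP_etale_cancel hK (g := pullback.snd q c)
      (by rw [hσs]; exact locP_of_repWith etLocal_etale (repWith_of_isIso (P := @Etale) (𝟙 K)))
      (Groth.Agent.H12AlgSp.locP_of_isPullback etLocal_etale (IsPullback.of_hasPullback q c) hG hV₁ hK hqe)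
    have hσsurj : Function.Surjective (Points.map σ) := fun x => by
      have hx : Points.map η x ∈ Set.range (Points.map gr) := by
        rw [← hpre, Set.mem_preimage, ← Points.map_comp, show η ≫ pullback.fst π m = pullback.fst q c ≫ jG from
          pullback.lift_fst _ _ _, Points.map_comp, ← hr]
        exact ⟨_, rfl⟩
      obtain ⟨k, hk⟩ := hx
      exact ⟨k, injective_map_of_mono η (by rw [← Points.map_comp, hση, hk])⟩
    haveI := isIso_of_open_surjective hK hQ σ hσe hσsurj
    rw [show pullback.snd q c = inv σ from (IsIso.inv_eq_of_hom_inv_id hσs).symm]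
    infer_instance
  have hI1 : IsIso (pullback.snd q a₁) :=
    hpiece (C := V₁') hV₁' a₁ hY' p₁ ha₁ γG hq1 γ' (by simp only [γ', hγG]) hpre'
  have hI2 : IsIso (pullback.snd q b₁) :=
    hpiece (C := W₁) hW₁ b₁ hZ q₁ hb₁ δG hq2 δ' (by simp only [δ', hδG]) hpreZ
  have hcov : ∀ x : Points V₁, x ∈ Set.range (Points.map a₁) ∨ x ∈ Set.range (Points.map b₁) := fun x => by
    rcases hdichZ (Points.map v₁ x) with ⟨z, hz⟩ | ⟨u, hu⟩
    · obtain ⟨w, hw, -⟩ := exists_point_of_isPullback hb₁ x z hz.symm
      exact .inr ⟨w, hw⟩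
    · obtain ⟨w, hw, -⟩ := exists_point_of_isPullback ha₁ x (Points.map (inv fU ≫ jU') u) (by
        rw [← Points.map_comp, Category.assoc, hU'.w, IsIso.inv_hom_id_assoc, hu])
      exact .inl ⟨w, hw⟩
  haveI : IsIso q := isIso_of_etale_pieces hG hV₁ q hqe (ι := Bool)
    (C := fun b => match b with | true => V₁' | false => W₁)
    (fun b => match b with | true => a₁ | false => b₁)
    (fun x => (hcov x).elim (fun h => ⟨true, h⟩) (fun h => ⟨false, h⟩))
    (fun b => match b with | true => hI1 | false => hI2)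
  have e1 : a₁ ≫ inv q = γG := by rw [IsIso.comp_inv_eq]; exact hq1.symm
  have e2 : b₁ ≫ inv q = δG := by rw [IsIso.comp_inv_eq]; exact hq2.symm
  refine ⟨inv q ≫ jG ≫ pullback.snd v₁ v₂, ⟨?_, ?_, ?_⟩, fun m ⟨hm1, hm2, hm3⟩ => ?_⟩
  · rw [Category.assoc, Category.assoc, ← pullback.condition, ← Category.assoc jG]
    exact IsIso.inv_hom_id_assoc q v₁
  · rw [reassoc_of% e1, reassoc_of% hγG, pullback.lift_snd]
  · rw [reassoc_of% e2, reassoc_of% hδG, pullback.lift_snd]
  · let γm : V₁ ⟶ T := pullback.lift (𝟙 V₁) m (by rw [Category.id_comp, hm1])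
    obtain ⟨x, hx⟩ := exists_factor_open hjG γm (by
      rw [hr]
      rintro _ ⟨y, rfl⟩
      rcases hcov y with ⟨v, rfl⟩ | ⟨w, rfl⟩
      · refine .inl ⟨v, ?_⟩
        rw [← Points.map_comp]
        congr 1
        apply pullback.hom_ext <;>
          simp only [γ, γm, Category.assoc, pullback.lift_fst, pullback.lift_snd, Category.comp_id, hm2]
      · refine .inr ⟨w, ?_⟩
        rw [← Points.map_comp]
        congr 1
        apply pullback.hom_ext <;>
          simp only [δ, γm, Category.assoc, pullback.lift_fst, pullback.lift_snd, Category.comp_id, hm3])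
    have hxq : x ≫ q = 𝟙 V₁ := by rw [← Category.assoc, hx, pullback.lift_fst]
    have hxe : x = inv q := (IsIso.inv_eq_of_inv_hom_id hxq).symm
    rw [← hxe, reassoc_of% hx, pullback.lift_snd]

end Groth.Agent.H13AlgSp.ModifGlue
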