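import Mathlib.AlgebraicGeometry.Artinian
import Mathlib.AlgebraicGeometry.Morphisms.ClosedImmersion
import Mathlib.Algebra.Category.Ring.Epi
import Mathlib.LinearAlgebra.Dual.Lemmas
import Mathlib.RingTheory.HopkinsLevitzki

/-!
Monomorphisms into locally Artinian schemes are closed immersions.
-/

universe u

open CategoryTheory CategoryTheory.Limits AlgebraicGeometry IsLocalRing TensorProduct Topology

namespace Groth.Agent.H13AlgSp

theorem surjective_algebraMap_of_isEpi {k C : Type u} [Field k] [CommRing C] [Algebra k C]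
    [Algebra.IsEpi k C] : Function.Surjective (algebraMap k C) := by
  intro c
  by_contra hc
  have hmem : c ∉ LinearMap.range (Algebra.linearMap k C) := hc
  obtain ⟨φ, hφc, hφ⟩ := Submodule.exists_dual_map_eq_bot_of_notMem hmem inferInstance
  have h1 : φ 1 = 0 := by
    have : φ 1 ∈ (LinearMap.range (Algebra.linearMap k C)).map φ :=
      ⟨1, ⟨1, by simp⟩, rfl⟩
    simpa [hφ] using this
  have e := congrArg (fun t => TensorProduct.lid k C (LinearMap.rTensor C φ t))
    ((Algebra.isEpi_iff_forall_one_tmul_eq k C).1 inferInstance c)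
  simp [h1] at e
  have : Nontrivial C := by
    by_contra hn
    have := not_nontrivial_iff_subsingleton.1 hn
    exact hc ⟨0, Subsingleton.elim _ _⟩
  rcases smul_eq_zero.1 (by first | exact e | exact e.symm) with e | e
  · exact hφc e
  · exact one_ne_zero e

theorem top_eq_bot_of_smul_eq {A M : Type*} [CommRing A] [AddCommGroup M] [Module A M] {I : Ideal A}
    (hI : IsNilpotent I) (h : (⊤ : Submodule A M) ≤ I • ⊤) : (⊤ : Submodule A M) = ⊥ := by
  obtain ⟨n, hn⟩ := hI
  have : ∀ n : ℕ, (⊤ : Submodule A M) ≤ (I ^ n) • ⊤ := by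
    intro n
    induction n with
    | zero => simp
    | succ n ih =>
      calc (⊤ : Submodule A M) ≤ I • ⊤ := h
        _ ≤ I • (I ^ n • ⊤) := Submodule.smul_mono le_rfl ih
        _ = I ^ (n + 1) • ⊤ := by rw [← Submodule.mul_smul, pow_succ']
  refine le_bot_iff.1 ((this n).trans ?_)
  rw [hn]
  simp

theorem surjective_of_epi_of_isNilpotent {A B : CommRingCat.{u}} [IsLocalRing A] [IsLocalRing B]
    (f : A ⟶ B) [Epi f] [IsLocalHom f.hom] (hn : IsNilpotent (maximalIdeal A)) :
    Function.Surjective f.hom := by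
  algebraize [f.hom]
  let C := B ⧸ (maximalIdeal A).map (algebraMap A B)
  let φ : ResidueField A →+* C := Ideal.Quotient.lift _
    ((Ideal.Quotient.mk _).comp (algebraMap A B))
    fun a ha => Ideal.Quotient.eq_zero_iff_mem.2 (Ideal.mem_map_of_mem _ ha)
  algebraize [φ]
  have hφ : Function.Surjective φ := by
    have : Epi (CommRingCat.ofHom (Ideal.Quotient.mk ((maximalIdeal A).map (algebraMap A B)))) :=
      ConcreteCategory.epi_of_surjective _ Ideal.Quotient.mk_surjective
    have : Epi (CommRingCat.ofHom (Ideal.Quotient.mk (maximalIdeal A)) ≫ CommRingCat.ofHom φ) := by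
      have e : CommRingCat.ofHom (Ideal.Quotient.mk (maximalIdeal A)) ≫ CommRingCat.ofHom φ =
          f ≫ CommRingCat.ofHom (Ideal.Quotient.mk ((maximalIdeal A).map (algebraMap A B))) := rfl
      rw [e]; exact epi_comp _ _
    have : Epi (CommRingCat.ofHom (algebraMap (ResidueField A) C)) := epi_of_epi
      (CommRingCat.ofHom (Ideal.Quotient.mk (maximalIdeal A))) (CommRingCat.ofHom φ)
    have := CommRingCat.epi_iff_epi.1 this
    exact surjective_algebraMap_of_isEpi
  let N : Submodule A B := LinearMap.range (Algebra.linearMap A B)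
  have hM : (⊤ : Submodule A (B ⧸ N)) = ⊥ := by
    refine top_eq_bot_of_smul_eq hn fun x _ => ?_
    obtain ⟨b, rfl⟩ := N.mkQ_surjective x
    obtain ⟨r, hr⟩ := hφ (Ideal.Quotient.mk _ b)
    obtain ⟨a, rfl⟩ := Ideal.Quotient.mk_surjective r
    have hb : b - algebraMap A B a ∈ ((maximalIdeal A).map (algebraMap A B)).restrictScalars A :=
      Ideal.Quotient.eq.1 hr.symm
    have e : N.mkQ b = N.mkQ (b - algebraMap A B a) := by
      rw [map_sub, (Submodule.Quotient.mk_eq_zero N).2 ⟨a, rfl⟩ |> (show N.mkQ (algebraMap A B a) = 0 from ·),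
        sub_zero]
    rw [e]
    rw [← Ideal.smul_top_eq_map] at hb
    have := Submodule.mem_map_of_mem (f := N.mkQ) hb
    rw [Submodule.map_smul''] at this
    exact Submodule.smul_mono le_rfl le_top this
  intro b
  have : N.mkQ b = 0 := by
    have : N.mkQ b ∈ (⊤ : Submodule A (B ⧸ N)) := trivial
    rwa [hM, Submodule.mem_bot] at this
  exact (Submodule.Quotient.mk_eq_zero N).1 this

theorem isArtinianRing_stalk {X : Scheme.{u}} [IsLocallyNoetherian X] [DiscreteTopology X] (x : X) :
    IsArtinianRing (X.presheaf.stalk x) := by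
  have hs : Subsingleton (Spec (X.presheaf.stalk x)) := ⟨fun a b => by
    refine (X.fromSpecStalk x).isEmbedding.injective ?_
    have h : ∀ c, (X.fromSpecStalk x) c = x := fun c => by
      have : (X.fromSpecStalk x) c ∈ Set.range (X.fromSpecStalk x) := ⟨c, rfl⟩
      rw [Scheme.range_fromSpecStalk] at this
      exact (specializes_iff_eq.1 this)
    rw [h, h]⟩
  have : Subsingleton (PrimeSpectrum (X.presheaf.stalk x)) := hs
  have : Ring.KrullDimLE 0 (X.presheaf.stalk x) := Ring.krullDimLE_zero_iff.2 fun p hp => by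
    obtain ⟨m, hm, hpm⟩ := Ideal.exists_le_maximal p hp.ne_top
    have e : (⟨p, hp⟩ : PrimeSpectrum _) = ⟨m, hm.isPrime⟩ := Subsingleton.elim _ _
    rwa [show p = m from congrArg PrimeSpectrum.asIdeal e]
  exact IsNoetherianRing.isArtinianRing_of_krullDimLE_zero

theorem isClosedImmersion_of_mono_artinian {W V : Scheme.{u}} (i : W ⟶ V) [Mono i]
    [IsLocallyNoetherian V] [DiscreteTopology V] : IsClosedImmersion i := by
  have : SurjectiveOnStalks i := ⟨fun w => by
    have := isArtinianRing_stalk (i w)
    have : Mono (W.fromSpecStalk w ≫ i) := mono_comp _ _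
    rw [← Scheme.SpecMap_stalkMap_fromSpecStalk] at this
    have : Mono (Spec.map (i.stalkMap w)) := mono_of_mono _ (V.fromSpecStalk (i w))
    have : Mono (i.stalkMap w).op := Scheme.Spec.mono_of_mono_map this
    have : Epi (i.stalkMap w) := unop_epi_of_mono (i.stalkMap w).op
    refine surjective_of_epi_of_isNilpotent (i.stalkMap w) ?_
    have := IsArtinianRing.isNilpotent_jacobson_bot (R := V.presheaf.stalk (i w))
    rwa [IsLocalRing.jacobson_eq_maximalIdeal ⊥ bot_ne_top] at this⟩
  have hinj : Function.Injective i := fun a b hab => by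
    obtain ⟨c, hc₁, hc₂⟩ := Scheme.Pullback.exists_preimage_pullback (f := i) (g := i) a b hab
    have hd : (pullback.fst i i) = pullback.snd i i := (cancel_mono i).1 pullback.condition
    rw [← hc₁, ← hc₂, hd]
  have hW : DiscreteTopology W := discreteTopology_iff_isOpen_singleton.2 fun w => by
    have : ({w} : Set W) = i ⁻¹' {i w} := by
      ext z; exact ⟨fun h => congrArg i h, fun h => hinj h⟩
    rw [this]; exact (isOpen_discrete _).preimage i.continuous
  rw [isClosedImmersion_iff]
  exact ⟨inferInstance, .of_continuous_injective_isClosedMap i.continuous hinj fun _ _ => isClosed_discrete _⟩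

end Groth.Agent.H13AlgSp
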