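import Groth.Agent.H13AlgSp.FibreFlat
import Groth.Agent.H13AlgSp.MonoUnram
import Groth.Agent.H13AlgSp.ImmFppf
import Groth.Agent.H13AlgSp.ThickFlat
import Groth.Agent.H12AlgSp.OpenLoci
import Groth.Agent.H12AlgSp.OpenSub
import Groth.Agent.H12AlgSp.LocPCancel
import Groth.Agent.H12AlgSp.Proper

/-!
Open subspaces of the base over which a morphism acquires a property.
-/

universe u

open CategoryTheory CategoryTheory.Limits AlgebraicGeometry Opposite Topology
open AlgSp Groth.Agent.H12AlgSp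

namespace Groth.Agent.H13AlgSp.OpenCriteria

variable {S : Scheme.{u}}

/-- Openness of the locus over which every base change has a property, given as the complement of a closed set. -/
theorem exists_open {X Y Z : Space S} {f : X ⟶ Y} {q : Y ⟶ Z}
    (Pr : ∀ {X' Y' : Space S}, (X' ⟶ Y') → Prop) (C : Set (Points Z.obj)) (hC : IsClosed C)
    (H : ∀ (Z' : Space S) (g : Z' ⟶ Z) (Y' : Space S) (gY : Y' ⟶ Y) (q' : Y' ⟶ Z'),
      IsPullback gY.hom q'.hom q.hom g.hom → ∀ (X' : Space S) (gX : X' ⟶ X) (f' : X' ⟶ Y'),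
      IsPullback gX.hom f'.hom f.hom gY.hom → (Pr f' ↔ ∀ z', Points.map g.hom z' ∉ C)) :
    ∃ (W : Space S) (w : W ⟶ Z), RepWith @IsOpenImmersion w.hom ∧
      ∀ (Z' : Space S) (g : Z' ⟶ Z), (∃ k : Z' ⟶ W, k ≫ w = g) ↔
        ∀ (Y' : Space S) (gY : Y' ⟶ Y) (q' : Y' ⟶ Z'), IsPullback gY.hom q'.hom q.hom g.hom →
          ∀ (X' : Space S) (gX : X' ⟶ X) (f' : X' ⟶ Y'), IsPullback gX.hom f'.hom f.hom gY.hom → Pr f' := by
  have hW : IsOpen Cᶜ := hC.isOpen_compl
  let W : Space S := ⟨openSub Cᶜ, isAlgSpace_of_representable _ (repWith_openSubι hW).1 Z.property⟩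
  refine ⟨W, ObjectProperty.homMk (openSubι Cᶜ), repWith_openSubι hW, fun Z' g => ⟨?_, fun h => ?_⟩⟩
  · rintro ⟨k, hk⟩ Y' gY q' sqY X' gX f' sqX
    refine (H Z' g Y' gY q' sqY X' gX f' sqX).2 fun z' => ?_
    have hk' : k.hom ≫ openSubι Cᶜ = g.hom := congrArg (fun e : Z' ⟶ Z => e.hom) hk
    have h1 : Points.map g.hom z' ∈ Set.range (Points.map (openSubι Cᶜ)) :=
      range_map_subset_of_factor hk' ⟨z', rfl⟩
    rwa [range_openSubι Z.property] at h1
  · have sqY := IsPullback.of_hasPullback q.hom g.hom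
    let Y' : Space S := ⟨_, isAlgSpace_pullback Z.property.diag Y.property Z'.property q.hom g.hom⟩
    let gY : Y' ⟶ Y := ObjectProperty.homMk (pullback.fst q.hom g.hom)
    let q' : Y' ⟶ Z' := ObjectProperty.homMk (pullback.snd q.hom g.hom)
    let X' : Space S := ⟨_, isAlgSpace_pullback Y.property.diag X.property Y'.property f.hom gY.hom⟩
    let gX : X' ⟶ X := ObjectProperty.homMk (pullback.fst f.hom gY.hom)
    let f' : X' ⟶ Y' := ObjectProperty.homMk (pullback.snd f.hom gY.hom)
    have sqX : IsPullback gX.hom f'.hom f.hom gY.hom := IsPullback.of_hasPullback f.hom gY.hom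
    have := (H Z' g Y' gY q' sqY X' gX f' sqX).1 (h Y' gY q' sqY X' gX f' sqX)
    obtain ⟨k, hk⟩ := exists_factor_open (repWith_openSubι hW) g.hom (by
      rw [range_openSubι Z.property]
      rintro _ ⟨z', rfl⟩
      exact this z')
    exact ⟨ObjectProperty.homMk k, ObjectProperty.hom_ext _ hk⟩

/-- The unramified locus. -/
def unramLocus {X Y : Sp S} (f : X ⟶ Y) : Set (Points X) :=
  {x | HasAtMor (nbhdProp (@LocallyOfFiniteType ⊓ @FormallyUnramified)) f x}

theorem isOpen_unramLocus {X Y : Sp S} (f : X ⟶ Y) : IsOpen (unramLocus f) := by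
  refine isOpen_iff_forall_mem_open.2 ?_
  rintro _ ⟨U, V, a, b, h, u, ha, hb, w, rfl, O, huO, hO⟩
  refine ⟨Points.ofPt a '' O, ?_, isOpenMap_ofPt_of_repWith etale_le_universallyOpen ha _ O.2,
    Set.mem_image_of_mem _ huO⟩
  rintro _ ⟨z, hz, rfl⟩
  exact ⟨U, V, a, b, h, z, ha, hb, w, rfl, O, hz, hO⟩

theorem locP_of_nbhd {P : MorphismProperty Scheme.{u}} [IsZariskiLocalAtSource P] (hP : EtLocal P)
    {X Y : Sp S} {f : X ⟶ Y} (h : ∀ x, HasAtMor (nbhdProp P) f x) : LocP P f := by
  intro U V a b g ha hb w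
  choose O hO hP' using fun u : U.left => (nbhd_hasAtMor_iff hP ha hb w u).1 (h (Points.ofPt a u))
  exact (IsZariskiLocalAtSource.iff_of_openCover (P := P) (U.left.openCoverOfIsOpenCover O
    (.mk (eq_top_iff.2 fun x _ => TopologicalSpace.Opens.mem_iSup.2 ⟨x, hO x⟩)))).2 hP'

theorem nbhd_of_locP {P : MorphismProperty Scheme.{u}} [IsZariskiLocalAtSource P] {X Y : Sp S}
    (hX : IsAlgSpace X) (hY : IsAlgSpace Y) {f : X ⟶ Y} (h : LocP P f) (x : Points X) :
    HasAtMor (nbhdProp P) f x := by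
  obtain ⟨U, V, a, b, g, u, ha, hb, w, hu⟩ := exists_chart_at hX hY f x
  exact ⟨U, V, a, b, g, u, ha, hb, w, hu, ⊤, trivial, IsZariskiLocalAtSource.comp (h a b g ha hb w) _⟩

theorem unramified_iff_forall {X Y : Sp S} (hX : IsAlgSpace X) (hY : IsAlgSpace Y) {f : X ⟶ Y} :
    LocP (@LocallyOfFiniteType ⊓ @FormallyUnramified) f ↔ ∀ x, x ∈ unramLocus f :=
  ⟨fun h => nbhd_of_locP hX hY h,
    fun h => locP_of_nbhd (etLocal_inf etLocal_lft etLocal_formallyUnramified) h⟩

theorem flat_iff_forall {X Y : Sp S} (hX : IsAlgSpace X) (hY : IsAlgSpace Y) {f : X ⟶ Y} :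
    LocP @Flat f ↔ ∀ x, IsFlatAtMor f x := by
  refine ⟨fun h x => ?_, fun h U V a b g ha hb w => Flat.iff_flat_stalkMap _ |>.2 fun u => ?_⟩
  · obtain ⟨U, V, a, b, g, u, ha, hb, w, rfl⟩ := exists_chart_at hX hY f x
    have : Flat g.left := h a b g ha hb w
    exact (FibreFlat.isFlatAtMor_iff ha hb w u).2 (Flat.stalkMap g.left u)
  · exact (FibreFlat.isFlatAtMor_iff ha hb w u).1 (h _)

section

variable {X Y Z : Space S} {f : X ⟶ Y} {p : X ⟶ Z} {q : Y ⟶ Z} (hc : f ≫ q = p)
  {Z' : Space S} {g : Z' ⟶ Z} {Y' : Space S} {gY : Y' ⟶ Y} {q' : Y' ⟶ Z'}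
  (sqY : IsPullback gY.hom q'.hom q.hom g.hom) {X' : Space S} {gX : X' ⟶ X} {f' : X' ⟶ Y'}
  (sqX : IsPullback gX.hom f'.hom f.hom gY.hom)

include hc sqY sqX

theorem forall_iff (A : Set (Points X.obj)) :
    (∀ x', Points.map gX.hom x' ∈ A) ↔ ∀ z', Points.map g.hom z' ∉ Points.map p.hom '' Aᶜ := by
  have hc' : f.hom ≫ q.hom = p.hom := congrArg (fun e : X ⟶ Z => e.hom) hc
  have big := sqX.paste_vert sqY
  rw [hc'] at big
  constructor
  · rintro h z' ⟨x, hx, e⟩
    obtain ⟨x', hx', -⟩ := exists_point_of_isPullback big x z' e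
    exact hx (hx' ▸ h x')
  · intro h x'
    by_contra hx
    refine h (Points.map (f'.hom ≫ q'.hom) x') ⟨_, hx, ?_⟩
    rw [← Points.map_comp, ← Points.map_comp, big.w]

theorem unramified_baseChange_iff (hft : LocP @LocallyOfFiniteType f.hom) :
    LocP (@LocallyOfFiniteType ⊓ @FormallyUnramified) f'.hom ↔
      ∀ z', Points.map g.hom z' ∉ Points.map p.hom '' (unramLocus f.hom)ᶜ := by
  rw [← forall_iff hc sqY sqX, unramified_iff_forall X'.property Y'.property]
  exact forall_congr' fun x' =>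
    nbhd_unramified_baseChange sqX X.property Y.property Y'.property hft x'

theorem flat_baseChange_iff (hp1 : LocP @LocallyOfFinitePresentation p.hom) (hp2 : LocP @Flat p.hom)
    (hq : LocP @LocallyOfFiniteType q.hom) :
    LocP @Flat f'.hom ↔ ∀ z', Points.map g.hom z' ∉ Points.map p.hom '' {x | IsFlatAtMor f.hom x}ᶜ := by
  have hc' : f.hom ≫ q.hom = p.hom := congrArg (fun e : X ⟶ Z => e.hom) hc
  rw [← forall_iff hc sqY sqX, flat_iff_forall X'.property Y'.property]
  exact forall_congr' fun x' => FibreFlat.flatLocus_baseChange X.property Y.property Z.property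
    (by rw [hc']; exact hp1) hq (by rw [hc']; exact hp2) Z'.property sqY sqX x'

end

theorem lft_of_comp {X Y Z : Space S} {f : X ⟶ Y} {p : X ⟶ Z} {q : Y ⟶ Z} (hc : f ≫ q = p)
    (hp : LocP @LocallyOfFiniteType p.hom) : LocP @LocallyOfFiniteType f.hom :=
  locP_of_comp etLocal_lft (fun _ _ _ a b (h : LocallyOfFiniteType (a ≫ b)) =>
    haveI := h; locallyOfFiniteType_of_comp a b) Z.property
    (g := q.hom) (by rw [show f.hom ≫ q.hom = p.hom from congrArg (fun e : X ⟶ Z => e.hom) hc]; exact hp)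

/-! ### Universal injectivity -/

theorem map_map_ofPt {A B C : Sp S} {T : Over S} (l : (yon S).obj T ⟶ A) (u : A ⟶ B) (v : B ⟶ C)
    {m : (yon S).obj T ⟶ C} (h : (l ≫ u) ≫ v = m) (t : T.left) :
    Points.map v (Points.map u (Points.ofPt l t)) = Points.ofPt m t := by
  rw [Points.map_ofPt, Points.map_ofPt, h]

/-- The image of the unramified locus under the diagonal is open. -/
theorem isOpen_diagonal_unram {X Y : Sp S} (hX : IsAlgSpace X) (hY : IsAlgSpace Y) (f : X ⟶ Y) :
    IsOpen (Points.map (pullback.diagonal f) '' unramLocus f) := by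
  let G := unramLocus f
  have hG : IsOpen G := isOpen_unramLocus f
  have hW := repWith_openSubι hG
  have hWA : IsAlgSpace (openSub G) := isAlgSpace_of_representable _ hW.1 hX
  have hu : LocP (@LocallyOfFiniteType ⊓ @FormallyUnramified) (openSubι G ≫ f) := by
    refine locP_of_nbhd (etLocal_inf etLocal_lft etLocal_formallyUnramified) fun z => ?_
    obtain ⟨U, V, a, b, h, u, ha, hb, w, hu, O, huO, hO⟩ : Points.map (openSubι G) z ∈ G :=
      (range_openSubι hX G).le ⟨z, rfl⟩
    have sq := IsPullback.of_hasPullback (openSubι G) a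
    obtain ⟨T, k, i, sqT⟩ : ∃ (T : Over S) (k : (yon S).obj T ⟶ openSub G) (i : T ⟶ U),
        IsPullback k ((yon S).map i) (openSubι G) a := by
      obtain ⟨T, i, k, sqT⟩ := hW.rep a
      exact ⟨T, k, i, sqT⟩
    obtain ⟨t, ht₁, ht₂⟩ := exists_point_of_isPullback sqT z (Points.ofScheme U u)
      (by rw [← Points.ofPt_eq_map_ofScheme, hu])
    obtain ⟨t, rfl⟩ := (Points.schemeEquiv T).surjective t
    have hti : i.left t = u := (Points.schemeEquiv U).injective (by
      refine Eq.trans ?_ ht₂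
      change Points.ofScheme _ _ = Points.map _ (Points.ofScheme _ _)
      rw [← Points.ofPt_eq_map_ofScheme, ← Category.comp_id ((yon S).map i), ofPt_map,
        Points.ofPt_eq_map_ofScheme, Points.map_id])
    have hi : IsOpenImmersion i.left := hW.property a k i sqT
    refine ⟨T, V, k, b, i ≫ h, t, repWith_of_isPullback sqT.flip ha, hb, ?_, ?_, i.left ⁻¹ᵁ O,
      (by show i.left t ∈ O; rw [hti]; exact huO), ?_⟩
    · rw [← Category.assoc, sqT.w, Category.assoc, w, Functor.map_comp, Category.assoc]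
    · rw [Points.ofPt_eq_map_ofScheme]; exact ht₁
    · rw [Over.comp_left, ← Category.assoc, ← morphismRestrict_ι, Category.assoc]
      exact IsZariskiLocalAtSource.comp (P := (@LocallyOfFiniteType ⊓ @FormallyUnramified)) hO (i.left ∣_ O)
  have hd := isOpenImmersion_diagonal_of_unramified hWA hY hu
  let m : pullback (openSubι G ≫ f) (openSubι G ≫ f) ⟶ pullback f f :=
    pullback.map _ _ _ _ (openSubι G) (openSubι G) (𝟙 _) (Category.comp_id _) (Category.comp_id _)
  have hm : RepWith @IsOpenImmersion m :=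
    MorphismProperty.pullbackMap (P := RepWith (S := S) @IsOpenImmersion) hW hW rfl rfl
  have e : Points.map (pullback.diagonal f) '' G =
      Set.range (Points.map (pullback.diagonal (openSubι G ≫ f) ≫ m)) := by
    have e1 : pullback.diagonal (openSubι G ≫ f) ≫ m = openSubι G ≫ pullback.diagonal f := by
      apply pullback.hom_ext
      · rw [Category.assoc, Category.assoc, pullback.diagonal_fst, Category.comp_id, pullback.lift_fst,
          ← Category.assoc, pullback.diagonal_fst, Category.id_comp]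
      · rw [Category.assoc, Category.assoc, pullback.diagonal_snd, Category.comp_id, pullback.lift_snd,
          ← Category.assoc, pullback.diagonal_snd, Category.id_comp]
    rw [e1]
    conv_lhs => rw [← range_openSubι hX G, ← Set.range_comp]
    exact congrArg Set.range (funext fun z => (Points.map_comp _ _ z).symm)
  rw [e]
  exact (isOpenMap_map_of_repWith (P := @IsOpenImmersion)
    (fun _ _ k (_ : IsOpenImmersion k) => inferInstanceAs (UniversallyOpen k)) (repWith_comp hd hm)).isOpen_range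

section

variable {X Y Z : Space S} {f : X ⟶ Y} {p : X ⟶ Z} {q : Y ⟶ Z} (hc : f ≫ q = p)
  {Z' : Space S} {g : Z' ⟶ Z} {Y' : Space S} {gY : Y' ⟶ Y} {q' : Y' ⟶ Z'}
  (sqY : IsPullback gY.hom q'.hom q.hom g.hom) {X' : Space S} {gX : X' ⟶ X} {f' : X' ⟶ Y'}
  (sqX : IsPullback gX.hom f'.hom f.hom gY.hom)

include hc sqY sqX

theorem unramInj_baseChange_iff (hft : LocP @LocallyOfFiniteType f.hom) :
    (LocP (@LocallyOfFiniteType ⊓ @FormallyUnramified) f'.hom ∧ IsUnivInjectiveMor f'.hom) ↔
      ∀ z', Points.map g.hom z' ∉ Points.map p.hom '' (unramLocus f.hom)ᶜ ∪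
        Points.map (pullback.snd f.hom f.hom ≫ p.hom) ''
          (Points.map (pullback.diagonal f.hom) '' unramLocus f.hom)ᶜ := by
  have hc' : f.hom ≫ q.hom = p.hom := congrArg (fun e : X ⟶ Z => e.hom) hc
  simp only [Set.mem_union, not_or, forall_and]
  rw [← unramified_baseChange_iff hc sqY sqX hft]
  refine and_congr_right fun hu => ⟨fun hi => ?_, fun h => ?_⟩
  · rintro z' ⟨ξ, hξ, e⟩
    obtain ⟨π, hπ₁, hπ₂⟩ := exists_point_of_isPullback
      (IsPullback.of_hasPullback (pullback.snd f.hom f.hom ≫ p.hom) g.hom) ξ z' e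
    induction π using Points.ind with | h r =>
    let s := r.toHom ≫ pullback.fst (pullback.snd f.hom f.hom ≫ p.hom) g.hom
    let ζ := r.toHom ≫ pullback.snd (pullback.snd f.hom f.hom ≫ p.hom) g.hom
    have hs : s ≫ pullback.snd f.hom f.hom ≫ p.hom = ζ ≫ g.hom := by
      simp only [s, ζ, Category.assoc, pullback.condition]
    obtain ⟨y', hy₁, hy₂⟩ := sqY.exists_lift ((s ≫ pullback.snd f.hom f.hom) ≫ f.hom) ζ (by
      rw [Category.assoc _ f.hom, hc', Category.assoc]; exact hs)
    obtain ⟨a', ha₁, ha₂⟩ := sqX.exists_lift (s ≫ pullback.fst f.hom f.hom) y' (by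
      rw [hy₁, Category.assoc, pullback.condition, ← Category.assoc])
    obtain ⟨b', hb₁, hb₂⟩ := sqX.exists_lift (s ≫ pullback.snd f.hom f.hom) y' hy₁.symm
    have heq : a' = b' :=
      injective_on_fields_of_isUnivInjectiveMor X'.property hi r.K r.str (ha₂.trans hb₂.symm)
    have hab : s = (s ≫ pullback.fst f.hom f.hom) ≫ pullback.diagonal f.hom := by
      apply pullback.hom_ext
      · simp only [Category.assoc, pullback.diagonal_fst, Category.comp_id]
      · simp only [Category.assoc, pullback.diagonal_snd, Category.comp_id]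
        rw [← ha₁, ← hb₁, heq]
    let t₀ : r.pt.left := (IsLocalRing.closedPoint r.K : Spec (CommRingCat.of r.K))
    refine hξ ⟨Points.map gX.hom (Points.ofPt a' t₀), ?_, ?_⟩
    · exact (nbhd_unramified_baseChange sqX X.property Y.property Y'.property hft _).1
        ((unramified_iff_forall X'.property Y'.property).1 hu _)
    · have e1 : Points.map (pullback.fst (pullback.snd f.hom f.hom ≫ p.hom) g.hom) (Points.ofPt r.toHom t₀) = ξ := by
        rw [Points.ofPt_toHom]; exact hπ₁
      rw [← e1, map_map_ofPt a' gX.hom (pullback.diagonal f.hom) (m := s) (by rw [ha₁]; exact hab.symm),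
        Points.map_ofPt]
  · refine isUnivInjectiveMor_of_injective_on_fields fun K _ str a b e => ?_
    have e' : a ≫ f'.hom = b ≫ f'.hom := e
    have hab : (a ≫ gX.hom) ≫ f.hom = (b ≫ gX.hom) ≫ f.hom := by
      rw [Category.assoc, Category.assoc, sqX.w, reassoc_of% e']
    refine sqX.hom_ext (eq_of_mem_range_diagonal X.property f.hom _ _ hab ⟨IsLocalRing.closedPoint K, ?_⟩) e'
    by_contra hmem
    refine h (Points.ofPt (b ≫ f'.hom ≫ q'.hom) (IsLocalRing.closedPoint K))
      ⟨Points.ofPt (pullback.lift _ _ hab) (IsLocalRing.closedPoint K),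
        fun ⟨t, _, ht⟩ => hmem ⟨t, ht⟩, ?_⟩
    rw [Points.map_ofPt, Points.map_ofPt, pullback.lift_snd_assoc, ← hc', Category.assoc, reassoc_of% sqX.w,
      sqY.w, Category.assoc, Category.assoc]

end

theorem isClosed_unramInj {X Y Z : Space S} {f : X ⟶ Y} {p : X ⟶ Z} {XX : Space S} {pr0 pr1 : XX ⟶ X}
    (hXX : IsPullback pr0.hom pr1.hom f.hom f.hom) (hp2 : IsClosedMor p.hom)
    (hp3 : IsClosedMor (pr1 ≫ p).hom) :
    IsClosed (Points.map p.hom '' (unramLocus f.hom)ᶜ ∪
        Points.map (pullback.snd f.hom f.hom ≫ p.hom) ''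
          (Points.map (pullback.diagonal f.hom) '' unramLocus f.hom)ᶜ) := by
  refine IsClosed.union (hp2 _ (isOpen_unramLocus _).isClosed_compl) ?_
  let e := hXX.isoPullback
  let C := (Points.map (pullback.diagonal f.hom) '' unramLocus f.hom)ᶜ
  have hC : IsClosed C := (isOpen_diagonal_unram X.property Y.property f.hom).isClosed_compl
  have himg : Points.map (pullback.snd f.hom f.hom ≫ p.hom) '' C =
      Points.map (pr1 ≫ p).hom '' (Points.map e.hom ⁻¹' C) := by
    have hsurj : Function.Surjective (Points.map e.hom) := fun t =>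
      ⟨Points.map e.inv t, by rw [← Points.map_comp, Iso.inv_hom_id, Points.map_id]⟩
    conv_lhs => rw [← Set.image_preimage_eq C hsurj, Set.image_image]
    refine Set.image_congr' fun t => ?_
    rw [← Points.map_comp, ← Category.assoc, show e.hom ≫ pullback.snd f.hom f.hom = pr1.hom from
      hXX.isoPullback_hom_snd]
    rfl
  rw [himg]
  exact hp3 _ (hC.preimage (Points.continuous_map _))

end Groth.Agent.H13AlgSp.OpenCriteria
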