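import Groth.Agent.H13AlgSp.OpenCriteria
import Mathlib.AlgebraicGeometry.Morphisms.Etale

/-!
Open loci over which a morphism becomes flat and surjective, a closed immersion, or an isomorphism.
-/

universe u

open CategoryTheory CategoryTheory.Limits AlgebraicGeometry Opposite Topology
open AlgSp Groth.Agent.H12AlgSp

namespace Groth.Agent.H13AlgSp.OpenCriteria

variable {S : Scheme.{u}}

/-- The image of the flat locus is open. -/
theorem isOpen_image_flatLocus {X Y Z : Space S} {f : X ⟶ Y} {p : X ⟶ Z} {q : Y ⟶ Z} (hc : f ≫ q = p)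
    (hp1 : LocP @LocallyOfFinitePresentation p.hom) (hq : LocP @LocallyOfFiniteType q.hom) :
    IsOpen (Points.map f.hom '' {x | IsFlatAtMor f.hom x}) := by
  have hc' : f.hom ≫ q.hom = p.hom := congrArg (fun e : X ⟶ Z => e.hom) hc
  obtain ⟨U, V, W, a, b, c, h₁, h₂, -, -, -, ⟨ha, has⟩, ⟨hb, -⟩, ⟨hcc, -⟩, wa, wb, -, -, -⟩ :=
    FibreFlat.exists_chart_triple f.hom q.hom X.property Y.property Z.property
  have : LocallyOfFiniteType h₂.left := hq b c h₂ hb hcc wb
  have : LocallyOfFinitePresentation (h₁.left ≫ h₂.left) := hp1 a c (h₁ ≫ h₂) ha hcc (by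
    rw [← hc', ← Category.assoc, wa, Category.assoc, wb, Functor.map_comp, Category.assoc])
  have : LocallyOfFinitePresentation h₁.left := H12AlgSp.lfp_of_comp h₁.left h₂.left
  let O : U.left.Opens := ⟨Points.ofPt a ⁻¹' {x | IsFlatAtMor f.hom x},
    (FibreFlat.isOpen_flatLocus X.property Y.property Z.property (by rw [hc']; exact hp1) hq).preimage
      (Points.continuous_ofPt a)⟩
  have : Flat (O.ι ≫ h₁.left) := Flat.iff_flat_stalkMap _ |>.2 fun v => by
    have h1 : (h₁.left.stalkMap v.1).hom.Flat := (FibreFlat.isFlatAtMor_iff ha hb wa v.1).1 v.2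
    exact (S4656.result O.ι h₁.left v (Flat.stalkMap O.ι v)).2 h1
  have hopen : IsOpen (h₁.left '' (O : Set U.left)) := by
    have := ((O.ι ≫ h₁.left).isOpenMap).isOpen_range
    rwa [Scheme.Hom.comp_base, TopCat.coe_comp, Set.range_comp, Scheme.Opens.range_ι] at this
  have e : Points.map f.hom '' {x | IsFlatAtMor f.hom x} = Points.ofPt b '' (h₁.left '' (O : Set U.left)) := by
    ext y
    constructor
    · rintro ⟨x, hx, rfl⟩
      obtain ⟨u, rfl⟩ := surjective_ofPt_of_repWith le_rfl has x
      exact ⟨h₁.left u, ⟨u, hx, rfl⟩, by rw [Points.map_ofPt, wa, ofPt_map]⟩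
    · rintro ⟨_, ⟨u, hu, rfl⟩, rfl⟩
      exact ⟨Points.ofPt a u, hu, by rw [Points.map_ofPt, wa, ofPt_map]⟩
  rw [e]
  exact isOpenMap_ofPt_of_repWith etale_le_universallyOpen hb _ hopen

section

variable {X Y Z : Space S} {f : X ⟶ Y} {p : X ⟶ Z} {q : Y ⟶ Z} (hc : f ≫ q = p)
  {Z' : Space S} {g : Z' ⟶ Z} {Y' : Space S} {gY : Y' ⟶ Y} {q' : Y' ⟶ Z'}
  (sqY : IsPullback gY.hom q'.hom q.hom g.hom) {X' : Space S} {gX : X' ⟶ X} {f' : X' ⟶ Y'}
  (sqX : IsPullback gX.hom f'.hom f.hom gY.hom)

include hc sqY sqX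

theorem flatSurj_baseChange_iff (hp1 : LocP @LocallyOfFinitePresentation p.hom) (hp2 : LocP @Flat p.hom)
    (hq : LocP @LocallyOfFiniteType q.hom) :
    (IsSurjectiveMor f'.hom ∧ LocP @Flat f'.hom) ↔
      ∀ z', Points.map g.hom z' ∉ Points.map p.hom '' {x | IsFlatAtMor f.hom x}ᶜ ∪
        Points.map q.hom '' (Points.map f.hom '' {x | IsFlatAtMor f.hom x})ᶜ := by
  simp only [Set.mem_union, not_or, forall_and]
  rw [← flat_baseChange_iff hc sqY sqX hp1 hp2 hq, and_comm]
  refine and_congr_right fun hfl => ⟨fun hs => ?_, fun h => ?_⟩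
  · rintro z' ⟨y, hy, e⟩
    obtain ⟨y', hy₁, -⟩ := exists_point_of_isPullback sqY y z' e
    obtain ⟨x', rfl⟩ := hs y'
    refine hy ⟨Points.map gX.hom x', ?_, ?_⟩
    · have hc' : f.hom ≫ q.hom = p.hom := congrArg (fun e : X ⟶ Z => e.hom) hc
      exact (FibreFlat.flatLocus_baseChange X.property Y.property Z.property (by rw [hc']; exact hp1) hq
        (by rw [hc']; exact hp2) Z'.property sqY sqX x').1 ((flat_iff_forall X'.property Y'.property).1 hfl x')
    · rw [← hy₁, ← Points.map_comp, ← Points.map_comp, sqX.w]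
  · intro y'
    by_contra hy'
    refine h (Points.map q'.hom y') ⟨Points.map gY.hom y', ?_, ?_⟩
    · rintro ⟨x, -, e⟩
      obtain ⟨x', -, hx'⟩ := exists_point_of_isPullback sqX x y' e
      exact hy' ⟨x', hx'⟩
    · rw [← Points.map_comp, ← Points.map_comp, sqY.w]

theorem closedImmersion_baseChange_iff (hft : LocP @LocallyOfFiniteType f.hom) (hcl : IsUnivClosedMor f.hom) :
    RepWith @IsClosedImmersion f'.hom ↔
      (LocP (@LocallyOfFiniteType ⊓ @FormallyUnramified) f'.hom ∧ IsUnivInjectiveMor f'.hom) := by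
  have hft' : LocP @LocallyOfFiniteType f'.hom :=
    Groth.Agent.H12AlgSp.locP_of_isPullback etLocal_lft sqX X.property Y.property Y'.property hft
  obtain ⟨h1, h2, -⟩ := MonoUnram.unramified_mono_iff X'.property Y'.property f'.hom
  rw [MonoUnram.isClosedImmersion_iff X'.property Y'.property, ← h2, h1]
  exact ⟨fun h => h.2, fun h => ⟨univSp_of_isPullback sqX hcl, h⟩⟩

theorem isIso_baseChange_iff (hp1 : LocP @LocallyOfFinitePresentation p.hom) (hq : LocP @LocallyOfFiniteType q.hom) :
    IsIso f'.hom ↔ (LocP (@LocallyOfFiniteType ⊓ @FormallyUnramified) f'.hom ∧ IsUnivInjectiveMor f'.hom) ∧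
      (IsSurjectiveMor f'.hom ∧ LocP @Flat f'.hom) := by
  constructor
  · intro h
    have hr : RepWith @IsOpenImmersion f'.hom := repWith_of_isIso _
    have he : LocP @Etale f'.hom := locP_of_repWith etLocal_etale
      (repWith_le (fun _ _ k (_ : IsOpenImmersion k) => inferInstanceAs (Etale k)) hr)
    refine ⟨⟨fun U V a b k ha hb w => ?_, MonoUnram.isUnivInjectiveMor_of_mono _⟩,
      fun y => ⟨Points.map (inv f'.hom) y, by rw [← Points.map_comp, IsIso.inv_hom_id, Points.map_id]⟩,
      fun U V a b k ha hb w => ?_⟩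
    · have : Etale k.left := he a b k ha hb w
      exact ⟨inferInstance, inferInstance⟩
    · have : Etale k.left := he a b k ha hb w
      exact inferInstanceAs (Flat k.left)
  · rintro ⟨⟨hu, hi⟩, hs, hfl⟩
    have hc' : f.hom ≫ q.hom = p.hom := congrArg (fun e : X ⟶ Z => e.hom) hc
    have hlfp : LocP @LocallyOfFinitePresentation f.hom :=
      locP_of_postcomp etLocal_lfp (Q := @LocallyOfFinitePresentation) (R := @LocallyOfFiniteType)
        (fun _ _ _ a b (ha : LocallyOfFinitePresentation (a ≫ b)) (hb : LocallyOfFiniteType b) =>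
          haveI := ha; haveI := hb; H12AlgSp.lfp_of_comp a b)
        Z.property (g := q.hom) (by rw [hc']; exact hp1) hq
    have hlfp' := Groth.Agent.H12AlgSp.locP_of_isPullback etLocal_lfp sqX X.property Y.property Y'.property hlfp
    have he : LocP @Etale f'.hom := fun U V a b k ha hb w => by
      have : LocallyOfFinitePresentation k.left := hlfp' a b k ha hb w
      have : FormallyUnramified k.left := (hu a b k ha hb w).2
      have : Flat k.left := hfl a b k ha hb w
      exact Etale.of_formallyUnramified_of_flat k.left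
    exact ThickFlat.isIso_of_openImmersion_surjective Y'.property
      (repWith_isOpenImmersion_of_univInjective X'.property Y'.property
        (isEtaleMor_of_locP_etale Y'.property he) hi) hs

end

end Groth.Agent.H13AlgSp.OpenCriteria
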