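import Groth.Agent.H18HTop.PhOfV
import Groth.Agent.H18HTop.PhBind
import Groth.Agent.H18HTop.VCoverCrit
import Groth.Agent.H12AlgSp.LocP
import Groth.Agent.H12AlgSp.QC
import Groth.Prelude.Def_AlgSpCov
import Groth.Prelude.Def_W4stk3sptopologiesPh

/-!
fppf coverings of algebraic spaces are ph coverings.
-/

set_option autoImplicit false
set_option backward.isDefEq.respectTransparency false
set_option linter.style.haveILetI false

universe u

open CategoryTheory CategoryTheory.Limits AlgebraicGeometry Opposite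
open AlgSp Groth.Agent.H12AlgSp

namespace Groth.Agent.H13AlgSp

variable {S : Scheme.{u}}

/-- An affine scheme over an algebraic space with an fppf covering has a finite affine fppf refinement. -/
theorem exists_finite_fppf_refinement {X : Sp S} (hX : IsAlgSpace X) {ι : Type u} {Xi : ι → Sp S}
    (hXi : ∀ i, IsAlgSpace (Xi i)) {g : ∀ i, Xi i ⟶ X} (h : IsFppfCover Xi g) {Z : Over S} [IsAffine Z.left]
    (z : (yon S).obj Z ⟶ X) :
    ∃ (n : ℕ) (W : Fin n → Over S) (π : ∀ k, W k ⟶ Z), (∀ k, IsAffine (W k).left) ∧ (∀ k, Flat (π k).left) ∧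
      (∀ k, LocallyOfFinitePresentation (π k).left) ∧ (∀ p : Z.left, ∃ k, p ∈ Set.range (π k).left) ∧
      ∀ k, ∃ (i : ι) (l : (yon S).obj (W k) ⟶ Xi i), l ≫ g i = (yon S).map (π k) ≫ z := by
  have hpiece : ∀ p : Z.left, ∃ (W : Over S) (π : W ⟶ Z) (i : ι) (l : (yon S).obj W ⟶ Xi i),
      IsAffine W.left ∧ Flat π.left ∧ LocallyOfFinitePresentation π.left ∧ p ∈ Set.range π.left ∧
        l ≫ g i = (yon S).map π ≫ z := by
    intro p
    obtain ⟨i, y, hy⟩ := h.2 (Points.ofPt z p)
    have sq := IsPullback.of_hasPullback (g i) z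
    have hP : IsAlgSpace (pullback (g i) z) := isAlgSpace_pullback hX.diag (hXi i) (IsAlgSpace.yon_obj Z) _ _
    obtain ⟨w, -, hw⟩ := exists_point_of_isPullback sq y (Points.ofScheme Z p)
      (by rw [hy, Points.ofPt_eq_map_ofScheme])
    obtain ⟨U, a, ha, has⟩ := hP.atlas
    obtain ⟨π, hπ⟩ := (yon S).map_surjective (a ≫ pullback.snd (g i) z)
    obtain ⟨u, rfl⟩ := surjective_ofPt_of_repWith le_rfl has w
    haveI : Flat π.left := Groth.Agent.H12AlgSp.locP_of_isPullback etLocal_flat sq (hXi i) hX (IsAlgSpace.yon_obj Z) (h.1 i).1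
      a (𝟙 _) π ha (repWith_id _ Z) (by rw [hπ, Category.comp_id])
    haveI : LocallyOfFinitePresentation π.left :=
      Groth.Agent.H12AlgSp.locP_of_isPullback etLocal_lfp sq (hXi i) hX (IsAlgSpace.yon_obj Z) (h.1 i).2
        a (𝟙 _) π ha (repWith_id _ Z) (by rw [hπ, Category.comp_id])
    obtain ⟨V, hV, huV, -⟩ := exists_isAffineOpen_mem_and_subset (x := u) (U := ⊤) trivial
    let c : Over.mk (V.ι ≫ U.hom) ⟶ U := Over.homMk V.ι rfl
    haveI : Flat (c ≫ π).left := inferInstanceAs (Flat (V.ι ≫ π.left))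
    haveI : LocallyOfFinitePresentation (c ≫ π).left := inferInstanceAs (LocallyOfFinitePresentation (V.ι ≫ π.left))
    refine ⟨_, c ≫ π, i, (yon S).map c ≫ a ≫ pullback.fst (g i) z, hV, inferInstance, inferInstance,
      ⟨(⟨u, huV⟩ : V), ?_⟩, ?_⟩
    · change π.left u = p
      refine (Points.schemeEquiv Z).injective ?_
      rw [Points.map_ofPt, ← hπ] at hw
      change Points.ofScheme Z (π.left u) = Points.ofScheme Z p
      rw [← hw, ← Category.comp_id ((yon S).map π), ofPt_map]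
    · rw [Category.assoc, Category.assoc, pullback.condition, ← reassoc_of% hπ, ← Functor.map_comp_assoc]
  choose W π i l hW hfl hfp hp hl using hpiece
  obtain ⟨t, ht⟩ := isCompact_univ.elim_finite_subcover (fun p => Set.range (π p).left)
    (fun p => by haveI := hfl p; haveI := hfp p; exact (π p).left.isOpenMap.isOpen_range)
    fun p _ => Set.mem_iUnion.2 ⟨p, hp p⟩
  let e := t.equivFin.symm
  refine ⟨t.card, fun k => W (e k).1, fun k => π _, fun k => hW _, fun k => hfl _, fun k => hfp _,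
    fun p => ?_, fun k => ⟨_, l _, hl _⟩⟩
  obtain ⟨q, hq, hpq⟩ := Set.mem_iUnion₂.1 (ht (Set.mem_univ p))
  exact ⟨t.equivFin ⟨q, hq⟩, by
    have he : e (t.equivFin ⟨q, hq⟩) = ⟨q, hq⟩ := Equiv.symm_apply_apply _ _
    change p ∈ Set.range (π (e (t.equivFin ⟨q, hq⟩)).1).left
    rw [he]; exact hpq⟩

/-- An fppf covering is a ph covering. -/
theorem isPhCover_of_isFppfCover {X : Sp S} (hX : IsAlgSpace X) {ι : Type u} {Xi : ι → Sp S}
    (hXi : ∀ i, IsAlgSpace (Xi i)) {g : ∀ i, Xi i ⟶ X} (h : IsFppfCover Xi g) : IsPhCover Xi g := by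
  refine ⟨fun i U V a b c ha hb e => ?_, fun Z hZ z => ?_⟩
  · haveI := (h.1 i).2 a b c ha hb e
    infer_instance
  haveI := hZ
  obtain ⟨n, W, π, hW, hfl, hfp, hsurj, hlift⟩ := exists_finite_fppf_refinement hX hXi h z
  haveI := hW; haveI := hfl; haveI := hfp
  let B : Fin n → CommRingCat.{u} := fun k => Γ((W k).left, ⊤)
  let φ : ∀ k, Γ(Z.left, ⊤) ⟶ B k := fun k => (π k).left.appTop
  have hspec : ∀ k, Spec.map (φ k) = (W k).left.isoSpec.inv ≫ (π k).left ≫ Z.left.isoSpec.hom := fun k => by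
    rw [Iso.eq_inv_comp]
    exact (Scheme.isoSpec_hom_naturality (π k).left)
  let E : PreZeroHypercover.{0} (Spec Γ(Z.left, ⊤)) :=
    PreZeroHypercover.mk (Fin n) (fun k => Spec (B k)) (fun k => Spec.map (φ k))
  haveI : ∀ k, Flat (E.f k) := fun k => by
    change Flat (Spec.map (φ k))
    rw [hspec k]; infer_instance
  have hlift' : HTop.HasValLift E := H18HTop.hasValLift_of_flat _ fun p => by
    obtain ⟨k, w, hw⟩ := hsurj (Z.left.isoSpec.inv p)
    refine ⟨k, (W k).left.isoSpec.hom w, ?_⟩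
    change Spec.map (φ k) ((W k).left.isoSpec.hom w) = p
    rw [← Scheme.Hom.comp_apply, Scheme.isoSpec_hom_naturality (π k).left, Scheme.Hom.comp_apply, hw,
      ← Scheme.Hom.comp_apply, Iso.inv_hom_id]
    rfl
  obtain ⟨F, hF, hR⟩ := H18HTop.PhOfV.exists_standardPh B φ
    (fun k => Scheme.Hom.finitePresentation_appTop (π k).left) hlift'
  refine ⟨F.pullback₁ Z.left.isoSpec.hom, H18HTop.isStandardPh_pullback _ hF, fun j => ?_⟩
  obtain ⟨k, m, hm⟩ := hR j
  rw [Category.comp_id] at hm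
  obtain ⟨i, l, hl⟩ := hlift k
  have key : (pullback.snd Z.left.isoSpec.hom (F.f j) ≫ m ≫ (W k).left.isoSpec.inv) ≫ (π k).left =
      (F.pullback₁ Z.left.isoSpec.hom).f j := by
    change _ = pullback.fst Z.left.isoSpec.hom (F.f j)
    rw [← cancel_mono Z.left.isoSpec.hom, Category.assoc, Category.assoc, Category.assoc, ← hspec k]
    change pullback.snd _ _ ≫ m ≫ E.f k = _
    rw [hm, pullback.condition]
  let m' : Over.mk ((F.pullback₁ Z.left.isoSpec.hom).f j ≫ Z.hom) ⟶ W k :=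
    Over.homMk (pullback.snd _ _ ≫ m ≫ (W k).left.isoSpec.inv) (by
      change (pullback.snd Z.left.isoSpec.hom (F.f j) ≫ m ≫ (W k).left.isoSpec.inv) ≫ (W k).hom =
        (F.pullback₁ Z.left.isoSpec.hom).f j ≫ Z.hom
      rw [← Over.w (π k), ← key, Category.assoc]
      simp only [Category.assoc])
  refine ⟨i, (yon S).map m' ≫ l, ?_⟩
  rw [Category.assoc, hl, ← Functor.map_comp_assoc]
  exact congrArg (fun q => (yon S).map q ≫ z) (Over.OverMorphism.ext key)

end Groth.Agent.H13AlgSp
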