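import Groth.Agent.H13AlgSp.FieldLimit
import Groth.Agent.H13AlgSp.FinLocFreeDescent
import Groth.Agent.H12AlgSp.GlueSheaf
import Groth.Agent.H12AlgSp.QSPullback
import Groth.Agent.H12AlgSp.QC
import Mathlib.FieldTheory.PurelyInseparable.Basic

/-!
A space over a field which becomes a scheme after a purely inseparable extension is a scheme.
-/

set_option backward.isDefEq.respectTransparency false

universe u

open CategoryTheory CategoryTheory.Limits AlgebraicGeometry Opposite Topology
open AlgSp Groth.Agent.H12AlgSp

namespace Groth.Agent.H13AlgSp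

variable {S : Scheme.{u}}

theorem injective_ofPt_of_univInj {F : Sp S} {U : Over S} {e : (yon S).obj U ⟶ F}
    (h : RepWith @UniversallyInjective e) : Function.Injective (Points.ofPt e) := by
  intro x y hxy
  obtain ⟨R, s, t', sq⟩ := h.rep e
  obtain ⟨t, rfl⟩ := (yon S).map_surjective t'
  have : UniversallyInjective s.left := h.property _ _ s sq
  obtain ⟨r, hr1, hr2⟩ := exists_arrow_of_ofPt_eq sq hxy
  obtain ⟨d', hd1, hd2⟩ := sq.exists_lift (𝟙 _) (𝟙 _) rfl
  obtain ⟨d, rfl⟩ := (yon S).map_surjective d'
  have ht : d.left ≫ t.left = 𝟙 U.left := congrArg CommaMorphism.left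
    ((yon S).map_injective (by rw [Functor.map_comp, hd1, CategoryTheory.Functor.map_id]) : d ≫ t = 𝟙 U)
  have hs : d.left ≫ s.left = 𝟙 U.left := congrArg CommaMorphism.left
    ((yon S).map_injective (by rw [Functor.map_comp, hd2, CategoryTheory.Functor.map_id]) : d ≫ s = 𝟙 U)
  have : r = d.left y := s.left.injective (by rw [hr2, ← Scheme.Hom.comp_apply, hs]; rfl)
  rw [← hr1, this, ← Scheme.Hom.comp_apply, ht]
  rfl

theorem isRepresentable_of_openImmersion {A B : Sp S} {j : A ⟶ B} (hj : RepWith @IsOpenImmersion j)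
    (hB : B.obj.IsRepresentable) : ∃ W : Over S, Nonempty ((yon S).obj W ≅ A) := by
  obtain ⟨T, ⟨e⟩⟩ := isRepresentable_iff_exists_iso.1 hB
  obtain ⟨W, w, f, sq⟩ := hj.rep e.hom
  have := sq.isIso_fst_of_isIso
  exact ⟨W, ⟨asIso f⟩⟩

variable {k : Type u} [Field k]

theorem repWith_bcFst (P : MorphismProperty Scheme.{u}) [P.IsStableUnderBaseChange]
    (X : Sp (Spec (CommRingCat.of k))) (L : Type u) [Field L] [Algebra k L]
    (h : P (Spec.map (CommRingCat.ofHom (algebraMap k L)))) : RepWith P (prod.fst : bcSp X L ⟶ X) := by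
  obtain ⟨q, sq⟩ := exists_bcSp_square X L
  refine repWith_of_isPullback sq.flip ((repWith_yon_map_iff P _).2 ?_)
  rw [show (Over.mkIdTerminal.from (extObj k L)).left = Spec.map (CommRingCat.ofHom (algebraMap k L)) from
    (Category.comp_id _).symm.trans (Over.w (Over.mkIdTerminal.from (extObj k L)))]
  exact h

theorem isRepresentable_of_finite_purelyInseparable {X : Sp (Spec (CommRingCat.of k))}
    (L : Type u) [Field L] [Algebra k L] [Module.Finite k L] [IsPurelyInseparable k L]
    (h : (bcSp X L).obj.IsRepresentable) : ∃ M : Over (Spec (CommRingCat.of k)), Nonempty ((yon _).obj M ≅ X) := by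
  obtain ⟨W, ⟨μ⟩⟩ := isRepresentable_iff_exists_iso.1 h
  have key : ∀ (P : MorphismProperty Scheme.{u}) [P.IsStableUnderBaseChange],
      P (Spec.map (CommRingCat.ofHom (algebraMap k L))) → RepWith P (μ.hom ≫ (prod.fst : bcSp X L ⟶ X)) := fun P _ hP =>
    have : P.RespectsIso := MorphismProperty.IsStableUnderBaseChange.respectsIso
    MorphismProperty.RespectsIso.precomp _ _ _ (repWith_bcFst P X L hP)
  have h1 : IsFinite (Spec.map (CommRingCat.ofHom (algebraMap k L))) :=
    (IsFinite.SpecMap_iff _).2 (RingHom.finite_algebraMap.2 inferInstance)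
  have hf : (CommRingCat.ofHom (algebraMap k L)).hom.Flat :=
    RingHom.flat_algebraMap_iff.2 inferInstance
  have hp : (CommRingCat.ofHom (algebraMap k L)).hom.FinitePresentation :=
    RingHom.finitePresentation_algebraMap.2 (Algebra.FinitePresentation.of_finiteType.1 inferInstance)
  exact exists_iso_of_finLocFree_radicial_cover (key @IsFinite h1)
    (key @Flat (Flat.SpecMap_iff.2 hf))
    (key @LocallyOfFinitePresentation ((HasRingHomProperty.Spec_iff (P := @LocallyOfFinitePresentation)).2 hp))
    (key @Surjective ⟨fun x => ⟨IsLocalRing.closedPoint L,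
      Subsingleton.elim (α := PrimeSpectrum k) _ _⟩⟩)
    (injective_ofPt_of_univInj (key @UniversallyInjective
      (H7Lim.GeomConnFinite.universallyInjective_SpecMap k L)))

theorem isQuasiSeparatedSp_of_bc_affine {X : Sp (Spec (CommRingCat.of k))} (hX : IsAlgSpace X)
    {K : Type u} [Field K] [Algebra k K] {W : Over (Spec (CommRingCat.of k))} [IsAffine W.left]
    (μ : (yon _).obj W ≅ bcSp X K) : IsQuasiSeparatedSp X := by
  refine isQuasiSeparatedSp_of_compact hX fun U V P a b fst snd hU hV sq => ?_
  let π := μ.hom ≫ (prod.fst : bcSp X K ⟶ X)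
  have haff : RepWith @IsAffineHom π :=
    MorphismProperty.RespectsIso.precomp _ _ _ (repWith_bcFst @IsAffineHom X K inferInstance)
  have hsur : RepWith @Surjective π :=
    MorphismProperty.RespectsIso.precomp _ _ _ (repWith_bcFst @Surjective X K ⟨fun x =>
      ⟨IsLocalRing.closedPoint K, Subsingleton.elim (α := PrimeSpectrum k) _ _⟩⟩)
  obtain ⟨UL, uU, w', sqU⟩ := haff.rep a
  obtain ⟨wU, rfl⟩ := (yon _).map_surjective w'
  obtain ⟨VL, vV, w', sqV⟩ := haff.rep b
  obtain ⟨wV, rfl⟩ := (yon _).map_surjective w'
  have : IsAffineHom uU.left := haff.property _ _ uU sqU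
  have : IsAffineHom vV.left := haff.property _ _ vV sqV
  have : IsAffine UL.left := isAffine_of_isAffineHom uU.left
  have : IsAffine VL.left := isAffine_of_isAffineHom vV.left
  have sqQ := IsPullback.of_hasPullback wU wV
  have sqQl : IsPullback (pullback.fst wU wV).left (pullback.snd wU wV).left wU.left wV.left :=
    sqQ.map (Over.forget _)
  have : IsAffine (pullback wU wV).left := .of_isIso sqQl.isoPullback.hom
  obtain ⟨m', hm1, hm2⟩ := sq.exists_lift ((yon _).map (pullback.fst wU wV ≫ uU))
    ((yon _).map (pullback.snd wU wV ≫ vV)) (by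
      rw [Functor.map_comp, Functor.map_comp, Category.assoc, Category.assoc, ← sqU.w, ← sqV.w,
        ← Functor.map_comp_assoc, pullback.condition, Functor.map_comp_assoc])
  obtain ⟨m, rfl⟩ := (yon _).map_surjective m'
  obtain ⟨P', c, d', sqP⟩ := haff.rep ((yon _).map fst ≫ a)
  obtain ⟨d, rfl⟩ := (yon _).map_surjective d'
  have : Surjective c.left := hsur.property _ _ c sqP
  obtain ⟨x', hx1, hx2⟩ := sqU.exists_lift ((yon _).map d) ((yon _).map (c ≫ fst)) (by
    rw [sqP.w, Functor.map_comp, Category.assoc])
  obtain ⟨x, rfl⟩ := (yon _).map_surjective x'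
  obtain ⟨y', hy1, hy2⟩ := sqV.exists_lift ((yon _).map d) ((yon _).map (c ≫ snd)) (by
    rw [sqP.w, Functor.map_comp, Category.assoc, sq.w])
  obtain ⟨y, rfl⟩ := (yon _).map_surjective y'
  simp only [← Functor.map_comp] at hx1 hx2 hy1 hy2 hm1 hm2
  let l := pullback.lift x y (show x ≫ wU = y ≫ wV from
    ((yon _).map_injective hx1).trans ((yon _).map_injective hy1).symm)
  have hl : l ≫ m = c := by
    refine (yon _).map_injective (sq.hom_ext ?_ ?_)
    · rw [← Functor.map_comp, ← Functor.map_comp, Category.assoc, (yon _).map_injective hm1,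
        pullback.lift_fst_assoc, (yon _).map_injective hx2]
    · rw [← Functor.map_comp, ← Functor.map_comp, Category.assoc, (yon _).map_injective hm2,
        pullback.lift_snd_assoc, (yon _).map_injective hy2]
  have : Function.Surjective m.left := fun p => by
    obtain ⟨q, hq⟩ := c.left.surjective p
    exact ⟨l.left q, by rw [← Scheme.Hom.comp_apply, ← Over.comp_left, hl, hq]⟩
  exact this.compactSpace m.left.continuous

/-- A space over a field which is a scheme after a purely inseparable extension is a scheme. -/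
theorem isRepresentable_of_purelyInseparable {X : Sp (Spec (CommRingCat.of k))} (hX : IsAlgSpace X)
    (K : Type u) [Field K] [Algebra k K] [IsPurelyInseparable k K]
    (h : (bcSp X K).obj.IsRepresentable) : X.obj.IsRepresentable := by
  obtain ⟨W, ⟨μ⟩⟩ := isRepresentable_iff_exists_iso.1 h
  let π := μ.hom ≫ (prod.fst : bcSp X K ⟶ X)
  have hinj : Function.Injective (Points.ofPt π) := injective_ofPt_of_univInj
    (MorphismProperty.RespectsIso.precomp _ _ _ (repWith_bcFst @UniversallyInjective X K
      (H7Lim.GeomConnFinite.universallyInjective_SpecMap k K)))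
  have hsurj : Function.Surjective (Points.ofPt π) := by
    intro x
    obtain ⟨z, rfl⟩ := surjective_map_prod_fst X K x
    obtain ⟨w, hw⟩ := (Points.schemeEquiv W).surjective (Points.map μ.inv z)
    refine ⟨w, ?_⟩
    rw [Points.ofPt_eq_map_ofScheme, show Points.ofScheme W w = Points.map μ.inv z from hw, ← Points.map_comp,
      Iso.inv_hom_id_assoc]
  have hopen : IsOpenMap (Points.ofPt π) := by
    have : DiscreteTopology (Spec (CommRingCat.of k)) := inferInstanceAs (DiscreteTopology (PrimeSpectrum k))
    exact isOpenMap_ofPt_of_repWith le_rfl (MorphismProperty.RespectsIso.precomp _ _ _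
      (repWith_bcFst @UniversallyOpen X K (H06Desc.universallyOpen_of_discreteTopology _)))
  have key : ∀ w : W.left, ∃ (O : Set (Points X)) (Y : Over (Spec (CommRingCat.of k)))
      (ν : (yon _).obj Y ≅ openSub O), IsOpen O ∧ Points.ofPt π w ∈ O := by
    intro w
    obtain ⟨V, hV, hwV, -⟩ := exists_isAffineOpen_mem_and_subset (TopologicalSpace.Opens.mem_top w)
    let O : Set (Points X) := Points.ofPt π '' (V : Set W.left)
    have hO : IsOpen O := hopen _ V.2
    have hj : RepWith @IsOpenImmersion (openSubι O) := repWith_openSubι hO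
    have hOsp : IsAlgSpace (openSub O) := isAlgSpace_of_representable _ hj.1 hX
    obtain ⟨V', ⟨ν⟩⟩ := isRepresentable_of_openImmersion
      (repWith_of_isPullback (isPullback_prod_map_fst' (Y := (yon _).obj (extObj k K)) (openSubι O)).flip hj :
        RepWith @IsOpenImmersion (prod.map (openSubι O) (𝟙 ((yon _).obj (extObj k K))))) h
    let jV : (yon _).obj V' ⟶ (yon _).obj W :=
      ν.hom ≫ prod.map (openSubι O) (𝟙 _) ≫ μ.inv
    obtain ⟨j, hjV⟩ := (yon _).map_surjective jV
    have hjo : IsOpenImmersion j.left := by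
      refine (repWith_yon_map_iff @IsOpenImmersion j).1 ?_
      rw [hjV]
      exact MorphismProperty.RespectsIso.precomp _ _ _ (MorphismProperty.RespectsIso.postcomp _ _ _
        (repWith_of_isPullback (isPullback_prod_map_fst' (Y := (yon _).obj (extObj k K)) (openSubι O)).flip hj))
    have hπ : (yon _).map j ≫ π = ν.hom ≫ prod.fst ≫ openSubι O := by
      simp [hjV, jV, π]
    have hrange : Set.range j.left = (V : Set W.left) := by
      refine Set.Subset.antisymm ?_ fun v hv => ?_
      · rintro _ ⟨v, rfl⟩
        have : Points.ofPt π (j.left v) ∈ O := by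
          rw [← ofPt_map, hπ, ← Category.assoc]
          exact ofPt_openSubι_mem _ v
        obtain ⟨v', hv', e⟩ := this
        exact hinj e ▸ hv'
      · have hx : Points.ofPt π v ∈ O := ⟨v, hv, rfl⟩
        obtain ⟨z, hz⟩ := (range_openSubι hX O).ge hx
        obtain ⟨z', rfl⟩ := surjective_map_prod_fst (openSub O) K z
        obtain ⟨v', hv'⟩ := (Points.schemeEquiv V').surjective (Points.map ν.inv z')
        refine ⟨v', hinj ?_⟩
        rw [← hz, ← ofPt_map, hπ, Points.ofPt_eq_map_ofScheme,
          show Points.ofScheme V' v' = Points.map ν.inv z' from hv', ← Points.map_comp, Iso.inv_hom_id_assoc,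
          ← Points.map_comp]
    have : IsAffine V'.left := by
      have e : j.left.opensRange = V := TopologicalSpace.Opens.ext hrange
      have : IsAffine (j.left.opensRange : W.left.Opens).toScheme := e ▸ hV
      exact .of_isIso j.left.isoOpensRange.hom
    have hqs : IsQuasiSeparatedSp (openSub O) := isQuasiSeparatedSp_of_bc_affine hOsp ν
    have : CompactSpace (Points (openSub O)) := by
      have := compactSpace_points_of_isQuasiCompactSp
        (isQuasiCompactSp_yon_iff.2 (inferInstance : CompactSpace V'.left))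
      refine Function.Surjective.compactSpace (f := Points.map (ν.hom ≫ prod.fst)) (Points.continuous_map _) (fun z => ?_)
      obtain ⟨z', rfl⟩ := surjective_map_prod_fst (openSub O) K z
      exact ⟨Points.map ν.inv z', by rw [← Points.map_comp, Iso.inv_hom_id_assoc]⟩
    obtain ⟨s, hs⟩ := exists_subfield_representable K hOsp (isQuasiCompactSp_of_compactSpace hOsp) hqs
      (isRepresentable_iff_exists_iso.2 ⟨V', ⟨ν⟩⟩)
    have : Module.Finite k (IntermediateField.adjoin k (s : Set K)) :=
      IntermediateField.finiteDimensional_adjoin fun a _ => Algebra.IsIntegral.isIntegral a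
    obtain ⟨Y, ⟨ν'⟩⟩ := isRepresentable_of_finite_purelyInseparable (X := openSub O)
      (IntermediateField.adjoin k (s : Set K)) hs
    exact ⟨O, Y, ν', hO, w, hwV, rfl⟩
  choose O Y ν hO hmem using key
  obtain ⟨M, e, he⟩ := exists_iso_of_openCover Y (fun x => (ν x).hom ≫ openSubι (O x))
    (fun x => MorphismProperty.RespectsIso.precomp _ _ _ (repWith_openSubι (hO x))) fun T y t => by
      obtain ⟨w, hw⟩ := hsurj (Points.ofPt y t)
      obtain ⟨z, hz⟩ := (range_openSubι hX (O w)).ge (hw ▸ hmem w)
      exact ⟨w, Points.map (ν _).inv z, by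
        rw [← Points.map_comp, Iso.inv_hom_id_assoc, hz]⟩
  exact isRepresentable_iff_exists_iso.2 ⟨M, ⟨asIso e⟩⟩

end Groth.Agent.H13AlgSp
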