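import Groth.Agent.H13AlgSp.QAffDescent
import Groth.Agent.H11QAff.Basic
import Groth.Agent.H12AlgSp.QuasiAffineMor

/-!
Quasi-affine morphisms and quasi-compact immersions are fpqc local on the base.
-/

universe u

open CategoryTheory CategoryTheory.Limits AlgebraicGeometry Opposite MorphismProperty Topology
open AlgSp Groth.Agent.H12AlgSp

namespace Groth.Agent.H13AlgSp

variable {S : Scheme.{u}}

/-- Quasi-affine morphisms of schemes, as a property of morphisms. -/
def qaffMor : MorphismProperty Scheme.{u} := fun _ _ f => Mor2.IsQuasiAffine f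

theorem isQuasiAffine_source {X Y : Scheme.{u}} {f : X ⟶ Y} (h : qaffMor f) [IsAffine Y] : X.IsQuasiAffine := by
  have := h.2 ⊤ (isAffineOpen_top Y)
  exact Groth.Agent.H11QAff.isQuasiAffine_of_iso (X.topIso.symm ≪≫ X.isoOfEq (Scheme.Hom.preimage_top f).symm)

theorem qaffMor_of_isQuasiAffine {X Y : Scheme.{u}} (f : X ⟶ Y) [X.IsQuasiAffine] [IsAffine Y] : qaffMor f :=
  Groth.Agent.H11QAff.isQuasiAffine_of_cover f fun _ => ⟨⊤, isAffineOpen_top Y, trivial,
    Groth.Agent.H11QAff.isQuasiAffine_of_iso (X.isoOfEq (Scheme.Hom.preimage_top f) ≪≫ X.topIso)⟩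

instance : qaffMor.{u}.RespectsIso := by
  refine MorphismProperty.RespectsIso.mk _ (fun e f hf => ?_) (fun e f hf => ?_)
  · exact Groth.Agent.H11QAff.comp _ _ (Groth.Agent.H11QAff.of_isImmersion e.hom) hf
  · exact Groth.Agent.H11QAff.comp _ _ hf (Groth.Agent.H11QAff.of_isImmersion e.hom)

instance : qaffMor.{u}.IsStableUnderBaseChange :=
  MorphismProperty.IsStableUnderBaseChange.mk' fun _ _ _ f g _ hg => by
    change qaffMor (pullback.fst f g)
    rw [← pullbackSymmetry_hom_comp_snd]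
    exact (MorphismProperty.cancel_left_of_respectsIso qaffMor _ _).2 (Groth.Agent.H11QAff.baseChange _ hg f)

instance : IsZariskiLocalAtTarget qaffMor.{u} := by
  refine IsZariskiLocalAtTarget.mk' (fun {X Y} f U hf => ?_) (fun {X Y} f {ι} U hU hf => ?_)
  · exact MorphismProperty.of_isPullback (isPullback_morphismRestrict f U).flip hf
  · refine Groth.Agent.H11QAff.isQuasiAffine_of_cover f fun y => ?_
    obtain ⟨i, hi⟩ := TopologicalSpace.Opens.mem_iSup.1 (hU.ge (TopologicalSpace.Opens.mem_top y))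
    obtain ⟨V, hV, hyV, hle⟩ := exists_isAffineOpen_mem_and_subset (U := U i) hi
    refine ⟨V, hV, hyV, ?_⟩
    have hV' : IsAffineOpen ((U i).ι ⁻¹ᵁ V) := by
      rw [← Scheme.Hom.isAffineOpen_iff_of_isOpenImmersion (U i).ι, Scheme.Hom.image_preimage_eq_opensRange_inf,
        Scheme.Opens.opensRange_ι, inf_eq_right.2 (show V ≤ U i from hle)]
      exact hV
    have := (hf i).2 _ hV'
    have e : (f ⁻¹ᵁ U i).ι ''ᵁ ((f ∣_ U i) ⁻¹ᵁ ((U i).ι ⁻¹ᵁ V)) = f ⁻¹ᵁ V := by
      rw [image_morphismRestrict_preimage, Scheme.Hom.image_preimage_eq_opensRange_inf,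
        Scheme.Opens.opensRange_ι, inf_eq_right.2 (show V ≤ U i from hle)]
    rw [← e]
    exact Groth.Agent.H11QAff.isQuasiAffine_of_iso ((f ⁻¹ᵁ U i).ι.isoImage _).symm

/-- Quasi-affineness over an affine base may be tested after a finite fpqc cover. -/
theorem exists_quasiAffine_of_finite_fpqc
    {Q : Sp S} (hQ : IsAlgSpace Q) {Z : Over S} [IsAffine Z.left] (pr : Q ⟶ (yon S).obj Z) {m : ℕ}
    {W : Fin m → Over S} (c : ∀ j, W j ⟶ Z) [∀ j, IsAffine (W j).left] [∀ j, Flat (c j).left]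
    (hs : ∀ z : Z.left, ∃ j, z ∈ Set.range (c j).left)
    (hr : ∀ j, ∃ (V : Over S) (b : V ⟶ W j) (a : (yon S).obj V ⟶ Q),
      IsPullback a ((yon S).map b) pr ((yon S).map (c j)) ∧ qaffMor b.left) :
    ∃ (Z₀ : Over S) (z₀ : Z₀ ⟶ Z) (μ : (yon S).obj Z₀ ⟶ Q),
      IsIso μ ∧ μ ≫ pr = (yon S).map z₀ ∧ Z₀.left.IsQuasiAffine := by
  let σ : (∐ fun j => (W j).left) ⟶ Z.left := Sigma.desc fun j => (c j).left
  let WS : Over S := Over.mk (σ ≫ Z.hom)
  let cS : WS ⟶ Z := Over.homMk σ rfl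
  have hWS : IsAffine WS.left := inferInstanceAs (IsAffine (∐ fun j => (W j).left))
  have hflat : Flat cS.left :=
    IsZariskiLocalAtSource.sigmaDesc (P := @Flat) fun j => ‹∀ j, Flat (c j).left› j
  have hsurj : Surjective cS.left := ⟨fun z => by
    obtain ⟨j, w, rfl⟩ := hs z
    refine ⟨Sigma.ι (fun j => (W j).left) j w, ?_⟩
    change σ _ = _
    rw [← Scheme.Hom.comp_apply, Sigma.ι_desc]⟩
  let ι : ∀ j, W j ⟶ WS := fun j => Over.homMk (Sigma.ι (fun j => (W j).left) j) (by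
    change _ ≫ σ ≫ Z.hom = _
    rw [Sigma.ι_desc_assoc]
    exact Over.w (c j))
  have hιc : ∀ j, ι j ≫ cS = c j := fun j => Over.OverMorphism.ext (Sigma.ι_desc _ _)
  let B : Set WS.left.Opens := {V | IsAffineOpen V ∧ ∃ j, (V : Set WS.left) ⊆ Set.range (ι j).left}
  have hB : TopologicalSpace.Opens.IsBasis B := by
    rw [TopologicalSpace.Opens.isBasis_iff_nbhd]
    intro U x hx
    obtain ⟨j, y, hy⟩ : ∃ j, x ∈ Set.range (ι j).left :=
      ⟨_, (sigmaOpenCover fun j => (W j).left).covers x⟩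
    have : IsOpenImmersion (ι j).left :=
      inferInstanceAs (IsOpenImmersion (Sigma.ι (fun j => (W j).left) j))
    obtain ⟨V, hV, hxV, hle⟩ := TopologicalSpace.Opens.isBasis_iff_nbhd.mp WS.left.isBasis_affineOpens
      (show x ∈ U ⊓ (ι j).left.opensRange from ⟨hx, y, hy⟩)
    exact ⟨V, ⟨hV, j, fun z hz => (hle hz).2⟩, hxV, hle.trans inf_le_left⟩
  have sqQ := IsPullback.of_hasPullback pr ((yon S).map cS)
  obtain ⟨GT, γ, μ, hμ, hμq, hγ⟩ := exists_iso_of_local_rep_property (P := qaffMor)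
    (pullback.snd pr ((yon S).map cS)) hB fun V => by
      obtain ⟨j, hj⟩ := V.2.2
      have : IsOpenImmersion (ι j).left :=
        inferInstanceAs (IsOpenImmersion (Sigma.ι (fun j => (W j).left) j))
      have hsub : Set.range V.1.ι ⊆ Set.range (ι j).left := by rwa [Scheme.Opens.range_ι]
      let t : openOver WS V.1 ⟶ W j := Over.homMk (IsOpenImmersion.lift (ι j).left V.1.ι hsub) (by
        rw [← Over.w (ι j), IsOpenImmersion.lift_fac_assoc]
        rfl)
      have ht : t ≫ ι j = openIncl WS V.1 := Over.OverMorphism.ext (IsOpenImmersion.lift_fac _ _ hsub)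
      obtain ⟨V', b, a, sq, hb⟩ := hr j
      have sq1 := ((IsPullback.of_hasPullback b t).map (yon S)).paste_horiz sq
      rw [← Functor.map_comp, ← hιc, ← Category.assoc, ht, Functor.map_comp] at sq1
      refine ⟨pullback b t, pullback.snd b t, sqQ.lift ((yon S).map (pullback.fst b t) ≫ a)
        ((yon S).map (pullback.snd b t) ≫ (yon S).map (openIncl WS V.1))
        (by rw [Category.assoc (f := (yon S).map (pullback.snd b t))]; exact sq1.w), ?_, ?_⟩
      · exact IsPullback.of_right (by rw [sqQ.lift_fst]; exact sq1) (sqQ.lift_snd _ _ _) sqQ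
      · exact MorphismProperty.of_isPullback (P := qaffMor) ((IsPullback.of_hasPullback b t).map (Over.forget S)) hb
  have hGT : GT.left.IsQuasiAffine := isQuasiAffine_source hγ
  have sqG : IsPullback (μ ≫ pullback.fst pr ((yon S).map cS)) ((yon S).map γ) pr ((yon S).map cS) := by
    have sq₀ : IsPullback μ ((yon S).map γ) (pullback.snd pr ((yon S).map cS)) (𝟙 _) :=
      IsPullback.of_horiz_isIso ⟨by rw [hμq, Category.comp_id]⟩
    have := sq₀.paste_horiz sqQ
    rwa [Category.id_comp] at this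
  exact exists_iso_quasiAffine hQ pr cS (μ ≫ pullback.fst pr ((yon S).map cS)) γ sqG

theorem isQuasiAffineMor_of_fpqc {F G : Sp S} (hF : IsAlgSpace F) (hG : IsAlgSpace G) {f : F ⟶ G}
    {ι : Type u} {Gi : ι → Sp S} {g : ∀ i, Gi i ⟶ G} (hg : IsFpqcCover Gi g) {Fi : ι → Sp S}
    {p : ∀ i, Fi i ⟶ Gi i} {q : ∀ i, Fi i ⟶ F} (sq : ∀ i, IsPullback (q i) (p i) f (g i))
    (hp : ∀ i, IsQuasiAffineMor (p i)) : IsQuasiAffineMor f := by
  intro Z hZ β
  obtain ⟨m, W, c, haff, hflat, hsurj, hlift⟩ := hg.2 Z hZ β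
  have sqQ := IsPullback.of_hasPullback f β
  have hr : ∀ j, ∃ (V : Over S) (b : V ⟶ W j) (a : (yon S).obj V ⟶ pullback f β),
      IsPullback a ((yon S).map b) (pullback.snd f β) ((yon S).map (c j)) ∧ qaffMor b.left := by
    intro j
    obtain ⟨i, l, hl⟩ := hlift j
    obtain ⟨V, b, a, sqV, hV⟩ := hp i (haff j) l
    have big := sqV.paste_horiz (sq i)
    rw [hl] at big
    refine ⟨V, b, sqQ.lift (a ≫ q i) ((yon S).map b ≫ (yon S).map (c j))
      (by rw [Category.assoc (f := (yon S).map b)]; exact big.w), ?_, ?_⟩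
    · exact IsPullback.of_right (by rw [sqQ.lift_fst]; exact big) (sqQ.lift_snd _ _ _) sqQ
    · have := hV
      have := haff j
      exact qaffMor_of_isQuasiAffine b.left
  have := haff
  have := hflat
  have : IsAffine Z.left := hZ
  obtain ⟨Z₀, z₀, μ, hμ, hμp, hZ₀⟩ := exists_quasiAffine_of_finite_fpqc
    (isAlgSpace_of_isPullback hG.diag hF (IsAlgSpace.yon_obj Z) sqQ) (pullback.snd f β) c hsurj hr
  exact ⟨Z₀, z₀, μ ≫ pullback.fst f β, IsPullback.of_iso_pullback
    ⟨by rw [Category.assoc, pullback.condition, ← Category.assoc, hμp]⟩ (asIso μ) rfl hμp, hZ₀⟩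

theorem isQuasiAffineMor_of_isPullback {F G F' G' : Sp S} {f : F ⟶ G} {g : G' ⟶ G} {q : F' ⟶ F} {p : F' ⟶ G'}
    (sq : IsPullback q p f g) (h : IsQuasiAffineMor f) : IsQuasiAffineMor p := by
  intro Z hZ β
  obtain ⟨W, i, fst, sqW, hW⟩ := h hZ (β ≫ g)
  exact ⟨W, i, sq.lift fst ((yon S).map i ≫ β) (by rw [Category.assoc]; exact sqW.w),
    IsPullback.of_right (by rw [sq.lift_fst]; exact sqW) (sq.lift_snd _ _ _) sq, hW⟩

theorem isLocalOnBase_fpqc_isQuasiAffineMor : IsLocalOnBase (IsFpqcCover (S := S)) IsQuasiAffineMor := by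
  intro ι Y Yi g hY hYi hg X f hX Xi p q hXi sq
  exact ⟨fun hf i => isQuasiAffineMor_of_isPullback (sq i) hf, isQuasiAffineMor_of_fpqc hX hY hg sq⟩

end Groth.Agent.H13AlgSp
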