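import Groth.Agent.H13AlgSp.CodimZeroQf
import Groth.Agent.H13AlgSp.FiniteMor
import Groth.Agent.H12AlgSp.AffineMor
import Groth.Agent.H12AlgSp.OpenSub
import Groth.Agent.H12AlgSp.QC
import Groth.Agent.S2080

/-!
A quasi-separated morphism of finite type which is quasi-finite over a point of codimension zero is
finite over an open neighbourhood of that point.
-/

universe u

open CategoryTheory CategoryTheory.Limits AlgebraicGeometry Opposite Topology
open AlgSp Groth.Agent.H12AlgSp

set_option linter.style.haveILetI false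

namespace Groth.Agent.H13AlgSp.QfFinite

theorem finite_fibre_of_generic {U V : Scheme.{u}} (g : U ⟶ V) [LocallyOfFiniteType g] [QuasiCompact g]
    (v : V) (h : ∀ u, g u = v → u ∈ genericPoints U) : (g ⁻¹' {v}).Finite := by
  have : IsLocallyNoetherian (g.fiber v) := Groth.Agent.H17.isLocallyNoetherian_fiber _ _
  have hdim : topologicalKrullDim (g.fiber v) ≤ 0 :=
    topologicalKrullDim_le_zero_of_no_spec fun z₁ z₂ hs => by
      apply (g.fiberι v).isEmbedding.injective
      exact (Groth.Agent.H8Props.mem_genericPoints_iff.1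
        (h _ ((g.range_fiberι v).le ⟨z₂, rfl⟩)) _ (hs.map (g.fiberι v).continuous))
  have : IsLocallyArtinian (g.fiber v) := .of_topologicalKrullDim_le_zero hdim
  haveI : CompactSpace (g.fiber v) := QuasiCompact.compactSpace_of_compactSpace (g.fiberToSpecResidueField v)
  haveI : Finite (g.fiber v) := finite_of_compact_of_discrete
  rw [← g.range_fiberι v]
  exact Set.finite_range _

variable {S : Scheme.{u}} {X Y : Sp S}

/-- The kernel pair of a cover, as a base change of the diagonal. -/
theorem isPullback_diag_cover {U Q V : Sp S} (u : U ⟶ Q) (s : Q ⟶ V) :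
    IsPullback (pullback.fst u u ≫ u)
      (pullback.lift (f := u ≫ s) (g := u ≫ s) (pullback.fst u u) (pullback.snd u u)
        (by rw [reassoc_of% pullback.condition]))
      (pullback.diagonal s) (pullback.map (u ≫ s) (u ≫ s) s s u u (𝟙 _) (by simp) (by simp)) := by
  have hf : pullback.map (u ≫ s) (u ≫ s) s s u u (𝟙 _) (by simp) (by simp) ≫ pullback.fst s s =
      pullback.fst _ _ ≫ u := pullback.lift_fst _ _ _
  have hs : pullback.map (u ≫ s) (u ≫ s) s s u u (𝟙 _) (by simp) (by simp) ≫ pullback.snd s s =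
      pullback.snd _ _ ≫ u := pullback.lift_snd _ _ _
  refine ⟨⟨?_⟩, ⟨PullbackCone.IsLimit.mk _
    (fun c => pullback.lift (c.snd ≫ pullback.fst _ _) (c.snd ≫ pullback.snd _ _) ?_) (fun c => ?_) (fun c => ?_)
    (fun c m h₁ h₂ => ?_)⟩⟩
  · apply pullback.hom_ext
    · simp only [Category.assoc, pullback.diagonal_fst, Category.comp_id, hf, pullback.lift_fst_assoc]
    · simp only [Category.assoc, pullback.diagonal_snd, Category.comp_id, hs, pullback.lift_snd_assoc,
        pullback.condition]
  · have e₁ := c.condition =≫ pullback.fst s s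
    have e₂ := c.condition =≫ pullback.snd s s
    simp only [Category.assoc, pullback.diagonal_fst, pullback.diagonal_snd, Category.comp_id, hf, hs] at e₁ e₂
    simp only [Category.assoc, ← e₁, ← e₂]
  · have e₁ := c.condition =≫ pullback.fst s s
    simp only [Category.assoc, pullback.diagonal_fst, Category.comp_id, hf] at e₁
    simp only [pullback.lift_fst_assoc, Category.assoc, ← e₁]
  · apply pullback.hom_ext
    · exact (Category.assoc _ _ _).trans ((congrArg _ (pullback.lift_fst _ _ _)).trans (pullback.lift_fst _ _ _))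
    · exact (Category.assoc _ _ _).trans ((congrArg _ (pullback.lift_snd _ _ _)).trans (pullback.lift_snd _ _ _))
  · apply pullback.hom_ext
    · exact ((congrArg (m ≫ ·) (pullback.lift_fst _ _ _).symm).trans (Category.assoc _ _ _).symm).trans
        ((congrArg (· ≫ pullback.fst _ _) h₂).trans (pullback.lift_fst _ _ _).symm)
    · exact ((congrArg (m ≫ ·) (pullback.lift_snd _ _ _).symm).trans (Category.assoc _ _ _).symm).trans
        ((congrArg (· ≫ pullback.snd _ _) h₂).trans (pullback.lift_snd _ _ _).symm)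

theorem exists_finite_nbhd (hX : IsAlgSpace X) (hY : IsAlgSpace Y) (f : X ⟶ Y)
    (hqs : IsQuasiSeparatedMor f) (hft : IsFiniteTypeMor f) (y : Points Y) (hy : CodimZero Y y)
    (hqf : ∀ x, Points.map f x = y → QfAt f x) :
    ∃ (W : Set (Points Y)), IsOpen W ∧ y ∈ W ∧
      IsFiniteMor (pullback.fst (openSubι W) f) := by
  -- an affine chart through `y`
  obtain ⟨V, b, v, hb, hv, hgen, hV⟩ : ∃ (V : Over S) (b : (yon S).obj V ⟶ Y) (v : V.left),
      RepWith @Etale b ∧ Points.ofPt b v = y ∧ v ∈ genericPoints V.left ∧ IsAffine V.left := by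
    obtain ⟨V₀, b₀, v₀, hb₀, hv₀, hd₀⟩ := hy
    obtain ⟨_, ⟨(O : V₀.left.Opens), hO, rfl⟩, hvO, -⟩ :=
      V₀.left.isBasis_affineOpens.exists_subset_of_mem_open (Set.mem_univ v₀) isOpen_univ
    let V : Over S := Over.mk (O.ι ≫ V₀.hom)
    let ι : V ⟶ V₀ := Over.homMk O.ι
    have hι : Etale ι.left := inferInstanceAs (Etale O.ι)
    have hb : RepWith @Etale ((yon S).map ι ≫ b₀) := repWith_comp ((repWith_yon_map_iff _ ι).2 hι) hb₀
    have hv : Points.ofPt ((yon S).map ι ≫ b₀) ⟨v₀, hvO⟩ = y := by rw [ofPt_map, ← hv₀]; rfl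
    exact ⟨V, _, ⟨v₀, hvO⟩, hb, hv,
      mem_genericPoints_of_codimZero hY ⟨V₀, b₀, v₀, hb₀, hv₀, hd₀⟩ hb hv, hO⟩
  obtain ⟨P₁, p₁, p₂, sq₁⟩ : ∃ (P : Sp S) (p : P ⟶ X) (q : P ⟶ (yon S).obj V), IsPullback p q f b :=
    ⟨_, _, _, IsPullback.of_hasPullback _ _⟩
  have hP₁ : IsAlgSpace P₁ := isAlgSpace_of_isPullback hY.diag hX (IsAlgSpace.yon_obj V) sq₁
  haveI : CompactSpace V.left := inferInstance
  haveI : CompactSpace (Points P₁) := compactSpace_points_of_isQuasiCompactSp
    (hft.2 (IsAlgSpace.yon_obj V) (isQuasiCompactSp_yon_iff.2 inferInstance) b p₁ p₂ sq₁)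
  obtain ⟨U, u, hU, hu, hus⟩ := Groth.Agent.H12AlgSp.exists_affine_atlas hP₁
  obtain ⟨g, hg⟩ := (yon S).map_surjective (u ≫ p₂)
  have hup : RepWith @Etale (u ≫ p₁) := repWith_comp hu (repWith_of_isPullback sq₁.flip hb)
  have wg : (u ≫ p₁) ≫ f = (yon S).map g ≫ b := by rw [hg, Category.assoc, Category.assoc, sq₁.w]
  haveI : LocallyOfFiniteType g.left := hft.1 _ _ g hup hb wg
  obtain ⟨R, r₂, r₁', sqR⟩ : ∃ (R : Over S) (r₂ : R ⟶ U) (r₁ : (yon S).obj R ⟶ (yon S).obj U),
      IsPullback r₁ ((yon S).map r₂) u u := ⟨_, _, _, hu.rep.isPullback u⟩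
  obtain ⟨r₁, rfl⟩ := (yon S).map_surjective r₁'
  haveI : Etale r₂.left := hu.property _ _ r₂ sqR
  haveI : QuasiCompact (r₂.left ≫ g.left) := by
    have hd : RepWith @QuasiCompact (pullback.diagonal p₂) :=
      repWith_of_isPullback (isPullback_diagonal sq₁) hqs
    obtain ⟨d, hd₁, hd₂⟩ : ∃ d : R ⟶ pullback g g,
        d ≫ pullback.fst g g = r₁ ∧ d ≫ pullback.snd g g = r₂ :=
      ⟨pullback.lift r₁ r₂ ((yon S).map_injective (by
        rw [Functor.map_comp, Functor.map_comp, hg, reassoc_of% sqR.w])), pullback.lift_fst _ _ _,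
        pullback.lift_snd _ _ _⟩
    have sqd := isPullback_diag_cover u p₂
    have hqc := repWith_of_isPullback sqd hd
    -- compare with the scheme fibre product
    have sqg := (IsPullback.of_hasPullback g g).map (yon S)
    rw [hg] at sqg
    have hdq : RepWith @QuasiCompact ((yon S).map d) := by
      have : (yon S).map d = sqR.isoPullback.hom ≫ pullback.lift (f := u ≫ p₂) (g := u ≫ p₂) (pullback.fst u u)
          (pullback.snd u u) (by rw [reassoc_of% pullback.condition]) ≫ sqg.isoPullback.inv := by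
        refine sqg.hom_ext ?_ ?_
        · rw [← Functor.map_comp, hd₁, Category.assoc, Category.assoc, sqg.isoPullback_inv_fst]
          exact sqR.isoPullback_hom_fst.symm.trans (congrArg _ (pullback.lift_fst _ _ _).symm)
        · rw [← Functor.map_comp, hd₂, Category.assoc, Category.assoc, sqg.isoPullback_inv_snd]
          exact sqR.isoPullback_hom_snd.symm.trans (congrArg _ (pullback.lift_snd _ _ _).symm)
      rw [this]
      exact repWith_comp (repWith_of_isIso _) (repWith_comp hqc (repWith_of_isIso _))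
    haveI : QuasiCompact d.left := (repWith_yon_map_iff _ d).1 hdq
    haveI : QuasiCompact (pullback.snd g g).left := by
      have := ((IsPullback.of_hasPullback g g).map (Over.forget S))
      exact MorphismProperty.of_isPullback this (inferInstance : QuasiCompact g.left)
    rw [← hd₂, Over.comp_left]
    infer_instance
  haveI : QuasiSeparated (r₂.left ≫ g.left) := by
    haveI : QuasiSeparated r₂.left := by
      have : LocallyQuasiFinite r₂.left := lqf_of_etale r₂.left
      haveI : IsSeparated r₂.left := isSeparated_of_selfProduct sqR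
      infer_instance
    infer_instance
  -- the fibres over `v` are finite
  have hUgen : ∀ a, g.left a = v → a ∈ genericPoints U.left := fun a ha => by
    have hx : Points.map f (Points.ofPt (u ≫ p₁) a) = y := by
      rw [Points.map_ofPt, wg, ofPt_map, ha, hv]
    exact mem_genericPoints_of_codimZero hX (codimZero_of_qfAt hX hY (hqf _ hx) (hx.symm ▸ hy)) hup rfl
  have hRgen : ∀ r, (r₂.left ≫ g.left) r = v → r ∈ genericPoints R.left := fun r hr => by
    haveI := lqf_of_etale r₂.left
    exact mem_genericPoints_of_lqf r₂.left (hUgen _ hr)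
  obtain ⟨VU, -, hvU, hfU⟩ := (Groth.Agent.S2080.result g.left v hgen).1 (finite_fibre_of_generic g.left v hUgen)
  obtain ⟨VR, -, hvR, hfR⟩ :=
    (Groth.Agent.S2080.result (r₂.left ≫ g.left) v hgen).1 (finite_fibre_of_generic _ v hRgen)
  obtain ⟨_, ⟨(O : V.left.Opens), hO, rfl⟩, hvO, hOle⟩ :=
    V.left.isBasis_affineOpens.exists_subset_of_mem_open (show v ∈ VU ⊓ VR from ⟨hvU, hvR⟩) (VU ⊓ VR).2
  have hfin : ∀ {A : Scheme.{u}} (k : A ⟶ V.left) (W : V.left.Opens), O ≤ W → IsFinite (k ∣_ W) →
      IsFinite (pullback.snd k O.ι) := by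
    intro A k W hW hk
    have sqW : IsPullback (k ⁻¹ᵁ W).ι (k ∣_ W) k W.ι := (isPullback_morphismRestrict k W).flip
    obtain ⟨l, hl₁, hl₂⟩ := sqW.exists_lift (pullback.fst k O.ι) (pullback.snd k O.ι ≫ V.left.homOfLE hW)
      (by rw [pullback.condition, Category.assoc, Scheme.homOfLE_ι])
    exact MorphismProperty.of_isPullback (IsPullback.of_right
      (by rw [hl₁, Scheme.homOfLE_ι]; exact IsPullback.of_hasPullback k O.ι) hl₂ sqW) hk
  let V' : Over S := Over.mk (O.ι ≫ V.hom)
  let ι : V' ⟶ V := Over.homMk O.ι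
  haveI : IsAffine V'.left := hO
  have hgU : IsFinite (pullback.snd g ι).left := by
    have := ((IsPullback.of_hasPullback g ι).map (Over.forget S))
    exact (MorphismProperty.cancel_left_of_respectsIso @IsFinite this.isoPullback.inv _).1
      (by erw [this.isoPullback_inv_snd]; exact hfin g.left VU (fun z hz => (hOle hz).1) hfU)
  -- the open neighbourhood and the base change to the chart over it
  have hι : Etale ι.left := inferInstanceAs (Etale O.ι)
  have hb' : RepWith @Etale ((yon S).map ι ≫ b) := repWith_comp ((repWith_yon_map_iff _ ι).2 hι) hb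
  let W : Set (Points Y) := Set.range (Points.ofPt ((yon S).map ι ≫ b))
  have hW : IsOpen W := (isOpenMap_ofPt_of_repWith etale_le_universallyOpen hb').isOpen_range
  have hYW : IsAlgSpace (openSub W) :=
    isAlgSpace_of_representable _ (repWith_openSubι hW).1 hY
  obtain ⟨pV, hpV⟩ := exists_factor_open (repWith_openSubι hW) ((yon S).map ι ≫ b) (by
    rw [range_openSubι hY W, range_map_yon])
  haveI : Mono (openSubι W) := mono_of_openImmersion (repWith_openSubι hW)
  have hpVe : RepWith @Etale pV := by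
    refine repWith_etale_of_comp ?_ (hpV.symm ▸ hb')
    exact repWith_le (fun _ _ k (_ : IsOpenImmersion k) => inferInstanceAs (Etale k)) (repWith_openSubι hW)
  have hpVs : RepWith @Surjective pV := by
    refine repWith_surjective_of_map hpVe.1 fun w => ?_
    obtain ⟨a, ha⟩ := (range_openSubι hY W).le ⟨w, rfl⟩
    exact ⟨Points.ofScheme V' a, injective_map_of_mono (openSubι W) (by
      rw [← Points.map_comp, hpV, ← ha, Points.ofPt_eq_map_ofScheme])⟩
  have sqX := IsPullback.of_hasPullback (openSubι W) f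
  obtain ⟨Q, q, qV, sqQ⟩ : ∃ (Q : Sp S) (q : Q ⟶ pullback (openSubι W) f) (qV : Q ⟶ (yon S).obj V'),
      IsPullback q qV (pullback.fst (openSubι W) f) pV := ⟨_, _, _, IsPullback.of_hasPullback _ _⟩
  have hXW : IsAlgSpace (pullback (openSubι W) f) := isAlgSpace_of_isPullback hY.diag hYW hX sqX
  have hQ : IsAlgSpace Q := isAlgSpace_of_isPullback hYW.diag hXW (IsAlgSpace.yon_obj V') sqQ
  refine ⟨W, hW, ⟨⟨v, hvO⟩, by rw [ofPt_map]; exact hv⟩, ?_⟩
  suffices hQf : IsFiniteMor qV from isFiniteMor_iff.2 (repWith_of_etale_cover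
    (fun _ _ k (_ : IsFinite k) => inferInstanceAs (IsAffineHom k)) hXW hYW hpVe hpVs sqQ (isFiniteMor_iff.1 hQf))
  have bigQ : IsPullback (q ≫ pullback.snd _ _) qV f ((yon S).map ι ≫ b) := by
    rw [← hpV]; exact sqQ.paste_horiz sqX.flip
  obtain ⟨θ, hθ₁, hθ₂⟩ := sq₁.exists_lift (q ≫ pullback.snd _ _) (qV ≫ (yon S).map ι)
    (by rw [bigQ.w, Category.assoc])
  have sqθ : IsPullback θ qV p₂ ((yon S).map ι) := IsPullback.of_right (by rw [hθ₁]; exact bigQ) hθ₂ sq₁
  let U' : Over S := pullback g ι
  obtain ⟨u', hu'₁, hu'₂⟩ := sqθ.exists_lift ((yon S).map (pullback.fst g ι) ≫ u)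
    ((yon S).map (pullback.snd g ι)) (by
      rw [Category.assoc, ← hg, ← Functor.map_comp, pullback.condition, Functor.map_comp])
  have squ : IsPullback ((yon S).map (pullback.fst g ι)) u' u θ :=
    IsPullback.of_bot (by rw [hu'₂, ← hg]; exact (IsPullback.of_hasPullback g ι).map (yon S)) hu'₁.symm sqθ
  have hu'e : RepWith @Etale u' := repWith_of_isPullback squ hu
  have hu's : RepWith @Surjective u' := repWith_of_isPullback squ hus
  obtain ⟨R', t₂, t₁', sqR'⟩ : ∃ (R' : Over S) (t₂ : R' ⟶ U') (t₁ : (yon S).obj R' ⟶ (yon S).obj U'),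
      IsPullback t₁ ((yon S).map t₂) u' u' := ⟨_, _, _, hu'e.rep.isPullback u'⟩
  obtain ⟨t₁, rfl⟩ := (yon S).map_surjective t₁'
  obtain ⟨ρ', hρ₁, hρ₂⟩ := sqR.exists_lift ((yon S).map (t₁ ≫ pullback.fst g ι))
    ((yon S).map (t₂ ≫ pullback.fst g ι)) (by
      rw [Functor.map_comp, Functor.map_comp, Category.assoc, Category.assoc, squ.w,
        reassoc_of% sqR'.w])
  obtain ⟨ρ, rfl⟩ := (yon S).map_surjective ρ'
  rw [← Functor.map_comp] at hρ₁ hρ₂
  have sqρ : IsPullback ((yon S).map ρ) ((yon S).map t₂) ((yon S).map r₂) ((yon S).map (pullback.fst g ι)) := by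
    refine IsPullback.of_right (h₁₂ := (yon S).map r₁) (h₂₂ := u) (v₁₃ := u) ?_
      (by rw [← Functor.map_comp, ← Functor.map_comp, (yon S).map_injective hρ₂]) sqR
    rw [← Functor.map_comp, hρ₁, Functor.map_comp, squ.w]
    exact sqR'.paste_horiz squ
  have hR' : IsFinite (t₂ ≫ pullback.snd g ι).left := by
    have s1 : IsPullback ρ.left t₂.left r₂.left (pullback.fst g ι).left :=
      (IsPullback.of_map (yon S) ((yon S).map_injective (by
        rw [Functor.map_comp, Functor.map_comp]; exact sqρ.w)) sqρ).map (Over.forget S)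
    have s2 := s1.paste_vert ((IsPullback.of_hasPullback g ι).map (Over.forget S))
    rw [Over.comp_left]
    exact (MorphismProperty.cancel_left_of_respectsIso @IsFinite s2.isoPullback.inv _).1
      (by erw [s2.isoPullback_inv_snd]; exact hfin (r₂.left ≫ g.left) VR (fun z hz => (hOle hz).2) hfR)
  -- separatedness of the base change, then descent of finiteness
  have hsep : IsSeparatedMor qV := by
    let m := pullback.map (u' ≫ qV) (u' ≫ qV) qV qV u' u' (𝟙 _) (by simp) (by simp)
    have sqd := isPullback_diag_cover u' qV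
    have hm : RepWith fppfMor.{u} m := repWith_fppf_of_etale (repWith_pullbackMap hu'e hu'e rfl rfl)
      (repWith_pullbackMap hu's hu's rfl rfl)
    refine repWith_of_fppf_base (representable_diagonal qV hQ.diag) hm sqd ?_
    let γ : R' ⟶ pullback (pullback.snd g ι) (pullback.snd g ι) :=
      pullback.lift t₁ t₂ ((yon S).map_injective (by
        rw [Functor.map_comp, Functor.map_comp, ← hu'₂, reassoc_of% sqR'.w]))
    have hγ : IsClosedImmersion γ.left := by
      have sqP := (IsPullback.of_hasPullback (pullback.snd g ι) (pullback.snd g ι)).map (Over.forget S)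
      haveI : IsFinite (pullback.snd (pullback.snd g ι) (pullback.snd g ι)).left :=
        MorphismProperty.of_isPullback sqP hgU
      haveI : IsFinite (γ.left ≫ (pullback.snd (pullback.snd g ι) (pullback.snd g ι)).left ≫ (pullback.snd g ι).left) := by
        rw [← Over.comp_left, ← Over.comp_left, pullback.lift_snd_assoc]
        exact hR'
      haveI : IsFinite γ.left := IsFinite.of_comp γ.left
        ((pullback.snd (pullback.snd g ι) (pullback.snd g ι)).left ≫ (pullback.snd g ι).left)
      haveI : Mono γ := ⟨fun a a' e => (yon S).map_injective (sqR'.hom_ext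
        (by simp only [← Functor.map_comp]; exact congrArg _ (((congrArg (a ≫ ·) (pullback.lift_fst _ _ _).symm).trans ((Category.assoc _ _ _).symm.trans ((congrArg (· ≫ pullback.fst _ _) e).trans (Category.assoc _ _ _)))).trans (congrArg (a' ≫ ·) (pullback.lift_fst _ _ _))))
        (by simp only [← Functor.map_comp]; exact congrArg _ (((congrArg (a ≫ ·) (pullback.lift_snd _ _ _).symm).trans ((Category.assoc _ _ _).symm.trans ((congrArg (· ≫ pullback.snd _ _) e).trans (Category.assoc _ _ _)))).trans (congrArg (a' ≫ ·) (pullback.lift_snd _ _ _)))))⟩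
      haveI : Mono γ.left := inferInstanceAs (Mono ((Over.forget S).map γ))
      exact (IsClosedImmersion.iff_isFinite_and_mono _).2 ⟨inferInstance, inferInstance⟩
    have sqg := (IsPullback.of_hasPullback (pullback.snd g ι) (pullback.snd g ι)).map (yon S)
    rw [← hu'₂] at sqg
    have : pullback.lift (f := u' ≫ qV) (g := u' ≫ qV) (pullback.fst u' u') (pullback.snd u' u')
        (by rw [reassoc_of% pullback.condition]) =
        sqR'.isoPullback.inv ≫ (yon S).map γ ≫ sqg.isoPullback.hom := by
      apply pullback.hom_ext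
      · simp [γ, ← Functor.map_comp, pullback.lift_fst]
      · simp [γ, ← Functor.map_comp, pullback.lift_snd]
    rw [this]
    exact repWith_comp (repWith_of_isIso _) (repWith_comp ((repWith_yon_map_iff _ γ).2 hγ) (repWith_of_isIso _))
  refine isFiniteMor_of_etale_precomp (IsAlgSpace.yon_obj U') hQ (IsAlgSpace.yon_obj V')
    (locP_of_repWith etLocal_etale hu'e) (surjective_map_of_repWith le_rfl hu's) hsep ?_
  rw [hu'₂]
  exact isFiniteMor_iff.2 ((repWith_yon_map_iff _ _).2 hgU)

end Groth.Agent.H13AlgSp.QfFinite
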