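import Groth.Agent.H7Flat.EtaleLocQF
import Groth.Agent.H9Gal.QfhBasics
import Groth.Agent.H12AlgSp.NormSp.QFLocus
import Groth.Agent.H12AlgSp.OpenLoci
import Groth.Agent.H12AlgSp.QFFinite
import Groth.Agent.H12AlgSp.ElemNbhdExists
import Mathlib.AlgebraicGeometry.ZariskisMainTheorem

/-!
# Etale localization splits off finitely many quasi-finite points of a fibre
-/

set_option autoImplicit false
set_option backward.isDefEq.respectTransparency false
set_option linter.style.haveILetI false

universe u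

open CategoryTheory CategoryTheory.Limits AlgebraicGeometry Opposite Topology
open AlgSp Groth.Agent.H12AlgSp Groth.Agent.H13AlgSp

namespace Groth.Agent.H13AlgSp.QfSplit

open Groth.Agent.H12AlgSp.NormSp (QFPred)

theorem isFinite_iSup {W U : Scheme.{u}} (q : W ⟶ U) [IsSeparated q] [LocallyQuasiFinite q]
    [LocallyOfFiniteType q] {n : ℕ} (V : Fin n → W.Opens) (h : ∀ i, IsFinite ((V i).ι ≫ q)) :
    IsFinite ((⨆ i, V i).ι ≫ q) := by
  let d : (∐ fun i : ULift.{u} (Fin n) => (V i.down).toScheme) ⟶ ((⨆ i, V i : W.Opens) : Scheme.{u}) :=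
    Sigma.desc fun i => W.homOfLE (le_iSup V i.down)
  haveI : Surjective d := ⟨fun z => by
    obtain ⟨i, hi⟩ := TopologicalSpace.Opens.mem_iSup.1 z.2
    refine ⟨Sigma.ι (fun i : ULift.{u} (Fin n) => (V i.down).toScheme) ⟨i⟩ ⟨z.1, hi⟩, ?_⟩
    rw [← Scheme.Hom.comp_apply, Sigma.ι_desc]
    refine Subtype.ext ?_
    change (W.homOfLE (le_iSup V i) ≫ (⨆ i, V i : W.Opens).ι) _ = _
    rw [Scheme.homOfLE_ι]
    rfl⟩
  have hd : d ≫ (⨆ i, V i : W.Opens).ι ≫ q = Sigma.desc fun i : ULift.{u} (Fin n) => (V i.down).ι ≫ q :=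
    Sigma.hom_ext _ _ fun i => by rw [Sigma.ι_desc, Sigma.ι_desc_assoc, Scheme.homOfLE_ι_assoc]
  haveI : IsFinite (d ≫ (⨆ i, V i : W.Opens).ι ≫ q) := by
    rw [hd]; exact H9Gal.QfhBasics.isFinite_sigmaDesc _ _ _ fun i => h i.down
  haveI : UniversallyClosed ((⨆ i, V i : W.Opens).ι ≫ q) := UniversallyClosed.of_comp_surjective d _
  haveI : IsProper ((⨆ i, V i : W.Opens).ι ≫ q) := {}
  exact (IsFinite.iff_isProper_and_locallyQuasiFinite _).2 ⟨‹_›, inferInstance⟩

variable {S : Scheme.{u}}

/-- The part lemma over a scheme. -/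
theorem exists_part {P : Sp S} (hP : IsAlgSpace P) {V : Over S} {π : P ⟶ (yon S).obj V}
    (hsep : IsSeparatedMor π) (v : V.left) (T : Finset (Points P))
    (hT : ∀ w ∈ T, Points.map π w = Points.ofScheme V v) (hq : ∀ w ∈ T, HasAtMor QFPred π w) :
    ∃ (V' : Over S) (g : V' ⟶ V) (v' : V'.left), Etale g.left ∧ g.left v' = v ∧
      ∃ (F : Over S) (bF : F ⟶ V') (i : (yon S).obj F ⟶ pullback π ((yon S).map g)),
        IsFinite bF.left ∧ RepWith @IsOpenImmersion i ∧ RepWith @IsClosedImmersion i ∧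
        i ≫ pullback.snd π ((yon S).map g) = (yon S).map bF ∧
        (∀ t, bF.left t = v' → Points.ofPt (i ≫ pullback.fst π ((yon S).map g)) t ∈ T) ∧
        ∀ z, z ∉ Set.range (Points.map i) → Points.map (pullback.snd π ((yon S).map g)) z = Points.ofScheme V' v' →
          Points.map (pullback.fst π ((yon S).map g)) z ∉ T := by
  -- the quasi-finite locus is a scheme
  have hE := etLocal_inf etLocal_lqf.{u} etLocal_lft.{u}
  obtain ⟨XT, jT, hXT, hjT, hrange⟩ :=
    exists_open_subspace hP (isOpen_nbhdLocus (P := @LocallyQuasiFinite ⊓ @LocallyOfFiniteType) π)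
  haveI := mono_of_openImmersion hjT
  have hqfT : LocP (@LocallyQuasiFinite ⊓ @LocallyOfFiniteType) (jT ≫ π) :=
    (locP_iff_forall_nbhd hE hXT (IsAlgSpace.yon_obj V) _).2 fun z =>
      nbhd_comp_of_openImmersion hE hXT (IsAlgSpace.yon_obj V) hjT (hrange.le ⟨z, rfl⟩)
  have hsepT : IsSeparatedMor (jT ≫ π) := isSeparatedMor_comp (isSeparatedMor_of_mono jT) hsep
  obtain ⟨W, γ, μ, hμ, hγ⟩ := exists_iso_of_lqf_separated hXT hsepT hqfT
  let δ : (yon S).obj W ⟶ P := μ ≫ jT
  have hδ : RepWith @IsOpenImmersion δ := repWith_comp (repWith_of_isIso μ) hjT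
  have hδγ : δ ≫ π = (yon S).map γ := by rw [Category.assoc, hγ]
  have hγq : LocP (@LocallyQuasiFinite ⊓ @LocallyOfFiniteType) ((yon S).map γ) :=
    locP_of_one_chart hE γ (repWith_id _ W) (by rw [← (yon S).map_id]; exact (repWith_yon_map_iff _ _).2 (inferInstanceAs (Surjective (𝟙 W.left))))
      (repWith_id _ V) (by rw [Category.id_comp, Category.comp_id]) (by
      have := hqfT μ (𝟙 _) γ (repWith_of_isIso μ) (repWith_id _ V) (by rw [Category.comp_id, hγ])
      exact this)
  have hγ' := locP_yon_map hγq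
  haveI : LocallyQuasiFinite γ.left := hγ'.1
  haveI : LocallyOfFiniteType γ.left := hγ'.2
  haveI : IsSeparated γ.left := (isSeparatedMor_yon_map_iff γ).1
    (hδγ ▸ isSeparatedMor_comp (@isSeparatedMor_of_mono _ _ _ δ (mono_of_openImmersion hδ)) hsep)
  haveI hδm : Mono δ := mono_of_openImmersion hδ
  -- the finitely many points as points of the scheme
  have hpt : ∀ w ∈ T, ∃ t : W.left, Points.ofPt δ t = w := fun w hw => by
    obtain ⟨z, hz⟩ := hrange.ge (hq w hw)
    obtain ⟨z', hz'⟩ := (Points.schemeEquiv W).surjective (Points.map (inv μ) z)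
    refine ⟨z', ?_⟩
    rw [Points.ofPt_eq_map_ofScheme]
    change Points.map δ ((Points.schemeEquiv W) z') = w
    rw [hz', ← Points.map_comp, IsIso.inv_hom_id_assoc, hz]
  choose pt hpt using hpt
  let n := T.card
  let x : Fin n → W.left := fun i => pt (T.equivFin.symm i).1 (T.equivFin.symm i).2
  have hx : ∀ i, γ.left (x i) = v := fun i => by
    apply (Points.schemeEquiv V).injective
    change Points.ofScheme V (γ.left (x i)) = Points.ofScheme V v
    rw [← hT _ (T.equivFin.symm i).2, ← hpt _ (T.equivFin.symm i).2, Points.map_ofPt, hδγ,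
      ← Category.comp_id ((yon S).map γ), ofPt_map]
  obtain ⟨U₀, g₀, u₀, hnb, hV⟩ := H7Flat.exists_etaleNbhd_finite_parts γ.left v n x hx
    fun i => γ.left.quasiFiniteAt (x i)
  choose Vi vi hvi hfin hvu huniq hvx _ using hV
  obtain ⟨hinj, -⟩ := H7Flat.fibre_of_bijective_residueFieldMap γ.left g₀ u₀ hnb.residue_bijective
  let V' : Over S := Over.mk (g₀ ≫ V.hom)
  let g : V' ⟶ V := Over.homMk g₀ rfl
  let W₂ : Over S := Over.mk (pullback.fst γ.left g₀ ≫ W.hom)
  let c₁ : W₂ ⟶ W := Over.homMk (pullback.fst γ.left g₀) rfl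
  let c₂ : W₂ ⟶ V' := Over.homMk (pullback.snd γ.left g₀) (by
    change pullback.snd γ.left g₀ ≫ g₀ ≫ V.hom = pullback.fst γ.left g₀ ≫ W.hom
    rw [← pullback.condition_assoc, Over.w γ])
  have sqc : IsPullback ((yon S).map c₁) ((yon S).map c₂) ((yon S).map γ) ((yon S).map g) :=
    (NormSp.isPullback_of_left (show IsPullback c₁.left c₂.left γ.left g.left from
      IsPullback.of_hasPullback γ.left g₀)).map (yon S)
  rw [← hδγ] at sqc
  have sP := IsPullback.of_hasPullback π ((yon S).map g)
  let j₂ : (yon S).obj W₂ ⟶ pullback π ((yon S).map g) :=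
    pullback.lift ((yon S).map c₁ ≫ δ) ((yon S).map c₂) (by rw [Category.assoc]; exact sqc.w)
  have sq₃ : IsPullback ((yon S).map c₁) j₂ δ (pullback.fst π ((yon S).map g)) :=
    IsPullback.of_bot (by rw [pullback.lift_snd]; exact sqc) (by rw [pullback.lift_fst]) sP
  have hj₂ : RepWith @IsOpenImmersion j₂ := repWith_of_isPullback sq₃ hδ
  let 𝒱 : (pullback γ.left g₀).Opens := ⨆ i, Vi i
  let F : Over S := Over.mk (𝒱.ι ≫ W₂.hom)
  let kF : F ⟶ W₂ := Over.homMk 𝒱.ι rfl
  let bF : F ⟶ V' := kF ≫ c₂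
  have hbF : IsFinite bF.left := by
    change IsFinite (𝒱.ι ≫ pullback.snd γ.left g₀)
    exact isFinite_iSup _ Vi hfin
  let i : (yon S).obj F ⟶ pullback π ((yon S).map g) := (yon S).map kF ≫ j₂
  have hi : RepWith @IsOpenImmersion i :=
    repWith_comp ((repWith_yon_map_iff _ _).2 (inferInstanceAs (IsOpenImmersion 𝒱.ι))) hj₂
  have hib : i ≫ pullback.snd π ((yon S).map g) = (yon S).map bF := by
    rw [Category.assoc, pullback.lift_snd, ← Functor.map_comp]
  have hQ : IsAlgSpace (pullback π ((yon S).map g)) :=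
    isAlgSpace_pullback (IsAlgSpace.yon_obj V).diag hP (IsAlgSpace.yon_obj V') _ _
  have hprop : IsProperMor i := isProperMor_of_comp (IsAlgSpace.yon_obj F) hQ (IsAlgSpace.yon_obj V')
    (by rw [hib]; exact NormSp.isUnivClosedMor_of_finite bF hbF) (isSeparatedMor_of_isPullback sP hsep)
  have hcl := isClosed_range_of_isUnivClosedMor hQ hprop.2.2
  have hic : RepWith @IsClosedImmersion i := repWith_of_snd hi.1 fun T g => by
    haveI : IsOpenImmersion (hi.1.snd g).left := hi.property_snd g
    refine IsClosedImmersion.of_isPreimmersion _ ?_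
    rw [← preimage_ofPt_range (hi.1.isPullback g)]
    exact hcl.preimage (Points.continuous_ofPt g)
  haveI := hnb.etale
  refine ⟨V', g, u₀, inferInstanceAs (Etale g₀), hnb.base_eq, F, bF, i, hbF, hi, hic, hib, fun t ht => ?_,
    fun z hz hzv hzT => ?_⟩
  · obtain ⟨l, hl⟩ := TopologicalSpace.Opens.mem_iSup.1 t.2
    have htl : t.1 = vi l := huniq l t.1 hl (by rw [← ht]; rfl)
    have e : Points.ofPt (i ≫ pullback.fst π ((yon S).map g)) t = Points.ofPt δ (x l) := by
      rw [Category.assoc, pullback.lift_fst, ← Category.assoc, ← Functor.map_comp, ofPt_map]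
      congr 1
      change pullback.fst γ.left g₀ t.1 = _
      rw [htl, hvx]
    rw [e, hpt]
    exact (T.equivFin.symm l).2
  · -- a point over the finite set lies in one of the pieces
    let l := T.equivFin ⟨_, hzT⟩
    have hl : Points.ofPt δ (x l) = Points.map (pullback.fst π ((yon S).map g)) z := by
      rw [hpt]; simp [l]
    have hzj : z ∈ Set.range (Points.map j₂) := by
      rw [range_snd_of_isPullback sq₃]
      exact ⟨Points.ofScheme W (x l), by rw [← Points.ofPt_eq_map_ofScheme, hl]⟩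
    obtain ⟨r', hr'⟩ := hzj
    obtain ⟨r, rfl⟩ := (Points.schemeEquiv W₂).surjective r'
    have hr : Points.ofPt j₂ r = z := by rw [Points.ofPt_eq_map_ofScheme]; exact hr'
    have h1 : pullback.fst γ.left g₀ r = x l := by
      apply (Points.schemeEquiv W).injective
      apply injective_map_of_mono δ
      change Points.map δ (Points.ofScheme W _) = Points.map δ (Points.ofScheme W _)
      rw [← Points.ofPt_eq_map_ofScheme, ← Points.ofPt_eq_map_ofScheme, hl, ← hr, Points.map_ofPt,
        pullback.lift_fst, ofPt_map]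
      rfl
    have h2 : pullback.snd γ.left g₀ r = u₀ := by
      apply (Points.schemeEquiv V').injective
      change Points.ofScheme V' _ = Points.ofScheme V' u₀
      rw [← hzv, ← hr, Points.map_ofPt, pullback.lift_snd, ← Category.comp_id ((yon S).map c₂), ofPt_map]
      rfl
    have hrV : r ∈ 𝒱 := by
      rw [show r = vi l from hinj h2 (hvu l) (h1.trans (hvx l).symm)]
      exact TopologicalSpace.Opens.mem_iSup.2 ⟨l, hvi l⟩
    refine hz ⟨Points.ofScheme F ⟨r, hrV⟩, ?_⟩
    rw [← Points.ofPt_eq_map_ofScheme, ofPt_map, ← hr]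
    rfl

theorem exists_split {X Y : Sp S} (hX : IsAlgSpace X) (hY : IsAlgSpace Y) {f : X ⟶ Y} (y : Points Y)
    (xs : Finset (Points X)) (hxs : ∀ x ∈ xs, Points.map f x = y)
    (hlft : LocP @LocallyOfFiniteType f) (hsep : IsSeparatedMor f)
    (hq : ∀ x ∈ xs, HasAtMor QFPred f x) (h4 : IsQuasiCompactMor f ∨ IsDecent Y) :
    ∃ (V' : Over S) (a : (yon S).obj V' ⟶ Y) (u : V'.left), RepWith @Etale a ∧ Points.ofPt a u = y ∧
      ∃ (F : Over S) (bF : F ⟶ V') (i : (yon S).obj F ⟶ pullback f a), IsFinite bF.left ∧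
        RepWith @IsOpenImmersion i ∧ RepWith @IsClosedImmersion i ∧ i ≫ pullback.snd f a = (yon S).map bF ∧
        (∀ t, bF.left t = u → Points.ofPt (i ≫ pullback.fst f a) t ∈ xs) ∧
        ∀ z, z ∉ Set.range (Points.map i) → Points.map (pullback.snd f a) z = Points.ofScheme V' u →
          Points.map (pullback.fst f a) z ∉ xs := by
  classical
  obtain ⟨V, b, v, hb, hv, hfin⟩ : ∃ (V : Over S) (b : (yon S).obj V ⟶ Y) (v : V.left),
      RepWith @Etale b ∧ Points.ofPt b v = y ∧ {w : Points (pullback f b) |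
        Points.map (pullback.snd f b) w = Points.ofScheme V v ∧ Points.map (pullback.fst f b) w ∈ xs}.Finite := by
    rcases h4 with hqc | hd
    · obtain ⟨V, b, hb, hbs⟩ := hY.atlas
      obtain ⟨v, hv⟩ := surjective_ofPt_of_repWith le_rfl hbs y
      refine ⟨V, b, v, hb, hv, ?_⟩
      have sq := IsPullback.of_hasPullback f b
      have hP := isAlgSpace_pullback hY.diag hX (IsAlgSpace.yon_obj V) f b
      refine (finite_lqf_fibre hP (IsAlgSpace.yon_obj V)
        ⟨Groth.Agent.H12AlgSp.locP_of_isPullback etLocal_lft sq hX hY (IsAlgSpace.yon_obj V) hlft, isQuasiCompactMor_of_isPullback sq hqc⟩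
        (Points.ofScheme V v)).subset fun w hw => ⟨hw.1, ?_⟩
      exact (nbhd_lqf_baseChange sq hX hY (IsAlgSpace.yon_obj V) hlft w).2 (hq _ hw.2)
    · obtain ⟨V, b, v, -, ⟨hb, hv, hm⟩, -⟩ := exists_affine_elemEtaleNbhd hY hd y
      refine ⟨V, b, v, hb, hv, ?_⟩
      let Kp : Over S := Over.mk (V.left.fromSpecResidueField v ≫ V.hom)
      let iv : Kp ⟶ V := Over.homMk (V.left.fromSpecResidueField v) rfl
      haveI : Mono ((yon S).map iv ≫ b) := by
        rw [toHom_ofPt_chartPt] at hm
        exact hm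
      have sqQ := IsPullback.of_hasPullback (pullback.snd f b) ((yon S).map iv)
      have big := sqQ.paste_horiz (IsPullback.of_hasPullback f b)
      haveI : Mono (pullback.fst (pullback.snd f b) ((yon S).map iv) ≫ pullback.fst f b) :=
        MorphismProperty.of_isPullback (P := MorphismProperty.monomorphisms (Sp S)) big.flip
          (inferInstanceAs (Mono ((yon S).map iv ≫ b)))
      refine Set.Finite.of_finite_image (xs.finite_toSet.subset (Set.image_subset_iff.2 fun w hw => hw.2))
        fun w hw w' hw' e => ?_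
      have key : ∀ w, Points.map (pullback.snd f b) w = Points.ofScheme V v →
          ∃ q, Points.map (pullback.fst (pullback.snd f b) ((yon S).map iv)) q = w := fun w h => by
        obtain ⟨q, hq, -⟩ := exists_point_of_isPullback sqQ w
          (Points.ofScheme Kp (IsLocalRing.closedPoint (V.left.residueField v))) (by
            rw [h, ← Points.ofPt_eq_map_ofScheme, ← Category.comp_id ((yon S).map iv), ofPt_map]
            change Points.ofScheme V v = Points.ofScheme V (V.left.fromSpecResidueField v _)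
            rw [Scheme.fromSpecResidueField_apply])
        exact ⟨q, hq⟩
      obtain ⟨q, rfl⟩ := key w hw.1
      obtain ⟨q', rfl⟩ := key w' hw'.1
      rw [← Points.map_comp, ← Points.map_comp] at e
      rw [injective_map_of_mono _ e]
  have sb := IsPullback.of_hasPullback f b
  have hP := isAlgSpace_pullback hY.diag hX (IsAlgSpace.yon_obj V) f b
  obtain ⟨V', g, v', hg, hgv, F, bF, i, hbF, hi, hic, hib, h1, h2⟩ := exists_part hP
    (isSeparatedMor_of_isPullback sb hsep) v hfin.toFinset (fun w hw => (hfin.mem_toFinset.1 hw).1)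
    (fun w hw => (nbhd_lqf_baseChange sb hX hY (IsAlgSpace.yon_obj V) hlft w).2
      (hq _ (hfin.mem_toFinset.1 hw).2))
  have sA := IsPullback.of_hasPullback (pullback.snd f b) ((yon S).map g)
  have big := sA.paste_horiz sb
  let e := big.isoPullback
  refine ⟨V', (yon S).map g ≫ b, v', repWith_comp ((repWith_yon_map_iff _ _).2 hg) hb, by rw [ofPt_map, hgv, hv],
    F, bF, i ≫ e.hom, hbF, repWith_comp hi (repWith_of_isIso _), repWith_comp hic (repWith_of_isIso _), ?_,
    fun t ht => ?_, fun z hz hzu hzx => ?_⟩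
  · rw [Category.assoc, big.isoPullback_hom_snd, hib]
  · have h := (hfin.mem_toFinset.1 (h1 t ht)).2
    rw [Points.map_ofPt, Category.assoc] at h
    rwa [Category.assoc, big.isoPullback_hom_fst]
  · obtain ⟨z, rfl⟩ : ∃ z', Points.map e.hom z' = z :=
      ⟨Points.map e.inv z, by rw [← Points.map_comp, e.inv_hom_id, Points.map_id]⟩
    rw [← Points.map_comp, big.isoPullback_hom_snd] at hzu
    rw [← Points.map_comp, big.isoPullback_hom_fst] at hzx
    refine h2 z (fun ⟨p, hp⟩ => hz ⟨p, by rw [Points.map_comp, hp]⟩) hzu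
      (hfin.mem_toFinset.2 ⟨?_, by rw [← Points.map_comp]; exact hzx⟩)
    rw [← Points.map_comp, sA.w, Points.map_comp, hzu, ← Points.ofPt_eq_map_ofScheme,
      ← Category.comp_id ((yon S).map g), ofPt_map, hgv]

end Groth.Agent.H13AlgSp.QfSplit
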