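import Groth.Agent.H15Site.RlimTriang
import Groth.Agent.H15Site.DKill
import Groth.Agent.H15Site.DVanish
import Groth.Prelude.Def_CohCx
import Mathlib.CategoryTheory.Sites.EpiMono
import Mathlib.CategoryTheory.Sites.LocallyBijective

/-!
Derived limits over a site whose morphisms may live in a smaller universe than its objects
(after `Groth.Agent.H15Site.SiteGen` and `Groth.Agent.H15Site.RlimTrunc`).
-/

set_option autoImplicit false
set_option linter.style.haveILetI false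
set_option linter.unusedSectionVars false
set_option backward.isDefEq.respectTransparency false

universe w v u t v' u'

open CategoryTheory CategoryTheory.Limits CategoryTheory.Pretriangulated CategoryTheory.Triangulated
open DerivedCategory DerivedCategory.TStructure Opposite
open Groth.Agent.H15Site

namespace Groth.Agent.H13AlgSp.SiteGenU

variable {C : Type u'} [Category.{v'} C] (J : GrothendieckTopology C)
  (A : Type u) [Category.{v} A] [Abelian A]

/-- Objects `G U` of an abelian category indexed by a site, which are locally projective and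
generate. -/
structure Gen where
  /-- the objects -/
  G : C ⥤ A
  loc : ∀ {X : A} {V : C} (p : X ⟶ G.obj V) [Epi p],
    ∃ S ∈ J V, ∀ ⦃Y : C⦄ (g : Y ⟶ V), S g → ∃ l : G.obj Y ⟶ X, l ≫ p = G.map g
  sep : ∀ {V : C} {S : Sieve V}, S ∈ J V → ∀ {X : A} (φ : G.obj V ⟶ X),
    (∀ ⦃Y : C⦄ (g : Y ⟶ V), S g → G.map g ≫ φ = 0) → φ = 0
  gen : ∀ {X Y : A} (φ : X ⟶ Y), (∀ (U : C) (h : G.obj U ⟶ X), h ≫ φ = 0) → φ = 0

variable {J A} [HasDerivedCategory.{w} A]

/-- `(N, Y)` ranges over a family which is cofinal below `U`: for every sequence of covering sieves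
`T N` of `U`, the `g : Y ⟶ U` with `T N g` and `P N Y` cover `U`. -/
def CofAt (J : GrothendieckTopology C) (U : C) (P : ℕ → C → Prop) : Prop :=
  ∀ T : ℕ → Sieve U, (∀ N, T N ∈ J U) →
    ∃ S ∈ J U, ∀ ⦃Y : C⦄ (g : Y ⟶ U), S g →
      ∃ (Z : C) (p : Y ⟶ Z) (g' : Z ⟶ U) (N : ℕ), p ≫ g' = g ∧ T N g' ∧ P N Z

theorem CofAt.mono {U : C} {P Q : ℕ → C → Prop} (h : CofAt J U P) (f : ℕ → ℕ)
    (hPQ : ∀ N Y, P N Y → Q (f N) Y) : CofAt J U Q := fun T hT => by
  obtain ⟨S, hS, hS'⟩ := h (fun N => T (f N)) fun N => hT (f N)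
  refine ⟨S, hS, fun Y g hg => ?_⟩
  obtain ⟨Z, p, g', N, hp, hT', hP⟩ := hS' g hg
  exact ⟨Z, p, g', f N, hp, hT', hPQ N Z hP⟩

/-- `X ≅ H⁰` of `X` in degree `0`. -/
noncomputable def ιX (X : A) : X ≅ (homologyFunctor A 0).obj ((singleFunctor A 0).obj X) :=
  ((singleFunctorCompHomologyFunctorIso A 0).app X).symm

theorem ιX_naturality {X X' : A} (g : X' ⟶ X) :
    g ≫ (ιX X).hom = (ιX X').hom ≫ (homologyFunctor A 0).map ((singleFunctor A 0).map g) :=
  (singleFunctorCompHomologyFunctorIso A 0).inv.naturality g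

/-- `H⁰(L⟦m⟧) ≅ H^m L`. -/
noncomputable def σ (L : DerivedCategory A) (m : ℤ) :
    (homologyFunctor A 0).obj (L⟦m⟧) ≅ (homologyFunctor A m).obj L :=
  ((homologyFunctor A 0).shiftIso m 0 m (add_zero m)).app L

theorem σ_naturality {L L' : DerivedCategory A} (f : L ⟶ L') (m : ℤ) :
    (homologyFunctor A 0).map (f⟦m⟧') ≫ (σ L' m).hom = (σ L m).hom ≫ (homologyFunctor A m).map f :=
  ((homologyFunctor A 0).shiftIso m 0 m (add_zero m)).hom.naturality f

/-- The image in `H^m` of a class. -/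
noncomputable def cls {X : A} {L : DerivedCategory A} {m : ℤ}
    (y : (singleFunctor A 0).obj X ⟶ L⟦m⟧) : X ⟶ (homologyFunctor A m).obj L :=
  (ιX X).hom ≫ (homologyFunctor A 0).map y ≫ (σ L m).hom

theorem cls_comp {X : A} {L L' : DerivedCategory A} {m : ℤ}
    (y : (singleFunctor A 0).obj X ⟶ L⟦m⟧) (f : L ⟶ L') :
    cls (y ≫ f⟦m⟧') = cls y ≫ (homologyFunctor A m).map f := by
  unfold cls
  rw [Functor.map_comp, Category.assoc, σ_naturality, Category.assoc, Category.assoc]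

theorem cls_precomp {X X' : A} {L : DerivedCategory A} {m : ℤ} (g : X' ⟶ X)
    (y : (singleFunctor A 0).obj X ⟶ L⟦m⟧) :
    cls ((singleFunctor A 0).map g ≫ y) = g ≫ cls y := by
  unfold cls
  rw [Functor.map_comp, Category.assoc, ← Category.assoc g, ιX_naturality, Category.assoc]

theorem cls_zero (X : A) (L : DerivedCategory A) (m : ℤ) :
    cls (0 : (singleFunctor A 0).obj X ⟶ L⟦m⟧) = 0 := by
  unfold cls
  rw [Functor.map_zero, zero_comp, comp_zero]

theorem cls_eq_zero {X : A} {L : DerivedCategory A} {m : ℤ}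
    (y : (singleFunctor A 0).obj X ⟶ L⟦m⟧) (h : cls y = 0) : (homologyFunctor A 0).map y = 0 := by
  unfold cls at h
  rw [← cancel_mono (σ L m).hom, ← cancel_epi (ιX X).hom, h, zero_comp, comp_zero]

variable (𝔾 : Gen J A)

/-- Sections of cohomology objects are locally given by classes. -/
theorem exists_local_lift {V : C} {L : DerivedCategory A} {m : ℤ}
    (s : 𝔾.G.obj V ⟶ (homologyFunctor A m).obj L) :
    ∃ S ∈ J V, ∀ ⦃Y : C⦄ (g : Y ⟶ V), S g →
      ∃ y : (singleFunctor A 0).obj (𝔾.G.obj Y) ⟶ L⟦m⟧, cls y = 𝔾.G.map g ≫ s := by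
  obtain ⟨X', p, y, hp, hy⟩ := DKill.exists_epi_lift (W := L⟦m⟧)
    ((ιX (𝔾.G.obj V)).inv ≫ s ≫ (σ L m).inv)
  obtain ⟨S, hS, hl⟩ := 𝔾.loc p
  refine ⟨S, hS, fun Y g hg => ?_⟩
  obtain ⟨l, hl⟩ := hl g hg
  refine ⟨(singleFunctor A 0).map l ≫ y, ?_⟩
  rw [cls_precomp, ← hl, Category.assoc]
  refine congrArg (l ≫ ·) ?_
  unfold cls
  rw [hy, ← Category.assoc, ← Category.assoc, ← ιX_naturality]
  simp

/-- Classes vanishing in cohomology are locally zero. -/
theorem exists_local_zero {V : C} {L : DerivedCategory A} {m : ℤ}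
    (y : (singleFunctor A 0).obj (𝔾.G.obj V) ⟶ L⟦m⟧) (h : cls y = 0) :
    ∃ S ∈ J V, ∀ ⦃Y : C⦄ (g : Y ⟶ V), S g →
      (singleFunctor A 0).map (𝔾.G.map g) ≫ y = 0 := by
  obtain ⟨X', p, hp, hy⟩ := DKill.exists_epi_comp_eq_zero y (cls_eq_zero y h)
  obtain ⟨S, hS, hl⟩ := 𝔾.loc p
  refine ⟨S, hS, fun Y g hg => ?_⟩
  obtain ⟨l, hl⟩ := hl g hg
  rw [← hl, Functor.map_comp, Category.assoc, hy, comp_zero]

variable {K : ℕ → DerivedCategory A} {t : ∀ n, K (n + 1) ⟶ K n}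
  {L : DerivedCategory A} (a : ∀ n, L ⟶ K n)

/-- Classes at `Y` of the limit are detected at stage `N`. -/
def DetInj (m : ℤ) (N : ℕ) (Y : C) : Prop :=
  ∀ y : (singleFunctor A 0).obj (𝔾.G.obj Y) ⟶ L⟦m⟧, y ≫ (a N)⟦m⟧' = 0 → y = 0

/-- Classes at `Y` of stage `N` come from the limit. -/
def DetSurj (m : ℤ) (N : ℕ) (Y : C) : Prop :=
  ∀ x : (singleFunctor A 0).obj (𝔾.G.obj Y) ⟶ (K N)⟦m⟧, ∃ y, y ≫ (a N)⟦m⟧' = x

/-- A section of `H^m` of the limit killed at the stages which detect is zero. -/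
theorem eq_zero_of_local {U : C} {m : ℤ} (P : ℕ → C → Prop) (hcof : CofAt J U P)
    (hP : ∀ N Y, P N Y → DetInj 𝔾 a m N Y) (s : 𝔾.G.obj U ⟶ (homologyFunctor A m).obj L)
    (hs : ∀ N Y, P N Y → s ≫ (homologyFunctor A m).map (a N) = 0) : s = 0 := by
  classical
  obtain ⟨S, hS, hlift⟩ := exists_local_lift 𝔾 s
  choose y hy using hlift
  have key : ∀ N, s ≫ (homologyFunctor A m).map (a N) = 0 → ∀ ⦃Y : C⦄ (g : Y ⟶ U) (hg : S g),
      ∃ R ∈ J Y, ∀ ⦃Z : C⦄ (p : Z ⟶ Y), R p →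
        (singleFunctor A 0).map (𝔾.G.map p) ≫ y g hg ≫ (a N)⟦m⟧' = 0 := fun N hN Y g hg =>
    exists_local_zero 𝔾 _ (by rw [cls_comp, hy g hg, Category.assoc, hN, comp_zero])
  choose R hR hR' using key
  let T : ℕ → Sieve U := fun N =>
    if h : s ≫ (homologyFunctor A m).map (a N) = 0 then Sieve.bind S.arrows (R N h) else ⊤
  have hT : ∀ N, T N ∈ J U := fun N => by
    dsimp only [T]
    split_ifs with h
    · exact J.bind_covering hS (hR N h)
    · exact J.top_mem U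
  obtain ⟨S', hS', hS''⟩ := hcof T hT
  refine 𝔾.sep hS' s fun Y g hg => ?_
  obtain ⟨Z, p, g', N, rfl, hTg, hPN⟩ := hS'' g hg
  have hN := hs N Z hPN
  dsimp only [T] at hTg
  rw [dif_pos hN] at hTg
  obtain ⟨W, q, f, hf, hq, rfl⟩ := hTg
  have h0 : (singleFunctor A 0).map (𝔾.G.map q) ≫ y f hf = 0 :=
    hP N Z hPN _ (by rw [Category.assoc]; exact hR' N hN f hf q hq)
  rw [Functor.map_comp, Functor.map_comp, Category.assoc, Category.assoc, ← hy f hf, ← cls_precomp,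
    h0, cls_zero, comp_zero]

variable (hcomm : ∀ n, a (n + 1) ≫ t n = a n)

include hcomm in
theorem eq_zero_of_stable_mono {m : ℤ} (n₀ : ℕ)
    (hst : ∀ n, n₀ ≤ n → Mono ((homologyFunctor A m).map (t n)))
    {Q : A} (s : Q ⟶ (homologyFunctor A m).obj L)
    (hs : s ≫ (homologyFunctor A m).map (a n₀) = 0) (N : ℕ) :
    s ≫ (homologyFunctor A m).map (a N) = 0 := by
  rcases le_or_gt n₀ N with h | h
  · induction N, h using Nat.le_induction with
    | base => exact hs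
    | succ n hn ih =>
      haveI := hst n hn
      rw [← cancel_mono ((homologyFunctor A m).map (t n)), Category.assoc, ← Functor.map_comp,
        hcomm, ih, zero_comp]
  · obtain ⟨k, rfl⟩ : ∃ k, n₀ = N + k := ⟨n₀ - N, by omega⟩
    clear h hst
    induction k with
    | zero => exact hs
    | succ k ih =>
      refine ih ?_
      rw [← hcomm (N + k), Functor.map_comp, ← Category.assoc]
      exact (congrArg (· ≫ _) hs).trans zero_comp

include hcomm in
/-- `H^m` of the limit injects into a stable stage. -/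
theorem mono_homology {m : ℤ} (n₀ : ℕ)
    (hst : ∀ n, n₀ ≤ n → Mono ((homologyFunctor A m).map (t n)))
    (hcof : ∀ U, CofAt J U (DetInj 𝔾 a m)) : Mono ((homologyFunctor A m).map (a n₀)) :=
  Preadditive.mono_of_cancel_zero _ fun g hg => 𝔾.gen g fun U h =>
    eq_zero_of_local 𝔾 a _ (hcof U) (fun _ _ h => h) (h ≫ g) fun N _ _ =>
      eq_zero_of_stable_mono a hcomm n₀ hst _ (by rw [Category.assoc, hg, comp_zero]) N

include hcomm in
/-- `H^m` of the limit surjects onto a stable stage. -/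
theorem epi_homology {m : ℤ} (n₀ : ℕ)
    (hst : ∀ n, n₀ ≤ n → IsIso ((homologyFunctor A m).map (t n)))
    (hcof : ∀ U, CofAt J U (fun N Y => n₀ ≤ N ∧ DetSurj 𝔾 a m N Y)) :
    Epi ((homologyFunctor A m).map (a n₀)) := by
  refine Preadditive.epi_of_cancel_zero _ fun {Q} φ hφ => 𝔾.gen φ fun U s => ?_
  have hlift : ∀ N, n₀ ≤ N → ∃ sN : 𝔾.G.obj U ⟶ (homologyFunctor A m).obj (K N),
      ∀ {X : A} (g : X ⟶ 𝔾.G.obj U) (w : X ⟶ (homologyFunctor A m).obj L),
        w ≫ (homologyFunctor A m).map (a N) = g ≫ sN →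
          w ≫ (homologyFunctor A m).map (a n₀) = g ≫ s := by
    intro N hN
    induction N, hN using Nat.le_induction with
    | base => exact ⟨s, fun g w h => h⟩
    | succ n hn ih =>
      obtain ⟨sN, hsN⟩ := ih
      haveI := hst n hn
      refine ⟨sN ≫ inv ((homologyFunctor A m).map (t n)), fun g w h => hsN g w ?_⟩
      rw [← hcomm n, Functor.map_comp, ← Category.assoc, h]
      simp
  choose sN hsN using hlift
  have key : ∀ N (hN : n₀ ≤ N), ∃ R ∈ J U, ∀ ⦃Y : C⦄ (g : Y ⟶ U), R g →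
      ∃ x : (singleFunctor A 0).obj (𝔾.G.obj Y) ⟶ (K N)⟦m⟧, cls x = 𝔾.G.map g ≫ sN N hN :=
    fun N hN => exists_local_lift 𝔾 (sN N hN)
  choose R hR hR' using key
  let T : ℕ → Sieve U := fun N => if h : n₀ ≤ N then R N h else ⊤
  have hT : ∀ N, T N ∈ J U := fun N => by
    dsimp only [T]
    split_ifs with h
    · exact hR N h
    · exact J.top_mem U
  obtain ⟨S', hS', hS''⟩ := hcof U T hT
  refine 𝔾.sep hS' _ fun Y g hg => ?_
  obtain ⟨Z, p, g', N, rfl, hTg, hN, hdet⟩ := hS'' g hg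
  dsimp only [T] at hTg
  rw [dif_pos hN] at hTg
  obtain ⟨x, hx⟩ := hR' N hN g' hTg
  obtain ⟨y, rfl⟩ := hdet x
  rw [cls_comp] at hx
  have := hsN N hN _ _ hx
  rw [Functor.map_comp, Category.assoc, ← Category.assoc (𝔾.G.map g'), ← this, Category.assoc,
    hφ, comp_zero, comp_zero]

/-- The transition maps are well behaved at `Y` from stage `N` on. -/
def GoodTr (K : ℕ → DerivedCategory A) (t : ∀ n, K (n + 1) ⟶ K n) (m : ℤ) (N : ℕ) (Y : C) : Prop :=
  ∀ n, N ≤ n →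
    (∀ x : (singleFunctor A 0).obj (𝔾.G.obj Y) ⟶ (K n)⟦m - 1⟧, ∃ x', x' ≫ (t n)⟦m - 1⟧' = x) ∧
    (∀ x : (singleFunctor A 0).obj (𝔾.G.obj Y) ⟶ (K n)⟦m⟧, ∃ x', x' ≫ (t n)⟦m⟧' = x) ∧
    (∀ x : (singleFunctor A 0).obj (𝔾.G.obj Y) ⟶ (K (n + 1))⟦m⟧, x ≫ (t n)⟦m⟧' = 0 → x = 0)

omit a in
/-- An element of a stage of an eventually surjective tower extends to a compatible family. -/
theorem exists_compatible {M : ℕ → Type*} [∀ n, AddCommGroup (M n)] (s : ∀ n, M (n + 1) →+ M n)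
    (N : ℕ) (hs : ∀ n, N ≤ n → Function.Surjective (s n)) (x : M N) :
    ∃ f : ∀ n, M n, f N = x ∧ ∀ n, s n (f (n + 1)) = f n := by
  induction N generalizing M with
  | zero =>
    choose r hr using fun n => hs n (Nat.zero_le _)
    let f : ∀ n, M n := fun n => Nat.rec x (fun k fk => r k fk) n
    exact ⟨f, rfl, fun n => hr n (f n)⟩
  | succ N ih =>
    obtain ⟨f, hf, hf'⟩ := ih (M := fun n => M (n + 1)) (fun n => s (n + 1))
      (fun n hn => hs (n + 1) (by omega)) x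
    let g : ∀ n, M n := fun n => match n with
      | 0 => s 0 (f 0)
      | k + 1 => f k
    refine ⟨g, hf, fun n => ?_⟩
    match n with
    | 0 => rfl
    | k + 1 => exact hf' k

theorem comm_of_isRlimVia [HasProduct K] (hL : CohCx.IsRlimVia K t L a) (n : ℕ) :
    a (n + 1) ≫ t n = a n := by
  obtain ⟨c, hT⟩ := hL
  have h : Pi.lift a ≫ RlimTriang.diff K t = 0 := comp_distTriang_mor_zero₁₂ _ hT
  have := congrArg (· ≫ Pi.π K n) h
  simp only [zero_comp] at this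
  rw [RlimTriang.comp_lift_diff, sub_eq_zero] at this
  exact this.symm

theorem detSurj_of_goodTr [HasProduct K] (hL : CohCx.IsRlimVia K t L a) {m : ℤ} {N : ℕ} {Y : C}
    (h : GoodTr 𝔾 K t m N Y) : DetSurj 𝔾 a m N Y := fun x => by
  obtain ⟨f, hf, hf'⟩ := exists_compatible
    (M := fun n => (singleFunctor A 0).obj (𝔾.G.obj Y) ⟶ (K n)⟦m⟧)
    (fun n => Preadditive.rightComp _ ((t n)⟦m⟧')) N (fun n hn z => (h n hn).2.1 z) x
  obtain ⟨y, hy⟩ := RlimTriang.exists_lift hL m f hf'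
  exact ⟨y, (hy N).trans hf⟩

theorem detInj_of_goodTr [HasProduct K] (hL : CohCx.IsRlimVia K t L a) {m : ℤ} {N : ℕ} {Y : C}
    (h : GoodTr 𝔾 K t m N Y) : DetInj 𝔾 a m N Y := fun y hy => by
  refine RlimTriang.eq_zero hL m (fun z => ?_) y fun n => ?_
  · exact RlimTriang.exists_sub_eq
      (M := fun n => (singleFunctor A 0).obj (𝔾.G.obj Y) ⟶ (K n)⟦m - 1⟧)
      (fun n => Preadditive.rightComp _ ((t n)⟦m - 1⟧')) N (fun n hn x => (h n hn).1 x) z
  · rcases le_or_gt N n with hn | hn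
    · induction n, hn using Nat.le_induction with
      | base => exact hy
      | succ k hk ih =>
        refine (h k hk).2.2 _ ?_
        rw [Category.assoc, ← Functor.map_comp, comm_of_isRlimVia a hL, ih]
    · obtain ⟨k, rfl⟩ : ∃ k, N = n + k := ⟨N - n, by omega⟩
      clear hn h
      induction k with
      | zero => exact hy
      | succ k ih =>
        refine ih ?_
        rw [← comm_of_isRlimVia a hL (n + k), Functor.map_comp, ← Category.assoc]
        exact (congrArg (· ≫ _) hy).trans zero_comp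

/-- The main theorem: `H^m` of a derived limit is the stable value. -/
theorem isIso_homology [HasProduct K] (hL : CohCx.IsRlimVia K t L a) {m : ℤ} (n₀ : ℕ)
    (hst : ∀ n, n₀ ≤ n → IsIso ((homologyFunctor A m).map (t n)))
    (hcof : ∀ U, CofAt J U (fun N Y => n₀ ≤ N ∧ GoodTr 𝔾 K t m N Y)) :
    IsIso ((homologyFunctor A m).map (a n₀)) := by
  have hcomm := comm_of_isRlimVia a hL
  haveI := mono_homology 𝔾 a hcomm n₀ (fun n hn => by have := hst n hn; infer_instance)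
    fun U => (hcof U).mono id fun N Y h => detInj_of_goodTr 𝔾 a hL h.2
  haveI := epi_homology 𝔾 a hcomm n₀ hst
    fun U => (hcof U).mono id fun N Y h => ⟨h.1, detSurj_of_goodTr 𝔾 a hL h.2⟩
  exact isIso_of_mono_of_epi _


section Trunc

variable {C : Type u'} [Category.{v'} C] {J : GrothendieckTopology C}
  {A : Type (v + 1)} [Category.{v} A] [Abelian A] [HasDerivedCategory.{w} A] (𝔾 : Gen J A)

/-- `Extᵏ(G Y, H) = 0`. -/
def Van (k : ℕ) (Y : C) (H : A) : Prop :=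
  Subsingleton ((singleFunctor A 0).obj (𝔾.G.obj Y) ⟶ ((singleFunctor A 0).obj H)⟦(k : ℤ)⟧)

theorem van_of_iso {k : ℕ} {Y : C} {H H' : A} (e : H ≅ H') (h : Van 𝔾 k Y H') : Van 𝔾 k Y H := by
  haveI : Subsingleton ((singleFunctor A 0).obj (𝔾.G.obj Y) ⟶
      ((singleFunctor A 0).obj H')⟦(k : ℤ)⟧) := h
  exact ⟨fun x y => (cancel_mono (((singleFunctor A 0).map e.hom)⟦(k : ℤ)⟧')).1
    (Subsingleton.elim (α := (singleFunctor A 0).obj (𝔾.G.obj Y) ⟶
      ((singleFunctor A 0).obj H')⟦(k : ℤ)⟧) _ _)⟩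

theorem van_of_isZero {k : ℕ} {Y : C} {H : A} (h : IsZero H) : Van 𝔾 k Y H :=
  ⟨fun x y => ((shiftFunctor (DerivedCategory A) (k : ℤ)).map_isZero
    ((singleFunctor A 0).map_isZero h)).eq_of_tgt x y⟩

variable {K K' Z : DerivedCategory A} (f : K' ⟶ K) (g : K ⟶ Z) (d : Z ⟶ K'⟦(1 : ℤ)⟧)
  (hT : Triangle.mk f g d ∈ distTriang _)

include hT in
theorem isGE_cone (a : ℤ) [K.IsGE (a - 1)] [K'.IsGE a] : Z.IsGE (a - 1) := by
  haveI : DerivedCategory.IsGE (K'⟦(1 : ℤ)⟧) (a - 1) := t.isGE_shift K' a 1 (a - 1) (by omega)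
  rw [isGE_iff]
  intro i hi
  have h1 := isZero_of_isGE K (a - 1) i hi
  have h2 := isZero_of_isGE K' a (i + 1) (by omega)
  exact (HomologySequence.exact₃ _ hT i (i + 1) rfl).isZero_of_both_zeros
    (h1.eq_of_src _ _) (h2.eq_of_tgt _ _)

include hT in
/-- The vanishing which makes a transition map good, read on the cohomology of its cone. -/
theorem good_of_cone (a : ℤ) [Z.IsGE a] (Y : C) (m : ℤ)
    (h : ∀ i : ℤ, (i = m - 1 ∨ i = m) → ∀ (k : ℕ) (q : ℤ), q + k = i →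
      Van 𝔾 k Y ((homologyFunctor A q).obj Z)) :
    (∀ x : (singleFunctor A 0).obj (𝔾.G.obj Y) ⟶ K⟦m - 1⟧, ∃ x', x' ≫ f⟦m - 1⟧' = x) ∧
    (∀ x : (singleFunctor A 0).obj (𝔾.G.obj Y) ⟶ K⟦m⟧, ∃ x', x' ≫ f⟦m⟧' = x) ∧
    (∀ x : (singleFunctor A 0).obj (𝔾.G.obj Y) ⟶ K'⟦m⟧, x ≫ f⟦m⟧' = 0 → x = 0) := by
  have h0 : ∀ i : ℤ, (i = m - 1 ∨ i = m) →
      ∀ z : (singleFunctor A 0).obj (𝔾.G.obj Y) ⟶ Z⟦i⟧, z = 0 := fun i hi z =>
    DVanish.eq_zero_of_homology (𝔾.G.obj Y) Z a i (h i hi) z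
  exact ⟨RlimTriang.surjective_shift_of_cone f g d hT _ (m - 1) (h0 _ (Or.inl rfl)),
    RlimTriang.surjective_shift_of_cone f g d hT _ m (h0 _ (Or.inr rfl)),
    RlimTriang.injective_shift_of_cone f g d hT _ m (h0 _ (Or.inl rfl))⟩

include hT in
/-- Cohomology of the cone vanishes where the map is an isomorphism. -/
theorem isZero_cone (q : ℤ) [IsIso ((homologyFunctor A q).map f)]
    [IsIso ((homologyFunctor A (q + 1)).map f)] : IsZero ((homologyFunctor A q).obj Z) := by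
  haveI e1 : Epi ((homologyFunctor A q).map (Triangle.mk f g d).mor₁) :=
    inferInstanceAs (Epi ((homologyFunctor A q).map f))
  haveI e2 : Mono ((homologyFunctor A (q + 1)).map (Triangle.mk f g d).mor₁) :=
    inferInstanceAs (Mono ((homologyFunctor A (q + 1)).map f))
  exact (HomologySequence.exact₃ _ hT q (q + 1) rfl).isZero_of_both_zeros
    ((HomologySequence.epi_homologyMap_mor₁_iff _ hT q).1 e1)
    ((HomologySequence.mono_homologyMap_mor₁_iff _ hT q (q + 1)).1 e2)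

include hT in
/-- Where the target has no cohomology, the cone has that of the source, shifted. -/
theorem nonempty_cone_iso (q : ℤ) (h1 : IsZero ((homologyFunctor A q).obj K))
    (h2 : IsZero ((homologyFunctor A (q + 1)).obj K)) :
    Nonempty ((homologyFunctor A q).obj Z ≅ (homologyFunctor A (q + 1)).obj K') := by
  let δ := HomologySequence.δ (Triangle.mk f g d) q (q + 1) rfl
  haveI : Mono δ := (HomologySequence.exact₃ _ hT q (q + 1) rfl).mono_g (h1.eq_of_src _ _)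
  haveI : Epi δ := (HomologySequence.exact₁ _ hT q (q + 1) rfl).epi_f (h2.eq_of_tgt _ _)
  exact ⟨@asIso _ _ _ _ δ (isIso_of_mono_of_epi δ)⟩

/-- The vanishing required of the truncation tower. -/
def VanTail (E : DerivedCategory A) (m : ℤ) (N : ℕ) (Y : C) : Prop :=
  ∀ i : ℤ, (i = m ∨ i = m + 1) → ∀ k : ℕ, i + N < k →
    Van 𝔾 k Y ((homologyFunctor A (i - k)).obj E)

theorem isIso_truncTowerMap (E : DerivedCategory A) (n : ℕ) (j : ℤ) (h : -(n : ℤ) ≤ j) :
    IsIso ((homologyFunctor A j).map (CohCx.truncTowerMap E n)) := by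
  haveI : IsIso ((homologyFunctor A j).map (CohCx.toTruncTower E (n + 1))) :=
    H16Derived.DTrunc.isIso_homology_truncGEπ E (-((n + 1 : ℕ) : ℤ)) j (by omega)
  have h1 : IsIso ((homologyFunctor A j).map (CohCx.toTruncTower E n)) :=
    H16Derived.DTrunc.isIso_homology_truncGEπ E (-(n : ℤ)) j h
  have e : CohCx.toTruncTower E (n + 1) ≫ CohCx.truncTowerMap E n = CohCx.toTruncTower E n :=
    t.π_natTransTruncGEOfLE_app _ _ _ E
  haveI : IsIso ((homologyFunctor A j).map (CohCx.toTruncTower E (n + 1)) ≫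
      (homologyFunctor A j).map (CohCx.truncTowerMap E n)) := by
    rw [← Functor.map_comp, e]
    exact h1
  exact IsIso.of_isIso_comp_left ((homologyFunctor A j).map (CohCx.toTruncTower E (n + 1))) _

theorem goodTr_truncTower (E : DerivedCategory A) (m : ℤ) (N : ℕ) (Y : C)
    (h : VanTail 𝔾 E m N Y) :
    GoodTr 𝔾 (CohCx.truncTower E) (CohCx.truncTowerMap E) m N Y := fun n hn => by
  obtain ⟨Z, g, d, hT⟩ := Pretriangulated.distinguished_cocone_triangle (CohCx.truncTowerMap E n)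
  haveI : DerivedCategory.IsGE (CohCx.truncTower E (n + 1)) (-((n + 1 : ℕ) : ℤ)) :=
    inferInstanceAs (t.IsGE ((t.truncGE (-((n + 1 : ℕ) : ℤ))).obj E) (-((n + 1 : ℕ) : ℤ)))
  haveI hK : DerivedCategory.IsGE (CohCx.truncTower E n) (-(n : ℤ)) :=
    inferInstanceAs (t.IsGE ((t.truncGE (-(n : ℤ))).obj E) (-(n : ℤ)))
  haveI : DerivedCategory.IsGE (CohCx.truncTower E n) (-((n + 1 : ℕ) : ℤ) - 1) :=
    t.isGE_of_ge _ _ (-(n : ℤ)) (by omega)
  haveI := isGE_cone _ g d hT (-((n + 1 : ℕ) : ℤ))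
  refine good_of_cone 𝔾 _ g d hT (-((n + 1 : ℕ) : ℤ) - 1) Y m fun i hi k q hq => ?_
  rcases lt_trichotomy q (-(n : ℤ) - 2) with h' | h' | h'
  · exact van_of_isZero 𝔾 (isZero_of_isGE Z (-((n + 1 : ℕ) : ℤ) - 1) q (by omega))
  · obtain ⟨e⟩ := nonempty_cone_iso _ g d hT q
      (isZero_of_isGE (CohCx.truncTower E n) (-(n : ℤ)) q (by omega))
      (isZero_of_isGE (CohCx.truncTower E n) (-(n : ℤ)) (q + 1) (by omega))
    haveI : IsIso ((homologyFunctor A (q + 1)).map (CohCx.toTruncTower E (n + 1))) :=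
      H16Derived.DTrunc.isIso_homology_truncGEπ E (-((n + 1 : ℕ) : ℤ)) (q + 1) (by omega)
    refine van_of_iso 𝔾 (e ≪≫
      (asIso ((homologyFunctor A (q + 1)).map (CohCx.toTruncTower E (n + 1)))).symm) ?_
    rw [show q + 1 = i + 1 - k by omega]
    exact h (i + 1) (by omega) k (by omega)
  · rcases eq_or_ne q (-(n : ℤ) - 1) with rfl | h''
    · haveI := isIso_truncTowerMap E n (-(n : ℤ) - 1 + 1) (by omega)
      have hz : IsZero ((homologyFunctor A (-(n : ℤ) - 1)).obj (CohCx.truncTower E n)) :=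
        isZero_of_isGE _ (-(n : ℤ)) _ (by omega)
      refine van_of_isZero 𝔾 ((HomologySequence.exact₃ _ hT (-(n : ℤ) - 1) (-(n : ℤ) - 1 + 1)
        rfl).isZero_of_both_zeros (hz.eq_of_src _ _) ?_)
      exact (HomologySequence.mono_homologyMap_mor₁_iff _ hT (-(n : ℤ) - 1) (-(n : ℤ) - 1 + 1)).1
        (inferInstanceAs (Mono ((homologyFunctor A _).map (CohCx.truncTowerMap E n))))
    · haveI := isIso_truncTowerMap E n q (by omega)
      haveI := isIso_truncTowerMap E n (q + 1) (by omega)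
      exact van_of_isZero 𝔾 (isZero_cone _ g d hT q)

/-- A complex is the derived limit of its truncations when, locally, cohomology of the deep
cohomology objects vanishes in high degrees. -/
theorem isRlimVia_truncTower (E : DerivedCategory A) [HasProduct (CohCx.truncTower E)]
    (hE : ∀ (m : ℤ) (U : C), CofAt J U (VanTail 𝔾 E m)) :
    CohCx.IsRlimVia (CohCx.truncTower E) (CohCx.truncTowerMap E) E (CohCx.toTruncTower E) := by
  obtain ⟨L, a, hL⟩ := RlimTriang.exists_isRlimVia (CohCx.truncTower E) (CohCx.truncTowerMap E)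
  obtain ⟨f, hf⟩ := RlimTriang.exists_lift₀ hL (fun n => CohCx.toTruncTower E n)
    (fun n => t.π_natTransTruncGEOfLE_app _ _ _ E)
  suffices IsIso f from RlimTriang.isRlimVia_of_iso hL (asIso f) _ hf
  rw [DerivedCategory.isIso_iff]
  intro m
  let n₀ := (-m).toNat
  haveI : IsIso ((homologyFunctor A m).map (a n₀)) := by
    refine isIso_homology 𝔾 a hL n₀ (fun n hn => isIso_truncTowerMap E n m (by omega)) fun U => ?_
    refine (hE m U).mono (fun N => max N n₀) fun N Y h => ⟨le_max_right _ _, ?_⟩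
    exact goodTr_truncTower 𝔾 E m _ Y fun i hi k hk => h i hi k (by omega)
  haveI : IsIso ((homologyFunctor A m).map f ≫ (homologyFunctor A m).map (a n₀)) := by
    rw [← Functor.map_comp, hf]
    exact H16Derived.DTrunc.isIso_homology_truncGEπ E (-(n₀ : ℤ)) m (by omega)
  exact IsIso.of_isIso_comp_right _ ((homologyFunctor A m).map (a n₀))

/-- Derived limit of an eventually constant tower in `D⁺` with cohomology in a weak Serre class. -/
theorem isIso_homology_of_eventually_constant (P : ObjectProperty A)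
    {K : ℕ → DerivedCategory A} {τ : ∀ n, K (n + 1) ⟶ K n} [HasProduct K]
    {L : DerivedCategory A} (a : ∀ n, L ⟶ K n) (hL : CohCx.IsRlimVia K τ L a)
    (hGE : ∀ n, ∃ b : ℤ, (K n).IsGE b)
    (hP : ∀ n (Z : DerivedCategory A) (g : K n ⟶ Z) (d : Z ⟶ (K (n + 1))⟦(1 : ℤ)⟧),
      Triangle.mk (τ n) g d ∈ distTriang _ → ∀ q, P ((homologyFunctor A q).obj Z))
    (hconst : ∀ j : ℤ, ∃ n₀ : ℕ, ∀ n, n₀ ≤ n → IsIso ((homologyFunctor A j).map (τ n)))
    (hcof : ∀ U, CofAt J U (fun d Y => ∀ F, P F → ∀ k : ℕ, d < k → Van 𝔾 k Y F)) (j : ℤ) :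
    ∃ n₀ : ℕ, ∀ n, n₀ ≤ n → IsIso ((homologyFunctor A j).map (a n)) := by
  classical
  choose c hc using hconst
  refine ⟨c j, fun n₁ hn₁ => ?_⟩
  refine isIso_homology 𝔾 a hL n₁ (fun n hn => hc j n (hn₁.trans hn)) fun U => ?_
  let bound : ℕ → ℕ := fun d => n₁ + ∑ r ∈ Finset.range (d + 3), c (j - d - 1 + r)
  refine (hcof U).mono bound fun d Y h => ⟨Nat.le_add_right _ _, fun n hn => ?_⟩
  have hiso : ∀ q : ℤ, j - d - 1 ≤ q → q ≤ j + 1 → IsIso ((homologyFunctor A q).map (τ n)) :=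
    fun q h1 h2 => by
      obtain ⟨r, hr⟩ : ∃ r : ℕ, q = j - d - 1 + r := ⟨(q - (j - d - 1)).toNat, by omega⟩
      refine hc q n (le_trans ?_ hn)
      refine le_trans ?_ (Nat.le_add_left _ n₁)
      rw [hr]
      exact Finset.single_le_sum (f := fun r : ℕ => c (j - d - 1 + r)) (fun _ _ => Nat.zero_le _)
        (Finset.mem_range.2 (by omega))
  obtain ⟨Z, g, δ, hT⟩ := Pretriangulated.distinguished_cocone_triangle (τ n)
  obtain ⟨b, hb⟩ := hGE n
  obtain ⟨b', hb'⟩ := hGE (n + 1)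
  haveI : (K (n + 1)).IsGE (min b b') := t.isGE_of_ge _ _ b' (min_le_right _ _)
  haveI : (K n).IsGE (min b b' - 1) := t.isGE_of_ge _ _ b (by omega)
  haveI := isGE_cone _ g δ hT (min b b')
  refine good_of_cone 𝔾 _ g δ hT (min b b' - 1) Y j fun i hi k q hq => ?_
  by_cases hk : d < k
  · exact h _ (hP n Z g δ hT q) k hk
  · haveI := hiso q (by omega) (by omega)
    haveI := hiso (q + 1) (by omega) (by omega)
    exact van_of_isZero 𝔾 (isZero_cone _ g δ hT q)


end Trunc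

section Inst

variable {C : Type u'} [Category.{v'} C] {J : GrothendieckTopology C}

/-- Generators from a representation of sections. -/
noncomputable def ofSections [HasSheafify J AddCommGrpCat.{t}] [J.WEqualsLocallyBijective AddCommGrpCat.{t}]
    [Balanced (Sheaf J AddCommGrpCat.{t})] {A : Type u} [Category.{v} A] [Abelian A] (G : C ⥤ A)
    (Ψ : A ⥤ Sheaf J AddCommGrpCat.{t}) [Ψ.Faithful] [Ψ.PreservesEpimorphisms]
    [Ψ.PreservesZeroMorphisms]
    (E : ∀ (U : C) (X : A), (G.obj U ⟶ X) ≃ (Ψ.obj X).obj.obj (op U))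
    (hU : ∀ {U V : C} (g : V ⟶ U) {X : A} (φ : G.obj U ⟶ X),
      E V X (G.map g ≫ φ) = ((Ψ.obj X).obj.map g.op).hom (E U X φ))
    (hX : ∀ {U : C} {X Y : A} (φ : G.obj U ⟶ X) (f : X ⟶ Y),
      E U Y (φ ≫ f) = ((Ψ.map f).hom.app (op U)).hom (E U X φ)) : Gen J A where
  G := G
  loc := fun {X V} p _ => by
    haveI : Sheaf.IsLocallySurjective (Ψ.map p) :=
      (Sheaf.isLocallySurjective_iff_epi' _ _).2 inferInstance
    refine ⟨Presheaf.imageSieve (Ψ.map p).hom (E V (G.obj V) (𝟙 _)),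
      Presheaf.imageSieve_mem J _ _, fun Y g hg => ?_⟩
    obtain ⟨t, ht⟩ := hg
    refine ⟨(E Y X).symm t, (E Y (G.obj V)).injective ?_⟩
    rw [hX, Equiv.apply_symm_apply]
    refine ht.trans ?_
    rw [← Category.comp_id (G.map g), hU]
  sep := fun {V S} hS {X} φ h => by
    refine (E V X).injective ((Ψ.obj X).isSeparated V S hS _ _ fun Y g hg => ?_)
    rw [← hU g φ, h g hg, ← hU g 0, comp_zero]
  gen := fun {X Y} φ h => by
    refine Ψ.map_injective ?_
    rw [Functor.map_zero]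
    refine Sheaf.hom_ext (NatTrans.ext (funext fun U => AddCommGrpCat.hom_ext
      (AddMonoidHom.ext fun s => ?_)))
    obtain ⟨U⟩ := U
    obtain ⟨ψ, rfl⟩ := (E U X).surjective s
    rw [← hX, h U ψ]
    have h0 := hX (0 : G.obj U ⟶ X) (0 : X ⟶ Y)
    rw [zero_comp, Functor.map_zero] at h0
    exact h0


/-- Cofinality from a covering class of objects, each with one bound and a cofinal system of
coverings. -/
theorem cofAt_of_cofinal (B : Set C) (P : ℕ → C → Prop)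
    (hB : ∀ U : C, ∃ (ι : Type (max u' v')) (Y : ι → C) (f : ∀ i, Y i ⟶ U), Sieve.ofArrows Y f ∈ J U ∧ ∀ i, Y i ∈ B)
    (h : ∀ V ∈ B, ∃ N : ℕ, ∀ T ∈ J V, ∃ (ι : Type (max u' v')) (Y : ι → C) (f : ∀ i, Y i ⟶ V),
      (∀ i, T.arrows (f i)) ∧ Sieve.ofArrows Y f ∈ J V ∧ ∀ i, P N (Y i)) (U : C) : CofAt J U P := by
  intro T hT
  obtain ⟨ι, V, f, hf, hV⟩ := hB U
  choose N hN using fun i => h (V i) (hV i)
  choose κ Yc g hg₁ hg₂ hg₃ using fun i => hN i ((T (N i)).pullback (f i)) (J.pullback_stable _ (hT _))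
  have hfac : ∀ ⦃W : C⦄ (q : W ⟶ U), (Sieve.ofArrows V f).arrows q → ∃ i, ∃ a : W ⟶ V i, a ≫ f i = q :=
    fun W q hq => by
      obtain ⟨_, a, _, ⟨i⟩, e⟩ := hq
      exact ⟨i, a, e⟩
  choose idx fac hfac using hfac
  refine ⟨Sieve.bind (Sieve.ofArrows V f).arrows fun W q hq =>
      (Sieve.ofArrows (Yc (idx q hq)) (g (idx q hq))).pullback (fac q hq),
    J.bind_covering hf fun W q hq => J.pullback_stable _ (hg₂ _), ?_⟩
  rintro Z _ ⟨W, p, q, hq, hp, rfl⟩
  obtain ⟨_, a, _, ⟨l⟩, e⟩ := hp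
  refine ⟨Yc (idx q hq) l, a, g (idx q hq) l ≫ f (idx q hq), N (idx q hq), ?_, hg₁ _ l, hg₃ _ l⟩
  rw [reassoc_of% e, hfac q hq]

theorem exists_ofArrows_of_mem {U : C} {T : Sieve U} (hT : T ∈ J U) :
    ∃ (ι : Type (max u' v')) (Y : ι → C) (g : ∀ i, Y i ⟶ U),
      (∀ i, T.arrows (g i)) ∧ Sieve.ofArrows Y g ∈ J U :=
  ⟨Σ Z : C, { f : Z ⟶ U // T f }, fun p => p.1, fun p => p.2.1, fun p => p.2.2,
    J.superset_covering (fun Z f hf => ⟨Z, 𝟙 Z, f,
      Presieve.ofArrows.mk (f := fun p : Σ Z : C, { f : Z ⟶ U // T f } => p.2.1) ⟨Z, f, hf⟩,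
      Category.id_comp _⟩) hT⟩

/-- Every object of a covering class gives arbitrarily fine covers by members. -/
theorem exists_cofinal_mem (B : Set C)
    (hB : ∀ U : C, ∃ (ι : Type (max u' v')) (Y : ι → C) (f : ∀ i, Y i ⟶ U), Sieve.ofArrows Y f ∈ J U ∧ ∀ i, Y i ∈ B)
    {U : C} {T : Sieve U} (hT : T ∈ J U) :
    ∃ (ι : Type (max u' v')) (Y : ι → C) (g : ∀ i, Y i ⟶ U),
      (∀ i, T.arrows (g i)) ∧ Sieve.ofArrows Y g ∈ J U ∧ ∀ i, Y i ∈ B := by
  obtain ⟨ι, Y, g, hg, hg'⟩ := exists_ofArrows_of_mem hT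
  choose κ Z h hh hB' using fun i => hB (Y i)
  refine ⟨Σ i, κ i, fun p => Z p.1 p.2, fun p => h p.1 p.2 ≫ g p.1,
    fun p => T.downward_closed (hg p.1) _, ?_, fun p => hB' p.1 p.2⟩
  refine J.transitive hg' _ fun W q hq => ?_
  obtain ⟨_, a, _, ⟨i⟩, rfl⟩ := hq
  rw [Sieve.pullback_comp]
  refine J.pullback_stable _ (J.superset_covering ?_ (hh i))
  rintro Q q ⟨_, b, _, ⟨l⟩, rfl⟩
  exact ⟨Z i l, b, h i l ≫ g i,
    Presieve.ofArrows.mk (f := fun p : Σ i, κ i => h p.1 p.2 ≫ g p.1) ⟨i, l⟩,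
    (Category.assoc _ _ _).symm⟩


variable {A : Type (v + 1)} [Category.{v} A] [Abelian A] [HasDerivedCategory.{w} A] (𝔾 : Gen J A)

theorem vanTail_of_bound (E : DerivedCategory A) (p : ℤ → ℤ) (Y : C)
    (h : ∀ (m : ℤ) (k : ℕ), p m < k →
      Van 𝔾 k Y ((DerivedCategory.homologyFunctor A (m - k)).obj E)) (m : ℤ) :
    VanTail 𝔾 E m (max (p m - m) (p (m + 1) - (m + 1))).toNat Y := fun i hi k hk =>
  h i k (by rcases hi with rfl | rfl <;> omega)

/-- Version with a class of objects and cofinal systems of coverings. -/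
theorem isRlimVia_truncTower_of_bound (E : DerivedCategory A) [HasProduct (CohCx.truncTower E)]
    (B : Set C)
    (hB : ∀ U : C, ∃ (ι : Type (max u' v')) (Y : ι → C) (f : ∀ i, Y i ⟶ U), Sieve.ofArrows Y f ∈ J U ∧ ∀ i, Y i ∈ B)
    (h : ∀ V ∈ B, ∃ p : ℤ → ℤ, ∀ T ∈ J V, ∃ (ι : Type (max u' v')) (Y : ι → C) (f : ∀ i, Y i ⟶ V),
      (∀ i, T.arrows (f i)) ∧ Sieve.ofArrows Y f ∈ J V ∧ ∀ (i : ι) (m : ℤ) (k : ℕ), p m < k →
        Van 𝔾 k (Y i) ((DerivedCategory.homologyFunctor A (m - k)).obj E)) :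
    CohCx.IsRlimVia (CohCx.truncTower E) (CohCx.truncTowerMap E) E (CohCx.toTruncTower E) := by
  refine isRlimVia_truncTower 𝔾 E fun m U => cofAt_of_cofinal B _ hB (fun V hV => ?_) U
  obtain ⟨p, hp⟩ := h V hV
  refine ⟨(max (p m - m) (p (m + 1) - (m + 1))).toNat, fun T hT => ?_⟩
  obtain ⟨ι, Y, f, h1, h2, h3⟩ := hp T hT
  exact ⟨ι, Y, f, h1, h2, fun l => vanTail_of_bound 𝔾 E p (Y l) (h3 l) m⟩


/-- Maps from an object of the heart into an object of `D^{≥0}`. -/
theorem bijective_cls_of_isGE (M : A) (L : DerivedCategory A) [L.IsGE 0] :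
    Function.Bijective (fun φ : (singleFunctor A 0).obj M ⟶ L =>
      (homologyFunctor A 0).map φ) := by
  let T := (t.triangleLTGE 1).obj L
  have hT := t.triangleLTGE_distinguished 1 L
  haveI h3 : DerivedCategory.IsGE T.obj₃ 1 := inferInstanceAs (t.IsGE ((t.truncGE 1).obj L) 1)
  haveI : DerivedCategory.IsLE T.obj₁ 0 := inferInstanceAs (t.IsLE ((t.truncLT 1).obj L) (1 - 1))
  haveI : DerivedCategory.IsGE T.obj₁ 0 := by
    haveI : t.IsGE L 0 := ‹L.IsGE 0›
    exact inferInstanceAs (t.IsGE ((t.truncLT 1).obj L) 0)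
  obtain ⟨Z, ⟨e⟩⟩ := T.obj₁.exists_iso_singleFunctor_obj_of_isGE_of_isLE 0
  let a : (singleFunctor A 0).obj Z ⟶ L := e.inv ≫ T.mor₁
  haveI hiso : IsIso ((homologyFunctor A 0).map T.mor₁) := by
    haveI h1 : Epi ((homologyFunctor A 0).map T.mor₁) :=
      (HomologySequence.epi_homologyMap_mor₁_iff T hT 0).2
        ((isZero_of_isGE T.obj₃ 1 0 (by omega)).eq_of_tgt _ _)
    haveI h2 : Mono ((homologyFunctor A 0).map T.mor₁) :=
      (HomologySequence.mono_homologyMap_mor₁_iff T hT (-1) 0 (by omega)).2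
        ((isZero_of_isGE T.obj₃ 1 (-1) (by omega)).eq_of_src _ _)
    exact isIso_of_mono_of_epi _
  haveI : IsIso ((homologyFunctor A 0).map a) := by
    change IsIso ((homologyFunctor A 0).map (e.inv ≫ T.mor₁))
    rw [Functor.map_comp]
    infer_instance
  have hlift : ∀ φ : (singleFunctor A 0).obj M ⟶ L, ∃ ψ, (singleFunctor A 0).map ψ ≫ a = φ := by
    intro φ
    obtain ⟨g, hg⟩ := Triangle.coyoneda_exact₂ T hT φ
      (t.zero_of_isLE_of_isGE _ 0 1 (by omega) inferInstance h3)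
    obtain ⟨ψ, hψ⟩ := (singleFunctor A 0).map_surjective (g ≫ e.hom)
    exact ⟨ψ, by simp [a, hψ, hg]⟩
  let ι := (singleFunctorCompHomologyFunctorIso A 0)
  refine ⟨fun φ φ' h => ?_, fun s => ?_⟩
  · obtain ⟨ψ, rfl⟩ := hlift φ
    obtain ⟨ψ', rfl⟩ := hlift φ'
    have h1 : (singleFunctor A 0 ⋙ homologyFunctor A 0).map ψ =
        (singleFunctor A 0 ⋙ homologyFunctor A 0).map ψ' :=
      (cancel_mono ((homologyFunctor A 0).map a)).1
        ((Functor.map_comp _ _ _).symm.trans (h.trans (Functor.map_comp _ _ _)))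
    have h2 := congrArg (fun x => ι.inv.app M ≫ x ≫ ι.hom.app Z) h1
    rw [NatIso.naturality_1, NatIso.naturality_1] at h2
    exact congrArg (fun x => (singleFunctor A 0).map x ≫ a) h2
  · refine ⟨(singleFunctor A 0).map (ι.inv.app M ≫ s ≫ inv ((homologyFunctor A 0).map a) ≫
      ι.hom.app Z) ≫ a, ?_⟩
    dsimp only
    rw [Functor.map_comp]
    have h := ι.inv.naturality (ι.inv.app M ≫ s ≫ inv ((homologyFunctor A 0).map a) ≫ ι.hom.app Z)
    dsimp at h
    simp only [Category.assoc, Iso.hom_inv_id_app] at h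
    rw [← cancel_epi (ι.inv.app M), ← Category.assoc, ← h]
    simp


end Inst

end Groth.Agent.H13AlgSp.SiteGenU
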