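import Groth.Agent.H16Derived.RFVanish
import Groth.Agent.H16Derived.RlimRF
import Groth.Agent.H16Derived.ProjLift
import Groth.Agent.H13AlgSp.SiteGenU
import Mathlib.Algebra.Category.Grp.EpiMono

/-!
Right derived functors of finite cohomological dimension on a class of objects, applied to unbounded objects which are
derived limits of their truncations.
-/

set_option autoImplicit false
set_option backward.isDefEq.respectTransparency false
set_option linter.style.haveILetI false
set_option linter.unusedSectionVars false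

universe w w' v u u'

open CategoryTheory CategoryTheory.Limits CategoryTheory.Pretriangulated
open DerivedCategory DerivedCategory.TStructure
open Groth.Agent.H16Derived Groth.Agent.H15Site Groth.Agent.H15Site.FlatAdjD

namespace Groth.Agent.H13AlgSp.RFTrunc

section Proj

variable {A : Type (v + 1)} [Category.{v} A] [Abelian A] [HasDerivedCategory.{w} A]

theorem eq_zero_of_isLE {P : A} [Projective P] (L : DerivedCategory A) [L.IsLE (-1)]
    (φ : (singleFunctor A 0).obj P ⟶ L) : φ = 0 := by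
  obtain ⟨C, hC, ⟨e⟩⟩ := L.exists_iso_Q_obj_of_isLE (-1)
  let S : CochainComplex A ℤ := (HomologicalComplex.single A (ComplexShape.up ℤ) 0).obj P
  haveI : CochainComplex.IsStrictlyLE S 0 := (CochainComplex.isStrictlyLE_iff _ _).2 fun j hj =>
    HomologicalComplex.isZero_single_obj_X (ComplexShape.up ℤ) 0 P j (by omega)
  haveI : ∀ j, Projective (S.X j) := fun j => by
    by_cases hj : j = 0
    · subst hj
      exact Projective.of_iso (HomologicalComplex.singleObjXSelf (ComplexShape.up ℤ) 0 P).symm inferInstance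
    · exact (HomologicalComplex.isZero_single_obj_X (ComplexShape.up ℤ) 0 P j hj).projective
  haveI := CochainComplex.isKProjective_of_projective S 0
  let j := (singleFunctorIsoCompQ A 0).app P
  obtain ⟨g, hg⟩ := ProjLift.Q_map_surjective S C (j.inv ≫ φ ≫ e.hom)
  have hg0 : g = 0 := by
    refine HomologicalComplex.from_single_hom_ext ?_
    exact (C.isZero_of_isStrictlyLE (-1) 0 (by omega)).eq_of_tgt _ _
  rw [hg0, Functor.map_zero] at hg
  rw [← cancel_mono e.hom, ← cancel_epi j.inv, zero_comp, comp_zero]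
  exact hg.symm

theorem bijective_cls {P : A} [Projective P] (L : DerivedCategory A) (m : ℤ) :
    Function.Bijective fun y : (singleFunctor A 0).obj P ⟶ L⟦m⟧ => SiteGenU.cls y := by
  have h0 : ∀ M : DerivedCategory A, Function.Bijective fun y : (singleFunctor A 0).obj P ⟶ M =>
      (homologyFunctor A 0).map y := fun M => by
    have hT := t.triangleLTGE_distinguished 0 M
    haveI : t.IsLE ((t.truncLT 0).obj M) (-1) :=
      haveI : t.IsLE ((t.truncLT 0).obj M) (0 - 1) := inferInstance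
      t.isLE_of_le _ (0 - 1) (-1) (by omega)
    haveI : DerivedCategory.IsLE ((t.truncLT 0).obj M) (-1) := this
    haveI : DerivedCategory.IsGE ((t.truncGE 0).obj M) 0 := inferInstanceAs (t.IsGE _ 0)
    haveI : DerivedCategory.IsLE (((t.truncLT 0).obj M)⟦(1 : ℤ)⟧) (-1) :=
      haveI : t.IsLE (((t.truncLT 0).obj M)⟦(1 : ℤ)⟧) (-2) := t.isLE_shift _ (-1) 1 (-2) (by omega)
      t.isLE_of_le _ (-2) (-1) (by omega)
    have hv₁ : ∀ φ : (singleFunctor A 0).obj P ⟶ (t.truncLT 0).obj M, φ = 0 := eq_zero_of_isLE _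
    have hv₂ : ∀ φ : (singleFunctor A 0).obj P ⟶ ((t.truncLT 0).obj M)⟦(1 : ℤ)⟧, φ = 0 := eq_zero_of_isLE _
    have hpost : Function.Bijective fun y : (singleFunctor A 0).obj P ⟶ M => y ≫ (t.truncGEπ 0).app M := by
      refine ⟨fun y y' hy => ?_, fun x => ?_⟩
      · obtain ⟨z, hz⟩ := Triangle.coyoneda_exact₂ _ hT (y - y')
          ((Preadditive.sub_comp _ _ _).trans (sub_eq_zero.2 hy))
        rw [show z = 0 from hv₁ z, zero_comp, sub_eq_zero] at hz
        exact hz
      · obtain ⟨z, hz⟩ := Triangle.coyoneda_exact₃ _ hT x (hv₂ _)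
        exact ⟨z, hz.symm⟩
    haveI : IsIso ((homologyFunctor A 0).map ((t.truncGEπ 0).app M)) :=
      DTrunc.isIso_homology_truncGEπ M 0 0 le_rfl
    refine (Function.Bijective.of_comp_iff' ((asIso ((homologyFunctor A 0).map ((t.truncGEπ 0).app M))).homToEquiv
      (Z := (homologyFunctor A 0).obj ((singleFunctor _ 0).obj P))).bijective _).1 ?_
    convert (SiteGenU.bijective_cls_of_isGE P ((t.truncGE 0).obj M)).comp hpost using 1
    funext y
    exact ((homologyFunctor A 0).map_comp y _).symm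
  have e : (fun y : (singleFunctor A 0).obj P ⟶ L⟦m⟧ => SiteGenU.cls y) =
      (Iso.homCongr (SiteGenU.ιX P).symm (SiteGenU.σ L m)) ∘ (fun y => (homologyFunctor A 0).map y) := by
    funext y
    simp only [SiteGenU.cls, Function.comp_apply, Iso.homCongr_apply, Iso.symm_inv]
  rw [e]
  exact (Iso.homCongr _ _).bijective.comp (h0 _)

/-- Cohomology of a derived limit. -/
theorem eq_zero_rlim {P : A} [Projective P] {K : ℕ → DerivedCategory A} {τ : ∀ n, K (n + 1) ⟶ K n}
    [HasProduct K] {L : DerivedCategory A} {a : ∀ n, L ⟶ K n} (hL : CohCx.IsRlimVia K τ L a) (m : ℤ) (N : ℕ)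
    (hs : ∀ n, N ≤ n → IsIso ((homologyFunctor A (m - 1)).map (τ n)))
    (hz : ∀ n, IsZero ((homologyFunctor A m).obj (K n))) (φ : P ⟶ (homologyFunctor A m).obj L) : φ = 0 := by
  obtain ⟨y, rfl⟩ := (bijective_cls L m).2 φ
  have hy : y = 0 := RlimTriang.eq_zero hL m (fun z => RlimTriang.exists_sub_eq
      (M := fun n => (singleFunctor A 0).obj P ⟶ (K n)⟦m - 1⟧)
      (fun n => Preadditive.rightComp _ ((τ n)⟦m - 1⟧')) N (fun n hn x => by
        haveI := hs n hn
        obtain ⟨x', hx'⟩ := (bijective_cls (K (n + 1)) (m - 1)).2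
          (SiteGenU.cls x ≫ inv ((homologyFunctor A (m - 1)).map (τ n)))
        refine ⟨x', (bijective_cls (K n) (m - 1)).1 ?_⟩
        simp only at hx'
        show SiteGenU.cls (x' ≫ (τ n)⟦m - 1⟧') = SiteGenU.cls x
        rw [SiteGenU.cls_comp, hx', Category.assoc, IsIso.inv_hom_id, Category.comp_id]) z) y
    fun n => (bijective_cls (K n) m).1 ((hz n).eq_of_tgt _ _)
  simp only [hy]
  exact SiteGenU.cls_zero _ _ _

end Proj

section Main

variable {A : Type u} [Category.{v} A] [Abelian A] [HasDerivedCategory.{w} A]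
  {B : Type (v + 1)} [Category.{v} B] [Abelian B] [HasDerivedCategory.{w'} B] [IsGrothendieckAbelian.{v} B]
  (F : B ⥤ A) [F.Additive]
  [(toD F).HasRightDerivedFunctor (HomotopyCategory.quasiIso B (ComplexShape.up ℤ))]

/-- The derived functor. -/
noncomputable abbrev R : DerivedCategory B ⥤ DerivedCategory A :=
  (toD F).totalRightDerived DerivedCategory.Qh (HomotopyCategory.quasiIso B (ComplexShape.up ℤ))

theorem isIso_unit (I : CochainComplex B ℤ) [I.IsKInjective] :
    IsIso (((toD F).totalRightDerivedUnit DerivedCategory.Qh (HomotopyCategory.quasiIso B (ComplexShape.up ℤ))).app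
      ((HomotopyCategory.quotient _ _).obj I)) := by
  let W₂ := HomotopyCategory.quasiIso B (ComplexShape.up ℤ)
  haveI : (toD F).HasPointwiseRightDerivedFunctor W₂ :=
    RDerived.hasPointwiseRightDerivedFunctor_of_resolutions DerivedCategory.Qh _ _ fun M => by
      obtain ⟨J, hJ, s, hs⟩ := exists_local M
      exact ⟨_, s, hs, fun K => CochainComplex.IsKInjective.Qh_map_bijective K J⟩
  exact RDerived.isIso_unit_app_of_bijective DerivedCategory.Qh W₂ _ _ _ _
    fun K => CochainComplex.IsKInjective.Qh_map_bijective K I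

/-- If the derived functor kills the first term in two degrees, it maps the middle one isomorphically to the last. -/
theorem isIso_RH_map {T : Triangle (DerivedCategory B)} (hT : T ∈ distTriang (DerivedCategory B)) (i : ℤ)
    (h₁ : IsZero (RFVanish.RH F i T.obj₁)) (h₁' : IsZero (RFVanish.RH F (i + 1) T.obj₁)) :
    IsIso ((homologyFunctor A i).map ((R F).map T.mor₂)) := by
  obtain ⟨I₁, hI₁, ⟨e₁⟩⟩ := RFVanish.exists_rep T.obj₁
  obtain ⟨I₂, hI₂, ⟨e₂⟩⟩ := RFVanish.exists_rep T.obj₂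
  obtain ⟨g, hg⟩ := InjDim.exists_chain_map I₂ I₁ (e₁.inv ≫ T.mor₁ ≫ e₂.hom)
  haveI := hI₁
  haveI := hI₂
  haveI := KInjRes.Countable.isKInjective_mappingCone g hI₁ hI₂
  let T₀ := CochainComplex.mappingCone.triangleh g
  have hT₀ : T₀ ∈ distTriang (HomotopyCategory B (ComplexShape.up ℤ)) :=
    HomotopyCategory.mappingCone_triangleh_distinguished g
  let c := quotientCompQhIso B
  let φ := isoTriangleOfIso₁₂ T (DerivedCategory.Qh.mapTriangle.obj T₀) hT (DerivedCategory.Qh.map_distinguished _ hT₀)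
    (e₁ ≪≫ (c.app I₁).symm) (e₂ ≪≫ (c.app I₂).symm) (by
      have hn := c.inv.naturality g
      show T.mor₁ ≫ e₂.hom ≫ c.inv.app I₂ = (e₁.hom ≫ c.inv.app I₁) ≫ (HomotopyCategory.quotient _ _ ⋙ DerivedCategory.Qh).map g
      rw [Category.assoc, ← hn, hg]
      simp)
  let β := (toD F).totalRightDerivedUnit DerivedCategory.Qh (HomotopyCategory.quasiIso B (ComplexShape.up ℤ))
  haveI : IsIso (β.app T₀.obj₁) := isIso_unit F I₁
  haveI : IsIso (β.app T₀.obj₂) := isIso_unit F I₂
  haveI : IsIso (β.app T₀.obj₃) := isIso_unit F (CochainComplex.mappingCone g)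
  have hM := (toD F).map_distinguished _ hT₀
  have z : ∀ j, IsZero (RFVanish.RH F j T.obj₁) → IsZero ((homologyFunctor A j).obj ((toD F).obj T₀.obj₁)) := fun j hj =>
    hj.of_iso ((homologyFunctor A j).mapIso (asIso (β.app T₀.obj₁) ≪≫ (R F).mapIso (Triangle.π₁.mapIso φ).symm))
  haveI : IsIso ((homologyFunctor A i).map ((toD F).map T₀.mor₂)) := by
    haveI : Mono ((homologyFunctor A i).map ((toD F).map T₀.mor₂)) :=
      (HomologySequence.exact₂ _ hM i).mono_g ((z i h₁).eq_of_src _ _)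
    haveI : Epi ((homologyFunctor A i).map ((toD F).map T₀.mor₂)) :=
      (HomologySequence.exact₃ _ hM i (i + 1) rfl).epi_f ((z (i + 1) h₁').eq_of_tgt _ _)
    exact isIso_of_mono_of_epi _
  have e : (R F).map T.mor₂ = (R F).map φ.hom.hom₂ ≫ inv (β.app T₀.obj₂) ≫ (toD F).map T₀.mor₂ ≫
      β.app T₀.obj₃ ≫ (R F).map φ.inv.hom₃ := by
    have hn : (toD F).map T₀.mor₂ ≫ β.app T₀.obj₃ = β.app T₀.obj₂ ≫ (R F).map (DerivedCategory.Qh.map T₀.mor₂) :=
      β.naturality T₀.mor₂
    refine Eq.trans ?_ ((congrArg (fun k => _ ≫ _ ≫ k) (((Category.assoc _ _ _).symm.trans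
      (congrArg (· ≫ (R F).map φ.inv.hom₃) hn)).trans (Category.assoc _ _ _))).trans
      (congrArg (_ ≫ ·) (IsIso.inv_hom_id_assoc (β.app T₀.obj₂) _))).symm
    refine Eq.trans (congrArg (R F).map (?_ : T.mor₂ = φ.hom.hom₂ ≫ DerivedCategory.Qh.map T₀.mor₂ ≫ φ.inv.hom₃))
      (((R F).map_comp _ _).trans (congrArg (_ ≫ ·) ((R F).map_comp _ _)))
    have := φ.hom.comm₂
    calc T.mor₂ = T.mor₂ ≫ φ.hom.hom₃ ≫ φ.inv.hom₃ := by
          rw [Iso.hom_inv_id_triangle_hom₃, Category.comp_id]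
      _ = φ.hom.hom₂ ≫ DerivedCategory.Qh.map T₀.mor₂ ≫ φ.inv.hom₃ := by
          rw [reassoc_of% this]; rfl
  rw [e]
  simp only [Functor.map_comp]
  infer_instance

/-- The derived functor is exact at cones of isomorphisms. -/
theorem isZero_RF_cone    {T : Triangle (DerivedCategory B)} (hT : T ∈ distTriang (DerivedCategory B))
    (h : IsIso ((R F).map T.mor₁)) : IsZero ((R F).obj T.obj₃) := by
  obtain ⟨I₁, hI₁, ⟨e₁⟩⟩ := RFVanish.exists_rep T.obj₁
  obtain ⟨I₂, hI₂, ⟨e₂⟩⟩ := RFVanish.exists_rep T.obj₂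
  obtain ⟨g, hg⟩ := InjDim.exists_chain_map I₂ I₁ (e₁.inv ≫ T.mor₁ ≫ e₂.hom)
  haveI := hI₁
  haveI := hI₂
  haveI := KInjRes.Countable.isKInjective_mappingCone g hI₁ hI₂
  let T₀ := CochainComplex.mappingCone.triangleh g
  have hT₀ : T₀ ∈ distTriang (HomotopyCategory B (ComplexShape.up ℤ)) :=
    HomotopyCategory.mappingCone_triangleh_distinguished g
  let c := quotientCompQhIso B
  let φ := isoTriangleOfIso₁₂ T (DerivedCategory.Qh.mapTriangle.obj T₀) hT (DerivedCategory.Qh.map_distinguished _ hT₀)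
    (e₁ ≪≫ (c.app I₁).symm) (e₂ ≪≫ (c.app I₂).symm) (by
      have hn := c.inv.naturality g
      show T.mor₁ ≫ e₂.hom ≫ c.inv.app I₂ = (e₁.hom ≫ c.inv.app I₁) ≫ (HomotopyCategory.quotient _ _ ⋙ DerivedCategory.Qh).map g
      rw [Category.assoc, ← hn, hg]
      simp)
  let β := (toD F).totalRightDerivedUnit DerivedCategory.Qh (HomotopyCategory.quasiIso B (ComplexShape.up ℤ))
  haveI : IsIso (β.app T₀.obj₁) := isIso_unit F I₁
  haveI : IsIso (β.app T₀.obj₂) := isIso_unit F I₂
  haveI : IsIso (β.app T₀.obj₃) := isIso_unit F (CochainComplex.mappingCone g)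
  have hM := (toD F).map_distinguished _ hT₀
  haveI : IsIso ((R F).map (DerivedCategory.Qh.map T₀.mor₁)) := by
    have := h
    have e : DerivedCategory.Qh.map T₀.mor₁ = φ.inv.hom₁ ≫ T.mor₁ ≫ φ.hom.hom₂ := by
      rw [φ.hom.comm₁, Iso.inv_hom_id_triangle_hom₁_assoc]; rfl
    rw [e, Functor.map_comp, Functor.map_comp]
    infer_instance
  haveI : IsIso ((toD F).map T₀.mor₁) := by
    have hn : (toD F).map T₀.mor₁ ≫ β.app T₀.obj₂ = β.app T₀.obj₁ ≫ (R F).map (DerivedCategory.Qh.map T₀.mor₁) :=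
      β.naturality T₀.mor₁
    haveI : IsIso ((toD F).map T₀.mor₁ ≫ β.app T₀.obj₂) := by rw [hn]; infer_instance
    exact IsIso.of_isIso_comp_right _ (β.app T₀.obj₂)
  exact ((((toD F).mapTriangle.obj T₀).isZero₃_iff_isIso₁ hM).2 ‹_›).of_iso
    (((R F).mapIso (Triangle.π₃.mapIso φ)) ≪≫ (asIso (β.app T₀.obj₃)).symm)


variable (P : B → Prop) (hiso : ∀ {M M' : B}, (M ≅ M') → P M → P M') (hzero : ∀ M : B, IsZero M → P M)
  (N : ℕ) [HasInjectiveResolutions B]
  (hN : ∀ M : B, P M → ∀ p : ℕ, N ≤ p → IsZero ((F.rightDerived p).obj M))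

include hiso hzero hN in
theorem isIso_RH_truncTowerMap {E : DerivedCategory B} (hE : QCohD.HomP P E) (n : ℕ) (i : ℤ)
    (hi : -(n : ℤ) - 1 + N ≤ i) :
    IsIso ((homologyFunctor A i).map ((R F).map (CohCx.truncTowerMap E n))) := by
  let tr := CohCx.truncTower E
  haveI : DerivedCategory.IsGE (tr (n + 1)) (-((n + 1 : ℕ) : ℤ)) := inferInstanceAs (t.IsGE _ _)
  haveI : DerivedCategory.IsGE ((t.truncLT (-(n : ℤ))).obj (tr (n + 1))) (-((n + 1 : ℕ) : ℤ)) :=
    DTrunc.isGE_truncLT _ _ _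
  haveI : DerivedCategory.IsLE ((t.truncLT (-(n : ℤ))).obj (tr (n + 1))) (-(n : ℤ) - 1) :=
    inferInstanceAs (t.IsLE _ (-(n : ℤ) - 1))
  have hz := RFVanish.isZero_of_bounded F P hiso hzero N hN 1 (-((n + 1 : ℕ) : ℤ)) (-(n : ℤ) - 1) (by omega)
    ((t.truncLT (-(n : ℤ))).obj (tr (n + 1))) inferInstance inferInstance
    (QCohD.homP_truncLT P hiso hzero (QCohD.homP_truncGE P hiso hzero hE _) _)
  have h2 := isIso_RH_map F (t.triangleLTGE_distinguished (-(n : ℤ)) (tr (n + 1))) i (hz i hi) (hz (i + 1) (by omega))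
  haveI : IsIso ((t.truncGE (-(n : ℤ))).map ((t.truncGEπ (-((n + 1 : ℕ) : ℤ))).app E)) :=
    t.isIso_truncGE_map_truncGEπ_app _ _ (by omega) E
  have e : (t.truncGEπ (-(n : ℤ))).app (tr (n + 1)) =
      CohCx.truncTowerMap E n ≫ (t.truncGE (-(n : ℤ))).map ((t.truncGEπ (-((n + 1 : ℕ) : ℤ))).app E) := by
    refine t.from_truncGE_obj_ext ?_
    refine Eq.trans ?_ ((Category.assoc _ _ _).symm.trans (congrArg (· ≫ (t.truncGE _).map _)
      (t.π_natTransTruncGEOfLE_app (-((n + 1 : ℕ) : ℤ)) (-(n : ℤ)) (by omega) E))).symm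
    exact ((t.truncGEπ (-(n : ℤ))).naturality ((t.truncGEπ (-((n + 1 : ℕ) : ℤ))).app E))
  rw [show CohCx.truncTowerMap E n = (t.truncGEπ (-(n : ℤ))).app (tr (n + 1)) ≫
    inv ((t.truncGE (-(n : ℤ))).map ((t.truncGEπ (-((n + 1 : ℕ) : ℤ))).app E)) by simp [e]]
  rw [Functor.map_comp, Functor.map_comp]
  haveI : IsIso ((homologyFunctor A i).map ((R F).map ((t.truncGEπ (-(n : ℤ))).app (tr (n + 1))))) :=
    h2
  infer_instance

end Main

section Ab

variable {B : Type (v + 2)} [Category.{v + 1} B] [Abelian B] [HasDerivedCategory.{w'} B] [IsGrothendieckAbelian.{v + 1} B]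
  [HasDerivedCategory.{w} AddCommGrpCat.{v + 1}]
  (F : B ⥤ AddCommGrpCat.{v + 1}) [F.Additive] [PreservesLimitsOfShape (Discrete ℕ) F]
  [(toD F).HasRightDerivedFunctor (HomotopyCategory.quasiIso B (ComplexShape.up ℤ))]
  (P : B → Prop) (hiso : ∀ {M M' : B}, (M ≅ M') → P M → P M') (hzero : ∀ M : B, IsZero M → P M)
  (hR : ∀ E : DerivedCategory B, QCohD.HomP P E → ∀ [HasProduct (CohCx.truncTower E)],
    CohCx.IsRlimVia (CohCx.truncTower E) (CohCx.truncTowerMap E) E (CohCx.toTruncTower E))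
  (N : ℕ) [HasInjectiveResolutions B]
  (hN : ∀ M : B, P M → ∀ p : ℕ, N ≤ p → IsZero ((F.rightDerived p).obj M))

include hiso hzero hR hN in
theorem isZero_RH_of_isLE {E : DerivedCategory B} (hE : QCohD.HomP P E) (b : ℤ) [E.IsLE b] (i : ℤ)
    (hi : b + N ≤ i) : IsZero ((homologyFunctor AddCommGrpCat.{v + 1} i).obj ((R F).obj E)) := by
  haveI : EnoughInjectives B := IsGrothendieckAbelian.enoughInjectives.{v + 1}
  have hge : ∀ n : ℕ, DerivedCategory.IsGE (CohCx.truncTower E n) (-(n : ℤ)) := fun n =>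
    inferInstanceAs (t.IsGE _ (-(n : ℤ)))
  haveI : HasProduct (CohCx.truncTower E) :=
    KInjRes.Countable.hasProduct_of_isGE _ fun n => ⟨-(n : ℤ), hge n⟩
  haveI : HasProduct fun n => (R F).obj (CohCx.truncTower E n) :=
    KInjRes.Countable.hasProduct_of_isGE _ fun n =>
      ⟨-(n : ℤ), haveI := hge n; RDerPlus.isGE_obj F (CohCx.truncTower E n) _⟩
  haveI : HasLimitsOfSize.{0, 0} AddCommGrpCat.{v + 1} := inferInstance
  haveI : HasProductsOfShape ℕ AddCommGrpCat.{v + 1} := inferInstance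
  haveI : (lim : (Discrete ℕ ⥤ AddCommGrpCat.{v + 1}) ⥤ AddCommGrpCat.{v + 1}).PreservesEpimorphisms :=
    haveI : HasExactLimitsOfShape (Discrete (ULift.{v + 1} ℕ)) AddCommGrpCat.{v + 1} := inferInstance
    haveI : HasExactLimitsOfShape (Discrete ℕ) AddCommGrpCat.{v + 1} :=
      HasExactLimitsOfShape.of_domain_equivalence (J := Discrete (ULift.{v + 1} ℕ)) _ (Discrete.equivalence Equiv.ulift)
    inferInstance
  obtain ⟨c, hc⟩ := hR E hE
  obtain ⟨a, d, hd⟩ := RlimRF.isRlim_map F (R F)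
    ((toD F).totalRightDerivedUnit DerivedCategory.Qh (HomotopyCategory.quasiIso B (ComplexShape.up ℤ)))
    _ _ E ⟨_, c, hc⟩
  have hL : CohCx.IsRlimVia (fun n => (R F).obj (CohCx.truncTower E n))
      (fun n => (R F).map (CohCx.truncTowerMap E n)) ((R F).obj E) (fun n => a ≫ Pi.π _ n) :=
    ⟨d, by rw [show Pi.lift (fun n => a ≫ Pi.π _ n) = a from Pi.hom_ext _ _ fun n => Pi.lift_π _ n]; exact hd⟩
  haveI : Projective (AddCommGrpCat.of (ULift.{v + 1} ℤ)) := by
    constructor
    intro E X f e he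
    obtain ⟨x, hx⟩ := (AddCommGrpCat.epi_iff_surjective e).1 he (f (ULift.up 1))
    refine ⟨AddCommGrpCat.ofHom ((zmultiplesHom _ x).comp AddEquiv.ulift.toAddMonoidHom), ?_⟩
    refine AddCommGrpCat.hom_ext (AddMonoidHom.ext fun z => ?_)
    show (ConcreteCategory.hom e) (z.down • x) = (ConcreteCategory.hom f) z
    rw [map_zsmul, hx, ← map_zsmul]
    congr 1
    ext
    simp
  rw [IsZero.iff_id_eq_zero]
  ext s
  have h := eq_zero_rlim (P := AddCommGrpCat.of (ULift.{v + 1} ℤ)) hL i ((N : ℤ) - i).toNat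
    (fun n hn => isIso_RH_truncTowerMap F P hiso hzero N hN hE n (i - 1) (by omega))
    (fun n => by
      haveI := hge n
      haveI : DerivedCategory.IsLE (CohCx.truncTower E n) b := DTrunc.isLE_truncGE E (-(n : ℤ)) b
      exact RFVanish.isZero_of_bounded F P hiso hzero N hN (b + (n : ℤ) + 1).toNat (-(n : ℤ)) b (by omega) _
        inferInstance inferInstance (QCohD.homP_truncGE P hiso hzero hE _) i hi)
    (AddCommGrpCat.ofHom ((zmultiplesHom _ s).comp AddEquiv.ulift.toAddMonoidHom))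
  exact (one_zsmul s).symm.trans (ConcreteCategory.congr_hom h (ULift.up 1))

include hiso hzero hR hN in
theorem isIso_RH_truncGEπ {E : DerivedCategory B} (hE : QCohD.HomP P E) (c : ℤ) (i : ℤ) (hi : c - 1 + N ≤ i) :
    IsIso ((homologyFunctor AddCommGrpCat.{v + 1} i).map ((R F).map ((t.truncGEπ c).app E))) := by
  haveI : DerivedCategory.IsLE ((t.truncLT c).obj E) (c - 1) := inferInstanceAs (t.IsLE _ (c - 1))
  have hz := isZero_RH_of_isLE F P hiso hzero hR N hN (QCohD.homP_truncLT P hiso hzero hE c) (c - 1)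
  exact isIso_RH_map F (t.triangleLTGE_distinguished c E) i (hz i (by omega)) (hz (i + 1) (by omega))

end Ab

end Groth.Agent.H13AlgSp.RFTrunc
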