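import Groth.Agent.H12AlgSp.Proper
import Groth.Agent.H12AlgSp.Codim
import Groth.Agent.H13AlgSp.FibreRed
import Groth.Agent.H13AlgSp.EtaleLocally
import Mathlib.RingTheory.DiscreteValuationRing.Basic
import Mathlib.RingTheory.Flat.TorsionFree
import Mathlib.RingTheory.TensorProduct.Quotient

/-!
# Reducedness of proper flat algebraic spaces over a discrete valuation ring
-/

set_option autoImplicit false
set_option backward.isDefEq.respectTransparency false
set_option linter.style.haveILetI false

universe u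

open CategoryTheory CategoryTheory.Limits AlgebraicGeometry Opposite TensorProduct
open AlgSp Groth.Agent.H12AlgSp Groth.Agent.H13AlgSp

namespace Groth.Agent.H13AlgSp.ReducedDVR

variable {R : Type u} [CommRing R] [IsDomain R] [IsDiscreteValuationRing R]

/-- A flat algebra of finite type with reduced special fibre is reduced off a closed set missing the special fibre. -/
theorem exists_isReduced_away {A : Type u} [CommRing A] [IsNoetherianRing A] [Algebra R A]
    [Module.Flat R A] (h : _root_.IsReduced (A ⧸ (IsLocalRing.maximalIdeal R).map (algebraMap R A))) :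
    ∃ r : A, r - 1 ∈ (IsLocalRing.maximalIdeal R).map (algebraMap R A) ∧
      _root_.IsReduced (Localization.Away r) := by
  obtain ⟨π, hπ⟩ := IsDiscreteValuationRing.exists_irreducible R
  have hm : (IsLocalRing.maximalIdeal R).map (algebraMap R A) = Ideal.span {algebraMap R A π} := by
    rw [hπ.maximalIdeal_eq, Ideal.map_span, Set.image_singleton]
  set m := (IsLocalRing.maximalIdeal R).map (algebraMap R A) with hmdef
  have hN : nilradical A ≤ m • nilradical A := fun x hx => by
    have hxm : x ∈ m := Ideal.Quotient.eq_zero_iff_mem.1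
      ((h.eq_zero _ ((mem_nilradical.1 hx).map (Ideal.Quotient.mk m))))
    rw [hm, Ideal.mem_span_singleton'] at hxm
    obtain ⟨y, rfl⟩ := hxm
    obtain ⟨n, hn⟩ := mem_nilradical.1 hx
    have hinj : IsSMulRegular A (algebraMap R A (π ^ n)) := (IsSMulRegular.of_ne_zero (pow_ne_zero n hπ.ne_zero) : IsSMulRegular R (π ^ n)).of_flat_of_isBaseChange (IsBaseChange.linearMap (R := R) (S := A))
    have hy : IsNilpotent y := ⟨n, hinj (by
      show algebraMap R A (π ^ n) • y ^ n = algebraMap R A (π ^ n) • (0 : A)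
      rw [smul_zero, smul_eq_mul, map_pow, ← mul_pow, mul_comm]
      exact hn)⟩
    rw [mul_comm, hm]
    exact Submodule.smul_mem_smul (Ideal.subset_span rfl) (mem_nilradical.2 hy)
  obtain ⟨r, hr1, hr⟩ := Submodule.exists_sub_one_mem_and_smul_eq_zero_of_fg_of_le_smul m (nilradical A)
    (IsNoetherian.noetherian _) hN
  refine ⟨r, hr1, ⟨fun z hz => ?_⟩⟩
  obtain ⟨n, hn⟩ := hz
  obtain ⟨a, s, rfl⟩ := IsLocalization.exists_mk'_eq (Submonoid.powers r) z
  rw [← IsLocalization.mk'_pow, IsLocalization.mk'_eq_zero_iff] at hn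
  obtain ⟨⟨c, hc⟩, hcn⟩ := hn
  simp only at hcn
  have hca : IsNilpotent (c * a) := ⟨n + 1, by
    calc (c * a) ^ (n + 1) = (c ^ n * a) * (c * a ^ n) := by ring
      _ = 0 := by rw [hcn, mul_zero]⟩
  refine (IsLocalization.mk'_eq_zero_iff _ _).2 ⟨⟨r * c, mul_mem (Submonoid.mem_powers r) hc⟩, ?_⟩
  show r * c * a = 0
  rw [mul_assoc]
  exact hr _ (mem_nilradical.2 hca)

/-- Around the special fibre, a flat scheme of finite type over a DVR with reduced special fibre is reduced. -/
theorem exists_isReduced_nhd {U : Scheme.{u}} (g : U ⟶ Spec (CommRingCat.of R)) [Flat g]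
    [LocallyOfFiniteType g]
    (h : IsReduced (pullback g (Spec.map (CommRingCat.ofHom (IsLocalRing.residue R)))))
    (u : U) (hu : g u = IsLocalRing.closedPoint R) :
    ∃ V : U.Opens, u ∈ V ∧ IsReduced (V : Scheme.{u}) := by
  have : IsLocallyNoetherian U := LocallyOfFiniteType.isLocallyNoetherian g
  obtain ⟨W, hW, huW, -⟩ := exists_isAffineOpen_mem_and_subset (U := (⊤ : U.Opens)) (x := u) trivial
  let A := Γ(U, W)
  obtain ⟨α, hα⟩ := Spec.map_surjective (hW.fromSpec ≫ g)
  letI : Algebra R A := α.hom.toAlgebra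
  have : IsNoetherianRing A := IsLocallyNoetherian.component_noetherian ⟨W, hW⟩
  have : Module.Flat R A := by
    have : Flat (Spec.map α) := hα ▸ inferInstance
    exact (HasRingHomProperty.Spec_iff (P := @Flat)).1 this
  have hred : _root_.IsReduced (A ⊗[R] IsLocalRing.ResidueField R) := by
    have h1 : IsReduced (pullback hW.fromSpec
        (pullback.fst g (Spec.map (CommRingCat.ofHom (IsLocalRing.residue R))))) := by
      exact isReduced_of_isOpenImmersion (pullback.snd hW.fromSpec _)
    have h2 : IsReduced (pullback (Spec.map α) (Spec.map (CommRingCat.ofHom (IsLocalRing.residue R)))) := by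
      rw [hα]
      exact isReduced_of_isOpenImmersion
        (pullbackRightPullbackFstIso g (Spec.map (CommRingCat.ofHom (IsLocalRing.residue R))) hW.fromSpec).inv
    rw [show α = CommRingCat.ofHom (algebraMap R A) from rfl,
      show IsLocalRing.residue R = algebraMap R (IsLocalRing.ResidueField R) from rfl] at h2
    have h3 : IsReduced (Spec (CommRingCat.of (A ⊗[R] IsLocalRing.ResidueField R))) :=
      isReduced_of_isOpenImmersion (pullbackSpecIso R A (IsLocalRing.ResidueField R)).inv
    exact (affine_isReduced_iff _).1 h3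
  have hq : _root_.IsReduced (A ⧸ (IsLocalRing.maximalIdeal R).map (algebraMap R A)) := by
    let e := Algebra.TensorProduct.quotIdealMapEquivTensorQuot A (IsLocalRing.maximalIdeal R)
    exact isReduced_of_injective (S := A ⊗[R] IsLocalRing.ResidueField R) e.toRingEquiv.toRingHom e.injective
  obtain ⟨r, hr1, hr⟩ := exists_isReduced_away hq
  refine ⟨U.basicOpen r, ?_, ?_⟩
  · suffices key : hW.primeIdealOf ⟨u, huW⟩ ∈ hW.fromSpec ⁻¹ᵁ U.basicOpen r from
      (congrArg (· ∈ U.basicOpen r) (hW.fromSpec_primeIdealOf ⟨u, huW⟩)).mp key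
    refine (hW.fromSpec_preimage_basicOpen r).ge (fun hrp => ?_)
    have hle : (IsLocalRing.maximalIdeal R).map (algebraMap R A) ≤ (hW.primeIdealOf ⟨u, huW⟩).asIdeal := by
      rw [Ideal.map_le_iff_le_comap]
      have : (Spec.map α) (hW.primeIdealOf ⟨u, huW⟩) = IsLocalRing.closedPoint R := by
        rw [hα, Scheme.Hom.comp_apply, hW.fromSpec_primeIdealOf]; exact hu
      exact (congrArg PrimeSpectrum.asIdeal this).ge
    have h1 : (1 : A) ∈ (hW.primeIdealOf ⟨u, huW⟩).asIdeal := by
      simpa using Ideal.sub_mem _ hrp (hle hr1)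
    exact (hW.primeIdealOf ⟨u, huW⟩).isPrime.ne_top ((Ideal.eq_top_iff_one _).2 h1)
  · have := hW.isLocalization_basicOpen r
    have : _root_.IsReduced Γ(U, U.basicOpen r) :=
      isReduced_of_injective (IsLocalization.algEquiv (Submonoid.powers r) Γ(U, U.basicOpen r)
        (Localization.Away r)).toRingEquiv.toRingHom (AlgEquiv.injective _)
    exact isReduced_of_isOpenImmersion (hW.basicOpen r).isoSpec.hom

noncomputable abbrev pt (R : Type u) [CommRing R] : Over (Spec (CommRingCat.of R)) := Over.mk (𝟙 _)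

/-- The pullback of a chart along a morphism of the base is a chart of the pullback. -/
theorem exists_chart_pullback {X P : Sp (Spec (CommRingCat.of R))} {s : X ⟶ (yon _).obj (pt R)}
    {K : Over (Spec (CommRingCat.of R))} {fst : P ⟶ X} {snd : P ⟶ (yon _).obj K}
    (sq : IsPullback fst snd s ((yon _).map (Over.mkIdTerminal.from K)))
    {U : Over (Spec (CommRingCat.of R))} {ψ : (yon _).obj U ⟶ X} (hψ : RepWith @Etale ψ)
    (hψs : RepWith @Surjective ψ) :
    ∃ (T : Over (Spec (CommRingCat.of R))) (c : (yon _).obj T ⟶ P), RepWith @Etale c ∧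
      RepWith @Surjective c ∧ Nonempty (T.left ≅ pullback U.hom K.hom) := by
  let T : Over (Spec (CommRingCat.of R)) := Over.mk (pullback.fst U.hom K.hom ≫ U.hom)
  let a : T ⟶ U := Over.homMk (pullback.fst U.hom K.hom) rfl
  let b : T ⟶ K := Over.homMk (pullback.snd U.hom K.hom) pullback.condition.symm
  obtain ⟨k, hk⟩ := (yon _).map_surjective (ψ ≫ s)
  obtain rfl : k = Over.mkIdTerminal.from U := Over.mkIdTerminal.hom_ext _ _
  have hO : IsPullback a b (Over.mkIdTerminal.from U) (Over.mkIdTerminal.from K) := by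
    refine IsPullback.of_map (Over.forget _) (Over.mkIdTerminal.hom_ext _ _) ?_
    have h1 : (Over.mkIdTerminal.from U).left = U.hom := by simpa using Over.w (Over.mkIdTerminal.from U)
    have h2 : (Over.mkIdTerminal.from K).left = K.hom := by simpa using Over.w (Over.mkIdTerminal.from K)
    simp only [Over.forget_map]
    rw [h1, h2]
    exact IsPullback.of_hasPullback U.hom K.hom
  have big := hO.map (yon _)
  rw [hk] at big
  let c : (yon _).obj T ⟶ P := sq.lift ((yon _).map a ≫ ψ) ((yon _).map b) (by rw [Category.assoc]; exact big.w)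
  have hsq : IsPullback ((yon _).map a) c ψ fst :=
    (IsPullback.of_right (by rw [sq.lift_snd]; exact big.flip) (sq.lift_fst _ _ _) sq.flip).flip
  exact ⟨T, c, repWith_of_isPullback hsq hψ, repWith_of_isPullback hsq hψs, ⟨Iso.refl _⟩⟩

theorem result {X : Sp (Spec (CommRingCat.of R))} (hX : IsAlgSpace X) (s : X ⟶ (yon _).obj (pt R))
    (hs1 : IsProperMor s) (hs2 : LocP @Flat s)
    (h0 : ∀ (X0 : Sp (Spec (CommRingCat.of R))) (fst : X0 ⟶ X) (snd : X0 ⟶ (yon _).obj
        (Over.mk (Spec.map (CommRingCat.ofHom (IsLocalRing.residue R))))),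
      IsPullback fst snd s ((yon _).map (Over.mkIdTerminal.from _)) →
      EtaleLocally (fun U => IsReduced U) X0) :
    EtaleLocally (fun U => IsReduced U) X ∧
      ∀ (Xη : Sp (Spec (CommRingCat.of R))) (fst : Xη ⟶ X) (snd : Xη ⟶ (yon _).obj
          (Over.mk (Spec.map (CommRingCat.ofHom (algebraMap R (FractionRing R)))))),
        IsPullback fst snd s ((yon _).map (Over.mkIdTerminal.from _)) →
        EtaleLocally (fun U => IsReduced U) Xη := by
  obtain ⟨U, ψ, hψ, hψs⟩ := hX.atlas
  let t : U ⟶ pt R := Over.mkIdTerminal.from U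
  have hid : RepWith @Etale (𝟙 ((yon (Spec (CommRingCat.of R))).obj (pt R))) := by
    rw [← (yon _).map_id]; exact (repWith_yon_map_iff _ _).2 (inferInstanceAs (Etale (𝟙 _)))
  obtain ⟨k, hk⟩ := (yon _).map_surjective (ψ ≫ s)
  have e : ψ ≫ s = (yon _).map t ≫ 𝟙 _ := by
    rw [Category.comp_id, show t = k from Over.mkIdTerminal.hom_ext _ _, hk]
  have ht : t.left = U.hom := by simpa using Over.w t
  have : Flat U.hom := ht ▸ hs2 ψ _ t hψ hid e
  have : LocallyOfFiniteType U.hom := ht ▸ hs1.2.1.1 ψ _ t hψ hid e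
  let res : Over (Spec (CommRingCat.of R)) := Over.mk (Spec.map (CommRingCat.ofHom (IsLocalRing.residue R)))
  have sq0 := IsPullback.of_hasPullback s ((yon _).map (Over.mkIdTerminal.from res))
  obtain ⟨T, c, hc, -, ⟨eT⟩⟩ := exists_chart_pullback sq0 hψ hψs
  have hX0 : IsAlgSpace (pullback s ((yon _).map (Over.mkIdTerminal.from res))) :=
    isAlgSpace_of_isPullback (IsAlgSpace.yon_obj _).diag hX (IsAlgSpace.yon_obj res) sq0
  have hr0 := h0 _ _ _ sq0
  have hT : IsReduced T.left := Groth.Agent.H13AlgSp.FibreRed.isReduced_chart hX0 hr0 hc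
  have hsp : IsReduced (pullback U.hom (Spec.map (CommRingCat.ofHom (IsLocalRing.residue R)))) :=
    isReduced_of_isOpenImmersion eT.inv
  let W₀ : Set U.left := {u | ∃ V : U.left.Opens, u ∈ V ∧ IsReduced (V : Scheme.{u})}
  have hW₀ : IsOpen W₀ := isOpen_iff_forall_mem_open.2 fun u ⟨V, hu, hV⟩ =>
    ⟨V, fun v hv => ⟨V, hv, hV⟩, V.2, hu⟩
  have hopen : IsOpen (Points.ofPt ψ '' W₀) := by
    have := (isOpenMap_map_of_repWith etale_le_universallyOpen hψ) _
      ((Points.schemeHomeo U).isOpenMap _ hW₀)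
    rwa [Set.image_image, show (fun x => Points.map ψ (Points.schemeHomeo U x)) = Points.ofPt ψ from
      funext fun x => (Points.ofPt_eq_map_ofScheme ψ x).symm] at this
  have huniv : Points.ofPt ψ '' W₀ = Set.univ := by
    by_contra hne
    obtain ⟨x, hx⟩ := (Set.ne_univ_iff_exists_notMem _).1 hne
    have hcl : IsClosedMap (Points.map s) := hs1.2.2 (IsAlgSpace.yon_obj _) (𝟙 _) (𝟙 _) s
      (IsPullback.of_horiz_isIso ⟨by simp⟩)
    have hC := ((Points.schemeHomeo (pt R)).isClosed_preimage).2 (hcl _ hopen.isClosed_compl)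
    obtain ⟨p, hp⟩ := (Points.schemeEquiv (pt R)).surjective (Points.map s x)
    have hmem := (hC.stableUnderSpecialization) (IsLocalRing.specializes_closedPoint p)
      (show Points.schemeHomeo (pt R) p ∈ Points.map s '' (Points.ofPt ψ '' W₀)ᶜ from ⟨x, hx, hp.symm⟩)
    obtain ⟨y, hy, hy'⟩ := hmem
    obtain ⟨u, rfl⟩ := surjective_ofPt_of_repWith le_rfl hψs y
    refine hy ⟨u, exists_isReduced_nhd U.hom hsp u ((Points.schemeEquiv (pt R)).injective ?_), rfl⟩
    refine Eq.trans ?_ hy'
    rw [Points.map_ofPt, e, ofPt_map, ht]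
    rfl
  have hU : IsReduced U.left := by
    have : ∀ u : U.left, _root_.IsReduced (U.left.presheaf.stalk u) := fun u => by
      obtain ⟨u', ⟨V, hu', hV⟩, hx⟩ := huniv.ge (Set.mem_univ (Points.ofPt ψ u))
      have : _root_.IsReduced (U.left.presheaf.stalk u') :=
        isReduced_of_injective (V.stalkIso ⟨u', hu'⟩).inv.hom
          (V.stalkIso ⟨u', hu'⟩).commRingCatIsoToRingEquiv.symm.injective
      obtain ⟨W, g, h, w, hg, hh, rfl, hw⟩ := exists_common_chart hX hψ hψ hx.symm
      haveI : _root_.IsReduced (U.left.presheaf.stalk (h.left w)) := hw ▸ this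
      haveI := isReduced_stalk_of_etale h.left w
      exact isReduced_stalk_of_flat g.left w
    exact isReduced_of_isReduced_stalk _
  refine ⟨⟨U, ψ, hψ, hψs, hU⟩, fun Xη fst snd sq => ?_⟩
  obtain ⟨T, c, hc, hcs, ⟨eT⟩⟩ := exists_chart_pullback sq hψ hψs
  refine ⟨T, c, hc, hcs, ?_⟩
  dsimp only at eT ⊢
  have : IsPreimmersion (Spec.map (CommRingCat.ofHom (algebraMap R (FractionRing R)))) :=
    IsPreimmersion.of_isLocalization (nonZeroDivisors R)
  have : Flat (Spec.map (CommRingCat.ofHom (algebraMap R (FractionRing R)))) :=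
    (HasRingHomProperty.Spec_iff (P := @Flat)).2
      (RingHom.flat_algebraMap_iff.2 (IsLocalization.flat _ (nonZeroDivisors R)))
  have hP : IsReduced (pullback U.hom (Spec.map (CommRingCat.ofHom (algebraMap R (FractionRing R))))) :=
    Groth.Agent.H8Props.isReduced_of_flat_isPreimmersion (pullback.fst _ _)
  exact @isReduced_of_isOpenImmersion _ _ eT.hom _ hP

end Groth.Agent.H13AlgSp.ReducedDVR
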