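import Groth.Agent.H12AlgSp.ReducedPoint
import Groth.Agent.H12AlgSp.DecentPoint
import Groth.Agent.H13AlgSp.RedInduced
import Groth.Agent.H13AlgSp.MonoPoint
import Mathlib.RingTheory.Spectrum.Prime.ConstructibleSet

/-!
Maps from reduced spaces landing in one point of a locally Noetherian space factor through
monomorphisms hitting that point; residual spaces at closed points.
-/

universe u

open CategoryTheory CategoryTheory.Limits AlgebraicGeometry Opposite Topology
open AlgSp Groth.Agent.H12AlgSp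

namespace Groth.Agent.H13AlgSp

/-- A map of schemes into a locally Noetherian scheme with image in a set without specializations is
locally constant. -/
theorem exists_open_constant {T U : Scheme.{u}} [IsLocallyNoetherian U] (τ : T ⟶ U)
    (h : ∀ t t' : T, τ t' ⤳ τ t → τ t' = τ t) (t : T) :
    ∃ O : T.Opens, t ∈ O ∧ ∀ t' ∈ O, τ t' = τ t := by
  obtain ⟨A, hA, hqA, -⟩ := exists_isAffineOpen_mem_and_subset (X := U) (U := (⊤ : U.Opens)) (x := τ t) trivial
  obtain ⟨O, hO, htO, hOA⟩ := exists_isAffineOpen_mem_and_subset (U := τ ⁻¹ᵁ A) (x := t) hqA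
  let g := hO.fromSpec ≫ τ
  let Q : Set (Spec Γ(T, O)) := g ⁻¹' closure {τ t}
  have hQ : ∀ w, w ∈ Q ↔ g w = τ t := fun w => by
    refine ⟨fun hw => ?_, fun hw => by show g w ∈ closure {τ t}; rw [hw]; exact subset_closure rfl⟩
    have hw' : τ t ⤳ g w := specializes_iff_mem_closure.2 hw
    have hg : g w = τ (hO.fromSpec w) := Scheme.Hom.comp_apply _ _ _
    rw [hg] at hw' ⊢
    exact (h _ t hw').symm
  have hgA : ∀ w, g w ∈ A := fun w => by
    have : hO.fromSpec w ∈ Set.range hO.fromSpec := ⟨w, rfl⟩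
    rw [hO.range_fromSpec] at this
    rw [show g w = τ (hO.fromSpec w) from Scheme.Hom.comp_apply _ _ _]
    exact hOA this
  have hQo : IsOpen Q := by
    let gA : Spec Γ(T, O) ⟶ Spec Γ(U, A) := IsOpenImmersion.lift hA.fromSpec g (by
      rintro _ ⟨w, rfl⟩
      rw [hA.range_fromSpec]
      exact hgA w)
    have hgA' : gA ≫ hA.fromSpec = g := IsOpenImmersion.lift_fac _ _ _
    have : IsNoetherianRing Γ(U, A) := IsLocallyNoetherian.component_noetherian ⟨A, hA⟩
    let W : Set (Spec Γ(U, A)) := (hA.fromSpec ⁻¹' closure {τ t})ᶜ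
    have hW : IsOpen W := (isClosed_closure.preimage hA.fromSpec.continuous).isOpen_compl
    have hWc : IsCompact W := TopologicalSpace.NoetherianSpace.isCompact (α := PrimeSpectrum Γ(U, A)) W
    have he : Qᶜ = gA ⁻¹' W := by
      ext w
      show ¬ (g w ∈ closure {τ t}) ↔ ¬ (hA.fromSpec (gA w) ∈ closure {τ t})
      rw [← Scheme.Hom.comp_apply, hgA']
    have : QuasiCompact gA := inferInstance
    have hc : IsCompact Qᶜ := he ▸ gA.isCompact_preimage (U := ⟨W, hW⟩) hWc
    have hco : IsOpen Qᶜ := he ▸ hW.preimage gA.continuous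
    refine PrimeSpectrum.isOpen_of_stableUnderGeneralization_of_isConstructible (R := Γ(T, O)) (s := Q) ?_ ?_
    · intro w w' hww hw
      have hg : g w = τ (hO.fromSpec w) := Scheme.Hom.comp_apply _ _ _
      have hg' : g w' = τ (hO.fromSpec w') := Scheme.Hom.comp_apply _ _ _
      have hs : g w' ⤳ g w := (show w' ⤳ w from hww).map g.continuous
      rw [hg, hg'] at hs
      refine (hQ w').2 (?_ : g w' = _)
      rw [hg', h _ _ hs, ← hg]
      exact (hQ w).1 hw
    · exact IsConstructible.of_compl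
        (((QuasiSeparatedSpace.isRetrocompact_iff_isCompact (X := ↥(Spec Γ(T, O))) hco).2 hc).isConstructible hco)
  refine ⟨⟨hO.fromSpec '' Q, hO.fromSpec.isOpenEmbedding.isOpenMap _ hQo⟩, ⟨hO.primeIdealOf ⟨t, htO⟩, ?_, ?_⟩, ?_⟩
  · refine (hQ _).2 ((Scheme.Hom.comp_apply _ _ _).trans ?_)
    rw [hO.fromSpec_primeIdealOf]
  · exact hO.fromSpec_primeIdealOf _
  · rintro _ ⟨w, hw, rfl⟩
    exact (Scheme.Hom.comp_apply _ _ _).symm.trans ((hQ w).1 hw)

variable {S : Scheme.{u}}

theorem exists_lift_fieldPt {X Z : Sp S} (hX : IsAlgSpace X) (hZ : IsAlgSpace Z) (i : Z ⟶ X) [Mono i]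
    (k : FieldPt X) (hk : Points.mk k ∈ Set.range (Points.map i)) :
    ∃ s : (yon S).obj k.pt ⟶ Z, s ≫ i = k.toHom := by
  have sq := IsPullback.of_hasPullback i k.toHom
  obtain ⟨z, hz⟩ := hk
  obtain ⟨r, -, -⟩ := exists_point_of_isPullback sq z (Points.ofScheme k.pt (IsLocalRing.closedPoint k.K))
    (by rw [hz, ← Points.ofPt_eq_map_ofScheme, Points.ofPt_toHom])
  have : Nonempty (Points (pullback i k.toHom)) := ⟨r⟩
  have : IsIso (pullback.snd i k.toHom) :=
    isIso_of_mono_to_field_space (isAlgSpace_pullback hX.diag hZ (IsAlgSpace.yon_obj k.pt) i k.toHom) _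
  exact ⟨inv (pullback.snd i k.toHom) ≫ pullback.fst i k.toHom, by
    rw [Category.assoc, pullback.condition, IsIso.inv_hom_id_assoc]⟩

theorem exists_factor_residual {Y X Z : Sp S} (hY : IsAlgSpace Y) (hX : IsAlgSpace X) (hZ : IsAlgSpace Z)
    (f : Y ⟶ X) (x : Points X) (hf : ∀ y, Points.map f y = x) (hr : IsReducedSp Y) (hN : IsLocNoethSp X)
    (i : Z ⟶ X) [Mono i] (hi : x ∈ Set.range (Points.map i)) : ∃ g : Y ⟶ Z, g ≫ i = f := by
  obtain ⟨U, a, ha, has⟩ := hX.atlas
  obtain ⟨T₀, d₀, hd₀, hd₀s, hred₀⟩ := hr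
  obtain ⟨T, c, τ', sqT⟩ := ha.1 (d₀ ≫ f)
  obtain ⟨τ, rfl⟩ := (yon S).map_surjective τ'
  have hce : Etale c.left := ha.2 _ _ _ sqT
  have hcs : Surjective c.left := has.2 _ _ _ sqT
  have : IsReduced T₀.left := hred₀
  have hred : IsReduced T.left := isReduced_of_smooth_mor c.left
  have hd : RepWith @Etale ((yon S).map c ≫ d₀) := repWith_comp ((repWith_yon_map_iff _ c).2 hce) hd₀
  have hds : RepWith @Surjective ((yon S).map c ≫ d₀) := repWith_comp ((repWith_yon_map_iff _ c).2 hcs) hd₀s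
  let d : (yon S).obj T ⟶ Y := (yon S).map c ≫ d₀
  have hτ : (yon S).map τ ≫ a = d ≫ f := by rw [Category.assoc]; exact sqT.w
  have : IsLocallyNoetherian U.left := etaleLocally_chart
    (fun g hg hB => @isLocallyNoetherian_of_etale _ _ g hg hB)
    (fun g hg hs hA => @isLocallyNoetherian_of_flat_lfp_surjective _ _ g
      inferInstance inferInstance hs hA) hX hN ha
  have hE : ∀ t, Points.ofPt a (τ.left t) = x := fun t => by
    rw [← ofPt_map, hτ, ← Points.map_ofPt, hf]
  have hconst := exists_open_constant τ.left fun t t' hs =>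
    (eq_of_specializes_of_locNoeth hX hN ha (((hE t).trans (hE t').symm)) hs).symm
  choose O htO hO using hconst
  have hlift : ∀ t, ∃ l : (yon S).obj (openOver T (O t)) ⟶ Z,
      l ≫ i = (yon S).map (openIncl T (O t)) ≫ d ≫ f := by
    intro t
    let k := FieldPt.ofPt a (τ.left t)
    obtain ⟨s, hs⟩ := exists_lift_fieldPt hX hZ i k (by
      change Points.ofPt a (τ.left t) ∈ _
      rw [hE]; exact hi)
    rw [FieldPt.toHom_ofPt] at hs
    have : IsReduced T.left := hred
    have : IsReduced (openOver T (O t)).left := inferInstanceAs (IsReduced (O t).toScheme)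
    obtain ⟨l, hl⟩ := exists_factor_fromSpecResidueField ((openIncl T (O t)).left ≫ τ.left) (τ.left t) fun w => by
      rw [Scheme.Hom.comp_apply]; exact hO t _ w.2
    let l' : openOver T (O t) ⟶ k.pt := Over.homMk l (by
      change l ≫ U.left.fromSpecResidueField (τ.left t) ≫ U.hom = (openOver T (O t)).hom
      rw [reassoc_of% hl, Over.w τ]
      exact Over.w (openIncl T (O t)))
    have e : l' ≫ resMap (τ.left t) = openIncl T (O t) ≫ τ := Over.OverMorphism.ext hl
    refine ⟨(yon S).map l' ≫ s, ?_⟩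
    rw [Category.assoc, hs, ← hτ, ← Functor.map_comp_assoc, ← Functor.map_comp_assoc]
    exact congrArg (fun m => (yon S).map m ≫ a) e
  choose l hl using hlift
  have sqP := IsPullback.of_hasPullback f i
  have : IsIso (pullback.fst f i) := by
    refine isIso_of_mono_of_local_lifts _ fun T' y => ?_
    obtain ⟨W, w, k', sqW⟩ := hd.1 y
    obtain ⟨k, rfl⟩ := (yon S).map_surjective k'
    have hwe : Etale w.left := hd.2 _ _ _ sqW
    have hws : Surjective w.left := hds.2 _ _ _ sqW
    refine ⟨W.left, fun z => openOver W (k.left ⁻¹ᵁ O (k.left z)),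
      fun z => openIncl W (k.left ⁻¹ᵁ O (k.left z)) ≫ w, ofArrows_mem_J _ (fun z => ?_) (fun z => ?_) (fun t' => ?_),
      fun z => ?_⟩
    · exact inferInstanceAs (Flat ((k.left ⁻¹ᵁ O (k.left z)).ι ≫ w.left))
    · exact inferInstanceAs (LocallyOfFinitePresentation ((k.left ⁻¹ᵁ O (k.left z)).ι ≫ w.left))
    · obtain ⟨z, rfl⟩ := w.left.surjective t'
      exact ⟨z, (⟨z, htO (k.left z)⟩ : ↥(k.left ⁻¹ᵁ O (k.left z))), Scheme.Hom.comp_apply _ _ _⟩
    · let r := k.left ⁻¹ᵁ O (k.left z)
      let k₀ : openOver W r ⟶ openOver T (O (k.left z)) :=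
        Over.homMk (k.left ∣_ O (k.left z)) (by
          change (k.left ∣_ O (k.left z)) ≫ (O (k.left z)).ι ≫ T.hom = r.ι ≫ W.hom
          rw [morphismRestrict_ι_assoc, Over.w k])
      have e : k₀ ≫ openIncl T (O (k.left z)) = openIncl W r ≫ k :=
        Over.OverMorphism.ext (morphismRestrict_ι _ _)
      refine ⟨sqP.lift ((yon S).map (openIncl W r ≫ w) ≫ y) ((yon S).map k₀ ≫ l (k.left z)) ?_, sqP.lift_fst _ _ _⟩
      have hyd : (yon S).map k ≫ d = (yon S).map w ≫ y := sqW.w
      rw [Category.assoc, Category.assoc, hl, ← Functor.map_comp_assoc, e, Functor.map_comp_assoc,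
        Functor.map_comp_assoc, reassoc_of% hyd]
  exact ⟨inv (pullback.fst f i) ≫ pullback.snd f i, by
    rw [Category.assoc, ← pullback.condition, IsIso.inv_hom_id_assoc]⟩

theorem isClosedImmersion_residual {X Z : Sp S} (hX : IsAlgSpace X) (hZA : IsAlgSpace Z) (hN : IsLocNoethSp X)
    (x : Points X) (i : Z ⟶ X) [Mono i] (hi : Set.range (Points.map i) = {x})
    {k : Type u} [Field k] {str : Spec (CommRingCat.of k) ⟶ S} (p : (yon S).obj (Over.mk str) ⟶ Z)
    (hlfp : LocP @LocallyOfFinitePresentation p) (hfl : LocP @Flat p) (hs : IsSurjectiveMor p)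
    (hx : IsClosed ({x} : Set (Points X))) : RepWith @IsClosedImmersion i := by
  obtain ⟨T, j, hT, hj, hjr, hjred⟩ := exists_isRedInduced hX hx
  obtain ⟨g, hg⟩ := exists_factor_residual hT hX hZA j x
    (fun y => Set.mem_singleton_iff.1 (hjr.le ⟨y, rfl⟩)) hjred hN i (hi.ge rfl)
  have : Mono j := mono_of_repWith (fun _ _ m (_ : IsClosedImmersion m) => (inferInstance : Mono m)) hj
  have : Mono g := mono_of_mono_fac hg
  obtain ⟨t, -⟩ : x ∈ Set.range (Points.map j) := hjr.ge rfl
  have sqQ := IsPullback.of_hasPullback g p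
  obtain ⟨r, -, -⟩ := exists_point_of_isPullback sqQ t
    (Points.ofScheme (Over.mk str) (IsLocalRing.closedPoint k)) (injective_map_of_mono i (by
      rw [Set.mem_singleton_iff.1 (hi.le ⟨_, rfl⟩)]
      exact (Set.mem_singleton_iff.1 (hi.le ⟨_, rfl⟩)).symm))
  have : Nonempty (Points (pullback g p)) := ⟨r⟩
  have : IsIso (pullback.snd g p) :=
    isIso_of_mono_to_field_space (isAlgSpace_pullback hZA.diag hT (IsAlgSpace.yon_obj _) g p) _
  have : IsIso g := by
    refine isIso_of_mono_of_local_lifts g fun T' z => ?_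
    have sq' := IsPullback.of_hasPullback p z
    have hQ := isAlgSpace_pullback hZA.diag (IsAlgSpace.yon_obj _) (IsAlgSpace.yon_obj T') p z
    obtain ⟨W, d, hd, hds⟩ := hQ.atlas
    obtain ⟨c, hc⟩ := (yon S).map_surjective (d ≫ pullback.snd p z)
    have hcf : Flat c.left := etaleFibre_of_locP (IsAlgSpace.yon_obj _) hZA hfl z _ _ sq' d c hd hc.symm
    have hcp : LocallyOfFinitePresentation c.left :=
      etaleFibre_of_locP (IsAlgSpace.yon_obj _) hZA hlfp z _ _ sq' d c hd hc.symm
    refine ⟨PUnit.{u + 1}, fun _ => W, fun _ => c, ofArrows_mem_J _ (fun _ => hcf) (fun _ => hcp) (fun t' => ?_),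
      fun _ => ⟨d ≫ pullback.fst p z ≫ inv (pullback.snd g p) ≫ pullback.fst g p, ?_⟩⟩
    · obtain ⟨y, hy⟩ := hs (Points.ofPt z t')
      obtain ⟨q, -, hq⟩ := exists_point_of_isPullback sq' y (Points.ofScheme T' t')
        (by rw [hy, ← Points.ofPt_eq_map_ofScheme])
      obtain ⟨w, rfl⟩ := surjective_ofPt_of_repWith le_rfl hds q
      refine ⟨⟨⟩, w, (Points.schemeEquiv T').injective (Eq.trans ?_ hq)⟩
      rw [Points.map_ofPt, ← hc, ← Category.comp_id ((yon S).map c), ofPt_map]
      rfl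
    · simp only [Category.assoc]
      rw [pullback.condition (f := g) (g := p), IsIso.inv_hom_id_assoc, pullback.condition,
        ← Category.assoc, ← hc]
  have : RepWith @IsClosedImmersion (g ≫ i) := by rw [hg]; exact hj
  exact (MorphismProperty.cancel_left_of_respectsIso _ g i).1 this

end Groth.Agent.H13AlgSp
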