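import Groth.Agent.H13AlgSp.LocalST
import Groth.Agent.H13AlgSp.EtaleSmoothMk
import Groth.Agent.H13AlgSp.DistSq
import Groth.Agent.H12AlgSp.Proper
import Groth.Agent.H12AlgSp.Presentation
import Groth.Agent.H12AlgSp.NormSp.Finite
import Groth.Agent.H13Desc.EffColimit

/-!
Colimits among separated algebraic spaces with effective separated etale descent are colimits of all algebraic spaces.
-/

set_option autoImplicit false
set_option backward.isDefEq.respectTransparency false

universe w v u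

open CategoryTheory CategoryTheory.Limits AlgebraicGeometry Opposite
open AlgSp Groth.Agent.H12AlgSp

namespace Groth.Agent.H13AlgSp.SepColim

variable {S : Scheme.{u}}

/-- An etale morphism which is surjective on points is an epimorphism. -/
theorem epi_of_etale {U X : Sp S} (hU : IsAlgSpace U) {a : U ⟶ X} (he : IsEtaleMor a)
    (hs : Function.Surjective (Points.map a)) : Epi a := by
  obtain ⟨T, e, hee, hes⟩ := hU.atlas
  have hea : RepWith @Etale (e ≫ a) := he e hee
  suffices Epi (e ≫ a) from epi_of_epi e a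
  refine epi_of_local_lifts _ fun Y y => ?_
  obtain ⟨V, v, k', sq⟩ := hea.rep y
  have hve : Etale v.left := hea.property y k' v sq
  refine ⟨PUnit, fun _ => V, fun _ => v, ofArrows_mem_J _ (fun _ => inferInstance) (fun _ => inferInstance)
    (fun t => ⟨⟨⟩, (preimage_ofPt_range sq).le ?_⟩), fun _ => ⟨k', sq.w⟩⟩
  obtain ⟨z, hz⟩ := hs (Points.ofPt y t)
  obtain ⟨z, rfl⟩ := surjective_map_of_repWith le_rfl hes z
  exact ⟨z, by rw [Points.map_comp]; exact hz⟩

/-- Functoriality of a base change in the varying leg. -/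
noncomputable def pmapR {A E E' C : Sp S} {a : A ⟶ C} {e : E ⟶ C} {e' : E' ⟶ C} (t : E ⟶ E') (w : t ≫ e' = e) :
    pullback a e ⟶ pullback a e' :=
  pullback.lift (pullback.fst a e) (pullback.snd a e ≫ t) (by rw [Category.assoc, w, pullback.condition])

@[reassoc (attr := simp)] theorem pmapR_fst {A E E' C : Sp S} {a : A ⟶ C} {e : E ⟶ C} {e' : E' ⟶ C} (t : E ⟶ E') (w : t ≫ e' = e) :
    pmapR (a := a) t w ≫ pullback.fst a e' = pullback.fst a e :=
  pullback.lift_fst _ _ _

@[reassoc (attr := simp)] theorem pmapR_snd {A E E' C : Sp S} {a : A ⟶ C} {e : E ⟶ C} {e' : E' ⟶ C} (t : E ⟶ E') (w : t ≫ e' = e) :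
    pmapR (a := a) t w ≫ pullback.snd a e' = pullback.snd a e ≫ t :=
  pullback.lift_snd _ _ _

theorem pmapR_id {A E C : Sp S} {a : A ⟶ C} {e : E ⟶ C} (t : E ⟶ E) (w : t ≫ e = e) (ht : t = 𝟙 E) :
    pmapR (a := a) t w = 𝟙 _ := by
  subst ht; apply pullback.hom_ext <;> simp

theorem pmapR_comp {A E E' E'' C : Sp S} {a : A ⟶ C} {e : E ⟶ C} {e' : E' ⟶ C} {e'' : E'' ⟶ C} (t : E ⟶ E')
    (w : t ≫ e' = e) (t' : E' ⟶ E'') (w' : t' ≫ e'' = e') (r : E ⟶ E'') (v : r ≫ e'' = e) (hr : r = t ≫ t') :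
    pmapR (a := a) r v = pmapR t w ≫ pmapR t' w' := by
  subst hr; apply pullback.hom_ext <;> simp

/-- Functoriality of a base change in the varying first leg. -/
noncomputable def pmapL {A A' E C : Sp S} {a : A ⟶ C} {a' : A' ⟶ C} {e : E ⟶ C} (t : A ⟶ A') (w : t ≫ a' = a) :
    pullback a e ⟶ pullback a' e :=
  pullback.lift (pullback.fst a e ≫ t) (pullback.snd a e) (by rw [Category.assoc, w, pullback.condition])

@[reassoc (attr := simp)] theorem pmapL_fst {A A' E C : Sp S} {a : A ⟶ C} {a' : A' ⟶ C} {e : E ⟶ C} (t : A ⟶ A') (w : t ≫ a' = a) :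
    pmapL (e := e) t w ≫ pullback.fst a' e = pullback.fst a e ≫ t :=
  pullback.lift_fst _ _ _

@[reassoc (attr := simp)] theorem pmapL_snd {A A' E C : Sp S} {a : A ⟶ C} {a' : A' ⟶ C} {e : E ⟶ C} (t : A ⟶ A') (w : t ≫ a' = a) :
    pmapL (e := e) t w ≫ pullback.snd a' e = pullback.snd a e :=
  pullback.lift_snd _ _ _

theorem pmapL_id {A E C : Sp S} {a : A ⟶ C} {e : E ⟶ C} (t : A ⟶ A) (w : t ≫ a = a) (ht : t = 𝟙 A) :
    pmapL (e := e) t w = 𝟙 _ := by
  subst ht; apply pullback.hom_ext <;> simp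

theorem pmapL_comp {A A' A'' E C : Sp S} {a : A ⟶ C} {a' : A' ⟶ C} {a'' : A'' ⟶ C} {e : E ⟶ C} (t : A ⟶ A')
    (w : t ≫ a' = a) (t' : A' ⟶ A'') (w' : t' ≫ a'' = a') (r : A ⟶ A'') (v : r ≫ a'' = a) (hr : r = t ≫ t') :
    pmapL (e := e) r v = pmapL t w ≫ pmapL t' w' := by
  subst hr; apply pullback.hom_ext <;> simp

variable {B : AlgSp.Space S} {P : ObjectProperty (Over B)} (hP : ∀ T : Over B, P T ↔ AlgSp.IsSeparatedMor T.hom.hom)

/-- The underlying sheaf of an object over `B`. -/
abbrev uf (X : P.FullSubcategory) : Sp S := X.obj.left.obj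

/-- The structure map of an object over `B`. -/
abbrev str (X : P.FullSubcategory) : uf X ⟶ B.obj := X.obj.hom.hom

omit hP in
/-- The underlying map of a morphism over `B`. -/
abbrev um {X Y : P.FullSubcategory} (f : X ⟶ Y) : uf X ⟶ uf Y := f.hom.left.hom

theorem alg (X : P.FullSubcategory) : IsAlgSpace (uf X) := X.obj.left.property

theorem um_str {X Y : P.FullSubcategory} (f : X ⟶ Y) : um f ≫ str Y = str X :=
  congrArg (fun x => x.hom) (Over.w f.hom)

theorem um_comp {X Y Z : P.FullSubcategory} (f : X ⟶ Y) (g : Y ⟶ Z) : um (f ≫ g) = um f ≫ um g := rfl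

/-- An object from a separated map to `B`. -/
def mkObj {T : Sp S} (hT : IsAlgSpace T) (t : T ⟶ B.obj) (h : IsSeparatedMor t) : P.FullSubcategory :=
  ⟨Over.mk (ObjectProperty.homMk t : (⟨T, hT⟩ : AlgSp.Space S) ⟶ B), (hP _).2 h⟩

omit hP in
/-- A morphism from an underlying map. -/
def mkHom {X Y : P.FullSubcategory} (φ : uf X ⟶ uf Y) (w : φ ≫ str Y = str X) : X ⟶ Y :=
  ObjectProperty.homMk (Over.homMk (ObjectProperty.homMk φ) (ObjectProperty.hom_ext _ w))

@[simp] theorem um_mkHom {X Y : P.FullSubcategory} (φ : uf X ⟶ uf Y) (w : φ ≫ str Y = str X) :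
    um (mkHom φ w) = φ := rfl

omit hP in
theorem hom_ext' {X Y : P.FullSubcategory} {f g : X ⟶ Y} (h : um f = um g) : f = g :=
  ObjectProperty.hom_ext _ (Over.OverMorphism.ext (ObjectProperty.hom_ext _ h))

variable {I : Type v} [Category.{w} I] {D : I ⥤ P.FullSubcategory} {c : Cocone D}

include hP

theorem isSep (X : P.FullSubcategory) : IsSeparatedMor (str X) := (hP X.obj).1 X.property

variable
    (h₄ : ∀ (D' : I ⥤ P.FullSubcategory) (α : D' ⟶ D) (c' : Cocone D') (a : c'.pt ⟶ c.pt),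
      AlgSp.IsEtaleMor a.hom.left.hom → AlgSp.IsSeparatedMor a.hom.left.hom →
      (∀ i, IsPullback (c'.ι.app i).hom.left.hom (α.app i).hom.left.hom a.hom.left.hom (c.ι.app i).hom.left.hom) →
        Nonempty (IsColimit c'))

include h₄

/-- Two lifts to a chart which agree in the target on all pieces agree in the target. -/
theorem agree {Z : AlgSp.Space S} {z : Z.obj ⟶ B.obj} {Zt : P.FullSubcategory} {p : uf Zt ⟶ Z.obj}
    (hzt : p ≫ z = str Zt) {U : P.FullSubcategory} (a : U ⟶ c.pt) (hae : IsEtaleMor (um a))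
    (has : IsSeparatedMor (um a)) (q q' : U ⟶ Zt)
    (h : ∀ (i : I) (T : Sp S) (t : T ⟶ uf U) (d : T ⟶ uf (D.obj i)),
      t ≫ um a = d ≫ um (c.ι.app i) → t ≫ um q ≫ p = t ≫ um q' ≫ p) :
    um q ≫ p = um q' ≫ p := by
  let W : I → P.FullSubcategory := fun i => mkObj hP
    (isAlgSpace_pullback (alg c.pt).diag (alg U) (alg (D.obj i)) (um a) (um (c.ι.app i)))
    (pullback.snd (um a) (um (c.ι.app i)) ≫ str (D.obj i))
    (isSeparatedMor_comp (isSeparatedMor_of_isPullback (IsPullback.of_hasPullback _ _) has) (isSep hP _))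
  have hcw : ∀ {i j : I} (f : i ⟶ j), um (D.map f) ≫ um (c.ι.app j) = um (c.ι.app i) := fun f => by
    rw [← um_comp, c.w]
  let D₂ : I ⥤ P.FullSubcategory :=
    { obj := W
      map := fun {i j} f => mkHom (pmapR (um (D.map f)) (hcw f))
        (show pmapR _ _ ≫ pullback.snd _ _ ≫ str (D.obj j) = pullback.snd _ _ ≫ str (D.obj i) by
          rw [pmapR_snd_assoc, um_str])
      map_id := fun i => hom_ext' (pmapR_id _ (hcw (𝟙 i)) (congrArg (fun x => um x) (D.map_id i)))
      map_comp := fun {i j k} f g => hom_ext'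
        (pmapR_comp _ (hcw f) _ (hcw g) _ (hcw (f ≫ g)) ((congrArg (fun x => um x) (D.map_comp f g)).trans (um_comp _ _))) }
  let α₂ : D₂ ⟶ D :=
    { app := fun i => mkHom (pullback.snd (um a) (um (c.ι.app i))) rfl
      naturality := fun i j f => hom_ext' (pullback.lift_snd _ _ _) }
  let c₂ : Cocone D₂ :=
    { pt := U
      ι :=
        { app := fun i => mkHom (pullback.fst (um a) (um (c.ι.app i)))
            (show pullback.fst _ _ ≫ str U = pullback.snd _ _ ≫ str (D.obj i) by
              rw [← um_str a, ← um_str (c.ι.app i), pullback.condition_assoc]; rfl)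
          naturality := fun i j f => hom_ext' ((pullback.lift_fst _ _ _).trans (Category.comp_id _).symm) } }
  obtain ⟨hc₂⟩ := h₄ D₂ α₂ c₂ a hae has fun i => IsPullback.of_hasPullback _ _
  have hpsep : IsSeparatedMor p := isSeparatedMor_of_comp (g := z) (by rw [hzt]; exact isSep hP Zt)
  let R : P.FullSubcategory := mkObj hP (isAlgSpace_pullback Z.property.diag (alg Zt) (alg Zt) p p)
    (pullback.fst p p ≫ str Zt)
    (isSeparatedMor_comp (isSeparatedMor_of_isPullback (IsPullback.of_hasPullback p p).flip hpsep) (isSep hP _))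
  let sR : Cocone D₂ :=
    { pt := R
      ι :=
        { app := fun i => mkHom (pullback.lift (um (c₂.ι.app i) ≫ um q) (um (c₂.ι.app i) ≫ um q')
              (by rw [Category.assoc, Category.assoc]; exact h i _ _ _ pullback.condition))
            (show pullback.lift _ _ _ ≫ pullback.fst p p ≫ str Zt = str (D₂.obj i) by
              rw [pullback.lift_fst_assoc, Category.assoc, um_str, um_str])
          naturality := fun i j f => hom_ext' (pullback.hom_ext
            (show (um (D₂.map f) ≫ pullback.lift _ _ _) ≫ pullback.fst p p =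
                (pullback.lift _ _ _ ≫ 𝟙 _) ≫ pullback.fst p p by
              rw [Category.assoc, Category.comp_id, pullback.lift_fst, pullback.lift_fst, ← Category.assoc, ← um_comp,
                c₂.w])
            (show (um (D₂.map f) ≫ pullback.lift _ _ _) ≫ pullback.snd p p =
                (pullback.lift _ _ _ ≫ 𝟙 _) ≫ pullback.snd p p by
              rw [Category.assoc, Category.comp_id, pullback.lift_snd, pullback.lift_snd, ← Category.assoc, ← um_comp,
                c₂.w])) } }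
  let ρ : U ⟶ R := hc₂.desc sR
  let π₁ : R ⟶ Zt := mkHom (pullback.fst p p) rfl
  let π₂ : R ⟶ Zt := mkHom (pullback.snd p p) (show pullback.snd p p ≫ str Zt = pullback.fst p p ≫ str Zt by
    rw [← hzt, pullback.condition_assoc])
  have h₁ : ρ ≫ π₁ = q := hc₂.hom_ext fun i => by
    rw [← Category.assoc, hc₂.fac]; exact hom_ext' (pullback.lift_fst _ _ _)
  have h₂ : ρ ≫ π₂ = q' := hc₂.hom_ext fun i => by
    rw [← Category.assoc, hc₂.fac]; exact hom_ext' (pullback.lift_snd _ _ _)
  rw [← h₁, ← h₂, um_comp, um_comp, Category.assoc, Category.assoc]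
  exact congrArg (um ρ ≫ ·) pullback.condition

variable
    (h₃ : ∀ x : AlgSp.Points c.pt.obj.left.obj, ∃ (i : I) (y : AlgSp.Points (D.obj i).obj.left.obj),
      AlgSp.Points.map (c.ι.app i).hom.left.hom y = x)

include h₃

omit h₃ in
theorem exists_chart (Z : AlgSp.Space S) (z : Z.obj ⟶ B.obj) :
    ∃ (Zt : P.FullSubcategory) (p : uf Zt ⟶ Z.obj), p ≫ z = str Zt ∧ IsEtaleMor p ∧
      Function.Surjective (Points.map p) ∧ IsSeparatedMor p := by
  obtain ⟨U, p, hUs, hpe, hps⟩ := H13EffColim.exists_separated_atlas Z.property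
  have ht : IsTerminal ((yon S).obj (Over.mk (𝟙 S))) := IsTerminal.isTerminalObj (yon S) _ Over.mkIdTerminal
  have hU : IsSeparatedMor ((yon S).map (Over.mkIdTerminal.from U)) := by
    rw [isSeparatedMor_yon_map_iff, show (Over.mkIdTerminal.from U).left = U.hom from
      (Category.comp_id _).symm.trans (Over.w (Over.mkIdTerminal.from U))]
    exact hUs
  have hpz : IsSeparatedMor (p ≫ z) := isSeparatedMor_of_comp (g := ht.from _) (by
    rw [ht.hom_ext ((p ≫ z) ≫ ht.from B.obj) ((yon S).map (Over.mkIdTerminal.from U))]; exact hU)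
  exact ⟨mkObj hP (IsAlgSpace.yon_obj U) (p ≫ z) hpz, p, rfl, fun _ _ hφ => repWith_comp hφ hpe,
    surjective_map_of_repWith le_rfl hps, isSeparatedMor_of_comp hpz⟩

theorem hom_ext_colim {Z : AlgSp.Space S} {m m' : uf c.pt ⟶ Z.obj} {z : Z.obj ⟶ B.obj}
    (hm : m ≫ z = str c.pt) (hm' : m' ≫ z = str c.pt)
    (h : ∀ i, um (c.ι.app i) ≫ m = um (c.ι.app i) ≫ m') : m = m' := by
  obtain ⟨Zt, p, hzt, hpe, hps, hpsep⟩ := exists_chart hP h₄ Z z
  have hC := alg c.pt
  have hU₁ := isAlgSpace_pullback Z.property.diag hC (alg Zt) m p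
  have hU₂ := isAlgSpace_pullback Z.property.diag hC (alg Zt) m' p
  let a₁ := pullback.fst m p
  let a₂ := pullback.fst m' p
  have hU := isAlgSpace_pullback hC.diag hU₁ hU₂ a₁ a₂
  have he₁ : IsEtaleMor a₁ := EtaleSmooth.isEtaleMor_of_isPullback hC (alg Zt) Z.property hU₁ (IsPullback.of_hasPullback m p) hpe
  have he₂ : IsEtaleMor a₂ := EtaleSmooth.isEtaleMor_of_isPullback hC (alg Zt) Z.property hU₂ (IsPullback.of_hasPullback m' p) hpe
  have he : IsEtaleMor (pullback.fst a₁ a₂) :=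
    EtaleSmooth.isEtaleMor_of_isPullback hU₁ hU₂ hC hU (IsPullback.of_hasPullback a₁ a₂) he₂
  have hs₁ : IsSeparatedMor a₁ := isSeparatedMor_of_isPullback (IsPullback.of_hasPullback m p).flip hpsep
  have hs₂ : IsSeparatedMor a₂ := isSeparatedMor_of_isPullback (IsPullback.of_hasPullback m' p).flip hpsep
  have hs : IsSeparatedMor (pullback.fst a₁ a₂ ≫ a₁) :=
    isSeparatedMor_comp (isSeparatedMor_of_isPullback (IsPullback.of_hasPullback a₁ a₂).flip hs₂) hs₁
  let π := pullback.fst a₁ a₂ ≫ a₁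
  let U : P.FullSubcategory := mkObj hP hU (π ≫ str c.pt) (isSeparatedMor_comp hs (isSep hP _))
  have key := agree hP h₄ hzt (mkHom π rfl : U ⟶ c.pt) (LocalST.isEtaleMor_comp he he₁) hs
    (mkHom (pullback.fst a₁ a₂ ≫ pullback.snd m p) (show _ = π ≫ str c.pt by
      rw [← hzt, Category.assoc, ← pullback.condition_assoc, hm]; exact (Category.assoc _ _ _).symm))
    (mkHom (pullback.snd a₁ a₂ ≫ pullback.snd m' p) (show _ = π ≫ str c.pt by
      rw [← hzt, Category.assoc, ← pullback.condition_assoc, hm', ← Category.assoc]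
      exact (congrArg (· ≫ str c.pt) pullback.condition).symm))
    (fun i T t d e => by
      change t ≫ (pullback.fst a₁ a₂ ≫ pullback.snd m p) ≫ p = t ≫ (pullback.snd a₁ a₂ ≫ pullback.snd m' p) ≫ p
      have e₁ : (t ≫ pullback.fst a₁ a₂) ≫ a₁ = d ≫ um (c.ι.app i) := (Category.assoc _ _ _).trans e
      have e₂ : (t ≫ pullback.snd a₁ a₂) ≫ a₂ = d ≫ um (c.ι.app i) := by
        rw [Category.assoc, ← pullback.condition]; exact e
      calc t ≫ (pullback.fst a₁ a₂ ≫ pullback.snd m p) ≫ p = ((t ≫ pullback.fst a₁ a₂) ≫ a₁) ≫ m := by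
            simp only [Category.assoc, show pullback.snd m p ≫ p = a₁ ≫ m from pullback.condition.symm]
        _ = (d ≫ um (c.ι.app i)) ≫ m' := by rw [e₁, Category.assoc, h i, ← Category.assoc]
        _ = t ≫ (pullback.snd a₁ a₂ ≫ pullback.snd m' p) ≫ p := by
            rw [← e₂]; simp only [Category.assoc, show pullback.snd m' p ≫ p = a₂ ≫ m' from pullback.condition.symm])
  have hsurj₁ : Function.Surjective (Points.map a₁) := fun x => by
    obtain ⟨y, hy⟩ := hps (Points.map m x)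
    obtain ⟨w, hw, -⟩ := exists_point_of_isPullback (IsPullback.of_hasPullback m p) x y hy.symm
    exact ⟨w, hw⟩
  have hsurj₂ : Function.Surjective (Points.map a₂) := fun x => by
    obtain ⟨y, hy⟩ := hps (Points.map m' x)
    obtain ⟨w, hw, -⟩ := exists_point_of_isPullback (IsPullback.of_hasPullback m' p) x y hy.symm
    exact ⟨w, hw⟩
  have := epi_of_etale hU (LocalST.isEtaleMor_comp he he₁) fun x => by
    obtain ⟨x₁, hx₁⟩ := hsurj₁ x
    obtain ⟨x₂, hx₂⟩ := hsurj₂ x
    obtain ⟨w, hw, -⟩ := exists_point_of_isPullback (IsPullback.of_hasPullback a₁ a₂) x₁ x₂ (hx₁.trans hx₂.symm)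
    exact ⟨w, by rw [Points.map_comp, hw, hx₁]⟩
  rw [← cancel_epi (pullback.fst a₁ a₂ ≫ a₁)]
  calc (pullback.fst a₁ a₂ ≫ a₁) ≫ m = (pullback.fst a₁ a₂ ≫ pullback.snd m p) ≫ p := by
        simp only [Category.assoc, show pullback.snd m p ≫ p = a₁ ≫ m from pullback.condition.symm]
    _ = (pullback.snd a₁ a₂ ≫ pullback.snd m' p) ≫ p := key
    _ = (pullback.fst a₁ a₂ ≫ a₁) ≫ m' := by
        rw [pullback.condition (f := a₁) (g := a₂)]
        simp only [Category.assoc, show pullback.snd m' p ≫ p = a₂ ≫ m' from pullback.condition.symm]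

variable
    (h₅ : ∀ (D' : I ⥤ P.FullSubcategory) (α : D' ⟶ D),
      (∀ ⦃i j : I⦄ (g : i ⟶ j), IsPullback (D'.map g).hom.left.hom (α.app i).hom.left.hom (α.app j).hom.left.hom
        (D.map g).hom.left.hom) →
      (∀ i, AlgSp.IsEtaleMor (α.app i).hom.left.hom) → (∀ i, AlgSp.IsSeparatedMor (α.app i).hom.left.hom) →
        ∃ (c' : Cocone D') (a : c'.pt ⟶ c.pt), AlgSp.IsEtaleMor a.hom.left.hom ∧ AlgSp.IsSeparatedMor a.hom.left.hom ∧
          ∀ i, IsPullback (c'.ι.app i).hom.left.hom (α.app i).hom.left.hom a.hom.left.hom (c.ι.app i).hom.left.hom)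

include h₅

theorem exists_desc {Z : AlgSp.Space S} (z : Z.obj ⟶ B.obj) (φ : ∀ i, uf (D.obj i) ⟶ Z.obj)
    (hφz : ∀ i, φ i ≫ z = str (D.obj i)) (hφ : ∀ {i j : I} (f : i ⟶ j), um (D.map f) ≫ φ j = φ i) :
    ∃ m : uf c.pt ⟶ Z.obj, m ≫ z = str c.pt ∧ ∀ i, um (c.ι.app i) ≫ m = φ i := by
  obtain ⟨Zt, p, hzt, hpe, hps, hpsep⟩ := exists_chart hP h₄ Z z
  have hW : ∀ i, IsAlgSpace (pullback (φ i) p) := fun i =>
    isAlgSpace_pullback Z.property.diag (alg (D.obj i)) (alg Zt) (φ i) p
  have hw_e : ∀ i, IsEtaleMor (pullback.fst (φ i) p) := fun i =>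
    EtaleSmooth.isEtaleMor_of_isPullback (alg (D.obj i)) (alg Zt) Z.property (hW i) (IsPullback.of_hasPullback _ _) hpe
  have hw_s : ∀ i, IsSeparatedMor (pullback.fst (φ i) p) := fun i =>
    isSeparatedMor_of_isPullback (IsPullback.of_hasPullback _ _).flip hpsep
  have hw_surj : ∀ i, Function.Surjective (Points.map (pullback.fst (φ i) p)) := fun i x => by
    obtain ⟨y, hy⟩ := hps (Points.map (φ i) x)
    obtain ⟨w, hw, -⟩ := exists_point_of_isPullback (IsPullback.of_hasPullback (φ i) p) x y hy.symm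
    exact ⟨w, hw⟩
  let D' : I ⥤ P.FullSubcategory :=
    { obj := fun i => mkObj hP (hW i) (pullback.fst (φ i) p ≫ str (D.obj i))
        (isSeparatedMor_comp (hw_s i) (isSep hP _))
      map := fun {i j} f => mkHom (pmapL (um (D.map f)) (hφ f))
        (show pmapL _ _ ≫ pullback.fst _ _ ≫ str (D.obj j) = pullback.fst _ _ ≫ str (D.obj i) by
          rw [pmapL_fst_assoc, um_str])
      map_id := fun i => hom_ext' (pmapL_id _ (hφ (𝟙 i)) (congrArg (fun x => um x) (D.map_id i)))
      map_comp := fun {i j k} f g => hom_ext'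
        (pmapL_comp _ (hφ f) _ (hφ g) _ (hφ (f ≫ g)) ((congrArg (fun x => um x) (D.map_comp f g)).trans (um_comp _ _))) }
  let α : D' ⟶ D :=
    { app := fun i => mkHom (pullback.fst (φ i) p) rfl
      naturality := fun i j f => hom_ext' (pullback.lift_fst _ _ _) }
  have hcart : ∀ ⦃i j : I⦄ (f : i ⟶ j), IsPullback (um (D'.map f)) (um (α.app i)) (um (α.app j)) (um (D.map f)) :=
    fun i j f => by
      refine (IsPullback.of_right ?_ ?_ (IsPullback.of_hasPullback (φ j) p).flip)
      · rw [show um (D'.map f) ≫ pullback.snd (φ j) p = pullback.snd (φ i) p from pullback.lift_snd _ _ _, hφ f]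
        exact (IsPullback.of_hasPullback (φ i) p).flip
      · exact pullback.lift_fst _ _ _
  obtain ⟨c', a, hae, has, hsq⟩ := h₅ D' α hcart hw_e hw_s
  obtain ⟨hc'⟩ := h₄ D' α c' a hae has hsq
  let sZ : Cocone D' :=
    { pt := Zt
      ι :=
        { app := fun i => mkHom (pullback.snd (φ i) p) (show pullback.snd _ _ ≫ str Zt = pullback.fst _ _ ≫ str (D.obj i) by
            rw [← hzt, ← pullback.condition_assoc, hφz])
          naturality := fun i j f => hom_ext' ((pullback.lift_snd _ _ _).trans (Category.comp_id _).symm) } }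
  let τ : c'.pt ⟶ Zt := hc'.desc sZ
  have hτ : ∀ i, um (c'.ι.app i) ≫ um τ = pullback.snd (φ i) p := fun i =>
    congrArg (fun x => um x) (hc'.fac sZ i)
  have hC := alg c.pt
  have hU₂ := isAlgSpace_pullback hC.diag (alg c'.pt) (alg c'.pt) (um a) (um a)
  have he : IsEtaleMor (pullback.fst (um a) (um a)) :=
    EtaleSmooth.isEtaleMor_of_isPullback (alg c'.pt) (alg c'.pt) hC hU₂ (IsPullback.of_hasPullback _ _) hae
  have hs : IsSeparatedMor (pullback.fst (um a) (um a) ≫ um a) :=
    isSeparatedMor_comp (isSeparatedMor_of_isPullback (IsPullback.of_hasPullback _ _).flip has) has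
  let U : P.FullSubcategory := mkObj hP hU₂ ((pullback.fst (um a) (um a) ≫ um a) ≫ str c.pt)
    (isSeparatedMor_comp hs (isSep hP _))
  let p₁ : U ⟶ c'.pt := mkHom (pullback.fst (um a) (um a)) (show _ = (_ ≫ um a) ≫ str c.pt by
    rw [Category.assoc, um_str])
  let p₂ : U ⟶ c'.pt := mkHom (pullback.snd (um a) (um a)) (show _ = (_ ≫ um a) ≫ str c.pt by
    rw [pullback.condition, Category.assoc, um_str])
  have key := agree hP h₄ hzt (mkHom (pullback.fst (um a) (um a) ≫ um a) rfl : U ⟶ c.pt)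
    (LocalST.isEtaleMor_comp he hae) hs (p₁ ≫ τ) (p₂ ≫ τ) fun i T t d e => by
      have e' : (t ≫ pullback.fst (um a) (um a)) ≫ um a = d ≫ um (c.ι.app i) := (Category.assoc _ _ _).trans e
      have e'' : (t ≫ pullback.snd (um a) (um a)) ≫ um a = d ≫ um (c.ι.app i) := by
        rw [Category.assoc, ← pullback.condition]; exact e
      have hh : ∀ (s : T ⟶ uf c'.pt) (e₀ : s ≫ um a = d ≫ um (c.ι.app i)), s ≫ um τ ≫ p = d ≫ φ i := fun s e₀ => by
        obtain ⟨l, hl₁, hl₂⟩ := (hsq i).exists_lift s d e₀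
        rw [← hl₁, ← hl₂, Category.assoc, Category.assoc, ← Category.assoc (um (c'.ι.app i)), hτ,
          ← pullback.condition]
        rfl
      have A := hh _ e'
      have B := hh _ e''
      simp only [Category.assoc] at A B
      simpa [um_comp, p₁, p₂] using A.trans B.symm
  have := epi_of_etale (alg c'.pt) hae fun x => by
    obtain ⟨i, y, rfl⟩ := h₃ x
    obtain ⟨w, rfl⟩ := hw_surj i y
    exact ⟨Points.map (um (c'.ι.app i)) w, by
      rw [← Points.map_comp, ← Points.map_comp, (hsq i).w]; rfl⟩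
  have := IsRegularEpiCategory.regularEpiOfEpi (um a)
  have hdesc : ∀ {Y : Sp S} (g₁ g₂ : Y ⟶ uf c'.pt), g₁ ≫ um a = g₂ ≫ um a →
      g₁ ≫ um τ ≫ p = g₂ ≫ um τ ≫ p := fun g₁ g₂ e => by
    have k := congrArg (pullback.lift g₁ g₂ e ≫ ·) key
    simpa [um_comp, p₁, p₂] using k
  obtain ⟨m, hm⟩ : ∃ m, um a ≫ m = um τ ≫ p := ⟨_, EffectiveEpi.fac (um a) (um τ ≫ p) hdesc⟩
  refine ⟨m, ?_, fun i => ?_⟩
  · rw [← cancel_epi (um a), ← Category.assoc, hm, Category.assoc, hzt, um_str, um_str]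
  · have := epi_of_etale (hW i) (hw_e i) (hw_surj i)
    rw [← cancel_epi (pullback.fst (φ i) p), pullback.condition, ← hτ i, Category.assoc, ← hm,
      ← Category.assoc, ← Category.assoc]
    exact congrArg (· ≫ m) (hsq i).w.symm

end Groth.Agent.H13AlgSp.SepColim
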