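import Groth.Agent.H13AlgSp.Decent
import Groth.Agent.H12AlgSp.Proper
import Groth.Agent.H12AlgSp.QSPullback
import Groth.Agent.H12AlgSp.FinPres
import Groth.Agent.H12AlgSp.LimitDescendAffine

/-!
Separated morphisms are decent.
-/

universe u

open CategoryTheory CategoryTheory.Limits AlgebraicGeometry
open AlgSp Groth.Agent.H12AlgSp

namespace Groth.Agent.H13AlgSp

variable {S : Scheme.{u}}

theorem isQuasiSeparatedSp_yon_of_isAffine {U : Over S} (h : IsAffine U.left) :
    IsQuasiSeparatedSp ((yon S).obj U) :=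
  have : AlgebraicGeometry.IsSeparated U.hom := IsSeparated.of_comp U.hom (terminal.from S)
  (repWith_diag_yon_iff @QuasiCompact U).2 (inferInstance : QuasiSeparated U.hom).1

theorem isDecentMor_of_isSeparatedMor {X Y : Sp S} (hX : IsAlgSpace X) (hY : IsAlgSpace Y) {f : X ⟶ Y}
    (hf : IsSeparatedMor f) : IsDecentMor f :=
  isDecentMor_of_fields f fun Z g P fst snd hZ sq =>
    isDecent_of_isQuasiSeparatedSp (isAlgSpace_of_isPullback hY.diag hX (IsAlgSpace.yon_obj Z) sq)
      (isQuasiSeparatedSp_of_mor (isQuasiSeparatedMor_of_isSeparatedMor (isSeparatedMor_of_isPullback sq hf))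
        (isQuasiSeparatedSp_yon_of_isAffine hZ))

theorem isDecent_of_isSeparatedMor {X Y : Sp S} (hX : IsAlgSpace X) (hY : IsAlgSpace Y) {f : X ⟶ Y}
    (hf : IsSeparatedMor f) (hd : IsDecent Y) : IsDecent X :=
  isDecent_of_isDecentMor f (isDecentMor_of_isSeparatedMor hX hY hf) hd

end Groth.Agent.H13AlgSp
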