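import Groth.Agent.H13AlgSp.DistSq
import Groth.Agent.H12AlgSp.AffineMor
import Groth.Agent.H12AlgSp.Proper

/-!
Separatedness is checked on an etale cover by two pieces.
-/

set_option autoImplicit false
set_option backward.isDefEq.respectTransparency false

universe u

open CategoryTheory CategoryTheory.Limits AlgebraicGeometry Opposite
open AlgSp Groth.Agent.H12AlgSp

namespace Groth.Agent.H13AlgSp

variable {S : Scheme.{u}} {X Y : Sp S} (g : X ⟶ Y)

/-- The comparison map between the fibre products over `X` and over `Y`. -/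
noncomputable abbrev pbMap {A B : Sp S} (a : A ⟶ X) (b : B ⟶ X) :
    pullback a b ⟶ pullback (a ≫ g) (b ≫ g) :=
  pullback.map a b (a ≫ g) (b ≫ g) (𝟙 _) (𝟙 _) g (Category.id_comp _).symm (Category.id_comp _).symm

theorem repWith_pbMap_of_fac {P : MorphismProperty Scheme.{u}} [P.IsStableUnderBaseChange]
    {A B A' B' : Sp S} {e : A ⟶ X} {e' : B ⟶ X} {a : A' ⟶ X} {b : B' ⟶ X} (u : A' ⟶ A) (v : B' ⟶ B)
    (ha : u ≫ e = a) (hb : v ≫ e' = b) (h : RepWith P (pbMap g e e')) : RepWith P (pbMap g a b) := by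
  subst ha hb
  let Ψ : pullback ((u ≫ e) ≫ g) ((v ≫ e') ≫ g) ⟶ pullback (e ≫ g) (e' ≫ g) :=
    pullback.map _ _ _ _ u v (𝟙 _) (by simp) (by simp)
  let Θ : pullback (u ≫ e) (v ≫ e') ⟶ pullback e e' :=
    pullback.map _ _ _ _ u v (𝟙 _) (by simp) (by simp)
  have sq₁ := pullback_map_diagonal_isPullback e e' g
  have sq₂ := pullback_map_diagonal_isPullback (u ≫ e) (v ≫ e') g
  refine repWith_of_isPullback (fst := Θ) (g := Ψ) (IsPullback.of_right ?_ ?_ sq₁) h
  · convert sq₂ using 1
    · simp [Θ]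
    · apply pullback.hom_ext <;> simp [Ψ]
  · apply pullback.hom_ext <;> simp [Θ, Ψ]

theorem repWith_closed_pbMap_self {A : Sp S} (e : A ⟶ X) [Mono e] (h : IsSeparatedMor (e ≫ g)) :
    RepWith @IsClosedImmersion (pbMap g e e) := by
  have : pbMap g e e = pullback.fst e e ≫ pullback.diagonal (e ≫ g) := by
    apply pullback.hom_ext
    · simp
    · simp [fst_eq_snd_of_mono_eq e]
  rw [this]
  exact repWith_comp (repWith_of_isIso _) h

theorem isImmersion_pbMap {U V : Sp S} {j : U ⟶ X} {f : V ⟶ X} (hj : RepWith @IsOpenImmersion j)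
    (hU : IsSeparatedMor (j ≫ g)) : RepWith @IsImmersion (pbMap g j f) := by
  let qY : pullback (j ≫ g) (f ≫ g) ⟶ V := pullback.snd _ _
  have hq : IsSeparatedMor qY := isSeparatedMor_of_isPullback (IsPullback.of_hasPullback _ _) hU
  have he : pbMap g j f ≫ qY = pullback.snd j f := by simp [qY]
  have ho : RepWith @IsOpenImmersion (pbMap g j f ≫ qY) :=
    he ▸ repWith_of_isPullback (IsPullback.of_hasPullback j f) hj
  have h1 : RepWith @IsClosedImmersion (pullback.lift (f := pbMap g j f ≫ qY) (g := qY) (𝟙 _) (pbMap g j f)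
      (by simp)) := repWith_of_isPullback (pullback_lift_diagonal_isPullback (pbMap g j f) qY) hq
  have h2 : RepWith @IsOpenImmersion (pullback.snd (pbMap g j f ≫ qY) qY) :=
    repWith_of_isPullback (IsPullback.of_hasPullback _ _) ho
  have e : pullback.lift (f := pbMap g j f ≫ qY) (g := qY) (𝟙 _) (pbMap g j f) (by simp) ≫
      pullback.snd (pbMap g j f ≫ qY) qY = pbMap g j f := pullback.lift_snd _ _ _
  rw [← e]
  exact repWith_comp (repWith_le (fun _ _ i (_ : IsClosedImmersion i) => inferInstanceAs (IsImmersion i)) h1)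
    (repWith_le (fun _ _ i (_ : IsOpenImmersion i) => inferInstanceAs (IsImmersion i)) h2)

theorem isClosedImmersion_of_isImmersion_closed {A B : Sp S} {c : A ⟶ B} (hi : RepWith @IsImmersion c)
    (hc : IsClosed (Set.range (Points.map c))) : RepWith @IsClosedImmersion c := by
  refine repWith_of_snd hi.1 fun T x => ?_
  have : IsImmersion (hi.1.snd x).left := hi.property_snd x
  refine IsClosedImmersion.of_isPreimmersion _ ?_
  rw [← preimage_ofPt_range (hi.1.isPullback x)]
  exact hc.preimage (Points.continuous_ofPt x)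

theorem repWith_closed_pbMap_symm {U V : Sp S} {j : U ⟶ X} {f : V ⟶ X}
    (h : RepWith @IsClosedImmersion (pbMap g j f)) : RepWith @IsClosedImmersion (pbMap g f j) := by
  have e : pbMap g f j = (pullbackSymmetry f j).hom ≫ pbMap g j f ≫ (pullbackSymmetry _ _).hom := by
    apply pullback.hom_ext <;> simp
  rw [e]
  exact repWith_comp (repWith_of_isIso _) (repWith_comp h (repWith_of_isIso _))

theorem isSeparatedMor_of_two_cover (hX : IsAlgSpace X) (hY : IsAlgSpace Y) {κ : Type u} {A : κ → Over S}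
    (a : ∀ i, (yon S).obj (A i) ⟶ X) (ha : ∀ i, RepWith @Etale (a i))
    (hs : ∀ x : Points X, ∃ i, x ∈ Set.range (Points.map (a i)))
    (h : ∀ i k, RepWith @IsClosedImmersion (pbMap g (a i) (a k))) : IsSeparatedMor g := by
  let π : ∀ i : κ × κ, pullback (a i.1 ≫ g) (a i.2 ≫ g) ⟶ pullback g g := fun i =>
    pullback.map _ _ _ _ (a i.1) (a i.2) (𝟙 _) (Category.comp_id _) (Category.comp_id _)
  have hπ : ∀ i, RepWith @Etale (π i) := fun i => by
    let m₁ : pullback (a i.1 ≫ g) (a i.2 ≫ g) ⟶ pullback (a i.1 ≫ g) g :=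
      pullback.map _ _ _ _ (𝟙 _) (a i.2) (𝟙 _) (by simp) (by simp)
    let m₂ : pullback (a i.1 ≫ g) g ⟶ pullback g g := pullback.map _ _ _ _ (a i.1) (𝟙 _) (𝟙 _) (by simp) (by simp)
    have e : π i = m₁ ≫ m₂ := by apply pullback.hom_ext <;> simp [π, m₁, m₂]
    rw [e]
    refine repWith_comp (repWith_of_isPullback (fst := pullback.snd _ _) (g := pullback.snd _ _) ?_ (ha i.2))
      (repWith_of_isPullback (fst := pullback.fst _ _) (g := pullback.fst _ _) ?_ (ha i.1))
    · refine IsPullback.of_bot ?_ ?_ (IsPullback.of_hasPullback (a i.1 ≫ g) g).flip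
      · simpa [m₁] using (IsPullback.of_hasPullback (a i.1 ≫ g) (a i.2 ≫ g)).flip
      · simp [m₁]
    · refine IsPullback.of_bot ?_ ?_ (IsPullback.of_hasPullback g g)
      · simpa [m₂] using IsPullback.of_hasPullback (a i.1 ≫ g) g
      · simp [m₂]
  have hπs : ∀ x, ∃ i, x ∈ Set.range (Points.map (π i)) := fun x => by
    obtain ⟨i, y, hy⟩ := hs (Points.map (pullback.fst g g) x)
    obtain ⟨k, z, hz⟩ := hs (Points.map (pullback.snd g g) x)
    let m₂ : pullback (a i ≫ g) g ⟶ pullback g g := pullback.map _ _ _ _ (a i) (𝟙 _) (𝟙 _) (by simp) (by simp)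
    obtain ⟨w, -, hw⟩ := exists_point_of_isPullback (fst := pullback.fst _ _) (snd := m₂)
      (IsPullback.of_bot (by simpa [m₂] using IsPullback.of_hasPullback (a i ≫ g) g) (by simp [m₂])
        (IsPullback.of_hasPullback g g)) y x hy
    let m₁ : pullback (a i ≫ g) (a k ≫ g) ⟶ pullback (a i ≫ g) g :=
      pullback.map _ _ _ _ (𝟙 _) (a k) (𝟙 _) (by simp) (by simp)
    obtain ⟨v, -, hv⟩ := exists_point_of_isPullback (fst := pullback.snd _ _) (snd := m₁)
      (IsPullback.of_bot (by simpa [m₁] using (IsPullback.of_hasPullback (a i ≫ g) (a k ≫ g)).flip)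
        (by simp [m₁]) (IsPullback.of_hasPullback (a i ≫ g) g).flip) z w (by
          rw [hz, ← hw, ← Points.map_comp]; simp [m₂])
    refine ⟨(i, k), v, ?_⟩
    rw [show π (i, k) = m₁ ≫ m₂ by apply pullback.hom_ext <;> simp [π, m₁, m₂], Points.map_comp, hv, hw]
  exact H13AlgSp.repWith_of_fpqc (P := @IsClosedImmersion)
    (fun _ _ i (_ : IsClosedImmersion i) => inferInstanceAs (IsAffineHom i)) hX
    (isAlgSpace_of_isPullback hY.diag hX hX (IsPullback.of_hasPullback g g))
    (isFpqcCover_of_etale_family hπ hπs) (fun i => pullback_map_diagonal_isPullback (a i.1) (a i.2) g)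
    fun i => h i.1 i.2

end Groth.Agent.H13AlgSp
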