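import Groth.Agent.H12AlgSp.ShriekSpace
import Groth.Agent.H12AlgSp.Points

/-!
Connectedness of the space of points does not depend on the base scheme.
-/

set_option autoImplicit false
set_option backward.isDefEq.respectTransparency false

universe u

open CategoryTheory CategoryTheory.Limits AlgebraicGeometry Opposite Topology
open AlgSp Groth.Agent.H12AlgSp Groth.Agent.H12AlgSp.Shriek

namespace Groth.Agent.H13AlgSp

theorem connectedSpace_of_quotientMaps {A B C : Type*} [TopologicalSpace A] [TopologicalSpace B] [TopologicalSpace C]
    {q : A → B} {q' : A → C} (hq : IsQuotientMap q) (hc : Continuous q') (hs : Function.Surjective q')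
    (hk : ∀ x y, q x = q y → q' x = q' y) [ConnectedSpace B] : ConnectedSpace C := by
  have e : (fun b => q' (Function.surjInv hq.surjective b)) ∘ q = q' :=
    funext fun x => hk _ _ (Function.surjInv_eq hq.surjective (q x))
  refine Function.Surjective.connectedSpace (f := fun b => q' (Function.surjInv hq.surjective b)) (fun c => ?_)
    (hq.continuous_iff.2 (by rw [e]; exact hc))
  obtain ⟨x, rfl⟩ := hs c
  exact ⟨q x, congrFun e x⟩

variable {S' S : Scheme.{u}} {g : S ⟶ S'}

/-- Connectedness of the space of points is the same over the two bases. -/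
theorem connectedSpace_shr_iff {F : Sp S} (hF : IsAlgSpace F) :
    ConnectedSpace (Points ((shr g).obj F)) ↔ ConnectedSpace (Points F) := by
  obtain ⟨U, a, hae, has⟩ := hF.atlas
  let U' := (Over.map g).obj U
  let a' : (yon S').obj U' ⟶ (shr g).obj F := (yonIso g U).inv ≫ (shr g).map a
  have hae' : RepWith @Etale a' := MorphismProperty.RespectsIso.precomp _ _ _ ((repWith_shr_iff g @Etale a).2 hae)
  have has' : RepWith @Surjective a' :=
    MorphismProperty.RespectsIso.precomp _ _ _ ((repWith_shr_iff g @Surjective a).2 has)
  obtain ⟨R, s, t', sq⟩ := hae.1 a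
  obtain ⟨t, rfl⟩ := (yon S).map_surjective t'
  have hsq' : IsPullback ((yon S').map ((Over.map g).map t)) ((yon S').map ((Over.map g).map s)) a' a' := by
    refine (isPullback_shr_yon (g := g) sq).of_iso (Iso.refl _) (yonIso g U) (Iso.refl _) (Iso.refl _) ?_
      (by simp) (by simp [a']) (by simp [a'])
    rw [Iso.refl_hom, Category.id_comp, Category.assoc, yonIso_naturality, Iso.inv_hom_id_assoc]
  have key : ∀ x y : U.left, Points.ofPt a x = Points.ofPt a y ↔ Points.ofPt a' x = Points.ofPt a' y := by
    intro x y
    constructor <;> intro e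
    · obtain ⟨z, hz₁, hz₂⟩ := exists_point_of_isPullback sq (Points.ofScheme U x) (Points.ofScheme U y)
        (by rw [← Points.ofPt_eq_map_ofScheme, ← Points.ofPt_eq_map_ofScheme, e])
      obtain ⟨r, rfl⟩ := (Points.schemeEquiv R).surjective z
      obtain rfl : t.left r = x := (Points.schemeEquiv U).injective ((Points.map_yon_map_apply t r).symm.trans hz₁)
      obtain rfl : s.left r = y := (Points.schemeEquiv U).injective ((Points.map_yon_map_apply s r).symm.trans hz₂)
      refine (ofPt_map ((Over.map g).map t) a' r).symm.trans (Eq.trans ?_ (ofPt_map ((Over.map g).map s) a' r))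
      rw [hsq'.w]
    · obtain ⟨z, hz₁, hz₂⟩ := exists_point_of_isPullback hsq' (Points.ofScheme U' x) (Points.ofScheme U' y)
        (by rw [← Points.ofPt_eq_map_ofScheme, ← Points.ofPt_eq_map_ofScheme, e])
      obtain ⟨r, rfl⟩ := (Points.schemeEquiv ((Over.map g).obj R)).surjective z
      obtain rfl : t.left r = x := (Points.schemeEquiv U').injective
        ((Points.map_yon_map_apply ((Over.map g).map t) r).symm.trans hz₁)
      obtain rfl : s.left r = y := (Points.schemeEquiv U').injective
        ((Points.map_yon_map_apply ((Over.map g).map s) r).symm.trans hz₂)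
      refine (ofPt_map t a r).symm.trans (Eq.trans ?_ (ofPt_map s a r))
      rw [sq.w]
  have hq : IsQuotientMap (Points.ofPt a) :=
    (isOpenMap_ofPt_of_repWith etale_le_universallyOpen hae).isQuotientMap (Points.continuous_ofPt a)
      (surjective_ofPt_of_repWith le_rfl has)
  have hq' : IsQuotientMap (Points.ofPt a') :=
    (isOpenMap_ofPt_of_repWith etale_le_universallyOpen hae').isQuotientMap (Points.continuous_ofPt a')
      (surjective_ofPt_of_repWith le_rfl has')
  constructor <;> intro h
  · exact connectedSpace_of_quotientMaps (q' := Points.ofPt a) (A := U.left) hq' (Points.continuous_ofPt a)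
      hq.surjective fun x y e => (key x y).2 e
  · exact connectedSpace_of_quotientMaps (q' := Points.ofPt a') hq (Points.continuous_ofPt a')
      hq'.surjective fun x y e => (key x y).1 e

end Groth.Agent.H13AlgSp
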