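import Groth.Agent.H13AlgSp.EtaleShift
import Mathlib.RingTheory.RingHom.LocallyStandardSmooth

/-!
Smooth morphisms have sections etale locally on the base.
-/

universe u

open CategoryTheory CategoryTheory.Limits AlgebraicGeometry

namespace Groth.Agent.H13AlgSp.SmoothSection

theorem exists_section_affine {R C : Type u} [CommRing R] [CommRing C] {n : ℕ}
    (γ : MvPolynomial (Fin n) R →+* C) (hγ : γ.Etale) (z : PrimeSpectrum C) :
    ∃ (U' : Scheme.{u}) (e : U' ⟶ Spec (CommRingCat.of R)) (r : U' ⟶ Spec (CommRingCat.of C)), Etale e ∧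
      r ≫ Spec.map (CommRingCat.ofHom (γ.comp MvPolynomial.C)) = e ∧
      PrimeSpectrum.comap (γ.comp MvPolynomial.C) z ∈ Set.range e := by
  let L := AlgebraicClosure z.asIdeal.ResidueField
  let zL : C →+* L := (algebraMap z.asIdeal.ResidueField L).comp (algebraMap C z.asIdeal.ResidueField)
  have hker : RingHom.ker zL = z.asIdeal := by
    ext c
    rw [RingHom.mem_ker, RingHom.comp_apply, map_eq_zero, Ideal.algebraMap_residueField_eq_zero]
  let ξ : R →+* L := zL.comp (γ.comp MvPolynomial.C)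
  let π : Spec (CommRingCat.of C) ⟶ Spec (CommRingCat.of (MvPolynomial (Fin n) R)) :=
    Spec.map (CommRingCat.ofHom γ)
  have : Etale π := (HasRingHomProperty.Spec_iff (P := @Etale)).2 hγ
  let θ : Spec (CommRingCat.of (MvPolynomial (Fin n) L)) ⟶ Spec (CommRingCat.of (MvPolynomial (Fin n) R)) :=
    Spec.map (CommRingCat.ofHom (MvPolynomial.map ξ))
  let Ω : (Spec (CommRingCat.of (MvPolynomial (Fin n) L))).Opens :=
    ⟨θ ⁻¹' Set.range π, π.isOpenMap.isOpen_range.preimage θ.continuous⟩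
  let pt : (Fin n → L) → PrimeSpectrum (MvPolynomial (Fin n) L) := fun t =>
    ⟨RingHom.ker (MvPolynomial.eval t), RingHom.ker_isPrime _⟩
  let t₁ : Fin n → L := fun i => zL (γ (MvPolynomial.X i))
  have hcomp : (MvPolynomial.eval t₁).comp (MvPolynomial.map ξ) = zL.comp γ :=
    MvPolynomial.ringHom_ext (fun r => by simp [ξ]) (fun i => by simp [t₁])
  have ht₁ : pt t₁ ∈ Ω := by
    refine ⟨z, PrimeSpectrum.ext ?_⟩
    show z.asIdeal.comap γ = (RingHom.ker (MvPolynomial.eval t₁)).comap (MvPolynomial.map ξ)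
    rw [RingHom.comap_ker, hcomp, ← RingHom.comap_ker, hker]
  obtain ⟨_, ⟨g, rfl⟩, hg, hgΩ⟩ :=
    (PrimeSpectrum.isTopologicalBasis_basic_opens (R := MvPolynomial (Fin n) L)).exists_subset_of_mem_open ht₁ Ω.2
  have hg0 : g ≠ 0 := fun h => hg (h ▸ Submodule.zero_mem _)
  obtain ⟨R', _, φ, ξ', a, hφ, hξ', hne⟩ := EtaleSmooth.exists_shift ξ (fun _ => 0) hg0
  simp only [zero_add] at hne
  let σ : Spec (CommRingCat.of R') ⟶ Spec (CommRingCat.of (MvPolynomial (Fin n) R)) :=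
    Spec.map (CommRingCat.ofHom (MvPolynomial.eval₂Hom φ a))
  have hσ : σ ≫ Spec.map (CommRingCat.ofHom MvPolynomial.C) = Spec.map (CommRingCat.ofHom φ) := by
    rw [← Spec.map_comp, ← CommRingCat.ofHom_comp]
    congr 2
    exact RingHom.ext fun r => MvPolynomial.eval₂Hom_C φ a r
  have hR' : Etale (Spec.map (CommRingCat.ofHom φ)) := (HasRingHomProperty.Spec_iff (P := @Etale)).2 hφ
  have : Etale (pullback.snd π σ) := MorphismProperty.pullback_snd (P := @Etale) _ _ ‹_›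
  have he : Etale (pullback.snd π σ ≫ Spec.map (CommRingCat.ofHom φ)) := inferInstance
  refine ⟨pullback π σ, pullback.snd π σ ≫ Spec.map (CommRingCat.ofHom φ), pullback.fst π σ, he, ?_, ?_⟩
  · rw [CommRingCat.ofHom_comp, Spec.map_comp, pullback.condition_assoc, hσ]
  let q : PrimeSpectrum R' := ⟨RingHom.ker ξ', RingHom.ker_isPrime _⟩
  obtain ⟨c, hc⟩ : σ q ∈ Set.range π := by
    have h2 : θ (pt fun i => ξ' (a i)) ∈ Set.range π := hgΩ hne
    convert h2 using 1
    refine PrimeSpectrum.ext ?_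
    show (RingHom.ker ξ').comap (MvPolynomial.eval₂Hom φ a) =
      (RingHom.ker (MvPolynomial.eval fun i => ξ' (a i))).comap (MvPolynomial.map ξ)
    rw [RingHom.comap_ker, RingHom.comap_ker]
    congr 1
    exact MvPolynomial.ringHom_ext (fun r => by simp [← RingHom.comp_apply ξ', hξ']) (fun i => by simp)
  obtain ⟨x, -, hx⟩ := Scheme.Pullback.exists_preimage_pullback (f := π) (g := σ) c q hc
  refine ⟨x, ?_⟩
  rw [Scheme.Hom.comp_apply, hx]
  refine PrimeSpectrum.ext ?_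
  show (RingHom.ker ξ').comap φ = z.asIdeal.comap (γ.comp MvPolynomial.C)
  rw [RingHom.comap_ker, hξ', ← RingHom.comap_ker, hker]

/-- A smooth morphism has sections etale locally on the base through the image of any point. -/
theorem exists_etale_section {W U : Scheme.{u}} (h : W ⟶ U) [Smooth h] (w : W) :
    ∃ (U' : Scheme.{u}) (e : U' ⟶ U) (r : U' ⟶ W), Etale e ∧ r ≫ h = e ∧ h w ∈ Set.range e := by
  obtain ⟨_, ⟨V, hV, rfl⟩, hwV, -⟩ := U.isBasis_affineOpens.exists_subset_of_mem_open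
    (Set.mem_univ (h w)) isOpen_univ
  obtain ⟨_, ⟨W₁, hW₁, rfl⟩, hwW, hle⟩ := W.isBasis_affineOpens.exists_subset_of_mem_open
    (show w ∈ h ⁻¹ᵁ V from hwV) (h ⁻¹ᵁ V).isOpen
  have hφs := HasRingHomProperty.appLE (P := @Smooth) h ‹_› ⟨V, hV⟩ ⟨W₁, hW₁⟩ hle
  obtain ⟨T, hT, hTs⟩ := RingHom.smooth_iff_locally_isStandardSmooth.1 hφs
  obtain ⟨b, hbT, hb⟩ : ∃ b ∈ T, b ∉ (hW₁.primeIdealOf ⟨w, hwW⟩).asIdeal := by
    by_contra hh
    push Not at hh
    exact (hW₁.primeIdealOf ⟨w, hwW⟩).2.ne_top (eq_top_iff.2 (hT.ge.trans (Ideal.span_le.2 hh)))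
  obtain ⟨n, γ, hγ, hγe⟩ := RingHom.IsStandardSmooth.exists_etale_mvPolynomial (hTs b hbT)
  obtain ⟨z, hz⟩ : hW₁.primeIdealOf ⟨w, hwW⟩ ∈
      Set.range (PrimeSpectrum.comap (algebraMap Γ(W, W₁) (Localization.Away b))) := by
    rw [PrimeSpectrum.localization_away_comap_range (Localization.Away b) b]; exact hb
  obtain ⟨U', e, r, he, hre, hze⟩ := exists_section_affine γ hγe z
  refine ⟨U', e ≫ hV.fromSpec, r ≫ Spec.map (CommRingCat.ofHom (algebraMap Γ(W, W₁) (Localization.Away b))) ≫ hW₁.fromSpec,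
    inferInstance, ?_, ?_⟩
  · have e1 : Spec.map (CommRingCat.ofHom (algebraMap Γ(W, W₁) (Localization.Away b))) ≫
        Spec.map (h.appLE V W₁ hle) = Spec.map (CommRingCat.ofHom (γ.comp MvPolynomial.C)) := by
      rw [← Spec.map_comp]
      congr 1
      exact CommRingCat.hom_ext hγ.symm
    rw [Category.assoc, Category.assoc, ← hV.SpecMap_appLE_fromSpec h hW₁ hle, reassoc_of% e1, ← hre, Category.assoc]
  · obtain ⟨x, hx⟩ := hze
    refine ⟨x, ?_⟩
    rw [Scheme.Hom.comp_apply, hx]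
    have h1 : hW₁.fromSpec (hW₁.primeIdealOf ⟨w, hwW⟩) = w := hW₁.fromSpec_primeIdealOf ⟨w, hwW⟩
    conv_rhs => rw [← h1, ← Scheme.Hom.comp_apply, ← hV.SpecMap_appLE_fromSpec h hW₁ hle, Scheme.Hom.comp_apply, ← hz]
    congr 1
    rw [hγ]
    rfl

end Groth.Agent.H13AlgSp.SmoothSection
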