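import Groth.Agent.H12AlgSp.UnivClosedQC
import Groth.Agent.H12AlgSp.Proper
import Groth.Agent.H12AlgSp.UnivInj
import Groth.Agent.H12AlgSp.PointsTop
import Groth.Prelude.Def_AlgSpInf

/-!
Topological properties of morphisms of algebraic spaces and thickenings.
-/

universe u

open CategoryTheory CategoryTheory.Limits AlgebraicGeometry Opposite
open AlgSp Groth.Agent.H12AlgSp

namespace Groth.Agent.H13AlgSp.Thick

variable {S : Scheme.{u}} {X Y Z : Sp S}

set_option backward.isDefEq.respectTransparency false in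
theorem isQuasiSeparatedMor_of_comp {f : X ⟶ Y} {g : Y ⟶ Z} (h : IsQuasiSeparatedMor (f ≫ g)) :
    IsQuasiSeparatedMor f := by
  let m := pullback.map f f (f ≫ g) (f ≫ g) (𝟙 X) (𝟙 X) g (by simp) (by simp)
  have : Mono m := ⟨fun a b e => by
    apply pullback.hom_ext
    · have := e =≫ pullback.fst (f ≫ g) (f ≫ g)
      simpa [m, pullback.map] using this
    · have := e =≫ pullback.snd (f ≫ g) (f ≫ g)
      simpa [m, pullback.map] using this⟩
  have hm : pullback.diagonal f ≫ m = pullback.diagonal (f ≫ g) := by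
    apply pullback.hom_ext <;> simp [m, pullback.map]
  refine repWith_of_isPullback (fst := 𝟙 X) (g := m) ?_ h
  refine ⟨⟨by rw [Category.id_comp, hm]⟩, ⟨PullbackCone.IsLimit.mk _ (fun c => c.fst) (fun c => by simp)
    (fun c => ?_) (fun c r h₁ h₂ => by simpa using h₁)⟩⟩
  rw [← cancel_mono m, Category.assoc, hm]
  exact c.condition

/-- Cancelling a monomorphism on the right in universal properties. -/
theorem univSp_of_comp_mono {Q : MorphismProperty (Sp S)} {f : X ⟶ Y} {j : Y ⟶ Z} [Mono j]
    (h : UnivSp Q (f ≫ j)) : UnivSp Q f := fun T T' hT g a b sq =>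
  h hT (g ≫ j) a b ⟨⟨by rw [← Category.assoc, ← Category.assoc, sq.w]⟩, ⟨PullbackCone.IsLimit.mk _
    (fun c => sq.lift c.fst c.snd ((cancel_mono j).mp (by simpa using c.condition)))
    (fun c => sq.lift_fst _ _ _) (fun c => sq.lift_snd _ _ _)
    fun c m h1 h2 => sq.hom_ext (by rw [h1, sq.lift_fst]) (by rw [h2, sq.lift_snd])⟩⟩

/-- Cancelling a surjective morphism on the left in universal properties. -/
theorem univSp_of_surjective {Q : MorphismProperty (Sp S)}
    (hQ : ∀ {A B C : Sp S} (p : A ⟶ B) (q : B ⟶ C), Function.Surjective (Points.map p) → Q (p ≫ q) → Q q)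
    {f : X ⟶ Y} {q : Y ⟶ Z} (hs : Function.Surjective (Points.map f)) (h : UnivSp Q (f ≫ q)) :
    UnivSp Q q := by
  intro T Y' hT g fst snd sq
  refine hQ (pullback.snd f fst) snd (fun y => ?_)
    (h hT g _ _ ((IsPullback.of_hasPullback f fst).paste_vert sq))
  obtain ⟨x, hx⟩ := hs (Points.map fst y)
  obtain ⟨w, -, hw⟩ := exists_point_of_isPullback (IsPullback.of_hasPullback f fst) x y hx
  exact ⟨w, hw⟩

theorem isUnivOpenMor_of_surjective {f : X ⟶ Y} {q : Y ⟶ Z} (hs : Function.Surjective (Points.map f))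
    (h : IsUnivOpenMor (f ≫ q)) : IsUnivOpenMor q :=
  univSp_of_surjective (fun p r hp h W hW => by
    have e : Points.map r '' W = Points.map (p ≫ r) '' (Points.map p ⁻¹' W) := by
      conv_lhs => rw [← Set.image_preimage_eq W hp, Set.image_image]
      exact Set.image_congr' fun x => (Points.map_comp p r x).symm
    rw [e]
    exact h _ (hW.preimage (Points.continuous_map _))) hs h

theorem isUnivInjectiveMor_of_surjective {f : X ⟶ Y} {q : Y ⟶ Z} (hs : Function.Surjective (Points.map f))
    (h : IsUnivInjectiveMor (f ≫ q)) : IsUnivInjectiveMor q :=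
  univSp_of_surjective (fun p r hp h a b e => by
    obtain ⟨a', rfl⟩ := hp a
    obtain ⟨b', rfl⟩ := hp b
    exact congrArg (Points.map p) (h (by rw [Points.map_comp, Points.map_comp]; exact e))) hs h

theorem isUnivOpenMor_comp (hY : IsAlgSpace Y) (hZ : IsAlgSpace Z) {f : X ⟶ Y} {g : Y ⟶ Z}
    (hf : IsUnivOpenMor f) (hg : IsUnivOpenMor g) : IsUnivOpenMor (f ≫ g) :=
  have : (IsOpenMor (S := S)).IsStableUnderComposition := ⟨fun a b ha hb W hW => by
    rw [show Points.map (a ≫ b) '' W = Points.map b '' (Points.map a '' W) by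
      rw [Set.image_image]; exact Set.image_congr' fun x => Points.map_comp a b x]
    exact hb _ (ha _ hW)⟩
  univSp_comp_of hY hZ hf hg

theorem isUnivInjectiveMor_comp (hY : IsAlgSpace Y) (hZ : IsAlgSpace Z) {f : X ⟶ Y} {g : Y ⟶ Z}
    (hf : IsUnivInjectiveMor f) (hg : IsUnivInjectiveMor g) : IsUnivInjectiveMor (f ≫ g) :=
  have : MorphismProperty.IsStableUnderComposition
      (fun _ _ f => Function.Injective (Points.map f) : MorphismProperty (Sp S)) :=
    ⟨fun a b ha hb x y e => ha (hb (by rwa [Points.map_comp, Points.map_comp] at e))⟩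
  univSp_comp_of hY hZ hf hg

/-- The properties of thickenings used below. -/
theorem props_of_isThickMor (hY : IsAlgSpace Y) {i : X ⟶ Y} (hi : IsThickMor i) :
    Mono i ∧ Function.Surjective (Points.map i) ∧ IsProperMor i ∧ IsUnivOpenMor i ∧ IsUnivInjectiveMor i := by
  have hc : RepWith @IsClosedImmersion i := repWith_le (fun _ _ _ h => h.1) hi
  have hm : Mono i := mono_of_repWith (fun _ _ j (_ : IsClosedImmersion j) => inferInstanceAs (Mono j)) hc
  have hp := isProperMor_of_isClosedImmersion hY hc
  have hs : Function.Surjective (Points.map i) :=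
    surjective_map_of_repWith (P := thick) (fun _ _ _ h => h.2) hi
  have hinj : IsUnivInjectiveMor i := fun _ _ _ g a b sq => by
    have : Mono b := MorphismProperty.of_isPullback (P := MorphismProperty.monomorphisms (Sp S)) sq hm
    exact injective_map_of_mono b
  refine ⟨hm, hs, hp, ?_, hinj⟩
  intro T T' hT g a b sq W hW
  have hbs : Function.Surjective (Points.map b) := fun t => by
    obtain ⟨x, hx⟩ := hs (Points.map g t)
    obtain ⟨w, -, hw⟩ := exists_point_of_isPullback sq x t hx
    exact ⟨w, hw⟩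
  have hbi : Function.Injective (Points.map b) := hinj hT g a b sq
  have e : Points.map b '' W = (Points.map b '' Wᶜ)ᶜ := by
    rw [Set.image_compl_eq ⟨hbi, hbs⟩, compl_compl]
  rw [e]
  exact (hp.2.2 hT g a b sq _ hW.isClosed_compl).isOpen_compl

end Groth.Agent.H13AlgSp.Thick
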