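import Groth.Agent.H13AlgSp.ThickFlat

/-!
Morphisms over finite order and arbitrary thickenings of the base.
-/

universe u

open CategoryTheory CategoryTheory.Limits AlgebraicGeometry Opposite
open AlgSp Groth.Agent.H12AlgSp

namespace Groth.Agent.H13AlgSp.ThickFlat

variable {S : Scheme.{u}} {X X' Y Y' B B' : Space S} {iX : X ⟶ X'} {iY : Y ⟶ Y'} {iB : B ⟶ B'}
  {f : X ⟶ Y} {f' : X' ⟶ Y'} {g : Y ⟶ B} {g' : Y' ⟶ B'}

theorem transfer_fin (hcX : IsPullback iX.hom (f ≫ g).hom (f' ≫ g').hom iB.hom)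
    (hcY : IsPullback iY.hom g.hom g'.hom iB.hom) (w : iX ≫ f' = f ≫ iY)
    (hB : IsFinThickMor iB.hom) (hflat : LocP @Flat (f' ≫ g').hom) :
    IsPullback iX.hom f.hom f'.hom iY.hom ∧ IsThickMor iY.hom ∧
      (LocP @LocallyOfFiniteType f.hom ↔ LocP @LocallyOfFiniteType f'.hom) ∧
      (LocP @Etale f.hom → LocP @Etale f'.hom) ∧ (LocP @Flat f.hom → LocP @Flat f'.hom) ∧
      (LocP @LocallyOfFinitePresentation f.hom → LocP @LocallyOfFinitePresentation f'.hom) := by
  have w' : iX.hom ≫ f'.hom = f.hom ≫ iY.hom := congrArg (fun e : X ⟶ Y' => e.hom) w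
  obtain ⟨t⟩ := ThickCharts.exists_three X'.property Y'.property B'.property hB.choose_spec.1 hcX hcY w'
  have := t.flat_comp hflat
  have hW := t.finiteOrderW hB
  exact ⟨IsPullback.of_bot hcX w' hcY, repWith_of_isPullback (P := thick) hcY.flip hB.choose_spec.1,
    t.top.locP_iff etLocal_lft (Groth.Agent.S1309.result _ _ _ _ (t.finiteOrderV hB) t.top.sq),
    (t.top.locP_iff etLocal_etale (Groth.Agent.S1322.result _ _ _ _ _ _ _ hW t.sqX t.sqY t.w)).1,
    (t.top.locP_iff etLocal_flat (Groth.Agent.S1317.result _ _ _ _ _ _ _ hW t.sqX t.sqY t.w)).1,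
    (t.top.locP_iff etLocal_lfp (Groth.Agent.S1320.result _ _ _ _ _ _ _ hW t.sqX t.sqY t.w)).1⟩

theorem transfer_lfp (hcX : IsPullback iX.hom (f ≫ g).hom (f' ≫ g').hom iB.hom)
    (hcY : IsPullback iY.hom g.hom g'.hom iB.hom) (w : iX ≫ f' = f ≫ iY)
    (hB : IsThickMor iB.hom) (hg' : LocP @LocallyOfFiniteType g'.hom)
    (hflat : LocP @Flat (f' ≫ g').hom) (hfp : LocP @LocallyOfFinitePresentation (f' ≫ g').hom) :
    IsPullback iX.hom f.hom f'.hom iY.hom ∧ IsThickMor iY.hom ∧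
      (LocP @LocallyOfFiniteType f.hom ↔ LocP @LocallyOfFiniteType f'.hom) ∧
      (LocP @Etale f.hom → LocP @Etale f'.hom) ∧ (LocP @Flat f.hom → LocP @Flat f'.hom) ∧
      LocP @LocallyOfFinitePresentation f'.hom := by
  have w' : iX.hom ≫ f'.hom = f.hom ≫ iY.hom := congrArg (fun e : X ⟶ Y' => e.hom) w
  obtain ⟨t⟩ := ThickCharts.exists_three X'.property Y'.property B'.property hB hcX hcY w'
  have := t.flat_comp hflat
  have hc : LocallyOfFinitePresentation (t.top.h'.left ≫ t.k'.left) :=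
    hfp t.top.a' t.c' (t.top.h' ≫ t.k') t.top.ha' t.hc' (by
      show t.top.a' ≫ f'.hom ≫ g'.hom = _
      rw [← Category.assoc, t.top.w', Category.assoc, t.wk', Functor.map_comp, Category.assoc])
  have : LocallyOfFiniteType t.k'.left := hg' t.top.b' t.c' t.k' t.top.hb' t.hc' t.wk'
  have hh' : LocallyOfFinitePresentation t.top.h'.left := lfp_of_comp t.top.h'.left t.k'.left
  have hl' : LocallyOfFiniteType t.top.h'.left := inferInstance
  exact ⟨IsPullback.of_bot hcX w' hcY, repWith_of_isPullback (P := thick) hcY.flip hB,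
    t.top.locP_iff etLocal_lft (iff_of_true (MorphismProperty.of_isPullback t.top.sq hl') hl'),
    (t.top.locP_iff etLocal_etale (Groth.Agent.S1385.result _ _ _ _ _ _ _ t.thickW t.sqX t.sqY t.w)).1,
    (t.top.locP_iff etLocal_flat (Groth.Agent.S1381.result _ _ _ _ _ _ _ t.thickW t.sqX t.sqY t.w)).1,
    locP_of_one_chart etLocal_lfp t.top.h' t.top.ha' t.top.has' t.top.hb' t.top.w' hh'⟩

theorem mono_iff_fin (hcX : IsPullback iX.hom (f ≫ g).hom (f' ≫ g').hom iB.hom)
    (hcY : IsPullback iY.hom g.hom g'.hom iB.hom) (w : iX ≫ f' = f ≫ iY)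
    (hB : IsFinThickMor iB.hom) (hflat : LocP @Flat (f' ≫ g').hom) : Mono f.hom ↔ Mono f'.hom := by
  have htop := (transfer_fin hcX hcY w hB hflat).1
  refine ⟨fun hm => ?_, fun hm =>
    MorphismProperty.of_isPullback (P := MorphismProperty.monomorphisms (Sp S)) htop hm⟩
  obtain ⟨P, P', pr, pr₂, iP, qP, δ, δ', hcX', hcP, wδ, hpr, -, h1, h2⟩ := exists_diag_data hcY htop
  have e : δ' ≫ pr ≫ f' ≫ g' = f' ≫ g' := by rw [reassoc_of% hpr]
  obtain ⟨ht, hj, -, het, -⟩ := transfer_fin hcX' hcP wδ hB (by rw [e]; exact hflat)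
  exact h2 ((isIso_iff hj ht het).1 (h1 hm))

theorem mono_iff_lfp (hcX : IsPullback iX.hom (f ≫ g).hom (f' ≫ g').hom iB.hom)
    (hcY : IsPullback iY.hom g.hom g'.hom iB.hom) (w : iX ≫ f' = f ≫ iY)
    (hB : IsThickMor iB.hom) (hg' : LocP @LocallyOfFiniteType g'.hom)
    (hflat : LocP @Flat (f' ≫ g').hom) (hfp : LocP @LocallyOfFinitePresentation (f' ≫ g').hom) :
    Mono f.hom ↔ Mono f'.hom := by
  obtain ⟨htop, -, -, -, -, hlfp⟩ := transfer_lfp hcX hcY w hB hg' hflat hfp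
  refine ⟨fun hm => ?_, fun hm =>
    MorphismProperty.of_isPullback (P := MorphismProperty.monomorphisms (Sp S)) htop hm⟩
  obtain ⟨P, P', pr, pr₂, iP, qP, δ, δ', hcX', hcP, wδ, hpr, hker, h1, h2⟩ := exists_diag_data hcY htop
  have e : δ' ≫ pr ≫ f' ≫ g' = f' ≫ g' := by rw [reassoc_of% hpr]
  have hlft' : LocP @LocallyOfFiniteType f'.hom := fun _ _ a b h ha hb wh =>
    haveI : LocallyOfFinitePresentation h.left := hlfp a b h ha hb wh
    inferInstance
  have hP' : LocP @LocallyOfFiniteType (pr ≫ f' ≫ g').hom := by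
    show LocP @LocallyOfFiniteType (pr.hom ≫ f'.hom ≫ g'.hom)
    exact Groth.Agent.H12AlgSp.locP_comp etLocal_lft P'.property X'.property B'.property
      (Groth.Agent.H12AlgSp.locP_of_isPullback etLocal_lft hker.flip X'.property Y'.property X'.property hlft')
      (Groth.Agent.H12AlgSp.locP_comp etLocal_lft X'.property Y'.property B'.property hlft' hg')
  obtain ⟨ht, hj, -, het, -⟩ :=
    transfer_lfp hcX' hcP wδ hB hP' (by rw [e]; exact hflat) (by rw [e]; exact hfp)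
  exact h2 ((isIso_iff hj ht het).1 (h1 hm))

end Groth.Agent.H13AlgSp.ThickFlat
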