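import Groth.Agent.H7Flat.NilDeform

/-!
Local finite type can be checked on a base change which is a finite order thickening of the source.
-/

set_option backward.isDefEq.respectTransparency false

universe u

open AlgebraicGeometry CategoryTheory CategoryTheory.Limits
open Groth.Agent.H7Flat.NilDeform

namespace Groth.Agent.H13AlgSp.ThickLft

variable {A B A' B' : CommRingCat.{u}} {α : A ⟶ B} {β : A ⟶ A'} {γ : B ⟶ B'} {δ : A' ⟶ B'}

/-- Algebra generators lift when the kernel upstairs is nilpotent. -/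
theorem finiteType_of_isPushout' (hnil : IsNilpotent (RingHom.ker γ.hom))
    (h : IsPushout α β γ δ) (hβ : Function.Surjective β) (hγ : Function.Surjective γ)
    (hδ : δ.hom.FiniteType) : α.hom.FiniteType := by
  classical
  have hcomp : (α ≫ γ).hom.FiniteType := by
    rw [h.w, CommRingCat.hom_comp]
    exact hδ.comp (RingHom.FiniteType.of_surjective _ hβ)
  algebraize [α.hom]
  letI := (α ≫ γ).hom.toAlgebra
  haveI : Algebra.FiniteType A B' := hcomp
  let γₐ : B →ₐ[A] B' := { γ.hom with commutes' := fun _ ↦ rfl }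
  obtain ⟨s, hs⟩ := Algebra.FiniteType.out (R := A) (A := B')
  choose σ hσ using hγ
  let D : Subalgebra A B := Algebra.adjoin A (σ '' (s : Set B'))
  have hD : D.map γₐ = ⊤ := by
    rw [eq_top_iff, ← hs, Algebra.adjoin_le_iff]
    exact fun c hc ↦ ⟨σ c, Algebra.subset_adjoin ⟨c, hc, rfl⟩, hσ c⟩
  let I := RingHom.ker β.hom
  have h1 : (⊤ : Submodule A B) ≤ Subalgebra.toSubmodule D ⊔ I • ⊤ := fun b _ ↦ by
    obtain ⟨d, hd, hdb⟩ := hD.ge (show γₐ b ∈ (⊤ : Subalgebra A B') from trivial)
    have hbd : b - d ∈ RingHom.ker γ.hom := by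
      rw [RingHom.mem_ker, map_sub, sub_eq_zero]; exact hdb.symm
    rw [ker_of_isPushout h hβ] at hbd
    refine Submodule.mem_sup.mpr ⟨d, hd, b - d, ?_, add_sub_cancel _ _⟩
    rw [Ideal.smul_top_eq_map]
    exact hbd
  obtain ⟨n, hn⟩ := hnil
  have h2 : ∀ k : ℕ, (⊤ : Submodule A B) ≤ Subalgebra.toSubmodule D ⊔ I ^ k • ⊤ := fun k ↦ by
    induction k with
    | zero => exact le_sup_of_le_right (by rw [pow_zero, Ideal.one_eq_top, Submodule.top_smul])
    | succ k ih =>
      refine ih.trans (sup_le le_sup_left ((Submodule.smul_mono le_rfl h1).trans ?_))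
      rw [Submodule.smul_sup, ← Submodule.mul_smul, ← pow_succ]
      exact sup_le_sup Submodule.smul_le_right le_rfl
  have hbot : I ^ n • (⊤ : Submodule A B) = ⊥ := by
    rw [Ideal.smul_top_eq_map, show Ideal.map (algebraMap A B) (I ^ n) = ⊥ from ?_]
    · exact Submodule.restrictScalars_bot A B B
    · rw [Ideal.map_pow, show algebraMap A B = α.hom from rfl, ← ker_of_isPushout h hβ, hn]
      rfl
  have htop : (⊤ : Submodule A B) ≤ Subalgebra.toSubmodule D := by
    have := h2 n
    rwa [hbot, sup_bot_eq] at this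
  exact ⟨⟨s.image σ, top_le_iff.mp fun b _ ↦ by
    rw [Finset.coe_image]; exact htop (Submodule.mem_top (x := b))⟩⟩

/-- A base change which is a finite order thickening of the source detects local finite type. -/
theorem lft_of_nilpotent_ker {X X' Y Y' : Scheme.{u}} {iX : X ⟶ X'} {iY : Y ⟶ Y'} {f : X ⟶ Y}
    {f' : X' ⟶ Y'} (hc : IsPullback iX f f' iY) [IsClosedImmersion iY] (hnil : IsNilpotent iX.ker)
    [LocallyOfFiniteType f] : LocallyOfFiniteType f' := by
  haveI : IsClosedImmersion iX := MorphismProperty.of_isPullback (P := @IsClosedImmersion) hc.flip inferInstance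
  rw [HasRingHomProperty.iff_exists_appLE (P := @LocallyOfFiniteType)
    (RingHom.finiteType_stableUnderComposition.stableUnderCompositionWithLocalizationAway
      RingHom.finiteType_holdsForLocalizationAway).1]
  intro x
  obtain ⟨V, hV, hxV, -⟩ := exists_isAffineOpen_mem_and_subset (x := f' x) (U := ⊤) trivial
  obtain ⟨W, hW, hxW, hWV⟩ := exists_isAffineOpen_mem_and_subset (x := x) (U := f' ⁻¹ᵁ V) hxV
  refine ⟨⟨V, hV⟩, ⟨W, hW⟩, hxW, hWV, ?_⟩
  exact finiteType_of_isPushout' (isNilpotent_ker_app hW hnil) (isPushout_app hc hV hW hWV)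
    (iY.app_surjective V hV) (iX.app_surjective W hW)
    (HasRingHomProperty.appLE (P := @LocallyOfFiniteType) f inferInstance ⟨_, hV.preimage iY⟩
      ⟨_, hW.preimage iX⟩ (preimage_le hc hWV))

end Groth.Agent.H13AlgSp.ThickLft
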