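import Groth.Agent.H13AlgSp.ThickTwo
import Groth.Agent.H13AlgSp.MonoUnram
import Groth.Agent.H12AlgSp.AffineMor
import Groth.Agent.S10587
import Groth.Agent.S10589
import Groth.Agent.S1316

/-!
Properties of representable nature of morphisms of algebraic spaces, checked on thickenings.
-/

universe u

open CategoryTheory CategoryTheory.Limits AlgebraicGeometry Opposite
open AlgSp Groth.Agent.H12AlgSp

namespace Groth.Agent.H13AlgSp.ThickRep

variable {S : Scheme.{u}}

/-- Over a scheme, a pullback of the thin morphism is a base change of one of the thick morphism. -/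
theorem exists_thin_square {X X' Y Y' : Sp S} {i : X ⟶ X'} {j : Y ⟶ Y'} {f : X ⟶ Y} {f' : X' ⟶ Y'}
    (hj : IsThickMor j) (hcart : IsPullback i f f' j) {T W : Over S} {g : (yon S).obj T ⟶ Y'}
    {k : (yon S).obj W ⟶ X'} {w : W ⟶ T} (sq : IsPullback k ((yon S).map w) f' g) :
    ∃ (T₀ W₀ : Over S) (jT : T₀ ⟶ T) (iW : W₀ ⟶ W) (w₀ : W₀ ⟶ T₀) (g₀ : (yon S).obj T₀ ⟶ Y)
      (k₀ : (yon S).obj W₀ ⟶ X), IsPullback g₀ ((yon S).map jT) j g ∧
      MoreMor.IsThickening jT.left ∧ IsPullback iW.left w₀.left w.left jT.left ∧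
      IsPullback k₀ ((yon S).map w₀) f g₀ := by
  obtain ⟨T₀, jT, g₀, sqT⟩ := hj.1 g
  obtain ⟨W₀, iW, w₀, sW⟩ : ∃ (W₀ : Over S) (iW : W₀ ⟶ W) (w₀ : W₀ ⟶ T₀), IsPullback iW w₀ w jT :=
    ⟨_, _, _, IsPullback.of_hasPullback w jT⟩
  obtain ⟨k₀, hk₁, hk₂⟩ := hcart.exists_lift ((yon S).map iW ≫ k) ((yon S).map w₀ ≫ g₀) (by
    rw [Category.assoc, sq.w, Category.assoc, sqT.w, ← Category.assoc, ← Functor.map_comp, sW.w,
      Functor.map_comp, Category.assoc])
  refine ⟨T₀, W₀, jT, iW, w₀, g₀, k₀, sqT, hj.2 g _ jT sqT, sW.map (Over.forget S), ?_⟩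
  refine IsPullback.of_right (h₁₂ := i) (v₁₃ := f') (h₂₂ := j) ?_ hk₂ hcart
  rw [hk₁, sqT.w]
  exact (sW.map (yon S)).paste_horiz sq

theorem isThickMor_of_cart {X X' Y Y' : Sp S} {i : X ⟶ X'} {j : Y ⟶ Y'} {f : X ⟶ Y} {f' : X' ⟶ Y'}
    (hj : IsThickMor j) (hcart : IsPullback i f f' j) : IsThickMor i :=
  repWith_of_isPullback (P := thick) hcart.flip hj

variable {X X' Y Y' : Space S} {i : X ⟶ X'} {j : Y ⟶ Y'} {f : X ⟶ Y} {f' : X' ⟶ Y'}

section

variable (hj : IsThickMor j.hom) (hcart : IsPullback i.hom f.hom f'.hom j.hom)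
include hj hcart

theorem hw : i ≫ f' = f ≫ j := ObjectProperty.hom_ext _ hcart.w

theorem univClosed_iff : IsUnivClosedMor f.hom ↔ IsUnivClosedMor f'.hom :=
  (Groth.Agent.S10587.result i j f f' (isThickMor_of_cart hj hcart) hj (hw hj hcart)).2.2.1

theorem univInjective_iff : IsUnivInjectiveMor f.hom ↔ IsUnivInjectiveMor f'.hom :=
  (Groth.Agent.S10587.result i j f f' (isThickMor_of_cart hj hcart) hj (hw hj hcart)).2.2.2.1

theorem surjective_iff : IsSurjectiveMor f.hom ↔ IsSurjectiveMor f'.hom :=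
  (Groth.Agent.S10587.result i j f f' (isThickMor_of_cart hj hcart) hj (hw hj hcart)).1

theorem quasiCompact_iff : IsQuasiCompactMor f.hom ↔ IsQuasiCompactMor f'.hom :=
  (Groth.Agent.S10587.result i j f f' (isThickMor_of_cart hj hcart) hj (hw hj hcart)).2.1

theorem separated_iff : IsSeparatedMor f.hom ↔ IsSeparatedMor f'.hom :=
  (Groth.Agent.S10589.result i j f f' (isThickMor_of_cart hj hcart) hj (hw hj hcart)).1

variable (hl : LocP @LocallyOfFiniteType f.hom ↔ LocP @LocallyOfFiniteType f'.hom)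
include hl

theorem proper_iff : IsProperMor f.hom ↔ IsProperMor f'.hom :=
  and_congr (separated_iff hj hcart) (and_congr (and_congr hl (quasiCompact_iff hj hcart))
    (univClosed_iff hj hcart))

theorem lqf_iff : LocP (@LocallyQuasiFinite ⊓ @LocallyOfFiniteType) f.hom ↔
    LocP (@LocallyQuasiFinite ⊓ @LocallyOfFiniteType) f'.hom := by
  obtain ⟨c⟩ := ThickCharts.exists_charts X'.property Y'.property hj hcart
  exact c.lqf_lft_iff hl

theorem finite_iff : IsFiniteMor f.hom ↔ IsFiniteMor f'.hom := by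
  refine ⟨fun h => ?_, fun h => isFiniteMor_iff.2 (repWith_of_isPullback hcart (isFiniteMor_iff.1 h))⟩
  have hp := ((isFiniteMor_iff_affine_proper X.property Y.property).1 h).2
  have hp' := (proper_iff hj hcart hl).1 hp
  refine isFiniteMor_of_univClosed_lqf X'.property Y'.property hp'.2.2 hp'.1 ((lqf_iff hj hcart hl).1 ?_)
  exact locP_of_repWith (etLocal_inf etLocal_lqf etLocal_lft) (repWith_le (fun _ _ g (_ : IsFinite g) =>
    ⟨inferInstanceAs (LocallyQuasiFinite g), inferInstanceAs (LocallyOfFiniteType g)⟩) (isFiniteMor_iff.1 h))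

theorem mono_iff_lft (hf : LocP @LocallyOfFiniteType f.hom) : Mono f.hom ↔ Mono f'.hom := by
  refine ⟨fun h => ?_, fun h => MorphismProperty.of_isPullback (P := MorphismProperty.monomorphisms (Sp S)) hcart h⟩
  obtain ⟨c⟩ := ThickCharts.exists_charts X'.property Y'.property hj hcart
  exact MonoUnram.mono_of_unramified_univInj X'.property Y'.property
    ((c.unramified_iff hl).1 (MonoUnram.unramified_of_mono X.property Y.property f.hom hf))
    ((univInjective_iff hj hcart).1 (MonoUnram.isUnivInjectiveMor_of_mono f.hom))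

theorem closedImmersion_iff : RepWith @IsClosedImmersion f.hom ↔ RepWith @IsClosedImmersion f'.hom := by
  rw [MonoUnram.isClosedImmersion_iff X.property Y.property,
    MonoUnram.isClosedImmersion_iff X'.property Y'.property]
  exact ⟨fun ⟨h1, h2, h3⟩ => ⟨(univClosed_iff hj hcart).1 h1, hl.1 h2, (mono_iff_lft hj hcart hl h2).1 h3⟩,
    fun ⟨h1, h2, h3⟩ => ⟨(univClosed_iff hj hcart).2 h1, hl.2 h2, (mono_iff_lft hj hcart hl (hl.2 h2)).2 h3⟩⟩

theorem immersion_iff : RepWith @IsImmersion f.hom ↔ RepWith @IsImmersion f'.hom := by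
  refine ⟨fun h => ?_, fun h => repWith_of_isPullback hcart h⟩
  have hm : Mono f.hom := mono_of_repWith (fun _ _ k (_ : IsImmersion k) => inferInstanceAs (Mono k)) h
  have hf : LocP @LocallyOfFiniteType f.hom := locP_of_repWith etLocal_lft
    (repWith_le (fun _ _ k (_ : IsImmersion k) => inferInstanceAs (LocallyOfFiniteType k)) h)
  have := (mono_iff_lft hj hcart hl hf).1 hm
  have hf' := hl.1 hf
  have hr := (MonoUnram.representable_of_mono_lft X'.property Y'.property f'.hom hf').1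
  refine ⟨hr, fun {W T} g k w sq => ?_⟩
  obtain ⟨T₀, W₀, jT, iW, w₀, g₀, k₀, -, ht, sW, sq₀⟩ := exists_thin_square hj hcart sq
  have hw : LocallyOfFiniteType w.left := (repWith_of_locP etLocal_lft Y'.property hr hf').property g k w sq
  have : LocallyOfFiniteType w₀.left := MorphismProperty.of_isPullback sW hw
  exact (Groth.Agent.S1316.result iW.left jT.left w₀.left w.left ht sW).1 (h.property g₀ k₀ w₀ sq₀)

end

end Groth.Agent.H13AlgSp.ThickRep
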