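import Groth.Agent.H13AlgSp.ThickCharts
import Groth.Agent.H13AlgSp.ThickLft
import Groth.Agent.S1312
import Groth.Agent.S1314

/-!
Properties of cartesian morphisms of thickenings of algebraic spaces, checked on charts.
-/

universe u

open CategoryTheory CategoryTheory.Limits AlgebraicGeometry Opposite
open AlgSp Groth.Agent.H12AlgSp

namespace Groth.Agent.H13AlgSp.ThickCharts

variable {S : Scheme.{u}} {X X' Y Y' : Sp S} {i : X ⟶ X'} {j : Y ⟶ Y'} {f : X ⟶ Y} {f' : X' ⟶ Y'}

theorem Charts.lft_iff_of_finThick (c : Charts i j f f') (hi : IsFinThickMor i) :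
    LocP @LocallyOfFiniteType f ↔ LocP @LocallyOfFiniteType f' := by
  have := c.thickV.1
  exact c.locP_iff etLocal_lft ⟨fun h => haveI := h; ThickLft.lft_of_nilpotent_ker c.sq (c.finThickU hi),
    fun h => MorphismProperty.of_isPullback c.sq h⟩

theorem Charts.lqf_lft_iff (c : Charts i j f f')
    (hl : LocP @LocallyOfFiniteType f ↔ LocP @LocallyOfFiniteType f') :
    LocP (@LocallyQuasiFinite ⊓ @LocallyOfFiniteType) f ↔
      LocP (@LocallyQuasiFinite ⊓ @LocallyOfFiniteType) f' := by
  constructor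
  · intro hf
    have hf1 : LocP @LocallyOfFiniteType f := fun _ _ a b g ha hb w => (hf a b g ha hb w).2
    have := Charts.lft_left (c := c) hf1
    have := Charts.lft'_left (c := c) (hl.1 hf1)
    exact locP_of_one_chart (etLocal_inf etLocal_lqf etLocal_lft) c.h' c.ha' c.has' c.hb' c.w'
      ⟨(Groth.Agent.S1312.result c.iU.left c.jV.left c.h.left c.h'.left c.thickV c.sq).1
        (hf c.a c.b c.h c.ha c.hb c.w).1, inferInstance⟩
  · intro hf
    have hf1 : LocP @LocallyOfFiniteType f' := fun _ _ a b g ha hb w => (hf a b g ha hb w).2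
    have := Charts.lft_left (c := c) (hl.2 hf1)
    have := Charts.lft'_left (c := c) hf1
    exact locP_of_one_chart (etLocal_inf etLocal_lqf etLocal_lft) c.h c.ha c.has c.hb c.w
      ⟨(Groth.Agent.S1312.result c.iU.left c.jV.left c.h.left c.h'.left c.thickV c.sq).2
        (hf c.a' c.b' c.h' c.ha' c.hb' c.w').1, inferInstance⟩

theorem Charts.unramified_iff (c : Charts i j f f')
    (hl : LocP @LocallyOfFiniteType f ↔ LocP @LocallyOfFiniteType f') :
    LocP (@LocallyOfFiniteType ⊓ @FormallyUnramified) f ↔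
      LocP (@LocallyOfFiniteType ⊓ @FormallyUnramified) f' := by
  constructor
  · intro hf
    have hf1 : LocP @LocallyOfFiniteType f := fun _ _ a b g ha hb w => (hf a b g ha hb w).1
    have := Charts.lft_left (c := c) hf1
    have := Charts.lft'_left (c := c) (hl.1 hf1)
    exact locP_of_one_chart (etLocal_inf etLocal_lft etLocal_formallyUnramified) c.h' c.ha' c.has' c.hb' c.w'
      ⟨inferInstance, (Groth.Agent.S1314.result c.iU.left c.jV.left c.h.left c.h'.left c.thickV c.sq).1
        (hf c.a c.b c.h c.ha c.hb c.w).2⟩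
  · intro hf
    have hf1 : LocP @LocallyOfFiniteType f' := fun _ _ a b g ha hb w => (hf a b g ha hb w).1
    have := Charts.lft_left (c := c) (hl.2 hf1)
    have := Charts.lft'_left (c := c) hf1
    exact locP_of_one_chart (etLocal_inf etLocal_lft etLocal_formallyUnramified) c.h c.ha c.has c.hb c.w
      ⟨inferInstance, (Groth.Agent.S1314.result c.iU.left c.jV.left c.h.left c.h'.left c.thickV c.sq).2
        (hf c.a' c.b' c.h' c.ha' c.hb' c.w').2⟩

theorem Charts.lft_fibreDim_iff (c : Charts i j f f') (p : WithBot ℕ∞ → Prop)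
    (hl : LocP @LocallyOfFiniteType f ↔ LocP @LocallyOfFiniteType f') :
    (LocP @LocallyOfFiniteType f ∧
        ∀ x, HasAtMor (fun _ _ h u => p (FlatMor.fibreDimAt h u)) f x) ↔
      (LocP @LocallyOfFiniteType f' ∧
        ∀ x', HasAtMor (fun _ _ h u => p (FlatMor.fibreDimAt h u)) f' x') :=
  ⟨fun ⟨h1, h2⟩ => ⟨hl.1 h1, (c.fibreDim_iff p h1 (hl.1 h1)).1 h2⟩,
    fun ⟨h1, h2⟩ => ⟨hl.2 h1, (c.fibreDim_iff p (hl.2 h1) h1).2 h2⟩⟩

end Groth.Agent.H13AlgSp.ThickCharts
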