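import Mathlib.RingTheory.Flat.Basic
import Mathlib.RingTheory.Ideal.Quotient.Operations
import Mathlib.RingTheory.Localization.AtPrime.Basic
import Mathlib.LinearAlgebra.TensorProduct.Pi
import Mathlib.RingTheory.TensorProduct.Maps
import Mathlib.RingTheory.Finiteness.Basic

/-!
Torsion sections vanishing on a flat neighbourhood of the closed part vanish.
-/

set_option autoImplicit false
set_option linter.style.haveILetI false

universe u

open TensorProduct

namespace Groth.Agent.H13AlgSp.TorsAlg

variable {A C D : Type u} [CommRing A] [CommRing C] [CommRing D] [Algebra A C] [Algebra A D]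

/-- `C_q / I C_q`. -/
abbrev Lq (q : Ideal C) [q.IsPrime] (I : Ideal A) : Type u :=
  Localization.AtPrime q ⧸ I.map (algebraMap A (Localization.AtPrime q))

theorem exists_annihilator_of_killed [Module.Flat A C] [Module.Flat A D] (q : Ideal C) [q.IsPrime]
    {s : Finset A} (φ : C →ₐ[A] D) (ψ : D →ₐ[A] Lq q (Ideal.span (s : Set A)))
    (hψ : ∀ c, ψ (φ c) = Ideal.Quotient.mk _ (algebraMap C (Localization.AtPrime q) c)) (y : C) (hy : φ y = 0)
    (htor : ∀ g ∈ s, g • y = 0) : ∃ t ∉ q, t * y = 0 := by
  classical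
  let μ : A →ₗ[A] (s → A) := LinearMap.pi fun g => LinearMap.mulLeft A (g : A)
  have hex : Function.Exact (LinearMap.ker μ).subtype μ := LinearMap.exact_subtype_ker_map μ
  obtain ⟨t, ht⟩ := (Module.Flat.lTensor_exact C hex (y ⊗ₜ[A] (1 : A))).1 (by
    apply (TensorProduct.piScalarRight A A C s).injective
    rw [map_zero, LinearMap.lTensor_tmul, TensorProduct.piScalarRight_apply,
      TensorProduct.piScalarRightHom_tmul]
    funext g
    simpa [μ] using htor g g.2)
  -- the image in `D`
  have hD : (φ.toLinearMap.rTensor (LinearMap.ker μ)) t = 0 := by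
    apply Module.Flat.lTensor_preserves_injective_linearMap (M := D) (LinearMap.ker μ).subtype Subtype.val_injective
    rw [map_zero, ← LinearMap.comp_apply, LinearMap.lTensor_comp_rTensor, ← LinearMap.rTensor_comp_lTensor,
      LinearMap.comp_apply, ht, LinearMap.rTensor_tmul, AlgHom.toLinearMap_apply, hy,
      TensorProduct.zero_tmul]
  let Cq := Localization.AtPrime q
  let I : Ideal A := Ideal.span (s : Set A)
  have hkill : ∀ (a : LinearMap.ker μ) (z : Cq), z ∈ I.map (algebraMap A Cq) → algebraMap A Cq a.1 * z = 0 := by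
    intro a z hz
    rw [Ideal.map_span] at hz
    induction hz using Submodule.span_induction with
    | mem x hx =>
      obtain ⟨g, hg, rfl⟩ := hx
      rw [← map_mul, mul_comm]
      have h0 : g * a.1 = 0 := congrFun (LinearMap.mem_ker.1 a.2) ⟨g, hg⟩
      rw [h0, map_zero]
    | zero => rw [mul_zero]
    | add x y _ _ hx hy => rw [mul_add, hx, hy, add_zero]
    | smul c x _ hx => rw [smul_eq_mul, mul_left_comm, hx, mul_zero]
  let β : Lq q I →ₗ[A] LinearMap.ker μ →ₗ[A] Cq :=
    Submodule.liftQ ((I.map (algebraMap A Cq)).restrictScalars A)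
      (LinearMap.mk₂ A (fun (z : Cq) (a : LinearMap.ker μ) => algebraMap A Cq a.1 * z)
        (fun _ _ _ => mul_add _ _ _) (fun c z a => mul_smul_comm c _ _)
        (fun z a b => by rw [Submodule.coe_add, map_add, add_mul])
        (fun c z a => by rw [Submodule.coe_smul, smul_eq_mul, map_mul, mul_assoc, ← Algebra.smul_def]))
      (fun z hz => LinearMap.ext fun a => hkill a z hz)
  have key : ∀ w : C ⊗[A] LinearMap.ker μ,
      TensorProduct.lift β (ψ.toLinearMap.rTensor _ (φ.toLinearMap.rTensor _ w)) =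
        algebraMap C Cq (TensorProduct.rid A C ((LinearMap.ker μ).subtype.lTensor C w)) := by
    intro w
    induction w using TensorProduct.induction_on with
    | zero => simp
    | tmul c a =>
      simp only [LinearMap.rTensor_tmul, LinearMap.lTensor_tmul, TensorProduct.lift.tmul, TensorProduct.rid_tmul,
        AlgHom.toLinearMap_apply, hψ, Submodule.subtype_apply]
      rw [Algebra.smul_def, map_mul, ← IsScalarTower.algebraMap_apply]
      rfl
    | add x y hx hy => simp only [map_add, hx, hy]
  have h0 := key t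
  rw [hD, map_zero, map_zero, ht, TensorProduct.rid_tmul, one_smul] at h0
  obtain ⟨m, hm⟩ := (IsLocalization.map_eq_zero_iff q.primeCompl Cq y).1 h0.symm
  exact ⟨m, m.2, hm⟩

theorem exists_annihilator [Module.Flat A C] [Module.Flat A D] (q : Ideal C) [q.IsPrime]
    {s : Finset A} (φ : C →ₐ[A] D) (ψ : D →ₐ[A] Lq q (Ideal.span (s : Set A)))
    (hψ : ∀ c, ψ (φ c) = Ideal.Quotient.mk _ (algebraMap C (Localization.AtPrime q) c)) :
    ∀ (N : ℕ) (y : C), φ y = 0 → (∃ n : s → ℕ, ∑ g, n g ≤ N ∧ ∀ g : s, (g : A) ^ n g • y = 0) →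
      ∃ t ∉ q, t * y = 0 := by
  classical
  intro N
  induction N using Nat.strong_induction_on with
  | _ N ih =>
    intro y hy ⟨n, hn, hny⟩
    by_cases h : ∀ g, n g ≤ 1
    · refine exists_annihilator_of_killed q φ ψ hψ y hy fun g hg => ?_
      have := hny ⟨g, hg⟩
      rcases Nat.le_one_iff_eq_zero_or_eq_one.1 (h ⟨g, hg⟩) with h' | h'
      · rw [h', pow_zero, one_smul] at this; rw [this, smul_zero]
      · rwa [h', pow_one] at this
    · push Not at h
      obtain ⟨g₀, hg₀⟩ := h
      have hlt : ∀ c, c < n g₀ → ∑ g, Function.update n g₀ c g < N := fun c hc => by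
        refine lt_of_lt_of_le ?_ hn
        refine Finset.sum_lt_sum (fun g _ => ?_) ⟨g₀, Finset.mem_univ _, by simpa using hc⟩
        rcases eq_or_ne g g₀ with rfl | hne
        · simpa using hc.le
        · simp [Function.update_of_ne hne]
      obtain ⟨t, ht, hty⟩ := ih _ (hlt (n g₀ - 1) (by omega)) ((g₀ : A) • y) (by rw [map_smul, hy, smul_zero])
        ⟨Function.update n g₀ (n g₀ - 1), le_rfl, fun g => by
          rcases eq_or_ne g g₀ with rfl | hne
          · rw [Function.update_self, smul_smul, ← pow_succ, Nat.sub_add_cancel (by omega)]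
            exact hny _
          · rw [Function.update_of_ne hne, smul_comm, hny, smul_zero]⟩
      obtain ⟨t', ht', ht'y⟩ := ih _ (hlt 1 (by omega)) (t * y) (by rw [map_mul, hy, mul_zero])
        ⟨Function.update n g₀ 1, le_rfl, fun g => by
          rcases eq_or_ne g g₀ with rfl | hne
          · rw [Function.update_self, pow_one, ← mul_smul_comm, hty]
          · rw [Function.update_of_ne hne, ← mul_smul_comm, hny, mul_zero]⟩
      exact ⟨t' * t, fun h => ((inferInstance : q.IsPrime).mem_or_mem h).elim ht' ht, by rw [mul_assoc, ht'y]⟩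

/-- An element killed on a flat neighbourhood of the closed part and torsion is zero. -/
theorem eq_zero [Module.Flat A C] {I : Ideal A} (hI : I.FG) (y : C) (htor : ∀ g ∈ I, ∃ n : ℕ, g ^ n • y = 0)
    (H : ∀ q : Ideal C, ∀ [q.IsPrime], I.map (algebraMap A C) ≤ q →
      ∃ (D : Type u) (_ : CommRing D) (_ : Algebra A D) (_ : Module.Flat A D) (φ : C →ₐ[A] D)
        (ψ : D →ₐ[A] Lq q I), φ y = 0 ∧ ∀ c, ψ (φ c) = Ideal.Quotient.mk _ (algebraMap C (Localization.AtPrime q) c)) :
    y = 0 := by
  classical
  obtain ⟨s, rfl⟩ := hI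
  by_contra hy
  obtain ⟨m, hm, hle⟩ := Ideal.exists_le_maximal (LinearMap.ker (LinearMap.mulRight C y)) (fun h => hy (by
    simpa using (Ideal.eq_top_iff_one _).1 h))
  obtain ⟨t, ht, hty⟩ : ∃ t ∉ m, t * y = 0 := by
    by_cases hIm : (Ideal.span (s : Set A)).map (algebraMap A C) ≤ m
    · obtain ⟨D, _, _, _, φ, ψ, hφy, hψ⟩ := H m hIm
      choose n hn using fun g : s => htor g (Ideal.subset_span g.2)
      exact exists_annihilator m φ ψ hψ _ y hφy ⟨n, le_rfl, hn⟩
    · rw [Ideal.map_span, Ideal.span_le, Set.not_subset] at hIm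
      obtain ⟨_, ⟨g, hg, rfl⟩, hgm⟩ := hIm
      obtain ⟨n, hn⟩ := htor g (Ideal.subset_span hg)
      refine ⟨algebraMap A C g ^ n, fun h => hgm (hm.isPrime.mem_of_pow_mem n h), ?_⟩
      rw [← map_pow, ← Algebra.smul_def, hn]
  exact ht (hle hty)

end Groth.Agent.H13AlgSp.TorsAlg
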