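import Groth.Agent.H13AlgSp.TorsAlg
import Mathlib.AlgebraicGeometry.Morphisms.Flat
import Mathlib.AlgebraicGeometry.Morphisms.ClosedImmersion
import Mathlib.AlgebraicGeometry.OpenImmersion

/-!
A closed subscheme containing the open part and a flat neighbourhood of the closed part is everything.
-/

set_option autoImplicit false
set_option linter.style.haveILetI false
set_option backward.isDefEq.respectTransparency false
set_option backward.isDefEq.respectTransparency.types false

universe u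

open CategoryTheory AlgebraicGeometry

namespace Groth.Agent.H13AlgSp.TorsScheme

theorem isIso_of_pieces {A : CommRingCat.{u}} {O E D : Scheme.{u}} [IsAffine O] (t : O ⟶ Spec A) [Flat t]
    {I : Ideal A} (hI : I.FG) (vE : E ⟶ O) [IsClosedImmersion vE] (v : D ⟶ O) [Flat (v ≫ t)]
    (hD : ∃ k : D ⟶ E, k ≫ vE = v)
    (hoff : ∀ g ∈ I, ∃ k : (t ⁻¹ᵁ PrimeSpectrum.basicOpen g : O.Opens).toScheme ⟶ E,
      k ≫ vE = (t ⁻¹ᵁ PrimeSpectrum.basicOpen g).ι)
    (hon : ∀ (L : CommRingCat.{u}) (u : Spec L ⟶ O), (∀ a ∈ I, (Spec.preimage (u ≫ t)).hom a = 0) →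
      ∃ k : Spec L ⟶ D, k ≫ v = u) : IsIso vE := by
  obtain ⟨hEaff, hs⟩ := IsClosedImmersion.isAffine_surjective_of_isAffine vE
  let C := Γ(O, ⊤)
  let α : A ⟶ C := (Scheme.ΓSpecIso A).inv ≫ t.appTop
  have hα : Spec.map α = O.isoSpec.inv ≫ t := by
    rw [Iso.eq_inv_comp, Scheme.isoSpec_hom, Spec.map_comp, ← Scheme.toSpecΓ_naturality_assoc,
      toSpecΓ_SpecMap_ΓSpecIso_inv, Category.comp_id]
  letI : Algebra A C := α.hom.toAlgebra
  haveI : Module.Flat A C := by
    haveI h : Flat (Spec.map α) := by rw [hα]; infer_instance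
    exact RingHom.flat_algebraMap_iff.1 ((HasRingHomProperty.Spec_iff (P := @Flat)).1 h)
  suffices h : Function.Injective vE.appTop.hom by
    haveI := hEaff
    haveI : IsIso vE.appTop := (ConcreteCategory.isIso_iff_bijective _).2 ⟨h, hs⟩
    rw [show vE = E.isoSpec.hom ≫ Spec.map vE.appTop ≫ O.isoSpec.inv by
      rw [Scheme.isoSpec_hom, ← Scheme.toSpecΓ_naturality_assoc, ← Scheme.isoSpec_hom, Iso.hom_inv_id,
        Category.comp_id]]
    infer_instance
  intro x₁ x₂ hx
  rw [← sub_eq_zero]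
  have hy : vE.appTop.hom (x₁ - x₂) = 0 := by rw [map_sub, hx, sub_self]
  refine TorsAlg.eq_zero hI (C := C) (x₁ - x₂) (fun g hg => ?_) fun q _ hq => ?_
  · -- torsion
    obtain ⟨k, hk⟩ := hoff g hg
    have h0 : O.presheaf.map (homOfLE le_top).op (x₁ - x₂) = (0 : Γ(O, t ⁻¹ᵁ PrimeSpectrum.basicOpen g)) := by
      have := congrArg (fun m => m.appTop.hom (x₁ - x₂)) hk
      simp only [Scheme.Hom.comp_appTop, CommRingCat.hom_comp, RingHom.comp_apply, hy, map_zero,
        Scheme.Opens.ι_appTop] at this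
      exact (ConcreteCategory.bijective_of_isIso (O.presheaf.map (eqToHom (Scheme.Opens.ι_image_top _)).op)).1
        (by rw [map_zero, ← CategoryTheory.comp_apply, ← Functor.map_comp]; exact this.symm)
    have hop : t ⁻¹ᵁ PrimeSpectrum.basicOpen g = O.basicOpen (algebraMap A C g) := by
      rw [← basicOpen_eq_of_affine, Scheme.preimage_basicOpen_top]
      rfl
    haveI := (isAffineOpen_top O).isLocalization_basicOpen (algebraMap A C g)
    have h1 : algebraMap C Γ(O, O.basicOpen (algebraMap A C g)) (x₁ - x₂) = 0 := by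
      rw [RingHom.algebraMap_toAlgebra]
      have := congrArg (O.presheaf.map (eqToHom hop.symm).op) h0
      rw [map_zero, ← CategoryTheory.comp_apply, ← Functor.map_comp] at this
      exact this
    obtain ⟨⟨_, n, rfl⟩, hn⟩ :=
      (IsLocalization.map_eq_zero_iff (Submonoid.powers (algebraMap A C g)) Γ(O, O.basicOpen (algebraMap A C g)) _).1 h1
    exact ⟨n, by rw [Algebra.smul_def, map_pow]; exact hn⟩
  · -- the flat neighbourhood
    let L := TorsAlg.Lq q I
    let β : C ⟶ CommRingCat.of L :=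
      CommRingCat.ofHom ((Ideal.Quotient.mk _).comp (algebraMap C (Localization.AtPrime q)))
    have hne : (I.map (algebraMap A (Localization.AtPrime q))) ≠ ⊤ := by
      rw [IsScalarTower.algebraMap_eq A C (Localization.AtPrime q), ← Ideal.map_map]
      refine ne_top_of_le_ne_top (IsLocalRing.maximalIdeal.isMaximal _).ne_top ?_
      refine (Ideal.map_mono hq).trans ?_
      rw [Localization.AtPrime.map_eq_maximalIdeal]
    haveI : Nontrivial L := Ideal.Quotient.nontrivial_iff.2 hne
    haveI : IsLocalRing L := IsLocalRing.of_surjective' (Ideal.Quotient.mk _) Ideal.Quotient.mk_surjective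
    obtain ⟨k, hk⟩ := hon (CommRingCat.of L) (Spec.map β ≫ O.isoSpec.inv) fun a ha => by
      rw [Category.assoc, ← hα, ← Spec.map_comp, Spec.preimage_map]
      exact Ideal.Quotient.eq_zero_iff_mem.2 (by
        change algebraMap C (Localization.AtPrime q) (algebraMap A C a) ∈ _
        rw [← IsScalarTower.algebraMap_apply]
        exact Ideal.mem_map_of_mem _ ha)
    let c₀ : Spec (CommRingCat.of L) := IsLocalRing.closedPoint L
    obtain ⟨D₀, hD₀, hd⟩ : ∃ D₀ : D.Opens, IsAffineOpen D₀ ∧ k c₀ ∈ D₀ := by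
      obtain ⟨D₀, hD₀, hd, -⟩ := TopologicalSpace.Opens.isBasis_iff_nbhd.mp D.isBasis_affineOpens
        (TopologicalSpace.Opens.mem_top (k c₀))
      exact ⟨D₀, hD₀, hd⟩
    haveI : IsAffine D₀.toScheme := hD₀
    have hrange : Set.range k ⊆ Set.range D₀.ι := by
      rintro _ ⟨z, rfl⟩
      rw [Scheme.Opens.range_ι]
      exact ((IsLocalRing.specializes_closedPoint z).map k.continuous).mem_open D₀.isOpen hd
    let k₀ := IsOpenImmersion.lift D₀.ι k hrange
    let Dr := Γ(D₀.toScheme, ⊤)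
    let φ₀ : C ⟶ Dr := (D₀.ι ≫ v).appTop
    letI : Algebra A Dr := (α ≫ φ₀).hom.toAlgebra
    haveI : Module.Flat A Dr := by
      have he : Spec.map (α ≫ φ₀) = D₀.toScheme.isoSpec.inv ≫ D₀.ι ≫ v ≫ t := by
        rw [Iso.eq_inv_comp, Spec.map_comp, hα, Scheme.isoSpec_hom]
        rw [← Scheme.toSpecΓ_naturality_assoc, ← Scheme.isoSpec_hom, Iso.hom_inv_id_assoc, Category.assoc]
      haveI h : Flat (Spec.map (α ≫ φ₀)) := by rw [he]; infer_instance
      exact RingHom.flat_algebraMap_iff.1 ((HasRingHomProperty.Spec_iff (P := @Flat)).1 h)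
    let ψ₀ : Dr ⟶ CommRingCat.of L := Spec.preimage (k₀ ≫ D₀.toScheme.isoSpec.hom)
    have hψφ : φ₀ ≫ ψ₀ = β := Spec.map_injective (by
      rw [Spec.map_comp, Spec.map_preimage, Category.assoc, Scheme.isoSpec_hom,
        ← Scheme.toSpecΓ_naturality, ← Scheme.isoSpec_hom]
      simp only [k₀, IsOpenImmersion.lift_fac_assoc, Category.assoc]
      rw [reassoc_of% hk, Iso.inv_hom_id, Category.comp_id])
    have hc : ∀ c, ψ₀.hom (φ₀.hom c) = β.hom c := fun c => congrArg (fun m => m.hom c) hψφ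
    let φA : C →ₐ[A] Dr := { toRingHom := φ₀.hom, commutes' := fun _ => rfl }
    have hψA : ∀ a : A, ψ₀.hom (algebraMap A Dr a) = algebraMap A L a := fun a => by
      change ψ₀.hom (φ₀.hom (α.hom a)) = _
      rw [hc]
      change Ideal.Quotient.mk _ (algebraMap C (Localization.AtPrime q) (algebraMap A C a)) = _
      rw [← IsScalarTower.algebraMap_apply]
      rfl
    let ψA : Dr →ₐ[A] L := { toRingHom := ψ₀.hom, commutes' := hψA }
    refine ⟨Dr, inferInstance, inferInstance, inferInstance, φA, ψA, ?_, hc⟩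
    obtain ⟨kD, hkD⟩ := hD
    change (D₀.ι ≫ v).appTop.hom (x₁ - x₂) = 0
    rw [← hkD, ← Category.assoc, Scheme.Hom.comp_appTop, CommRingCat.hom_comp, RingHom.comp_apply, hy, map_zero]

end Groth.Agent.H13AlgSp.TorsScheme
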