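import Mathlib.RingTheory.TensorProduct.Basic
import Mathlib.RingTheory.Spectrum.Prime.Basic
import Mathlib.RingTheory.Localization.Away.Basic
import Mathlib.RingTheory.Localization.FractionRing
import Mathlib.RingTheory.TensorProduct.Finite
import Mathlib.Algebra.MvPolynomial.Funext
import Mathlib.FieldTheory.IsAlgClosed.AlgebraicClosure
import Mathlib.FieldTheory.Normal.Closure
import Mathlib.RingTheory.Adjoin.FG

/-!
Specializing a purely transcendental extension at a finite normal extension so that all the conjugates avoid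
a given closed set.
-/

universe u

open scoped TensorProduct

namespace Groth.Agent.H13AlgSp

variable {k : Type u} [Field k]

/-- A nonzero polynomial over an extension is nonzero at all conjugates of a suitable algebraic point. -/
theorem exists_normal_avoid {Ω : Type u} [Field Ω] [Algebra k Ω] {ι : Type u} (N : MvPolynomial ι Ω) (hN : N ≠ 0) :
    ∃ (L : Type u) (_ : Field L) (_ : Algebra k L) (_ : Module.Finite k L) (_ : Normal k L) (t : ι → L),
      ∀ τ : L →ₐ[k] Ω, MvPolynomial.eval (τ ∘ t) N ≠ 0 := by
  classical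
  obtain ⟨e, he⟩ : ∃ e : ι → ℕ, MvPolynomial.eval (fun i => (Polynomial.X : Polynomial Ω) ^ e i)
      (MvPolynomial.map (Polynomial.C (R := Ω)) N) ≠ 0 := by
    by_contra! h
    refine hN (MvPolynomial.map_injective _ Polynomial.C_injective ?_)
    rw [map_zero]
    refine MvPolynomial.funext_set (fun _ => Set.range fun n : ℕ => (Polynomial.X : Polynomial Ω) ^ n)
      (fun _ => Set.infinite_range_of_injective fun a b hab => by
        simpa using congrArg Polynomial.natDegree hab) fun x hx => ?_
    choose e he using fun i => hx i (Set.mem_univ i)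
    rw [map_zero, show x = fun i => (Polynomial.X : Polynomial Ω) ^ e i from funext fun i => (he i).symm]
    exact h e
  set P : Polynomial Ω := MvPolynomial.eval (fun i => (Polynomial.X : Polynomial Ω) ^ e i)
      (MvPolynomial.map (Polynomial.C (R := Ω)) N) with hP
  let kb := AlgebraicClosure k
  obtain ⟨θ, hθ⟩ := Set.Finite.exists_notMem (α := kb)
    (P.roots.toFinset.finite_toSet.biUnion fun r _ => Polynomial.rootSet_finite (minpoly k r) kb)
  let E := IntermediateField.adjoin k ({θ} : Set kb)
  have : FiniteDimensional k E := IntermediateField.adjoin.finiteDimensional (Algebra.IsIntegral.isIntegral θ)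
  let L := IntermediateField.normalClosure k E kb
  let θ' : L := ⟨θ, E.le_normalClosure (IntermediateField.mem_adjoin_simple_self k θ)⟩
  refine ⟨L, inferInstance, inferInstance, inferInstance, inferInstance, fun i => θ' ^ e i, fun τ h => ?_⟩
  have hroot : P.eval (τ θ') = 0 := by
    rw [← h, hP, ← Polynomial.coe_evalRingHom, MvPolynomial.map_eval, MvPolynomial.map_map]
    rw [show (Polynomial.evalRingHom (τ θ')).comp (Polynomial.C (R := Ω)) = RingHom.id Ω from
      RingHom.ext fun a => Polynomial.eval_C, MvPolynomial.map_id]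
    exact congrArg (fun f : ι → Ω => MvPolynomial.eval f N) (funext fun i => by simp)
  refine hθ (Set.mem_biUnion (x := τ θ') (Multiset.mem_toFinset.2 (Polynomial.mem_roots'.2 ⟨he, hroot⟩)) ?_)
  rw [minpoly.algHom_eq τ τ.injective, show minpoly k θ' = minpoly k θ from
    (minpoly.algHom_eq L.val Subtype.val_injective θ').symm, Polynomial.mem_rootSet]
  exact ⟨minpoly.ne_zero (Algebra.IsIntegral.isIntegral θ), minpoly.aeval k θ⟩

variable (F : Type u) [Field F] [Algebra k F] {ι : Type u}

/-- A finitely generated subalgebra of a purely transcendental extension has, after any extension of scalars, a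
prime outside of which every element stays invertible at all conjugates of some specialization. -/
theorem exists_specialization (A : Subalgebra k (FractionRing (MvPolynomial ι k))) (hA : A.FG) :
    ∃ P : PrimeSpectrum (F ⊗[k] A), ∀ g ∉ P.asIdeal,
      ∃ (L : Type u) (_ : Field L) (_ : Algebra k L) (_ : Module.Finite k L) (_ : Normal k L) (φ : A →ₐ[k] L),
        ∀ p : PrimeSpectrum (F ⊗[k] L), Algebra.TensorProduct.map (AlgHom.id F F) φ g ∉ p.asIdeal := by
  classical
  obtain ⟨s, hs⟩ := hA
  choose num den hden hnd using fun a : FractionRing (MvPolynomial ι k) =>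
    IsFractionRing.div_surjective (MvPolynomial ι k) a
  let Q : MvPolynomial ι k := ∏ a ∈ s, den a
  have hQ : Q ≠ 0 := Finset.prod_ne_zero_iff.2 fun a _ => nonZeroDivisors.ne_zero (hden a)
  let B := Localization.Away Q
  have hK : ∀ y : Submonoid.powers Q, IsUnit
      ((Algebra.algHom k (MvPolynomial ι k) (FractionRing (MvPolynomial ι k))) y) := by
    rintro ⟨_, n, rfl⟩
    refine isUnit_iff_ne_zero.2 ?_
    change algebraMap _ _ (Q ^ n) ≠ 0
    rw [ne_eq, map_eq_zero_iff _ (IsFractionRing.injective _ _)]
    exact pow_ne_zero n hQ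
  let ψ : B →ₐ[k] FractionRing (MvPolynomial ι k) := IsLocalization.liftAlgHom hK
  have hψ : Function.Injective ψ := by
    refine (IsLocalization.lift_injective_iff hK).2 fun a b => ?_
    rw [(IsLocalization.injective B (powers_le_nonZeroDivisors_of_noZeroDivisors hQ)).eq_iff]
    exact ((IsFractionRing.injective (MvPolynomial ι k) (FractionRing (MvPolynomial ι k))).eq_iff).symm
  have hle : A ≤ ψ.range := by
    rw [← hs, Algebra.adjoin_le_iff]
    intro a ha
    obtain ⟨u, hu⟩ : IsUnit (algebraMap (MvPolynomial ι k) B (den a)) :=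
      isUnit_of_dvd_unit (map_dvd _ (Finset.dvd_prod_of_mem den ha)) (IsLocalization.Away.algebraMap_isUnit Q)
    refine ⟨algebraMap _ B (num a) * ↑u⁻¹, ?_⟩
    change ψ _ = a
    rw [map_mul, map_units_inv, hu]
    simp only [ψ, IsLocalization.liftAlgHom_apply, IsLocalization.lift_eq, AlgHom.coe_toRingHom, Algebra.algHom_apply]
    rw [← div_eq_mul_inv]
    exact hnd a
  let incl : A →ₐ[k] B := (AlgEquiv.ofInjective ψ hψ).symm.toAlgHom.comp (Subalgebra.inclusion hle)
  let QF : MvPolynomial ι F := MvPolynomial.map (algebraMap k F) Q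
  have hQF : QF ≠ 0 := fun h => hQ (MvPolynomial.map_injective _ (algebraMap k F).injective (by rw [map_zero]; exact h))
  let C := Localization.Away QF
  have : IsDomain C := IsLocalization.isDomain_localization (powers_le_nonZeroDivisors_of_noZeroDivisors hQF)
  have hC : ∀ y : Submonoid.powers Q, IsUnit
      (((Algebra.algHom k (MvPolynomial ι F) C).comp (MvPolynomial.mapAlgHom (Algebra.ofId k F))) y) := by
    rintro ⟨_, n, rfl⟩
    rw [map_pow]
    exact (IsLocalization.Away.algebraMap_isUnit QF).pow n
  let η : B →ₐ[k] C := IsLocalization.liftAlgHom hC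
  let Ξ : F ⊗[k] A →ₐ[F] C := Algebra.TensorProduct.lift (Algebra.ofId F C) (η.comp incl) fun _ _ => Commute.all _ _
  refine ⟨⟨RingHom.ker Ξ, RingHom.ker_isPrime _⟩, fun g hg => ?_⟩
  obtain ⟨n, N, hN⟩ := IsLocalization.Away.surj QF (Ξ g)
  have hN0 : N ≠ 0 := by
    rintro rfl
    rw [map_zero, mul_eq_zero] at hN
    rcases hN with h | h
    · exact hg h
    · exact not_isUnit_zero (M₀ := C) (h ▸ (IsLocalization.Away.algebraMap_isUnit (S := C) QF).pow n)
  let Ω := AlgebraicClosure F
  have hinj := (algebraMap F Ω).injective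
  obtain ⟨L, _, _, hL, hLn, t, ht⟩ := exists_normal_avoid (k := k)
    (MvPolynomial.map (algebraMap F Ω) (N * QF)) fun h => mul_ne_zero hN0 hQF
      (MvPolynomial.map_injective _ hinj (by rw [map_zero]; exact h))
  have key : ∀ τ : L →ₐ[k] Ω, MvPolynomial.aeval (τ ∘ t) N ≠ 0 ∧ MvPolynomial.aeval (τ ∘ t) QF ≠ 0 := fun τ => by
    have := ht τ
    rw [MvPolynomial.eval_map, ← MvPolynomial.aeval_def, map_mul, mul_ne_zero_iff] at this
    exact this
  have hQt : MvPolynomial.aeval t Q ≠ 0 := fun h => (key IsAlgClosed.lift).2 (by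
    rw [MvPolynomial.aeval_map_algebraMap]
    refine (MvPolynomial.comp_aeval_apply t IsAlgClosed.lift Q).symm.trans ?_
    rw [h, map_zero])
  have hL' : ∀ y : Submonoid.powers Q, IsUnit (MvPolynomial.aeval (R := k) t (y : MvPolynomial ι k)) := by
    rintro ⟨_, m, rfl⟩
    exact isUnit_iff_ne_zero.2 (by rw [map_pow]; exact pow_ne_zero m hQt)
  let φ : A →ₐ[k] L := (IsLocalization.liftAlgHom hL' : B →ₐ[k] L).comp incl
  refine ⟨L, inferInstance, inferInstance, hL, hLn, φ, fun p hp => ?_⟩
  let Ψ : (F ⊗[k] L) →ₐ[F] Ω :=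
    (IsAlgClosed.lift (R := F) : ((F ⊗[k] L) ⧸ p.asIdeal) →ₐ[F] Ω).comp (Ideal.Quotient.mkₐ F p.asIdeal)
  let τ : L →ₐ[k] Ω := (Ψ.restrictScalars k).comp Algebra.TensorProduct.includeRight
  have hC' : ∀ y : Submonoid.powers QF, IsUnit (MvPolynomial.aeval (R := F) (τ ∘ t) (y : MvPolynomial ι F)) := by
    rintro ⟨_, m, rfl⟩
    exact isUnit_iff_ne_zero.2 (by rw [map_pow]; exact pow_ne_zero m (key τ).2)
  let ev : C →ₐ[F] Ω := IsLocalization.liftAlgHom hC'
  have hB : (ev.restrictScalars k).comp η = τ.comp (IsLocalization.liftAlgHom hL' : B →ₐ[k] L) := by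
    refine IsLocalization.algHom_ext (Submonoid.powers Q) ?_
    ext i
    change ev (η (algebraMap (MvPolynomial ι k) B (MvPolynomial.X i))) =
      τ ((IsLocalization.liftAlgHom hL' : B →ₐ[k] L) (algebraMap (MvPolynomial ι k) B (MvPolynomial.X i)))
    simp only [η, IsLocalization.liftAlgHom_apply, IsLocalization.lift_eq, AlgHom.coe_toRingHom]
    change ev (algebraMap (MvPolynomial ι F) C (MvPolynomial.map (algebraMap k F) (MvPolynomial.X i))) = _
    simp only [ev, IsLocalization.liftAlgHom_apply, IsLocalization.lift_eq, AlgHom.coe_toRingHom]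
    simp
  have hg' : ev.comp Ξ = Ψ.comp (Algebra.TensorProduct.map (AlgHom.id F F) φ) := by
    ext a
    have := congr($hB (incl a))
    simpa [Ξ, φ, τ] using this
  have h0 : ev (Ξ g) = 0 := by
    rw [← AlgHom.comp_apply, hg']
    simp [Ψ, Ideal.Quotient.eq_zero_iff_mem.2 hp]
  have := congrArg ev hN
  simp only [map_mul, h0, zero_mul, ev, IsLocalization.liftAlgHom_apply, IsLocalization.lift_eq, AlgHom.coe_toRingHom] at this
  exact (key τ).1 this.symm

end Groth.Agent.H13AlgSp
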