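import Groth.Agent.H13AlgSp.AlgExtDescent
import Groth.Agent.H13AlgSp.GaloisAffine
import Groth.Agent.H13AlgSp.TranscPoint

/-!
A space which becomes a scheme over a purely transcendental extension is a scheme.
-/

set_option backward.isDefEq.respectTransparency false
set_option linter.style.haveILetI false

universe u

open CategoryTheory CategoryTheory.Limits AlgebraicGeometry Opposite Topology
open AlgSp Groth.Agent.H12AlgSp
open scoped TensorProduct

namespace Groth.Agent.H13AlgSp

variable {k : Type u} [Field k]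

theorem lift_map_map {C : Type*} [Category C] [HasBinaryProducts C] {T A B A' B' : C} (a : T ⟶ A) (b : T ⟶ B)
    (ρ : A ⟶ A') (c : B ⟶ B') :
    prod.lift a b ≫ prod.map ρ (𝟙 B) ≫ prod.map (𝟙 A') c = prod.lift (a ≫ ρ) (b ≫ c) := by
  ext <;> simp

/-- Every point of a space over a field is the image of the spectrum of an extension field. -/
theorem exists_fieldPt {X : Sp (Spec (CommRingCat.of k))} (x : Points X) :
    ∃ (F : Type u) (_ : Field F) (_ : Algebra k F) (ρ : (yon _).obj (extObj k F) ⟶ X)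
      (y : Points ((yon _).obj (extObj k F))), Points.map ρ y = x := by
  obtain ⟨r, rfl⟩ := Quotient.exists_rep x
  obtain ⟨φ, hφ⟩ := Spec.map_surjective (R := CommRingCat.of k) (S := CommRingCat.of r.K) r.str
  letI : Algebra k r.K := φ.hom.toAlgebra
  have hpt : extObj k r.K = r.pt := by
    change Over.mk _ = Over.mk r.str
    rw [← hφ]
    rfl
  suffices h : ∀ (P : Over (Spec (CommRingCat.of k))) (ρ : (yon _).obj P ⟶ X) (t : P.left),
      Points.ofPt ρ t = Points.mk r → ∃ y, Points.map ρ y = Points.mk r by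
    have : ∃ (ρ : (yon _).obj (extObj k r.K) ⟶ X) (y : Points ((yon _).obj (extObj k r.K))),
        Points.map ρ y = Points.mk r := by
      revert hpt
      generalize extObj k r.K = P
      rintro rfl
      exact ⟨r.toHom, h r.pt r.toHom (IsLocalRing.closedPoint r.K) (Points.ofPt_toHom r _)⟩
    obtain ⟨ρ, y, hy⟩ := this
    exact ⟨r.K, inferInstance, inferInstance, ρ, y, hy⟩
  exact fun P ρ t ht => ⟨Points.ofScheme P t, by rw [← Points.ofPt_eq_map_ofScheme, ht]⟩

/-- A qc qs space which is a scheme over a purely transcendental extension is a scheme near each point. -/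
theorem exists_openImmersion_nhd_transc {ι : Type u} {X : Sp (Spec (CommRingCat.of k))} (hX : IsAlgSpace X)
    (hqc : IsQuasiCompactSp X) (hqs : IsQuasiSeparatedSp X)
    (h : (bcSp X (FractionRing (MvPolynomial ι k))).obj.IsRepresentable) (x : Points X) :
    ∃ (M : Over (Spec (CommRingCat.of k))) (j : (yon _).obj M ⟶ X),
      RepWith @IsOpenImmersion j ∧ x ∈ Set.range (Points.map j) := by
  classical
  let K := FractionRing (MvPolynomial ι k)
  have : Nonempty (Finset K) := ⟨∅⟩
  have hqm : IsQuasiCompactMor (toBaseSp X) :=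
    isQuasiCompactMor_of_qc_qs hX (IsAlgSpace.yon_obj _) _ hqc
      (isQuasiSeparatedSp_yon (U := Over.mk (𝟙 (Spec (CommRingCat.of k))))
        (inferInstanceAs (QuasiSeparatedSpace (Spec (CommRingCat.of k)))))
  have : ∀ j, IsAffine ((subalgSystem k K).obj j).left := fun j => inferInstanceAs (IsAffine (Spec _))
  obtain ⟨j, hj⟩ := exists_schemeOver_stage (subalgSystem k K) (isLimitSubalgCone k K) hX (toBaseSp X) hqm hqs
    ((schemeOver_iff_bc X _).2 h)
  let A := Algebra.adjoin k ((j.unop : Finset K) : Set K)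
  have hA : (X ⨯ (yon _).obj (algObj k A)).obj.IsRepresentable := (schemeOver_iff_bc X _).1 hj
  obtain ⟨W, ⟨ν⟩⟩ := isRepresentable_iff_exists_iso.1 hA
  obtain ⟨F, _, _, ρ, y, hy⟩ := exists_fieldPt x
  obtain ⟨P, hP⟩ := exists_specialization F A ⟨j.unop, rfl⟩
  let TA : Over (Spec (CommRingCat.of k)) := algObj k (F ⊗[k] A)
  let f₁ : TA ⟶ extObj k F :=
    algHomOver (Algebra.TensorProduct.includeLeft (R := k) (S := k) (A := F) (B := A))
  let f₂ : TA ⟶ algObj k A :=
    algHomOver (Algebra.TensorProduct.includeRight (R := k) (A := F) (B := A))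
  obtain ⟨γ, hγ⟩ := (yon _).map_surjective (prod.lift ((yon _).map f₁ ≫ ρ) ((yon _).map f₂) ≫ ν.inv)
  let P' : TA.left := P
  obtain ⟨U, hU, hPU, -⟩ := exists_isAffineOpen_mem_and_subset (TopologicalSpace.Opens.mem_top (γ.left P'))
  obtain ⟨_, ⟨g, rfl⟩, hgP, hgsub⟩ := PrimeSpectrum.isTopologicalBasis_basic_opens.exists_subset_of_mem_open
    (show P ∈ (γ.left ⁻¹' (U : Set W.left) : Set (PrimeSpectrum (F ⊗[k] A))) from hPU) (U.2.preimage γ.left.continuous)
  obtain ⟨L, _, _, hL, hLn, φ, hφ⟩ := hP g hgP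
  obtain ⟨W', ⟨ν'⟩⟩ := isRepresentable_iff_exists_iso.1
    (representable_prod_of_hom (algHomOver φ : algObj k L ⟶ algObj k A) hA)
  obtain ⟨m, hm⟩ := (yon _).map_surjective (ν'.hom ≫ prod.map (𝟙 X) ((yon _).map (algHomOver φ)) ≫ ν.inv)
  have hma : IsAffineHom m.left := by
    refine (repWith_yon_map_iff @IsAffineHom m).1 ?_
    rw [hm]
    exact MorphismProperty.RespectsIso.precomp _ _ _ (MorphismProperty.RespectsIso.postcomp _ _ _
      (repWith_of_isPullback (isPullback_prod_map_snd' (X := X) ((yon _).map (algHomOver φ))).flip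
        ((repWith_yon_map_iff @IsAffineHom (algHomOver φ)).2 (isAffineHom_of_isAffine (X := Spec (CommRingCat.of L)) (Y := Spec (CommRingCat.of A)) _))))
  have : FiniteDimensional k L := hL
  refine exists_openImmersion_nhd (K := L) hX hqc hqs ν' x (m.left ⁻¹ᵁ U) (hU.preimage m.left) fun w hw => ?_
  obtain ⟨c, hc, -⟩ := exists_point_of_isPullback (isPullback_prod_map_fst' (Y := (yon _).obj (extObj k L)) ρ)
    (Points.ofPt ν'.hom w) y (by
      rw [hy, ← hw, Points.ofPt_eq_map_ofScheme, Points.ofPt_eq_map_ofScheme, ← Points.map_comp])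
  obtain ⟨p, rfl⟩ := (bijective_ofPt_tensorLift (k := k) F L).2 c
  let p' : PrimeSpectrum (F ⊗[k] L) := p
  let mt : (F ⊗[k] A) →ₐ[k] F ⊗[k] L := Algebra.TensorProduct.map (AlgHom.id k F) φ
  have e1 : (yon _).map (algHomOver mt : tensorObj (k := k) F L ⟶ TA) ≫
      prod.lift ((yon _).map f₁ ≫ ρ) ((yon _).map f₂) =
      tensorLift F L ≫ prod.map ρ (𝟙 _) ≫ prod.map (𝟙 X) ((yon _).map (algHomOver φ)) := by
    have a1 : algHomOver mt ≫ f₁ = tensorFst F L := Over.OverMorphism.ext (by
      change Spec.map _ ≫ Spec.map _ = Spec.map _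
      rw [← Spec.map_comp, ← CommRingCat.ofHom_comp]
      congr 2
      ext a
      simp [mt])
    have a2 : algHomOver mt ≫ f₂ = tensorSnd F L ≫ algHomOver φ := Over.OverMorphism.ext (by
      change Spec.map _ ≫ Spec.map _ = Spec.map _ ≫ Spec.map _
      rw [← Spec.map_comp, ← CommRingCat.ofHom_comp, ← Spec.map_comp, ← CommRingCat.ofHom_comp]
      congr 2)
    refine Eq.trans ?_ (lift_map_map _ _ _ _).symm
    apply Limits.prod.hom_ext
    · simp only [tensorLift, Category.assoc, Limits.prod.lift_fst, prod.map_fst, prod.map_fst_assoc,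
        Category.comp_id, Limits.prod.lift_fst_assoc, ← Functor.map_comp_assoc, a1]
    · simp only [tensorLift, Category.assoc, Limits.prod.lift_snd, prod.map_snd, prod.map_snd_assoc,
        Category.id_comp, Limits.prod.lift_snd_assoc, ← Functor.map_comp, a2]
  have e2 : Points.ofPt ν.hom (m.left w) = Points.ofPt ν.hom (γ.left ((algHomOver mt).left p)) := by
    have h1 : (yon _).map m ≫ ν.hom = ν'.hom ≫ prod.map (𝟙 X) ((yon _).map (algHomOver φ)) := by simp [hm]
    have h2 : (yon _).map γ ≫ ν.hom = prod.lift ((yon _).map f₁ ≫ ρ) ((yon _).map f₂) := by simp [hγ]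
    rw [← ofPt_map, h1, ← Points.map_ofPt, ← hc, ← ofPt_map, h2, ← ofPt_map, e1, ← Points.map_ofPt,
      ← Points.map_comp]
  have hνb : Function.Injective (Points.ofPt ν.hom) := by
    rw [show Points.ofPt ν.hom = Points.map ν.hom ∘ Points.schemeHomeo W from
      funext fun t => Points.ofPt_eq_map_ofScheme _ t]
    exact (Function.LeftInverse.injective (g := Points.map ν.inv) fun z => by
      rw [← Points.map_comp, Iso.hom_inv_id, Points.map_id]).comp (Points.schemeHomeo W).injective
  change m.left w ∈ U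
  rw [hνb e2]
  exact hgsub (show g ∉ Ideal.comap mt.toRingHom p'.asIdeal from hφ p')

end Groth.Agent.H13AlgSp
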