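import Mathlib.AlgebraicGeometry.Scheme
import Mathlib.FieldTheory.Finite.Basic
import Mathlib.RingTheory.Jacobson.Ring
import Mathlib.RingTheory.Spectrum.Prime.Noetherian
import Mathlib.RingTheory.LocalRing.ResidueField.Ideal
import Mathlib.Algebra.Polynomial.Roots

/-!
# Open subsets of affine space stable under the elementary triangular automorphisms
-/

set_option autoImplicit false
set_option linter.style.haveILetI false

universe u

open MvPolynomial

namespace Groth.Agent.H13AlgSp.TriangularInvariant

/-- A finite subsemiring generated by `a` consists of roots of `X ^ (p ^ m) - X`. -/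
theorem exists_char_pow_eq {K : Type u} [Field K] (a : K)
    (h : (Subsemiring.closure ({a} : Set K) : Set K).Finite) :
    ∃ (p : ℕ) (m : ℕ), p.Prime ∧ CharP K p ∧ 0 < m ∧ a ^ (p ^ m) = a := by
  classical
  let S := Subsemiring.closure ({a} : Set K)
  have hchar : ringChar K ≠ 0 := fun h0 => by
    haveI : CharP K 0 := h0 ▸ ringChar.charP K
    haveI : CharZero K := CharP.charP_to_charZero K
    exact Set.infinite_range_of_injective (Nat.cast_injective (R := K))
      (h.subset (by rintro _ ⟨t, rfl⟩; exact natCast_mem S t))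
  let p := ringChar K
  haveI hp : CharP K p := ringChar.charP K
  have hpp : p.Prime := (CharP.char_is_prime_or_zero K p).resolve_right hchar
  haveI : Finite S := h.to_subtype
  have hneg : ∀ x ∈ S, -x ∈ S := fun x hx => by
    have e : -x = ((p - 1 : ℕ) : K) * x := by
      rw [Nat.cast_sub hpp.one_lt.le, Nat.cast_one, CharP.cast_eq_zero, zero_sub, neg_one_mul]
    rw [e]
    exact S.mul_mem (natCast_mem S _) hx
  let R : Subring K := S.toSubring (by simpa using hneg 1 S.one_mem)
  haveI : Finite R := h.to_subtype
  haveI := Fintype.ofFinite R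
  letI : Field R := Fintype.fieldOfDomain R
  haveI : CharP R p := (RingHom.charP_iff R.subtype Subtype.val_injective p).2 hp
  obtain ⟨m, -, hm⟩ := FiniteField.card R p
  refine ⟨p, m, hpp, hp, m.pos, ?_⟩
  have e := FiniteField.pow_card (⟨a, Subsemiring.subset_closure rfl⟩ : R)
  rw [hm] at e
  exact congrArg Subtype.val e

variable {k : Type u} [Field k] {n : ℕ}

/-- A point satisfying the equations. -/
def Van (I : Ideal (MvPolynomial (Fin n) k)) {K : Type u} [Field K] [Algebra k K] (a : Fin n → K) : Prop :=
  ∀ f ∈ I, aeval a f = 0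

variable {I : Ideal (MvPolynomial (Fin n) k)}

theorem Van.map {K L : Type u} [Field K] [Algebra k K] [Field L] [Algebra k L] {a : Fin n → K} (h : Van I a)
    (e : K →ₐ[k] L) : Van I fun l => e (a l) := fun f hf => by
  rw [← MvPolynomial.comp_aeval_apply a e f, h f hf, map_zero]

variable (hI : ∀ (i j : Fin n), i ≠ j → ∀ (d : ℕ), ∀ f ∈ I,
  aeval (R := k) (Function.update MvPolynomial.X i (MvPolynomial.X i + MvPolynomial.X j ^ d) :
    Fin n → MvPolynomial (Fin n) k) f ∈ I)

include hI

theorem Van.add_pow {K : Type u} [Field K] [Algebra k K] {a : Fin n → K} (h : Van I a) {i j : Fin n} (hij : i ≠ j)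
    (d : ℕ) : Van I (Function.update a i (a i + a j ^ d)) := fun f hf => by
  have := h _ (hI i j hij d f hf)
  rw [MvPolynomial.comp_aeval_apply] at this
  refine Eq.trans (congrArg (fun v => aeval v f) (funext fun l => ?_)) this
  by_cases hl : l = i
  · rw [hl]; simp
  · simp [Function.update_of_ne hl]

theorem Van.add_mem {K : Type u} [Field K] [Algebra k K] {a : Fin n → K} (h : Van I a) {i j : Fin n} (hij : i ≠ j)
    {t : K} (ht : t ∈ Subsemiring.closure ({a j} : Set K)) : Van I (Function.update a i (a i + t)) := by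
  let M : AddSubmonoid K :=
    { carrier := {s | ∀ b : Fin n → K, Van I b → b j = a j → Van I (Function.update b i (b i + s))}
      zero_mem' := fun b hb _ => by simpa using hb
      add_mem' := fun {s s'} hs hs' b hb hbj => by
        have := hs' _ (hs b hb hbj) (by rw [Function.update_of_ne (Ne.symm hij)]; exact hbj)
        simpa [add_assoc] using this }
  suffices hM : t ∈ M from hM a h rfl
  refine AddSubmonoid.closure_le.2 ?_ (Subsemiring.mem_closure_iff.1 ht)
  intro s hs b hb hbj
  obtain ⟨d, rfl⟩ := Submonoid.mem_closure_singleton.1 hs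
  rw [← hbj]
  exact hb.add_pow hI hij d

/-- If the coordinate `a j` generates an infinite semiring the whole line in direction `i` lies in the zero set. -/
theorem Van.line {K L : Type u} [Field K] [Algebra k K] [Field L] [Algebra k L] {a : Fin n → K} (h : Van I a)
    {i j : Fin n} (hij : i ≠ j) (hinf : (Subsemiring.closure ({a j} : Set K) : Set K).Infinite) (e : K →ₐ[k] L) (t : L) :
    Van I (Function.update (fun l => e (a l)) i (e (a i) + t)) := by
  intro f hf
  let g : Fin n → Polynomial K := Function.update (fun l => Polynomial.C (a l)) i (Polynomial.C (a i) + Polynomial.X)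
  let P : Polynomial K := aeval g f
  have hP : P = 0 := by
    refine Polynomial.eq_zero_of_infinite_isRoot P (hinf.mono fun s hs => ?_)
    have h1 := h.add_mem hI hij hs f hf
    show Polynomial.eval s P = 0
    have h2 : Polynomial.eval s P = ((Polynomial.aeval s).restrictScalars k : Polynomial K →ₐ[k] K) P := by
      simp [Polynomial.coe_aeval_eq_eval]
    rw [h2, MvPolynomial.comp_aeval_apply]
    refine Eq.trans (congrArg (fun v => aeval v f) (funext fun l => ?_)) h1
    by_cases hl : l = i
    · rw [hl]; simp [g]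
    · simp [g, Function.update_of_ne hl]
  letI : Algebra K L := e.toRingHom.toAlgebra
  haveI : IsScalarTower k K L := IsScalarTower.of_algebraMap_eq fun r => (e.commutes r).symm
  have h3 := MvPolynomial.comp_aeval_apply g ((Polynomial.aeval t).restrictScalars k : Polynomial K →ₐ[k] L) f
  rw [show aeval g f = P from rfl, hP, map_zero] at h3
  refine Eq.trans ?_ h3.symm
  refine congrArg (fun v => aeval v f) (funext fun l => ?_)
  by_cases hl : l = i
  · rw [hl]; simp [g, RingHom.algebraMap_toAlgebra]
  · simp [g, Function.update_of_ne hl, RingHom.algebraMap_toAlgebra]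

/-- A point with a coordinate generating an infinite semiring forces the zero set to be everything. -/
theorem eq_bot_of_infinite {K : Type u} [Field K] [Algebra k K] {a : Fin n → K} (h : Van I a) {j : Fin n}
    (hn : 2 ≤ n) (hinf : (Subsemiring.closure ({a j} : Set K) : Set K).Infinite) : I = ⊥ := by
  classical
  let L := FractionRing (MvPolynomial (Fin n) K)
  let e : K →ₐ[k] L := IsScalarTower.toAlgHom k K L
  let T : Fin n → L := fun l => algebraMap (MvPolynomial (Fin n) K) L (X l)
  have hej : (Subsemiring.closure ({e (a j)} : Set L) : Set L).Infinite := by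
    have : (Subsemiring.closure ({a j} : Set K)).map (e : K →+* L) = Subsemiring.closure {e (a j)} := by
      rw [RingHom.map_closureS, Set.image_singleton]
      rfl
    rw [← this, Subsemiring.coe_map]
    exact hinf.image e.injective.injOn
  have hs : ∀ s : Finset (Fin n), j ∉ s → Van I (fun l => if l ∈ s then e (a l) + T l else e (a l)) := by
    intro s
    induction s using Finset.induction_on with
    | empty => intro _; simpa using h.map e
    | insert i s hi ih =>
      intro hj
      rw [Finset.mem_insert, not_or] at hj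
      have h1 := (ih hj.2).line hI (i := i) (j := j) (Ne.symm hj.1) (by simpa [hj.2] using hej) (AlgHom.id k L) (T i)
      convert h1 using 2 with l
      by_cases hl : l = i
      · subst hl; simp [hi]
      · simp [hl, Function.update_of_ne hl]
  haveI : Nontrivial (Fin n) := Fin.nontrivial_iff_two_le.2 hn
  obtain ⟨i, hij⟩ := exists_ne j
  have hb := hs (Finset.univ.erase j) (by simp)
  have hinj : Function.Injective fun m : ℕ => (e (a i) + T i) ^ m := fun u v huv => by
    have h1 : algebraMap (MvPolynomial (Fin n) K) L ((C (a i) + X i) ^ u) =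
        algebraMap (MvPolynomial (Fin n) K) L ((C (a i) + X i) ^ v) := by
      simp only [map_pow, map_add]
      exact huv
    have h2 := congrArg (aeval (R := K) (fun _ : Fin n => Polynomial.X - Polynomial.C (a i)))
      (IsFractionRing.injective (MvPolynomial (Fin n) K) L h1)
    have h3 : (Polynomial.X : Polynomial K) ^ u = Polynomial.X ^ v := by
      simpa using h2
    simpa using congrArg Polynomial.natDegree h3
  have hall := hb.line hI (i := j) (j := i) (Ne.symm hij)
    ((Set.infinite_range_of_injective hinj).mono (by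
      rintro _ ⟨m, rfl⟩
      simp only [Finset.mem_erase, Finset.mem_univ, ne_eq, hij, not_false_eq_true, and_self, ite_true]
      exact pow_mem (Subsemiring.subset_closure (Set.mem_singleton _)) m)) (AlgHom.id k L) (T j)
  rw [eq_bot_iff]
  intro f hf
  rw [Submodule.mem_bot]
  have h4 := hall f hf
  have h5 : algebraMap (MvPolynomial (Fin n) K) L (aeval (fun l => C (a l) + X l) f) = 0 := by
    rw [← h4, ← IsScalarTower.toAlgHom_apply k, MvPolynomial.comp_aeval_apply]
    refine congrArg (fun v => aeval v f) (funext fun l => ?_)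
    by_cases hl : l = j
    · subst hl; simp [e, T]; rfl
    · simp [Function.update_of_ne hl, hl, e, T]; rfl
  have h6 := congrArg ((aeval (fun l : Fin n => X l - C (a l)) :
    MvPolynomial (Fin n) K →ₐ[K] MvPolynomial (Fin n) K).restrictScalars k)
    (IsFractionRing.injective (MvPolynomial (Fin n) K) L (h5.trans (map_zero _).symm))
  rw [MvPolynomial.comp_aeval_apply, map_zero] at h6
  have h7 : MvPolynomial.map (algebraMap k K) f = 0 := by
    rw [← h6]
    have hmap : MvPolynomial.map (algebraMap k K) f = aeval (fun l => (X l : MvPolynomial (Fin n) K)) f :=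
      DFunLike.congr_fun (show MvPolynomial.map (algebraMap k K) =
        (aeval fun l => (X l : MvPolynomial (Fin n) K) : MvPolynomial (Fin n) k →ₐ[k] _).toRingHom from
        MvPolynomial.ringHom_ext (fun r => by simp) (fun l => by simp)) f
    rw [hmap]
    refine congrArg (fun v => aeval v f) (funext fun l => ?_)
    simp
  exact MvPolynomial.map_injective _ (algebraMap k K).injective (h7.trans (map_zero _).symm)

omit hI

theorem result (k : Type u) [Field k] (n : ℕ) (hn : 2 ≤ n)
    (W : TopologicalSpace.Opens (PrimeSpectrum (MvPolynomial (Fin n) k))) (hW : (W : Set (PrimeSpectrum (MvPolynomial (Fin n) k))).Nonempty)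
    (hinv : ∀ (i j : Fin n), i ≠ j → ∀ d : ℕ,
      PrimeSpectrum.comap (aeval (R := k) (Function.update MvPolynomial.X i (MvPolynomial.X i + MvPolynomial.X j ^ d) :
            Fin n → MvPolynomial (Fin n) k)).toRingHom ⁻¹' (W : Set (PrimeSpectrum (MvPolynomial (Fin n) k))) = W) :
    W = ⊤ ∨ ∃ p : ℕ, p.Prime ∧ CharP k p ∧ ((W : Set (PrimeSpectrum (MvPolynomial (Fin n) k)))ᶜ).Finite ∧
      ∀ x : PrimeSpectrum (MvPolynomial (Fin n) k), x ∉ (W : Set (PrimeSpectrum (MvPolynomial (Fin n) k))) →
        IsClosed ({x} : Set (PrimeSpectrum (MvPolynomial (Fin n) k))) ∧ ∀ i : Fin n, ∃ m : ℕ, 0 < m ∧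
          (algebraMap (MvPolynomial (Fin n) k) x.asIdeal.ResidueField (MvPolynomial.X i)) ^ (p ^ m) =
            algebraMap (MvPolynomial (Fin n) k) x.asIdeal.ResidueField (MvPolynomial.X i) := by
  classical
  by_cases hWtop : W = ⊤
  · exact Or.inl hWtop
  obtain ⟨x₀, hx₀⟩ : ∃ x₀, x₀ ∉ W := by
    by_contra h
    push Not at h
    exact hWtop (SetLike.ext fun x => ⟨fun _ => trivial, fun _ => h x⟩)
  let Z : Set (PrimeSpectrum (MvPolynomial (Fin n) k)) := (W : Set (PrimeSpectrum (MvPolynomial (Fin n) k)))ᶜ
  have hZc : IsClosed Z := W.2.isClosed_compl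
  let I := PrimeSpectrum.vanishingIdeal Z
  have hI : ∀ (i j : Fin n), i ≠ j → ∀ (d : ℕ), ∀ f ∈ I,
      aeval (R := k) (Function.update MvPolynomial.X i (MvPolynomial.X i + MvPolynomial.X j ^ d) :
        Fin n → MvPolynomial (Fin n) k) f ∈ I := fun i j hij d f hf => by
    rw [PrimeSpectrum.mem_vanishingIdeal] at hf ⊢
    intro x hx
    refine hf (PrimeSpectrum.comap _ x) fun hmem => hx ?_
    rw [← hinv i j hij d]
    exact hmem
  have hIne : I ≠ ⊥ := fun h => by
    obtain ⟨w, hw⟩ := hW
    have : w ∈ PrimeSpectrum.zeroLocus (I : Set (MvPolynomial (Fin n) k)) := by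
      rw [h]; simp
    rw [PrimeSpectrum.zeroLocus_vanishingIdeal_eq_closure, hZc.closure_eq] at this
    exact this hw
  let a : ∀ x : PrimeSpectrum (MvPolynomial (Fin n) k), Fin n → x.asIdeal.ResidueField := fun x l =>
    algebraMap (MvPolynomial (Fin n) k) x.asIdeal.ResidueField (MvPolynomial.X l)
  have haev : ∀ x f, aeval (a x) f = algebraMap (MvPolynomial (Fin n) k) x.asIdeal.ResidueField f := fun x f => by
    refine (DFunLike.congr_fun (MvPolynomial.aeval_unique
      (IsScalarTower.toAlgHom k (MvPolynomial (Fin n) k) x.asIdeal.ResidueField)) f).symm.trans ?_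
    rfl
  have hfin : ∀ x, x ∈ Z → ∀ l,
      (Subsemiring.closure ({a x l} : Set x.asIdeal.ResidueField) : Set x.asIdeal.ResidueField).Finite := by
    intro x hx l
    by_contra hc
    refine hIne (eq_bot_of_infinite hI (a := a x) (j := l) (fun f hf => ?_) hn hc)
    rw [haev, Ideal.algebraMap_residueField_eq_zero]
    exact (PrimeSpectrum.mem_vanishingIdeal _ _).1 hf x hx
  obtain ⟨p, m₀, hp, hcp, -, -⟩ := exists_char_pow_eq _ (hfin x₀ hx₀ ⟨0, lt_of_lt_of_le two_pos hn⟩)
  haveI hk : CharP k p :=
    (RingHom.charP_iff (algebraMap k x₀.asIdeal.ResidueField) (RingHom.injective _) p).2 hcp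
  have hroot : ∀ x, x ∈ Z → ∀ l, ∃ m : ℕ, 0 < m ∧ a x l ^ (p ^ m) = a x l := fun x hx l => by
    obtain ⟨q, m, -, hq, hm, he⟩ := exists_char_pow_eq _ (hfin x hx l)
    haveI := hq
    haveI : CharP x.asIdeal.ResidueField p :=
      (RingHom.charP_iff (algebraMap k x.asIdeal.ResidueField) (RingHom.injective _) p).1 hk
    exact ⟨m, hm, by rwa [CharP.eq x.asIdeal.ResidueField (inferInstance : CharP _ p) hq]⟩
  have hmax : ∀ x, x ∈ Z → x.asIdeal.IsMaximal := fun x hx => by
    let B := MvPolynomial (Fin n) k ⧸ x.asIdeal
    haveI : Algebra.IsIntegral k B := by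
      refine ⟨fun b => ?_⟩
      obtain ⟨f, rfl⟩ := Ideal.Quotient.mk_surjective b
      have hX : ∀ l, IsIntegral k (Ideal.Quotient.mk x.asIdeal (MvPolynomial.X l) : B) := fun l => by
        obtain ⟨m, hm, he⟩ := hroot x hx l
        have he' : (Ideal.Quotient.mk x.asIdeal (MvPolynomial.X l) : B) ^ p ^ m =
            Ideal.Quotient.mk x.asIdeal (MvPolynomial.X l) := by
          rw [← map_pow, Ideal.Quotient.mk_eq_mk_iff_sub_mem, ← Ideal.algebraMap_residueField_eq_zero, map_sub,
            map_pow, sub_eq_zero]
          exact he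
        refine ⟨Polynomial.X ^ (p ^ m) - Polynomial.X, Polynomial.monic_X_pow_sub ?_, by simp [he']⟩
        rw [Polynomial.degree_X]
        exact_mod_cast Nat.one_lt_pow hm.ne' hp.one_lt
      induction f using MvPolynomial.induction_on with
      | C r => exact isIntegral_algebraMap (x := r)
      | add f g hf hg => rw [map_add]; exact hf.add hg
      | mul_X f l hf => rw [map_mul]; exact hf.mul (hX l)
    exact Ideal.Quotient.maximal_of_isField _ (isField_of_isIntegral_of_isField' (Field.toIsField k))
  have hclosed : ∀ x, x ∈ Z → IsClosed ({x} : Set (PrimeSpectrum (MvPolynomial (Fin n) k))) := fun x hx =>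
    (PrimeSpectrum.isClosed_singleton_iff_isMaximal x).2 (hmax x hx)
  refine Or.inr ⟨p, hp, hk, ?_, fun x hx => ⟨hclosed x hx, hroot x hx⟩⟩
  obtain ⟨T, hTf, hTc, hTi, hTZ⟩ := TopologicalSpace.NoetherianSpace.exists_finite_set_isClosed_irreducible hZc
  change Z.Finite
  rw [hTZ]
  refine hTf.sUnion fun t ht => ?_
  obtain ⟨η, hη⟩ := QuasiSober.sober (hTi t ht) (hTc t ht)
  have hηZ : η ∈ Z := hTZ ▸ Set.mem_sUnion_of_mem hη.mem ht
  rw [show t = closure {η} from hη.symm, (hclosed η hηZ).closure_eq]
  exact Set.finite_singleton η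

end Groth.Agent.H13AlgSp.TriangularInvariant
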