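import Groth.Agent.H13AlgSp.UnivBdd
import Groth.Agent.H13Cartier.Space

/-!
Universally bounded fibres of etale morphisms from affine schemes.
-/

universe u

open CategoryTheory CategoryTheory.Limits AlgebraicGeometry Opposite
open AlgSp Groth.Agent.H12AlgSp
open Groth.Agent.H13AlgSp.DegField

namespace Groth.Agent.H13AlgSp

variable {S : Scheme.{u}}

/-- Bounded fibres descend along a base change meeting the image. -/
theorem degFibresLE_of_baseChange {X Y : Sp S} {g : Y ⟶ X} {U V : Over S} {f : (yon S).obj U ⟶ X}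
    {fst : (yon S).obj V ⟶ (yon S).obj U} {f' : (yon S).obj V ⟶ Y} (h : IsPullback fst f' f g)
    (him : Set.range (Points.ofPt f) ⊆ Set.range (Points.map g)) {n : ℕ} (hn : W4dec.DegFibresLE n f') :
    W4dec.DegFibresLE n f := by
  intro q T c snd sq
  by_cases hT : IsEmpty T.left
  · exact degLE_of_isEmpty c.left n
  obtain ⟨z⟩ := not_isEmpty_iff.mp hT
  obtain ⟨s, rfl⟩ := (yon S).map_surjective snd
  have hx : Points.mk q ∈ Set.range (Points.map g) := by
    have e : Points.ofPt f (s.left z) = Points.mk q := by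
      rw [← ofPt_map s f z, ← sq.w, ofPt_map c q.toHom z]
      exact Points.ofPt_toHom q _
    exact e ▸ him ⟨_, rfl⟩
  obtain ⟨y, hy⟩ := hx
  induction y using Points.ind with | h p =>
  rw [Points.map_mk, Points.mk_eq_mk_iff, rel_iff_toHom] at hy
  obtain ⟨Ω, hΩ, w, a, b, e⟩ := hy
  rw [FieldPt.toHom_map] at e
  let P := pullback c b
  let p₁ : P ⟶ T := pullback.fst c b
  let p₂ : P ⟶ Over.mk w := pullback.snd c b
  let l : (yon S).obj (Over.mk w) ⟶ Y := (yon S).map a ≫ p.toHom
  have outer : IsPullback ((yon S).map p₁ ≫ (yon S).map s) ((yon S).map p₂) f (l ≫ g) := by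
    rw [show l ≫ g = (yon S).map b ≫ q.toHom from (Category.assoc _ _ _).trans e]
    exact (((IsPullback.of_hasPullback c b).map (yon S)).flip.paste_vert sq).flip
  have key : IsPullback (h.lift ((yon S).map p₁ ≫ (yon S).map s) ((yon S).map p₂ ≫ l)
      (by rw [outer.w]; simp [l])) ((yon S).map p₂) f' l := by
    refine IsPullback.of_right ?_ (h.lift_snd _ _ _) h
    rw [h.lift_fst]
    exact outer
  have := hn (fieldPtOfHom (K := Ω) (str := w) l) P p₂ _ (by rw [toHom_fieldPtOfHom]; exact key.flip)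
  exact DegLE.descend ((IsPullback.of_hasPullback c b).map (Over.forget S)) this

/-- Etale morphisms from affine schemes have bounded fibres as soon as some etale covering family has. -/
theorem exists_degFibresLE_of_etale_family {X : Sp S} {ι : Type*} (U : ι → Over S)
    (φ : ∀ i, (yon S).obj (U i) ⟶ X) (hφ : ∀ i, RepWith @Etale (φ i))
    {V : Over S} [IsAffine V.left] (ψ : (yon S).obj V ⟶ X) (hψ : RepWith @Etale ψ)
    (hsurj : ∀ v : V.left, ∃ (i : ι) (u : (U i).left), Points.ofPt (φ i) u = Points.ofPt ψ v)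
    (hb : ∀ i, W4dec.HasUnivBddFibres (φ i)) : W4dec.HasUnivBddFibres ψ := by
  have data : ∀ v : V.left, ∃ (i : ι) (W : Over S) (a : W ⟶ V) (b : W ⟶ U i) (w : W.left), Etale a.left ∧
      a.left w = v ∧ (yon S).map a ≫ ψ = (yon S).map b ≫ φ i ∧ ∃ n, DegFib n b.left := by
    intro v
    obtain ⟨i, u, hu⟩ := hsurj v
    obtain ⟨W, a, b, w, ha, hb', haw, hbw, e⟩ := H13Cartier.exists_common_etale hψ (hφ i) v u hu.symm
    obtain ⟨A, hA, huA, -⟩ := exists_isAffineOpen_mem_and_subset (U := (⊤ : (U i).left.Opens)) (x := b.left w) trivial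
    obtain ⟨W', hW', hwW', hle⟩ := exists_isAffineOpen_mem_and_subset (U := b.left ⁻¹ᵁ A) (x := w) huA
    refine ⟨i, openOver W W', openIncl W W' ≫ a, openIncl W W' ≫ b, ⟨w, hwW'⟩, ?_, ?_, ?_, ?_⟩
    · exact inferInstanceAs (Etale (W'.ι ≫ a.left))
    · exact haw
    · rw [Functor.map_comp, Functor.map_comp, Category.assoc, Category.assoc, e]
    · have : IsAffine (A : Scheme.{u}) := hA
      have : IsAffine (W' : Scheme.{u}) := hW'
      have : Etale b.left := hb'
      let g := b.left.resLE A W' hle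
      have hg : g ≫ A.ι = W'.ι ≫ b.left := Scheme.Hom.resLE_comp_ι _ _
      have : Etale (g ≫ A.ι) := by rw [hg]; infer_instance
      have : Etale g := Etale.of_comp g A.ι
      have : LocallyQuasiFinite g := locallyQuasiFinite_of_etale g
      obtain ⟨n, hn⟩ := exists_degFib_of_quasiFinite g
      refine ⟨n, ?_⟩
      have := hn.comp_openImmersion A.ι
      rw [hg] at this
      exact this
  choose i W a b w ha haw e n hn using data
  obtain ⟨t, ht⟩ := isCompact_univ.elim_finite_subcover (fun v => Set.range (a v).left)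
    (fun v => (a v).left.isOpenMap.isOpen_range) (fun v _ => Set.mem_iUnion.mpr ⟨v, w v, haw v⟩)
  choose m hm using hb
  refine ⟨∑ v : t, n v.1 * m (i v.1), degFibresLE_of_flat_cover (W := fun v : t => W v.1) (fun v => a v.1)
    (fun x => ?_) ψ _ fun v => ?_⟩
  · obtain ⟨v, hv, y, hy⟩ := Set.mem_iUnion₂.mp (ht (Set.mem_univ x))
    exact ⟨⟨v, hv⟩, y, hy⟩
  · rw [e]
    exact degFibresLE_comp (hn v.1) (hφ _).1 (hm _)

end Groth.Agent.H13AlgSp
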