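import Groth.Agent.H13AlgSp.MayerVietorisEt
import Groth.Agent.H12AlgSp.BCMod.EtSite
import Mathlib.Algebra.Category.Grp.Adjunctions
import Mathlib.CategoryTheory.Adjunction.Whiskering
import Mathlib.CategoryTheory.Limits.Shapes.Pullback.Square
import Mathlib.Algebra.Homology.Square
import Mathlib.Algebra.Homology.DerivedCategory.Ext.EnoughInjectives
import Mathlib.Algebra.Homology.DerivedCategory.Ext.ExactSequences

/-!
Free abelian sheaves on spaces over the base of a small etale site, and Mayer-Vietoris.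
-/

set_option autoImplicit false
set_option backward.isDefEq.respectTransparency false
set_option linter.style.haveILetI false

universe u

open CategoryTheory CategoryTheory.Limits AlgebraicGeometry Opposite CategoryTheory.Abelian
open AlgSp Groth.Agent.H12AlgSp

namespace Groth.Agent.H13AlgSp.ZFree

variable {S : Scheme.{u}} (X : Sp S)

/-- An object of the small etale site as a sheaf over the base. -/
noncomputable def toSpOver : EtOver X ⥤ Over X where
  obj E := Over.mk E.obj.hom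
  map g := Over.homMk ((yon S).map g.hom.left) (EtOver.w g)
  map_id E := by
    apply Over.OverMorphism.ext
    exact (yon S).map_id _
  map_comp g h := by
    apply Over.OverMorphism.ext
    exact (yon S).map_comp _ _

/-- Lifts of objects of the site to a space over the base. -/
noncomputable abbrev hPre : Over X ⥤ ((EtOver X)ᵒᵖ ⥤ Type (u + 1)) :=
  yoneda ⋙ (Functor.whiskeringLeft _ _ _).obj (toSpOver X).op

/-- The free abelian sheaf. -/
noncomputable abbrev zSh : Over X ⥤ AbEt X :=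
  hPre X ⋙ (Functor.whiskeringRight _ _ _).obj AddCommGrpCat.free.{u + 1} ⋙ presheafToSheaf (etTop X) _

/-- Maps out of the free abelian sheaf. -/
noncomputable def zEquiv (W : Over X) (G : AbEt X) :
    ((zSh X).obj W ⟶ G) ≃ ((hPre X).obj W ⟶ G.obj ⋙ CategoryTheory.forget AddCommGrpCat.{u + 1}) :=
  ((sheafificationAdjunction (etTop X) AddCommGrpCat.{u + 1}).homEquiv _ G).trans
    ((AddCommGrpCat.adj.{u + 1}.whiskerRight (EtOver X)ᵒᵖ).homEquiv _ _)

theorem zEquiv_naturality_left {W W' : Over X} (g : W' ⟶ W) {G : AbEt X} (φ : (zSh X).obj W ⟶ G) :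
    zEquiv X W' G ((zSh X).map g ≫ φ) = (hPre X).map g ≫ zEquiv X W G φ := by
  refine (congrArg ((AddCommGrpCat.adj.{u + 1}.whiskerRight (EtOver X)ᵒᵖ).homEquiv _ _)
    ((sheafificationAdjunction (etTop X) AddCommGrpCat.{u + 1}).homEquiv_naturality_left _ φ)).trans ?_
  exact (AddCommGrpCat.adj.{u + 1}.whiskerRight (EtOver X)ᵒᵖ).homEquiv_naturality_left _ _

theorem zEquiv_naturality_right {W : Over X} {G G' : AbEt X} (φ : (zSh X).obj W ⟶ G) (g : G ⟶ G') :
    zEquiv X W G' (φ ≫ g) = zEquiv X W G φ ≫ Functor.whiskerRight g.hom (CategoryTheory.forget _) := by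
  refine (congrArg ((AddCommGrpCat.adj.{u + 1}.whiskerRight (EtOver X)ᵒᵖ).homEquiv _ _)
    ((sheafificationAdjunction (etTop X) AddCommGrpCat.{u + 1}).homEquiv_naturality_right φ g)).trans ?_
  exact (AddCommGrpCat.adj.{u + 1}.whiskerRight (EtOver X)ᵒᵖ).homEquiv_naturality_right _ _

variable {X}

theorem exists_etOver_lift {U W : Over X} {j : U ⟶ W} {T : Over S} (e : (yon S).obj T ⟶ U.left)
    (hr : RepWith @Etale (e ≫ j.left)) {E : EtOver X} (g : (toSpOver X).obj E ⟶ W) (t : E.obj.left.left)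
    (ht : Points.ofPt g.left t ∈ Set.range (Points.map (e ≫ j.left))) :
    ∃ (E' : EtOver X) (k : E' ⟶ E) (y : E'.obj.left.left) (l : (toSpOver X).obj E' ⟶ U),
      (toSpOver X).map k ≫ g = l ≫ j ∧ k.hom.left.left y = t := by
  have sq := hr.1.isPullback g.left
  obtain ⟨fst, hfst⟩ := (yon S).map_surjective (hr.1.fst g.left)
  rw [← hfst] at sq
  obtain ⟨y, hy⟩ := (preimage_ofPt_range sq).le ht
  let E' : EtOver X := EtOver.mk ((yon S).map (hr.1.snd g.left) ≫ E.obj.hom)
    ((repWith_isMultiplicative (S := S) @Etale).comp_mem _ _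
      ((repWith_isStableUnderBaseChange (S := S) @Etale).of_isPullback sq hr) E.property)
  refine ⟨E', EtOver.homMk (hr.1.snd g.left) rfl, y, Over.homMk ((yon S).map fst ≫ e) ?_, ?_, hy⟩
  · have h1 := Over.w j
    have h2 := Over.w g
    change ((yon S).map fst ≫ e) ≫ U.hom = (yon S).map (hr.1.snd g.left) ≫ E.obj.hom
    refine ((congrArg (((yon S).map fst ≫ e) ≫ ·) h1.symm).trans ?_)
    rw [Category.assoc, ← Category.assoc e, ← Category.assoc]
    exact (congrArg (· ≫ W.hom) sq.w).trans ((Category.assoc _ _ _).trans (congrArg (_ ≫ ·) h2))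
  · apply Over.OverMorphism.ext
    exact ((Category.assoc _ _ _).trans sq.w).symm

theorem exists_open_lift {U W : Over X} {j : U ⟶ W} (hj : RepWith @IsOpenImmersion j.left) {E : EtOver X}
    (g : (toSpOver X).obj E ⟶ W) (t : E.obj.left.left) (ht : Points.ofPt g.left t ∈ Set.range (Points.map j.left)) :
    ∃ (E' : EtOver X) (k : E' ⟶ E) (y : E'.obj.left.left) (l : (toSpOver X).obj E' ⟶ U),
      (toSpOver X).map k ≫ g = l ≫ j ∧ k.hom.left.left y = t := by
  have he : RepWith @Etale j.left := repWith_le (P := @IsOpenImmersion) (Q := @Etale) (fun _ _ k hk => by haveI : IsOpenImmersion k := hk; infer_instance) hj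
  have sq := he.1.isPullback g.left
  obtain ⟨y, hy⟩ := (preimage_ofPt_range sq).le ht
  let E' : EtOver X := EtOver.mk ((yon S).map (he.1.snd g.left) ≫ E.obj.hom)
    ((repWith_isMultiplicative (S := S) @Etale).comp_mem _ _
      ((repWith_isStableUnderBaseChange (S := S) @Etale).of_isPullback sq he) E.property)
  refine ⟨E', EtOver.homMk (he.1.snd g.left) rfl, y, Over.homMk (he.1.fst g.left) ?_, ?_, hy⟩
  · have h1 := Over.w j
    have h2 := Over.w g
    change he.1.fst g.left ≫ U.hom = (yon S).map (he.1.snd g.left) ≫ E.obj.hom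
    refine ((congrArg (he.1.fst g.left ≫ ·) h1.symm).trans ?_)
    exact (Category.assoc _ _ _).symm.trans ((congrArg (· ≫ W.hom) sq.w).trans
      ((Category.assoc _ _ _).trans (congrArg (_ ≫ ·) h2)))
  · apply Over.OverMorphism.ext
    exact sq.w.symm

theorem mem_etTop_of_sieve_cover {E : EtOver X} {P : ∀ E', (E' ⟶ E) → Prop}
    (hP : ∀ {E₁ E₂ : EtOver X} (h : E₁ ⟶ E₂) (k : E₂ ⟶ E), P E₂ k → P E₁ (h ≫ k))
    (h : ∀ t : E.obj.left.left, ∃ (E' : EtOver X) (k : E' ⟶ E) (y : E'.obj.left.left),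
      P E' k ∧ k.hom.left.left y = t) :
    (⟨fun E' => {k | P E' k}, fun {_ _ k} hk h => hP h k hk⟩ : Sieve E) ∈ etTop X E :=
  mem_etTop_of_forall_point _ h

theorem sheaf_ext (G : AbEt X) {E : EtOver X} {R : Sieve E} (hR : R ∈ etTop X E) {a b : G.obj.obj (op E)}
    (h : ∀ (E' : EtOver X) (k : E' ⟶ E), R k → G.obj.map k.op a = G.obj.map k.op b) : a = b :=
  (((isSheaf_iff_isSheaf_of_type _ _).1
    (Presheaf.isSheaf_comp_of_isSheaf (etTop X) G.obj (CategoryTheory.forget AddCommGrpCat.{u + 1}) G.property))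
    R hR).isSeparatedFor.ext h

section MV

variable {U V UV W : Over X} {j : U ⟶ W} {f : V ⟶ W} {p : UV ⟶ U} {q : UV ⟶ V}
  (hX : IsAlgSpace W.left) (hsq : IsElemDistSq j.left f.left) (hpb : IsPullback p.left q.left j.left f.left)
  {T : Over S} (e : (yon S).obj T ≅ V.left)

include hsq e in
theorem repWith_comp_e : RepWith @Etale (e.hom ≫ f.left) :=
  hsq.2.1 e.hom (repWith_of_isIso _)

include hX hsq e in
theorem cover_mem {E : EtOver X} (g : (toSpOver X).obj E ⟶ W) (t : E.obj.left.left) :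
    ∃ (E' : EtOver X) (k : E' ⟶ E) (y : E'.obj.left.left),
      ((∃ u : (toSpOver X).obj E' ⟶ U, (toSpOver X).map k ≫ g = u ≫ j) ∨
        ∃ v : (toSpOver X).obj E' ⟶ V, (toSpOver X).map k ≫ g = v ≫ f) ∧ k.hom.left.left y = t := by
  rcases mem_range_map_of_elemDistSq hsq (Points.ofPt g.left t) with h | h
  · obtain ⟨E', k, y, l, hl, hy⟩ := exists_open_lift hsq.1 g t h
    exact ⟨E', k, y, Or.inl ⟨l, hl⟩, hy⟩
  · obtain ⟨E', k, y, l, hl, hy⟩ := exists_etOver_lift (j := f) e.hom (repWith_comp_e hsq e) g t (by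
      obtain ⟨z, hz⟩ := h
      exact ⟨Points.map e.inv z, by rw [← Points.map_comp, Iso.inv_hom_id_assoc]; exact hz⟩)
    exact ⟨E', k, y, Or.inr ⟨l, hl⟩, hy⟩

variable {G : AbEt X} (α : (hPre X).obj U ⟶ G.obj ⋙ CategoryTheory.forget AddCommGrpCat.{u + 1})
  (β : (hPre X).obj V ⟶ G.obj ⋙ CategoryTheory.forget AddCommGrpCat.{u + 1})

/-- The value of a natural transformation at a lift. -/
abbrev valU {E : EtOver X} (u : (toSpOver X).obj E ⟶ U) : G.obj.obj (op E) := α.app (op E) u

/-- The value of a natural transformation at a lift. -/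
abbrev valV {E : EtOver X} (v : (toSpOver X).obj E ⟶ V) : G.obj.obj (op E) := β.app (op E) v

theorem map_valU {E E' : EtOver X} (k : E' ⟶ E) (u : (toSpOver X).obj E ⟶ U) :
    G.obj.map k.op (valU α u) = valU α ((toSpOver X).map k ≫ u) :=
  (NatTrans.naturality_apply α k.op u).symm

theorem map_valV {E E' : EtOver X} (k : E' ⟶ E) (v : (toSpOver X).obj E ⟶ V) :
    G.obj.map k.op (valV β v) = valV β ((toSpOver X).map k ≫ v) :=
  (NatTrans.naturality_apply β k.op v).symm

variable (hαβ : (hPre X).map p ≫ α = (hPre X).map q ≫ β)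

include hpb hαβ in
theorem agree_UV {E : EtOver X} (u : (toSpOver X).obj E ⟶ U) (v : (toSpOver X).obj E ⟶ V) (h : u ≫ j = v ≫ f) :
    valU α u = valV β v := by
  let w : (toSpOver X).obj E ⟶ UV := Over.homMk (hpb.lift u.left v.left (congrArg CommaMorphism.left h)) (by
    rw [← Over.w p, hpb.lift_fst_assoc]
    exact Over.w u)
  have hp : w ≫ p = u := Over.OverMorphism.ext (hpb.lift_fst _ _ _)
  have hq : w ≫ q = v := Over.OverMorphism.ext (hpb.lift_snd _ _ _)
  have := ConcreteCategory.congr_hom (C := Type (u + 1)) (congrArg (fun η => η.app (op E)) hαβ) w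
  rw [← hp, ← hq]
  exact this

include hX hsq hpb hαβ e in
theorem agree_VV {E : EtOver X} (v v' : (toSpOver X).obj E ⟶ V) (h : v ≫ f = v' ≫ f) :
    valV β v = valV β v' := by
  refine sheaf_ext G (mem_etTop_of_sieve_cover
    (P := fun E' k => valV β ((toSpOver X).map k ≫ v) = valV β ((toSpOver X).map k ≫ v'))
    (fun {E₁ E₂} a k hk => by
      have := congrArg (G.obj.map a.op) hk
      rwa [map_valV, map_valV, ← Category.assoc, ← Category.assoc, ← Functor.map_comp] at this)
    fun t => ?_) fun E' k hk => by rw [map_valV, map_valV]; exact hk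
  by_cases ht : Points.ofPt (v ≫ f).left t ∈ Set.range (Points.map j.left)
  · obtain ⟨E', k, y, l, hl, hy⟩ := exists_open_lift hsq.1 (v ≫ f) t ht
    refine ⟨E', k, y, ?_, hy⟩
    rw [← agree_UV hpb α β hαβ l ((toSpOver X).map k ≫ v) (by rw [← hl, Category.assoc]),
      ← agree_UV hpb α β hαβ l ((toSpOver X).map k ≫ v') (by rw [← hl, Category.assoc, h])]
  · obtain ⟨B, b, hb, ⟨y, hy⟩, he⟩ := exists_open_eq_of_not_mem_range hsq
      ((IsAlgSpace.yon_obj T).of_iso e) hX v.left v'.left (congrArg CommaMorphism.left h) t ht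
    refine ⟨EtOver.mk ((yon S).map b ≫ E.obj.hom) (repWith_comp
      ((repWith_yon_map_iff _ b).2 (inferInstance : Etale b.left)) E.property), EtOver.homMk b rfl, y, ?_, hy⟩
    exact congrArg (valV β) (Over.OverMorphism.ext he)

variable (G) in
/-- Being the value at a map to `W`. -/
def IsVal {E : EtOver X} (g : (toSpOver X).obj E ⟶ W) (s : G.obj.obj (op E)) : Prop :=
  ∀ (E' : EtOver X) (k : E' ⟶ E), (∀ u : (toSpOver X).obj E' ⟶ U, (toSpOver X).map k ≫ g = u ≫ j →
    G.obj.map k.op s = valU α u) ∧ ∀ v : (toSpOver X).obj E' ⟶ V, (toSpOver X).map k ≫ g = v ≫ f →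
    G.obj.map k.op s = valV β v

include hX hsq e in
theorem isVal_unique {E : EtOver X} {g : (toSpOver X).obj E ⟶ W} {s s' : G.obj.obj (op E)}
    (hs : IsVal (j := j) (f := f) G α β g s) (hs' : IsVal (j := j) (f := f) G α β g s') : s = s' := by
  refine sheaf_ext G (mem_etTop_of_sieve_cover
    (P := fun E' k => (∃ u : (toSpOver X).obj E' ⟶ U, (toSpOver X).map k ≫ g = u ≫ j) ∨
      ∃ v : (toSpOver X).obj E' ⟶ V, (toSpOver X).map k ≫ g = v ≫ f)
    (fun {E₁ E₂} a k hk => by
      rcases hk with ⟨l, hl⟩ | ⟨l, hl⟩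
      · exact Or.inl ⟨(toSpOver X).map a ≫ l, by rw [Functor.map_comp, Category.assoc, hl, Category.assoc]⟩
      · exact Or.inr ⟨(toSpOver X).map a ≫ l, by rw [Functor.map_comp, Category.assoc, hl, Category.assoc]⟩)
    fun t => cover_mem hX hsq e g t) fun E' k hk => ?_
  rcases hk with ⟨l, hl⟩ | ⟨l, hl⟩
  · exact ((hs E' k).1 l hl).trans ((hs' E' k).1 l hl).symm
  · exact ((hs E' k).2 l hl).trans ((hs' E' k).2 l hl).symm

include hX hsq hpb hαβ e in
theorem exists_isVal {E : EtOver X} (g : (toSpOver X).obj E ⟶ W) :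
    ∃ s, IsVal (j := j) (f := f) G α β g s := by
  classical
  let R : Sieve E := ⟨fun E' => {k | (∃ u : (toSpOver X).obj E' ⟶ U, (toSpOver X).map k ≫ g = u ≫ j) ∨
      ∃ v : (toSpOver X).obj E' ⟶ V, (toSpOver X).map k ≫ g = v ≫ f}, fun {E₁ E₂ k} hk a => by
    rcases hk with ⟨l, hl⟩ | ⟨l, hl⟩
    · exact Or.inl ⟨(toSpOver X).map a ≫ l, by rw [Functor.map_comp, Category.assoc, hl, Category.assoc]⟩
    · exact Or.inr ⟨(toSpOver X).map a ≫ l, by rw [Functor.map_comp, Category.assoc, hl, Category.assoc]⟩⟩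
  have hR : R ∈ etTop X E := mem_etTop_of_forall_point _ fun t => cover_mem hX hsq e g t
  have hUU : ∀ {E' : EtOver X} (u u' : (toSpOver X).obj E' ⟶ U), u ≫ j = u' ≫ j → u = u' := fun u u' h => by
    have := mono_of_openImmersion hsq.1
    exact Over.OverMorphism.ext ((cancel_mono j.left).1 (congrArg CommaMorphism.left h))
  have ex : ∀ {E' : EtOver X} (k : E' ⟶ E), R k → ∃ s : G.obj.obj (op E'),
      (∀ u, (toSpOver X).map k ≫ g = u ≫ j → s = valU α u) ∧
        ∀ v, (toSpOver X).map k ≫ g = v ≫ f → s = valV β v := by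
    intro E' k hk
    rcases hk with ⟨l, hl⟩ | ⟨l, hl⟩
    · exact ⟨valU α l, fun u hu => by rw [hUU l u (hl.symm.trans hu)],
        fun v hv => agree_UV hpb α β hαβ l v (hl.symm.trans hv)⟩
    · exact ⟨valV β l, fun u hu => (agree_UV hpb α β hαβ u l (hu.symm.trans hl)).symm,
        fun v hv => agree_VV hX hsq hpb e α β hαβ l v (hl.symm.trans hv)⟩
  choose x hxU hxV using @ex
  have hx : Presieve.FamilyOfElements.Compatible (P := G.obj ⋙ CategoryTheory.forget AddCommGrpCat.{u + 1})
      (R := R.arrows) fun E' k hk => x k hk := by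
    intro E₁ E₂ Z a₁ a₂ k₁ k₂ hk₁ hk₂ he
    change G.obj.map a₁.op (x k₁ hk₁) = G.obj.map a₂.op (x k₂ hk₂)
    have hg : (toSpOver X).map a₂ ≫ (toSpOver X).map k₂ ≫ g = (toSpOver X).map a₁ ≫ (toSpOver X).map k₁ ≫ g := by
      rw [← Category.assoc, ← Category.assoc, ← Functor.map_comp, ← Functor.map_comp, he]
    rcases hk₁ with ⟨l, hl⟩ | ⟨l, hl⟩ <;> rcases hk₂ with ⟨l', hl'⟩ | ⟨l', hl'⟩
    all_goals rw [hl, hl', ← Category.assoc, ← Category.assoc] at hg
    · rw [hxU k₁ (Or.inl ⟨l, hl⟩) l hl, hxU k₂ (Or.inl ⟨l', hl'⟩) l' hl', map_valU, map_valU, hUU _ _ hg.symm]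
    · rw [hxU k₁ (Or.inl ⟨l, hl⟩) l hl, hxV k₂ (Or.inr ⟨l', hl'⟩) l' hl', map_valU, map_valV]
      exact agree_UV hpb α β hαβ _ _ hg.symm
    · rw [hxV k₁ (Or.inr ⟨l, hl⟩) l hl, hxU k₂ (Or.inl ⟨l', hl'⟩) l' hl', map_valU, map_valV]
      exact (agree_UV hpb α β hαβ _ _ hg).symm
    · rw [hxV k₁ (Or.inr ⟨l, hl⟩) l hl, hxV k₂ (Or.inr ⟨l', hl'⟩) l' hl', map_valV, map_valV]
      exact agree_VV hX hsq hpb e α β hαβ _ _ hg.symm
  have hsh := ((isSheaf_iff_isSheaf_of_type _ _).1
    (Presheaf.isSheaf_comp_of_isSheaf (etTop X) G.obj (CategoryTheory.forget AddCommGrpCat.{u + 1}) G.property)) R hR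
  obtain ⟨s, hs, -⟩ := hsh _ hx
  refine ⟨s, fun E' k => ⟨fun u hu => ?_, fun v hv => ?_⟩⟩
  · exact (hs k (Or.inl ⟨u, hu⟩)).trans (hxU k _ u hu)
  · exact (hs k (Or.inr ⟨v, hv⟩)).trans (hxV k _ v hv)

include hX hsq hpb hαβ e in
theorem existsUnique_desc :
    ∃! γ : (hPre X).obj W ⟶ G.obj ⋙ CategoryTheory.forget AddCommGrpCat.{u + 1},
      (hPre X).map j ≫ γ = α ∧ (hPre X).map f ≫ γ = β := by
  choose s hs using fun (E : EtOver X) (g : (toSpOver X).obj E ⟶ W) => exists_isVal hX hsq hpb e α β hαβ g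
  let γ : (hPre X).obj W ⟶ G.obj ⋙ CategoryTheory.forget AddCommGrpCat.{u + 1} :=
    { app := fun E => TypeCat.ofHom fun g => s E.unop g
      naturality := fun E E' k => by
        ext g
        refine isVal_unique hX hsq e α β (hs _ _) ?_
        intro E'' a
        change (∀ u, _ → G.obj.map a.op (G.obj.map k (s E.unop g)) = _) ∧
          ∀ v, _ → G.obj.map a.op (G.obj.map k (s E.unop g)) = _
        have := hs E.unop g E'' (a ≫ k.unop)
        rw [Functor.map_comp, Category.assoc, op_comp, Functor.map_comp, CategoryTheory.comp_apply] at this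
        exact this }
  have map_id' : ∀ {E : EtOver X} (a : G.obj.obj (op E)), G.obj.map (𝟙 E).op a = a := fun a => by simp
  refine ⟨γ, ⟨?_, ?_⟩, fun γ' h' => ?_⟩
  · ext E u
    exact ((map_id' _).symm.trans ((hs E.unop (u ≫ j) _ (𝟙 _)).1 u (by
      rw [CategoryTheory.Functor.map_id]; exact Category.id_comp _)) :)
  · ext E v
    exact ((map_id' _).symm.trans ((hs E.unop (v ≫ f) _ (𝟙 _)).2 v (by
      rw [CategoryTheory.Functor.map_id]; exact Category.id_comp _)) :)
  · ext E g
    refine isVal_unique hX hsq e α β (fun E' k => ⟨fun u hu => ?_, fun v hv => ?_⟩) (hs E.unop g)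
    · refine (NatTrans.naturality_apply γ' k.op g).symm.trans ?_
      refine (congrArg (γ'.app (op E')) hu).trans ?_
      exact ConcreteCategory.congr_hom (C := Type (u + 1)) (congrArg (fun η => η.app (op E')) h'.1) u
    · refine (NatTrans.naturality_apply γ' k.op g).symm.trans ?_
      refine (congrArg (γ'.app (op E')) hv).trans ?_
      exact ConcreteCategory.congr_hom (C := Type (u + 1)) (congrArg (fun η => η.app (op E')) h'.2) v

include hX hsq hpb e in
theorem isPushout_zSh :
    IsPushout ((zSh X).map p) ((zSh X).map q) ((zSh X).map j) ((zSh X).map f) := by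
  have hw : (zSh X).map p ≫ (zSh X).map j = (zSh X).map q ≫ (zSh X).map f := by
    rw [← Functor.map_comp, ← Functor.map_comp]
    exact congrArg _ (Over.OverMorphism.ext hpb.w)
  have key : ∀ s : PushoutCocone ((zSh X).map p) ((zSh X).map q),
      ∃! m : (zSh X).obj W ⟶ s.pt, (zSh X).map j ≫ m = s.inl ∧ (zSh X).map f ≫ m = s.inr := by
    intro s
    have hc : (hPre X).map p ≫ zEquiv X U s.pt s.inl = (hPre X).map q ≫ zEquiv X V s.pt s.inr := by
      rw [← zEquiv_naturality_left, ← zEquiv_naturality_left, s.condition]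
    obtain ⟨γ, ⟨h1, h2⟩, hu⟩ := existsUnique_desc hX hsq hpb e _ _ hc
    refine ⟨(zEquiv X W s.pt).symm γ, ⟨?_, ?_⟩, fun m hm => ?_⟩
    · apply (zEquiv X U s.pt).injective
      rw [zEquiv_naturality_left, Equiv.apply_symm_apply, h1]
    · apply (zEquiv X V s.pt).injective
      rw [zEquiv_naturality_left, Equiv.apply_symm_apply, h2]
    · rw [Equiv.eq_symm_apply]
      exact hu _ ⟨by rw [← zEquiv_naturality_left, hm.1], by rw [← zEquiv_naturality_left, hm.2]⟩
  exact ⟨⟨hw⟩, ⟨PushoutCocone.IsColimit.mk _ (fun s => (key s).exists.choose)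
    (fun s => (key s).exists.choose_spec.1) (fun s => (key s).exists.choose_spec.2)
    (fun s m h1 h2 => (key s).unique ⟨h1, h2⟩ (key s).exists.choose_spec)⟩⟩

include hX hsq hpb e in
theorem mono_zSh_map : Mono ((zSh X).map q) := by
  have := mono_of_openImmersion hsq.1
  have hq : Mono q.left := hpb.mono_snd_of_mono
  have : ∀ E, Mono ((((hPre X) ⋙ (Functor.whiskeringRight _ _ _).obj AddCommGrpCat.free.{u + 1}).map q).app E) := fun E => by
    have : Mono (((hPre X).map q).app E) := (mono_iff_injective _).2 fun a b h =>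
      Over.OverMorphism.ext ((cancel_mono q.left).1 (congrArg CommaMorphism.left h))
    exact inferInstanceAs (Mono (AddCommGrpCat.free.{u + 1}.map (((hPre X).map q).app E)))
  have hq' : Mono (((hPre X) ⋙ (Functor.whiskeringRight _ _ _).obj AddCommGrpCat.free.{u + 1}).map q) :=
    NatTrans.mono_of_mono_app _
  haveI : (presheafToSheaf (etTop X) AddCommGrpCat.{u + 1}).PreservesMonomorphisms :=
    preservesMonomorphisms_of_preservesLimitsOfShape _
  exact @Functor.map_mono _ _ _ _ (presheafToSheaf (etTop X) AddCommGrpCat.{u + 1}) inferInstance _ _ _ hq'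

include hX hsq hpb e in
/-- Mayer-Vietoris. -/
theorem subsingleton_ext_of_sq (G : AbEt X) (m : ℕ)
    (hU : Subsingleton (Ext.{u + 1} ((zSh X).obj U) G (m + 1)))
    (hV : Subsingleton (Ext.{u + 1} ((zSh X).obj V) G (m + 1)))
    (hUV : Subsingleton (Ext.{u + 1} ((zSh X).obj UV) G m)) :
    Subsingleton (Ext.{u + 1} ((zSh X).obj W) G (m + 1)) := by
  have hP := isPushout_zSh hX hsq hpb e
  have hm := mono_zSh_map hX hsq hpb e
  let C : ShortComplex (AbEt X) := ShortComplex.mk (biprod.lift ((zSh X).map p) (-(zSh X).map q))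
    (biprod.desc ((zSh X).map j) ((zSh X).map f))
    (by rw [biprod.lift_desc, Preadditive.neg_comp, hP.w, add_neg_cancel])
  have hmono : Mono C.f := by
    have : Mono (C.f ≫ biprod.snd) := by
      change Mono (biprod.lift _ _ ≫ biprod.snd)
      rw [biprod.lift_snd]; infer_instance
    exact mono_of_mono _ biprod.snd
  let sqr : Square (AbEt X) :=
    { X₁ := (zSh X).obj UV, X₂ := (zSh X).obj U, X₃ := (zSh X).obj V, X₄ := (zSh X).obj W
      f₁₂ := (zSh X).map p, f₁₃ := (zSh X).map q, f₂₄ := (zSh X).map j, f₃₄ := (zSh X).map f, fac := hP.w }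
  have hs : sqr.IsPushout := hP
  have hC : C.ShortExact :=
    { exact := ShortComplex.exact_of_g_is_cokernel _ hs.isColimitCokernelCofork
      mono_f := hmono
      epi_g := (C.exact_and_epi_g_iff_g_is_cokernel.2 ⟨hs.isColimitCokernelCofork⟩).2 }
  refine subsingleton_of_forall_eq 0 fun x => ?_
  haveI : Subsingleton (Ext.{u + 1} C.X₂ G (m + 1)) :=
    Ext.biprodAddEquiv.injective.subsingleton
  obtain ⟨y, rfl⟩ := Ext.contravariant_sequence_exact₃ hC G x (Subsingleton.elim _ _) (add_comm 1 m)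
  rw [Subsingleton.elim y 0, Ext.comp_zero]

end MV

end Groth.Agent.H13AlgSp.ZFree
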