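import Groth.Prelude.Def_AlgSp3
import Groth.Agent.H12AlgSp.LocQSScheme
import Groth.Agent.H12AlgSp.SepAbsolute
import Groth.Agent.H8Props.FlatDimOneBase
import Groth.Agent.S9795
import Groth.Agent.S9797

/-!
Spaces of dimension at most zero.
-/

set_option autoImplicit false
set_option backward.isDefEq.respectTransparency false

universe u

open CategoryTheory CategoryTheory.Limits AlgebraicGeometry Topology TopologicalSpace
open AlgSp

namespace Groth.Agent.H13AlgSp

theorem exists_scheme_of_dim_le_zero {S : Scheme.{u}} [QuasiSeparatedSpace S]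
    (X : AlgSp.Space S) (hqs : AlgSp.IsQuasiSeparatedSp X.obj) (hd : AlgSp.dim X.obj ≤ 0) :
    ∃ (U : Over S) (_ : (AlgSp.yon S).obj U ≅ X.obj), U.left.IsSeparated ∧
      ∀ V : U.left.Opens, IsCompact (V : Set ↥U.left) → IsAffineOpen V := by
  obtain ⟨U₀, a, ha, has⟩ := X.property.atlas
  have hdim : ∀ (V : Over S) (b : (AlgSp.yon S).obj V ⟶ X.obj), AlgSp.RepWith @Etale b →
      topologicalKrullDim ↥V.left ≤ 0 := fun V b hb => by
    refine le_trans ?_ hd
    exact le_iSup_of_le V (le_iSup_of_le b (le_iSup_of_le hb le_rfl))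
  have hcod : ∀ u : ↥U₀.left, ∃ (W : Set (AlgSp.Points X.obj)) (Y : Over S)
      (μ : (AlgSp.yon S).obj Y ⟶ H12AlgSp.openSub W), IsIso μ ∧ IsOpen W ∧ AlgSp.Points.ofPt a u ∈ W :=
    fun u => H12AlgSp.exists_open_scheme_of_codimZero' X.property hqs ⟨U₀, a, u, ha, rfl,
      le_antisymm ((H8Props.FlatDimOneBase.ringKrullDim_stalk_le _ u).trans (hdim U₀ a ha))
        ringKrullDim_nonneg_of_nontrivial⟩
  choose W Y μ hμ hW hmem using hcod
  have hj : ∀ u, AlgSp.RepWith @IsOpenImmersion (μ u ≫ H12AlgSp.openSubι (W u)) := fun u =>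
    have := hμ u
    H12AlgSp.repWith_comp (H12AlgSp.repWith_of_isIso _) (H12AlgSp.repWith_openSubι (hW u))
  obtain ⟨U, e, he⟩ := H12AlgSp.exists_iso_of_openCover Y (fun u => μ u ≫ H12AlgSp.openSubι (W u)) hj fun T y t => by
    obtain ⟨u, hu⟩ := H12AlgSp.surjective_ofPt_of_repWith le_rfl has (AlgSp.Points.ofPt y t)
    obtain ⟨z, hz⟩ := ((H12AlgSp.range_openSubι X.property _).ge (hu ▸ hmem u))
    have := hμ u
    exact ⟨u, AlgSp.Points.map (inv (μ u)) z, by rw [← AlgSp.Points.map_comp, IsIso.inv_hom_id_assoc, hz]⟩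
  refine ⟨U, asIso e, ?_⟩
  have hUd := hdim U e (H12AlgSp.repWith_of_isIso e)
  have : QuasiSeparatedSpace U.left := by
    have h₁ : AlgSp.RepWith @QuasiCompact (Limits.diag ((AlgSp.yon S).obj U)) := by
      have h₂ : Limits.diag ((AlgSp.yon S).obj U) = e ≫ Limits.diag X.obj ≫ prod.map (inv e) (inv e) := by
        simp
      rw [h₂]
      exact H12AlgSp.repWith_comp (H12AlgSp.repWith_of_isIso _)
        (H12AlgSp.repWith_comp hqs (H12AlgSp.repWith_of_isIso _))
    have : QuasiSeparated U.hom := ⟨(AlgSp.repWith_diag_yon_iff _ U).1 h₁⟩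
    exact quasiSeparatedSpace_of_quasiSeparated U.hom
  have := Groth.Agent.S9795.result U.left hUd
  exact ⟨this, fun V hV => Groth.Agent.S9797.result U.left hUd V hV⟩

theorem exists_scheme_of_lft_dim_le_zero (k : Type u) [Field k]
    (X : AlgSp.Space (Spec (CommRingCat.of k))) (p : X.obj ⟶ (AlgSp.yon (Spec (CommRingCat.of k))).obj (Over.mk (𝟙 _)))
    (hp : AlgSp.LocP @LocallyOfFiniteType p) (hd : AlgSp.dim X.obj ≤ 0) :
    ∃ (U : Over (Spec (CommRingCat.of k))) (_ : (AlgSp.yon (Spec (CommRingCat.of k))).obj U ≅ X.obj), U.left.IsSeparated ∧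
      ∀ V : U.left.Opens, IsCompact (V : Set ↥U.left) → IsAffineOpen V := by
  classical
  obtain ⟨U, a, ha, has⟩ := X.property.atlas
  obtain ⟨R, t, s', sq⟩ := X.property.representable_from_yon a a
  obtain ⟨s, rfl⟩ := (AlgSp.yon _).map_surjective s'
  have hse : Etale s.left := ha.2 a _ s sq.flip
  have : LocallyOfFiniteType U.hom := by
    obtain ⟨h, hh⟩ := (AlgSp.yon (Spec (CommRingCat.of k))).map_surjective (a ≫ p)
    have h2 := hp a (𝟙 _) h ha (AlgSp.repWith_id _ _) (by simp [hh])
    have h3 : h.left = U.hom := by simpa using Over.w h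
    rwa [h3] at h2
  have : IsLocallyNoetherian U.left := LocallyOfFiniteType.isLocallyNoetherian U.hom
  have hU : topologicalKrullDim ↥U.left ≤ 0 := by
    refine le_trans ?_ hd
    exact le_iSup_of_le U (le_iSup_of_le a (le_iSup_of_le ha le_rfl))
  have : IsLocallyArtinian U.left := IsLocallyArtinian.of_topologicalKrullDim_le_zero hU
  have : LocallyQuasiFinite U.hom :=
    locallyQuasiFinite_iff_isDiscrete_preimage_singleton.2 fun x => isDiscrete_iff_discreteTopology.2 inferInstance
  have : LocallyQuasiFinite (U ⨯ U).hom := by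
    have h1 : (U ⨯ U).hom = (prod.fst : U ⨯ U ⟶ U).left ≫ U.hom := (Over.w _).symm
    have : LocallyQuasiFinite (prod.fst : U ⨯ U ⟶ U).left := by
      rw [← Over.prodLeftIsoPullback_hom_fst]
      infer_instance
    rw [h1]
    infer_instance
  have : IsLocallyArtinian (U ⨯ U).left := IsLocallyArtinian.of_locallyQuasiFinite (U ⨯ U).hom
  have : LocallyQuasiFinite s.left := H12AlgSp.lqf_of_etale s.left
  have : IsLocallyArtinian R.left := IsLocallyArtinian.of_locallyQuasiFinite s.left
  have : Mono (prod.lift t s) := by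
    refine ⟨fun {W} f g h => (AlgSp.yon _).map_injective (sq.flip.hom_ext ?_ ?_)⟩
    · rw [← Functor.map_comp, ← Functor.map_comp]
      have := congrArg (· ≫ prod.fst) h
      simp only [Category.assoc, prod.lift_fst] at this
      rw [this]
    · rw [← Functor.map_comp, ← Functor.map_comp]
      have := congrArg (· ≫ prod.snd) h
      simp only [Category.assoc, prod.lift_snd] at this
      rw [this]
  have : Mono (prod.lift t s).left := inferInstanceAs (Mono ((Over.forget _).map (prod.lift t s)))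
  have hqc : QuasiCompact (prod.lift t s).left :=
    (quasiCompact_iff _).2 fun V _ hV => ((hV.finite (isDiscrete_iff_discreteTopology.2 inferInstance)).preimage
      (prod.lift t s).left.injective.injOn).isCompact
  exact exists_scheme_of_dim_le_zero X (H12AlgSp.repWith_quasiCompact_of_atlas X.property.diag
    (MorphismProperty.RespectsIso.precomp _ _ _ (H12AlgSp.repWith_prodMap ha ha))
    (MorphismProperty.RespectsIso.precomp _ _ _ (H12AlgSp.repWith_prodMap has has))
    (H12AlgSp.isPullback_diag_prodHom sq.flip) hqc) hd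

end Groth.Agent.H13AlgSp
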